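import Cfsg.Agent.Cit.Nil.RI.Closed_m3
import Cfsg.Agent.Cit.Nil.RTwoM.Base_m3
import Cfsg.Agent.Cit.Nil.LO.FormQ_m3
import Cfsg.Agent.Cit.CorTwo
import Cfsg.Agent.Cit.Nil.RFour.SClosed
import Cfsg.Agent.Lib.Cores
import Cfsg.Agent.SignalizersComponents.CompBasic
import Cfsg.Agent.FastGrp
import Cfsg.Agent.Prune
set_option linter.all false

section
prune_inst 0x7ffcfefbaffcbddfffff7e7fffffdffff9fdffffffdffbcbfffdebffffff6beffbe5fbaf9fecd8ffdef7e2be30f87b53f9fece7fef6bdc7ffffd5ff45ffbff9fbfefbf8d71debcbe1ffe6ffffbf17ffffffffffffffffffffffffffffffffffffffdffffffff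

-- part: Cit/Nil/RTwoM/L1/WG
section
prune_inst 0x2010000010200000001800000000004000000002004300002140000001410041a04506013260021001100c60200a804011100009023000002a00820040000401040220c21000100001000040e800000000000000000000000000000000000000200000000
set_option linter.all false
open scoped Cfsg.Agent.FastGrp

/-!
# S1309, (6b), any `r`: the world of the pairs `(z, R_z)`

`WG Z K` : `Z` an invariant set of involutions, `K z` (`z ∈ Z`; in the applications `K z = R_z` is the product of all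
members over `z`) a 2-group with `z ∈ K z ≤ C(z)`, `K (g z g⁻¹) = g (K z) g⁻¹`,

* `com'` : `K z`, `K u` in a common 2-group, `z ≠ u` : C-pair;
* `csymm'` : `u ∈ Z` centralises `K z`, `u ≠ z` : C-pair.

The definitions `CP`, `Cen`, `NP`, `CSw`, `wt`, `ZC`, `NC`, `cl`, `Tw`, `CS`, `TT`, `AN` are those of `ROne`
(with `K z = R_z`). The lemmas of `ROne/{TwinDef,Base}.lean` which do not use that `K z` is a quaternion group.

* `WM.wg` : `WG {z | InZ Om z} (RZ Om)`.
-/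

set_option autoImplicit false
set_option linter.style.haveILetI false
set_option linter.unusedSectionVars false

namespace Cfsg.Agent.Cit.Nil.RTwoM.L1

open Subgroup Cfsg Cfsg.Agent.Cit
open ROne (CP Cen NP CSw wt ZC NC cl Tw CS TT AN mem_cl)

variable {G : Type*} [Group G]

/-- see the head of the file -/
structure WG (Z : Set G) (K : G → Subgroup G) : Prop where
  sq : ∀ z ∈ Z, z * z = 1
  ne : ∀ z ∈ Z, z ≠ 1
  mem : ∀ z ∈ Z, z ∈ K z
  cent' : ∀ z ∈ Z, ∀ x ∈ K z, x * z = z * x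
  two' : ∀ z ∈ Z, IsPGroup 2 (K z)
  conjZ : ∀ z ∈ Z, ∀ g, g * z * g⁻¹ ∈ Z
  conjK : ∀ z ∈ Z, ∀ g, K (g * z * g⁻¹) = cj g (K z)
  com' : ∀ S : Subgroup G, IsPGroup 2 S → ∀ z ∈ Z, ∀ u ∈ Z, K z ≤ S → K u ≤ S → z ≠ u → CP K z u
  csymm' : ∀ z ∈ Z, ∀ u ∈ Z, z ≠ u → Cen K u z → CP K z u

variable {Z : Set G} {K : G → Subgroup G} {z u v g x y s k b : G}

namespace WG

section basic

variable (h : WG Z K)

include h

theorem inv (hz : z ∈ Z) : z⁻¹ = z := inv_eq_of_mul_eq_one_right (h.sq z hz)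

theorem ord (hz : z ∈ Z) : orderOf z = 2 :=
  orderOf_eq_prime (by rw [pow_two]; exact h.sq z hz) (h.ne z hz)

theorem two (hz : z ∈ Z) : IsPGroup 2 (K z) := h.two' z hz

theorem cent (hz : z ∈ Z) (hx : x ∈ K z) : x * z = z * x := h.cent' z hz x hx

theorem K_le (hz : z ∈ Z) : K z ≤ centralizer {z} := fun _ hx =>
  mem_centralizer_singleton_iff.2 (h.cent hz hx)

/-- `C(z)` normalises `K z` -/
theorem norm (hz : z ∈ Z) (hg : g * z = z * g) : cj g (K z) = K z := by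
  rw [← h.conjK z hz g, hg, mul_inv_cancel_right]

theorem mem_norm (hz : z ∈ Z) (hg : g * z = z * g) : g ∈ normalizer (K z : Set G) :=
  mem_normalizer_iff_cj.2 (h.norm hz hg)

theorem norm_mem (hz : z ∈ Z) (hg : g * z = z * g) (hx : x ∈ K z) : g * x * g⁻¹ ∈ K z := by
  have h1 := conj_mem_cj (g := g) hx
  rwa [h.norm hz hg] at h1

theorem com {S : Subgroup G} (hz : z ∈ Z) (hu : u ∈ Z) (hS : IsPGroup 2 S) (h1 : K z ≤ S)
    (h2 : K u ≤ S) (hne : z ≠ u) : CP K z u := h.com' S hS z hz u hu h1 h2 hne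

theorem comm_of_cp (hz : z ∈ Z) (hu : u ∈ Z) (hc : CP K z u) : z * u = u * z :=
  hc.2 z (h.mem z hz) u (h.mem u hu)

theorem csymm (hz : z ∈ Z) (hu : u ∈ Z) (hne : z ≠ u) (hc : Cen K u z) : CP K z u := h.csymm' z hz u hu hne hc

theorem cen_iff (hz : z ∈ Z) (hu : u ∈ Z) : Cen K u z ↔ z = u ∨ CP K z u := by
  constructor
  · intro hc
    by_cases hne : z = u
    · exact Or.inl hne
    · exact Or.inr (h.csymm hz hu hne hc)
  · rintro (rfl | hc)
    · exact fun k hk => (h.cent hz hk).symm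
    · exact fun k hk => (hc.2 k hk u (h.mem u hu)).symm

theorem cen_of_cp (hu : u ∈ Z) (hc : CP K z u) : Cen K u z := fun k hk => (hc.2 k hk u (h.mem u hu)).symm

theorem cp_mul_ne (hu : u ∈ Z) (hc : CP K z u) : z * u ≠ 1 := fun h1 =>
  hc.1 (by rw [mul_eq_one_iff_eq_inv] at h1; rw [h1, h.inv hu])

theorem conj_mem_K (hz : z ∈ Z) (g : G) (hx : x ∈ K z) : g * x * g⁻¹ ∈ K (g * z * g⁻¹) := by
  rw [h.conjK z hz g]
  exact conj_mem_cj hx

theorem cen_conj (hz : z ∈ Z) (g : G) (hc : Cen K x z) : Cen K (g * x * g⁻¹) (g * z * g⁻¹) := by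
  intro k hk
  rw [h.conjK z hz g, mem_cj] at hk
  have h1 := hc _ hk
  calc g * x * g⁻¹ * k = g * (x * (g⁻¹ * k * g)) * g⁻¹ := by group
    _ = g * ((g⁻¹ * k * g) * x) * g⁻¹ := by rw [h1]
    _ = _ := by group

end basic

end WG

section conj

variable (w : WG Z K)

include w

theorem WG.conjZ_iff (g : G) : g * x * g⁻¹ ∈ Z ↔ x ∈ Z := by
  refine ⟨fun h => ?_, fun h => w.conjZ x h g⟩
  have h1 := w.conjZ _ h g⁻¹
  have h2 : g⁻¹ * (g * x * g⁻¹) * g⁻¹⁻¹ = x := by group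
  rwa [h2] at h1

theorem WG.cp_conj (hu : u ∈ Z) (hv : v ∈ Z) (h : CP K u v) (g : G) : CP K (g * u * g⁻¹) (g * v * g⁻¹) := by
  refine ⟨fun h1 => h.1 (by simpa using h1), ?_⟩
  rw [w.conjK u hu g, w.conjK v hv g]
  intro a ha b hb
  rw [mem_cj] at ha hb
  have h1 := h.2 _ ha _ hb
  have h2 : a * b = g * ((g⁻¹ * a * g) * (g⁻¹ * b * g)) * g⁻¹ := by group
  rw [h2, h1]; group

theorem WG.cp_conj_iff (hu : u ∈ Z) (hv : v ∈ Z) (g : G) : CP K (g * u * g⁻¹) (g * v * g⁻¹) ↔ CP K u v := by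
  refine ⟨fun h => ?_, fun h => w.cp_conj hu hv h g⟩
  have h1 := w.cp_conj (w.conjZ u hu g) (w.conjZ v hv g) h g⁻¹
  have h2 : g⁻¹ * (g * u * g⁻¹) * g⁻¹⁻¹ = u := by group
  have h3 : g⁻¹ * (g * v * g⁻¹) * g⁻¹⁻¹ = v := by group
  rwa [h2, h3] at h1

theorem WG.mem_cl_conj (hz : z ∈ Z) (g : G) : g * x * g⁻¹ ∈ cl Z K (g * z * g⁻¹) ↔ x ∈ cl Z K z := by
  rw [mem_cl, mem_cl, w.conjZ_iff]
  constructor
  · rintro ⟨h1, h2⟩
    refine ⟨h1, ?_⟩
    rcases h2 with h2 | h2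
    · left; simpa using h2
    · right; exact (w.cp_conj_iff hz h1 g).1 h2
  · rintro ⟨h1, h2⟩
    refine ⟨h1, ?_⟩
    rcases h2 with h2 | h2
    · left; rw [h2]
    · right; exact w.cp_conj hz h1 h2 g

theorem WG.tw_conj (hz : z ∈ Z) (h : Tw Z K z u) (g : G) : Tw Z K (g * z * g⁻¹) (g * u * g⁻¹) := by
  refine ⟨w.conjZ u h.1 g, ?_⟩
  ext x
  have h1 : x = g * (g⁻¹ * x * g) * g⁻¹ := by group
  rw [h1, w.mem_cl_conj hz, w.mem_cl_conj h.1, h.2]

theorem WG.csw_conj (hu : u ∈ Z) (h : CSw K u v) (g : G) : CSw K (g * u * g⁻¹) (g * v * g⁻¹) := by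
  unfold CSw at *
  have h1 := w.cp_conj hu (w.conjZ u hu v) h g
  have h2 : g * (v * u * v⁻¹) * g⁻¹ = g * v * g⁻¹ * (g * u * g⁻¹) * (g * v * g⁻¹)⁻¹ := by group
  rwa [h2] at h1


end conj

theorem WG.np_conj (h : WG Z K) (hz : z ∈ Z) (hu : u ∈ Z) (g : G) (hn : NP K z u) :
    NP K (g * z * g⁻¹) (g * u * g⁻¹) := by
  refine ⟨fun h1 => hn.1 (mul_left_cancel (mul_right_cancel h1)), ?_, fun h1 => hn.2.2 ((h.cp_conj_iff hz hu g).1 h1)⟩
  calc g * z * g⁻¹ * (g * u * g⁻¹) = g * (z * u) * g⁻¹ := by group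
    _ = g * (u * z) * g⁻¹ := by rw [hn.2.1]
    _ = _ := by group

namespace WG

variable (h : WG Z K)

/-! ### Cliques and `T_S` -/

section clique

theorem mem_CS {S : Subgroup G} : z ∈ CS Z K S ↔ z ∈ Z ∧ K z ≤ S := Iff.rfl

include h

/-- a clique lies in a 2-group -/
theorem isPGroup_clique [Finite G] (A : Finset G) (hA : ∀ z ∈ A, z ∈ Z)
    (hc : ∀ z ∈ A, ∀ u ∈ A, z ≠ u → CP K z u) : IsPGroup 2 (⨆ z ∈ A, K z : Subgroup G) := by
  classical
  induction A using Finset.induction_on with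
  | empty =>
    have h1 : (⨆ z ∈ (∅ : Finset G), K z : Subgroup G) = ⊥ := by simp
    rw [h1]
    exact IsPGroup.of_bot
  | insert a A ha ih =>
    rw [Finset.iSup_insert]
    have h1 := ih (fun z hz => hA z (Finset.mem_insert_of_mem hz)) fun z hz u hu =>
      hc z (Finset.mem_insert_of_mem hz) u (Finset.mem_insert_of_mem hu)
    refine IsPGroup.to_sup_of_normal_right' (h.two (hA a (Finset.mem_insert_self a A))) h1 ?_
    -- `K a` centralises the other members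
    have h2 : (⨆ z ∈ A, K z : Subgroup G) ≤ centralizer (K a : Set G) := by
      refine iSup₂_le fun z hz b hb => mem_centralizer_iff.2 fun c hcK => ?_
      exact (hc a (Finset.mem_insert_self a A) z (Finset.mem_insert_of_mem hz) (by
        rintro rfl; exact ha hz)).2 c hcK b hb
    intro c hcK
    rw [mem_normalizer_iff]
    intro x
    have h3 : ∀ x ∈ (⨆ z ∈ A, K z : Subgroup G), c * x * c⁻¹ = x := fun x hx => by
      rw [mem_centralizer_iff.1 (h2 hx) c hcK, mul_inv_cancel_right]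
    constructor
    · intro hx
      rw [h3 x hx]; exact hx
    · intro hx
      have h4 : x = c⁻¹ * (c * x * c⁻¹) * c := by group
      have h5 : c⁻¹ * (c * x * c⁻¹) * c = c * x * c⁻¹ := by
        have h6 := mem_centralizer_iff.1 (h2 hx) c⁻¹ (inv_mem hcK)
        rw [h6, inv_mul_cancel_right]
      rw [h4, h5]; exact hx

theorem cj_CS (g : G) (S : Subgroup G) (hz : z ∈ Z) : g * z * g⁻¹ ∈ CS Z K (cj g S) ↔ z ∈ CS Z K S := by
  rw [mem_CS, mem_CS, h.conjK z hz g, cj_le_cj]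
  exact ⟨fun h1 => ⟨hz, h1.2⟩, fun h1 => ⟨h.conjZ z hz g, h1.2⟩⟩

theorem ncard_CS_cj [Finite G] (g : G) (S : Subgroup G) : (CS Z K (cj g S)).ncard = (CS Z K S).ncard := by
  have h1 : CS Z K (cj g S) = (fun x => g * x * g⁻¹) '' CS Z K S := by
    ext x
    constructor
    · intro hx
      have hx' : x = g * (g⁻¹ * x * g) * g⁻¹ := by group
      have hxZ : g⁻¹ * x * g ∈ Z := by
        have := h.conjZ x hx.1 g⁻¹
        rwa [inv_inv] at this
      refine ⟨g⁻¹ * x * g, ?_, hx'.symm⟩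
      rw [hx'] at hx
      exact (h.cj_CS g S hxZ).1 hx
    · rintro ⟨y, hy, rfl⟩
      exact (h.cj_CS g S hy.1).2 hy
  rw [h1]
  refine Set.ncard_image_of_injective _ fun a b hab => ?_
  exact mul_left_cancel (mul_right_cancel hab)

/-- `C_S` is a maximal clique -/
theorem mem_CS_of_clique [Finite G] (S : Sylow 2 G) (hu : u ∈ Z) (hc : ∀ z ∈ CS Z K S, z = u ∨ CP K z u) :
    u ∈ CS Z K S := by
  classical
  haveI : Fact (Nat.Prime 2) := ⟨Nat.prime_two⟩
  by_contra hn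
  have hfin : (CS Z K (S : Subgroup G)).Finite := Set.toFinite _
  set A : Finset G := insert u hfin.toFinset with hA
  have hAZ : ∀ z ∈ A, z ∈ Z := by
    intro z hz
    rw [hA, Finset.mem_insert, Set.Finite.mem_toFinset] at hz
    rcases hz with rfl | hz
    · exact hu
    · exact hz.1
  have hcS : ∀ z ∈ CS Z K (S : Subgroup G), CP K z u := fun z hz => (hc z hz).resolve_left (by
    rintro rfl; exact hn hz)
  have hAc : ∀ z ∈ A, ∀ v ∈ A, z ≠ v → CP K z v := by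
    intro z hz v hv hne
    rw [hA, Finset.mem_insert, Set.Finite.mem_toFinset] at hz hv
    rcases hz with rfl | hz <;> rcases hv with rfl | hv
    · exact absurd rfl hne
    · exact (hcS v hv).symm
    · exact hcS z hz
    · exact h.com hz.1 hv.1 S.isPGroup' hz.2 hv.2 hne
  obtain ⟨S', hS'⟩ := (h.isPGroup_clique A hAZ hAc).exists_le_sylow
  obtain ⟨g, hg⟩ := MulAction.exists_smul_eq G S S'
  have hgS : (S' : Subgroup G) = cj g S := by
    rw [← hg]
    rfl
  have h1 : (CS Z K (S' : Subgroup G)).ncard = (CS Z K (S : Subgroup G)).ncard := by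
    rw [hgS]
    exact h.ncard_CS_cj g S
  have h2 : (A : Set G) ⊆ CS Z K (S' : Subgroup G) := fun z hz =>
    ⟨hAZ z hz, (le_iSup₂ (f := fun z (_ : z ∈ A) => K z) z hz).trans hS'⟩
  have h3 := Set.ncard_le_ncard h2 (Set.toFinite _)
  rw [Set.ncard_coe_finset, hA, Finset.card_insert_of_notMem (by rw [Set.Finite.mem_toFinset]; exact hn), h1,
    Set.ncard_eq_toFinset_card _ hfin] at h3
  omega

theorem TT_cen {S : Subgroup G} [Finite G] (hS : IsPGroup 2 S) (hz : z ∈ CS Z K S) (hx : x ∈ TT Z K S) :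
    Cen K x z := by
  have h1 : TT Z K S ≤ centralizer (K z : Set G) := by
    refine (closure_le _).2 fun u hu => mem_centralizer_iff.2 fun k hk => ?_
    by_cases hne : z = u
    · subst hne
      exact h.cent hz.1 hk
    · exact (h.com hz.1 hu.1 hS hz.2 hu.2 hne).2 k hk u (h.mem u hu.1)
  exact fun k hk => (mem_centralizer_iff.1 (h1 hx) k hk).symm

theorem TT_comm {S : Subgroup G} [Finite G] (hS : IsPGroup 2 S) (hx : x ∈ TT Z K S) (hy : y ∈ TT Z K S) :
    x * y = y * x := by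
  have h1 : TT Z K S ≤ centralizer ({x} : Set G) := by
    refine (closure_le _).2 fun u hu => mem_centralizer_singleton_iff.2 ?_
    exact (h.TT_cen hS hu hx u (h.mem u hu.1)).symm
  exact (mem_centralizer_singleton_iff.1 (h1 hy)).symm

theorem TT_sq {S : Subgroup G} [Finite G] (hS : IsPGroup 2 S) (hx : x ∈ TT Z K S) : x * x = 1 := by
  refine closure_induction (p := fun x _ => x * x = 1) ?_ ?_ ?_ ?_ hx
  · exact fun u hu => h.sq u hu.1
  · rw [one_mul]
  · intro a b ha hb h1 h2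
    calc a * b * (a * b) = a * (b * a) * b := by group
      _ = (a * a) * (b * b) := by rw [h.TT_comm hS hb ha]; group
      _ = 1 := by rw [h1, h2, one_mul]
  · intro a _ h1
    rw [← mul_inv_rev, h1, inv_one]

/-- `T_S ⊓ Z = C_S` -/
theorem mem_CS_of_mem_TT [Finite G] (S : Sylow 2 G) (hu : u ∈ Z) (hT : u ∈ TT Z K S) : u ∈ CS Z K S :=
  h.mem_CS_of_clique S hu fun _ hz => (h.cen_iff hz.1 hu).1 (h.TT_cen S.isPGroup' hz hT)

theorem TT_le {S : Subgroup G} : TT Z K S ≤ S := (closure_le _).2 fun u hu => hu.2 (h.mem u hu.1)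

/-- a C-pair lies in a Sylow subgroup -/
theorem exists_sylow_of_cp [Finite G] (hz : z ∈ Z) (hu : u ∈ Z) (hc : CP K z u) :
    ∃ S : Sylow 2 G, z ∈ CS Z K S ∧ u ∈ CS Z K S := by
  classical
  obtain ⟨S, hS⟩ := (h.isPGroup_clique {z, u} (by
    intro x hx
    rw [Finset.mem_insert, Finset.mem_singleton] at hx
    rcases hx with rfl | rfl
    · exact hz
    · exact hu) (by
    intro x hx y hy hne
    rw [Finset.mem_insert, Finset.mem_singleton] at hx hy
    rcases hx with rfl | rfl <;> rcases hy with rfl | rfl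
    · exact absurd rfl hne
    · exact hc
    · exact hc.symm
    · exact absurd rfl hne)).exists_le_sylow
  exact ⟨S, ⟨hz, (le_iSup₂ (f := fun x (_ : x ∈ ({z, u} : Finset G)) => K x) z (by simp)).trans hS⟩,
    ⟨hu, (le_iSup₂ (f := fun x (_ : x ∈ ({z, u} : Finset G)) => K x) u (by simp)).trans hS⟩⟩

/-- `z` lies in some `C_S` -/
theorem exists_sylow [Finite G] (hz : z ∈ Z) : ∃ S : Sylow 2 G, z ∈ CS Z K S := by
  obtain ⟨S, hS⟩ := (h.two hz).exists_le_sylow
  exact ⟨S, hz, hS⟩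

end clique

end WG

/-- `NC s y` is a 2-group -/
theorem NC_two (ha : AN Z K s) (hy : y ∈ ZC Z K s) : IsPGroup 2 (NC s y) := ROne.NC_two ha hy

end Cfsg.Agent.Cit.Nil.RTwoM.L1
end

-- part: Cit/Nil/RTwoM/L1/Swap
section
prune_inst 0x2010040010220000001800000000004000000002004300002140000009400040a04506012060021000100cd06000006013180000423800000a000800400404010003002210340c0011000000a000000000000000000000000000000000000000200000000
set_option linter.all false
open scoped Cfsg.Agent.FastGrp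

/-!
# S1309, (6b), any `r`: C-swaps (section 3 of helper545's text), `K z = R_z`

`WS Z K` : `WG Z K` and (3.1) : `w(u, v)` centralises `K v` for a C-swap `(u, v)`.

The lemmas of `ROne/Swap.lean` (helper194) for `WS`.
-/

set_option autoImplicit false
set_option linter.style.haveILetI false
set_option linter.unusedSectionVars false

namespace Cfsg.Agent.Cit.Nil.RTwoM.L1

open Subgroup Cfsg Cfsg.Agent.Cit
open ROne (CP Cen NP CSw wt ZC NC cl Tw CS TT AN mem_cl dg)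

variable {G : Type*} [Group G]

namespace WG

variable {Z : Set G} {K : G → Subgroup G} {z u v g x y k l : G} (h : WG Z K)

include h

section csw

variable (hu : u ∈ Z) (hv : v ∈ Z) (hs : CSw K u v)

include hu hv hs

theorem csw_comm : u * (v * u * v⁻¹) = (v * u * v⁻¹) * u := h.comm_of_cp hu (h.conjZ u hu v) hs

theorem csw_conj_self : v * (v * u * v⁻¹) * v⁻¹ = u := by
  have h1 := h.sq v hv
  calc v * (v * u * v⁻¹) * v⁻¹ = (v * v) * u * (v * v)⁻¹ := by group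
    _ = u := by rw [h1]; group

theorem wt_sq : wt u v * wt u v = 1 := by
  have h1 := h.csw_comm hu hv hs
  have h2 := h.sq u hu
  have h3 := h.sq _ (h.conjZ u hu v)
  unfold wt
  calc u * (v * u * v⁻¹) * (u * (v * u * v⁻¹)) = u * ((v * u * v⁻¹) * u) * (v * u * v⁻¹) := by group
    _ = u * (u * (v * u * v⁻¹)) * (v * u * v⁻¹) := by rw [h1]
    _ = (u * u) * ((v * u * v⁻¹) * (v * u * v⁻¹)) := by group
    _ = 1 := by rw [h2, h3, one_mul]

theorem wt_ne : wt u v ≠ 1 := h.cp_mul_ne (h.conjZ u hu v) hs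

theorem wt_comm_u : wt u v * u = u * wt u v := by
  have h1 := h.csw_comm hu hv hs
  unfold wt
  rw [mul_assoc, ← h1]

/-- `v u v⁻¹ = u w` -/
theorem conj_u : v * u * v⁻¹ = u * wt u v := by
  unfold wt
  rw [← mul_assoc, h.sq u hu, one_mul]

/-- `w` commutes with `v` -/
theorem wt_comm_v : wt u v * v = v * wt u v := by
  have h1 := h.csw_comm hu hv hs
  have h2 := h.csw_conj_self hu hv hs
  have h3 : v * wt u v * v⁻¹ = wt u v := by
    unfold wt
    calc v * (u * (v * u * v⁻¹)) * v⁻¹ = (v * u * v⁻¹) * (v * (v * u * v⁻¹) * v⁻¹) := by group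
      _ = u * (v * u * v⁻¹) := by rw [h2, h1]
  rw [mul_inv_eq_iff_eq_mul] at h3
  exact h3.symm

/-- `u v u⁻¹ = v w` -/
theorem conj_v : u * v * u⁻¹ = v * wt u v := by
  have h1 := h.conj_u hu hv hs
  have h2 := h.inv hu
  have h3 := h.inv hv
  have h4 := h.csw_comm hu hv hs
  have h5 := h.wt_sq hu hv hs
  -- `w = u v u v`, `w⁻¹ = v u v u = w`
  have h6 : wt u v = u * v * u * v := by unfold wt; rw [h3]; group
  have h7 : (wt u v)⁻¹ = wt u v := inv_eq_of_mul_eq_one_right h5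
  calc u * v * u⁻¹ = v * (v * u * v * u) := by
        rw [h2]
        have := h.sq v hv
        calc u * v * u = (v * v) * (u * v * u) := by rw [this, one_mul]
          _ = v * (v * u * v * u) := by group
    _ = v * (wt u v)⁻¹ := by
        rw [h6]
        congr 1
        rw [mul_inv_rev, mul_inv_rev, mul_inv_rev, h2, h3]; group
    _ = v * wt u v := by rw [h7]

/-- the diagonal elements are centralised by `v` -/
theorem dg_comm_v (hk : k ∈ K u) : dg v k * v = v * dg v k := by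
  have h1 := hs.2 k hk (v * k * v⁻¹) (h.conj_mem_K hu v hk)
  have h2 := h.sq v hv
  have h3 : v * dg v k * v⁻¹ = dg v k := by
    unfold dg
    calc v * (k * (v * k * v⁻¹)) * v⁻¹ = (v * k * v⁻¹) * ((v * v) * k * (v * v)⁻¹) := by group
      _ = (v * k * v⁻¹) * k := by rw [h2]; group
      _ = k * (v * k * v⁻¹) := h1.symm
  rw [mul_inv_eq_iff_eq_mul] at h3
  exact h3.symm

theorem dg_mul (hk : k ∈ K u) (hl : l ∈ K u) : dg v (k * l) = dg v k * dg v l := by
  have h1 := hs.2 l hl (v * k * v⁻¹) (h.conj_mem_K hu v hk)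
  unfold dg
  calc k * l * (v * (k * l) * v⁻¹) = k * (l * (v * k * v⁻¹)) * (v * l * v⁻¹) := by group
    _ = k * ((v * k * v⁻¹) * l) * (v * l * v⁻¹) := by rw [h1]
    _ = _ := by group

theorem dg_sq (hk : k ∈ K u) (hkk : k * k = u) : dg v k * dg v k = wt u v := by
  rw [← h.dg_mul hu hv hs hk hk, hkk]
  rfl

end csw

end WG

/-- the world with (3.1) -/
structure WS (Z : Set G) (K : G → Subgroup G) : Prop extends WG Z K where
  wt_cen' : ∀ u ∈ Z, ∀ v ∈ Z, CSw K u v → Cen K (wt u v) v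

namespace WS

variable {Z : Set G} {K : G → Subgroup G} {z u v g x y k l : G} (h : WS Z K)

include h

section csw

variable (hu : u ∈ Z) (hv : v ∈ Z) (hs : CSw K u v)

include hu hv hs

/-- **(3.1)** : `w` centralises `K v` -/
theorem wt_cen_v : Cen K (wt u v) v := h.wt_cen' u hu v hv hs

/-- **(3.1)** : `(v, u)` is a C-swap -/
theorem csw_symm : CSw K v u := by
  unfold CSw
  have h1 := h.conj_v hu hv hs
  have h2 : u * v * u⁻¹ ∈ Z := h.conjZ v hv u
  refine h.csymm hv h2 ?_ ?_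
  · intro h3
    rw [h1] at h3
    exact h.wt_ne hu hv hs (mul_eq_left.1 h3.symm)
  · rw [h1]
    exact ROne.Cen.mul (fun k hk => (h.cent hv hk).symm) (h.wt_cen_v hu hv hs)

theorem wt_symm : wt v u = wt u v := by
  have h1 := h.conj_v hu hv hs
  unfold wt
  rw [h1, ← mul_assoc, h.sq v hv, one_mul]
  rfl

/-- **(3.1)** : `w` centralises `K u` -/
theorem wt_cen_u : Cen K (wt u v) u := by
  have h1 := h.wt_cen_v hv hu (h.csw_symm hu hv hs)
  rwa [h.wt_symm hu hv hs] at h1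

/-- `w` centralises `K u'` -/
theorem wt_cen_u' : Cen K (wt u v) (v * u * v⁻¹) := by
  have h1 := h.cen_conj hu v (h.wt_cen_u hu hv hs)
  rwa [← h.wt_comm_v hu hv hs, mul_inv_cancel_right] at h1

/-- `v` does not commute with `u` -/
theorem csw_not_comm : u * v ≠ v * u := by
  intro h1
  apply hs.1
  rw [← h1, mul_inv_cancel_right]

theorem csw_ne : u ≠ v := fun h1 => h.csw_not_comm hu hv hs (by rw [h1])

/-- `w ∈ T_S` for a Sylow subgroup `S` -/
theorem wt_mem_TT [Finite G] : ∃ S : Sylow 2 G, u ∈ CS Z K S ∧ v * u * v⁻¹ ∈ CS Z K S ∧ wt u v ∈ TT Z K S := by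
  obtain ⟨S, h1, h2⟩ := h.exists_sylow_of_cp hu (h.conjZ u hu v) hs
  exact ⟨S, h1, h2, mul_mem (subset_closure h1) (subset_closure h2)⟩

theorem mem_ZC_u : u ∈ ZC Z K (wt u v) := ⟨hu, h.wt_cen_u hu hv hs⟩

theorem mem_ZC_v : v ∈ ZC Z K (wt u v) := ⟨hv, h.wt_cen_v hu hv hs⟩

/-! ### Formulas (3.4) -/

/-- `k v k⁻¹ = v d_k u` for `k` of order 4 -/
theorem conj_k_v (hk : k ∈ K u) (hkk : k * k = u) : k * v * k⁻¹ = v * dg v k * u := by
  have h1 := hs.2 k hk (v * k * v⁻¹) (h.conj_mem_K hu v hk)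
  have h2 : k * k * (k * k) = 1 := by rw [hkk, h.sq u hu]
  have h3 := h.sq v hv
  have h4 : k⁻¹ = k * u := by
    rw [← hkk, inv_eq_iff_mul_eq_one]
    calc k * (k * (k * k)) = k * k * (k * k) := by group
      _ = 1 := h2
  unfold dg
  calc k * v * k⁻¹ = v * ((v * v)⁻¹ * v * k * v⁻¹ * (v * v)) * k⁻¹ := by group
    _ = v * ((v * k * v⁻¹) * k⁻¹) := by rw [h3]; group
    _ = v * ((v * k * v⁻¹) * k) * u := by rw [h4]; group
    _ = v * (k * (v * k * v⁻¹)) * u := by rw [h1]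

end csw

end WS

end Cfsg.Agent.Cit.Nil.RTwoM.L1
end

-- part: Cit/Nil/RTwoM/L1/Graph
section
set_option linter.all false
open scoped Cfsg.Agent.FastGrp

/-!
# S1309, (6b), any `r`: the graph (section 8 of helper545's text), (8.1)

`ROne/Graph.lean` (helper185) for the world `WS Z K` (`K z = R_z`).

`GD Z K` : the input (`GD.two_four` = (2.4), `GD.two_five` = (2.5), `GD.twin` = (5.5), `GD.five_eight` = (5.8),
`GD.np` : N-pairs are of type I, (1.2)).
`Ed` : edges = N-pairs, twins, C-swaps; `Conn` : same component.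

* `GD.cp_of_not_conn` ((8.1)): `z, u` commute and are not connected, `x ~ z`, `y ~ u` : `(x, y)` is a C-pair.
-/

set_option autoImplicit false
set_option linter.style.haveILetI false
set_option linter.unusedSectionVars false

namespace Cfsg.Agent.Cit.Nil.RTwoM.L1

open Subgroup Cfsg Cit
open ROne (CP Cen NP CSw wt ZC NC cl Tw CS TT AN self_mem_NC conj_mem_NC)

variable {G : Type*} [Group G]

/-- `s ∈ T_S#` for some Sylow subgroup `S` -/
def Tor (Z : Set G) (K : G → Subgroup G) (s : G) : Prop := s ≠ 1 ∧ ∃ S : Sylow 2 G, s ∈ TT Z K S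

/-- the input of the graph argument -/
structure GD (Z : Set G) (K : G → Subgroup G) : Prop where
  w : WS Z K
  np : ∀ z ∈ Z, ∀ u ∈ Z, NP K z u → z * u ∈ Z ∧ NP K z (z * u)
  two_four : ∀ s, Tor Z K s → ∀ y ∈ Z, ∀ x ∈ Z, Cen K s y → Cen K s x →
    x ∈ NC s y ∨ ∀ n ∈ NC s y, Cen K n x
  two_five : ∀ s, Tor Z K s → ∀ y ∈ Z, Cen K s y → ∀ n ∈ NC s y, n * y * n⁻¹ = y ∨ CP K y (n * y * n⁻¹)
  twin : ∀ u ∈ Z, ∀ v ∈ Z, CSw K u v → Tw Z K u (v * u * v⁻¹)
  five_eight : ∀ u ∈ Z, ∀ v ∈ Z, CSw K u v → wt u v ∉ Z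

/-- edges -/
def Ed (Z : Set G) (K : G → Subgroup G) (u v : G) : Prop :=
  u ∈ Z ∧ v ∈ Z ∧ (NP K u v ∨ Tw Z K u v ∨ CSw K u v)

/-- same component -/
def Conn (Z : Set G) (K : G → Subgroup G) (u v : G) : Prop := Relation.ReflTransGen (Ed Z K) u v

section

variable {Z : Set G} {K : G → Subgroup G} {z u v g x y s : G}

theorem tor_one [Finite G] (w : WS Z K) (hz : z ∈ Z) : Tor Z K z := by
  obtain ⟨S, hS⟩ := w.exists_sylow hz
  exact ⟨w.ne z hz, S, subset_closure hS⟩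

theorem tor_wt [Finite G] (w : WS Z K) (hu : u ∈ Z) (hv : v ∈ Z) (hs : CSw K u v) : Tor Z K (wt u v) := by
  obtain ⟨S, -, -, h1⟩ := w.wt_mem_TT hu hv hs
  exact ⟨w.wt_ne hu hv hs, S, h1⟩

theorem cen_of_cp_left (w : WS Z K) (hu : u ∈ Z) (h : CP K u v) : Cen K u v :=
  fun k hk => h.2 u (w.mem u hu) k hk

theorem Ed.conj (w : WS Z K) (h : Ed Z K u v) (g : G) : Ed Z K (g * u * g⁻¹) (g * v * g⁻¹) := by
  refine ⟨w.conjZ u h.1 g, w.conjZ v h.2.1 g, ?_⟩
  rcases h.2.2 with h1 | h1 | h1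
  · exact Or.inl (w.np_conj h.1 h.2.1 g h1)
  · exact Or.inr (Or.inl (w.tw_conj h.1 h1 g))
  · exact Or.inr (Or.inr (w.csw_conj h.1 h1 g))

theorem Ed.symm (w : WS Z K) (h : Ed Z K u v) : Ed Z K v u :=
  ⟨h.2.1, h.1, h.2.2.imp NP.symm (Or.imp (fun h1 => h1.symm h.1) (w.csw_symm h.1 h.2.1))⟩

theorem Conn.refl (u : G) : Conn Z K u u := Relation.ReflTransGen.refl

theorem Conn.trans (h : Conn Z K u v) (h' : Conn Z K v x) : Conn Z K u x := Relation.ReflTransGen.trans h h'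

theorem Conn.conj (w : WS Z K) (h : Conn Z K u v) (g : G) : Conn Z K (g * u * g⁻¹) (g * v * g⁻¹) := by
  induction h with
  | refl => exact Relation.ReflTransGen.refl
  | tail _ h2 ih => exact ih.tail (h2.conj w g)

theorem Conn.mem (h : Conn Z K u v) (hu : u ∈ Z) : v ∈ Z := by
  induction h with
  | refl => exact hu
  | tail _ h2 _ => exact h2.2.1

theorem Conn.symm (w : WS Z K) (h : Conn Z K u v) : Conn Z K v u := by
  induction h with
  | refl => exact Relation.ReflTransGen.refl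
  | tail _ h2 ih => exact Relation.ReflTransGen.head (h2.symm w) ih

/-- commuting and not connected: a C-pair -/
theorem cp_of_comm (hz : z ∈ Z) (hu : u ∈ Z) (hc : z * u = u * z) (hn : ¬ Conn Z K z u) : CP K z u := by
  by_contra h1
  exact hn (Relation.ReflTransGen.single ⟨hz, hu, Or.inl ⟨fun h2 => hn (h2 ▸ Conn.refl z), hc, h1⟩⟩)

/-- an N-pair: connected -/
theorem conn_of_np (hx : x ∈ Z) (hu : u ∈ Z) (h1 : NP K x u) : Conn Z K x u :=
  Relation.ReflTransGen.single ⟨hx, hu, Or.inl h1⟩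

theorem conn_of_tw (hx : x ∈ Z) (h1 : Tw Z K x u) : Conn Z K x u :=
  Relation.ReflTransGen.single ⟨hx, h1.1, Or.inr (Or.inl h1)⟩

/-- a C-swap: connected -/
theorem conn_of_csw (hx : x ∈ Z) (hu : u ∈ Z) (h1 : CSw K x u) : Conn Z K x u :=
  Relation.ReflTransGen.single ⟨hx, hu, Or.inr (Or.inr h1)⟩

end

namespace GD

variable [Finite G] {Z : Set G} {K : G → Subgroup G} {z u v g x y s : G}

section

variable (h : GD Z K)

include h

/-- (2.4), (2.5) -/
theorem dich (hs : Tor Z K s) (hx : x ∈ Z) (hy : y ∈ Z) (h1 : Cen K s x) (h2 : Cen K s y) :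
    x * y = y * x ∨ CP K x (y * x * y⁻¹) := by
  rcases h.two_four s hs x hx y hy h1 h2 with h3 | h3
  · rcases h.two_five s hs x hx h1 y h3 with h4 | h4
    · left
      rw [mul_inv_eq_iff_eq_mul] at h4
      exact h4.symm
    · exact Or.inr h4
  · left
    exact h3 x self_mem_NC y (h.w.mem y hy)

/-- (8.1), a C-swap -/
theorem step_csw (hz : z ∈ Z) (hu : u ∈ Z) (hx : x ∈ Z) (hcp : CP K z u) (hn : ¬ Conn Z K z u)
    (hE : CSw K z x) : CP K x u := by
  have hzx : Conn Z K z x := conn_of_csw hz hx hE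
  have hxu : ¬ Conn Z K x u := fun h1 => hn (hzx.trans h1)
  have hz' := h.w.conjZ z hz x
  -- `z' = z^x` is connected with `z`
  have hT := h.twin z hz x hx hE
  have hne : u ≠ x * z * x⁻¹ := fun h1 => hn (h1 ▸ conn_of_tw hz hT)
  have h1 := hT.cp_of hu hcp hne
  -- `t = z z'`
  have ht := tor_wt h.w hz hx hE
  have htu : Cen K (wt z x) u := (cen_of_cp_left h.w hz hcp).mul (cen_of_cp_left h.w hz' h1)
  rcases h.dich ht hx hu (h.w.wt_cen_v hz hx hE) htu with h3 | h3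
  · exact cp_of_comm hx hu h3 hxu
  · exact absurd (conn_of_csw hx hu h3) hxu

/-- (8.1), an N-pair -/
theorem step_np (hz : z ∈ Z) (hu : u ∈ Z) (hx : x ∈ Z) (hcp : CP K z u) (hn : ¬ Conn Z K z u)
    (hE : NP K z x) : CP K x u := by
  have w := h.w
  have hzx : Conn Z K z x := conn_of_np hz hx hE
  have hxu : ¬ Conn Z K x u := fun h1 => hn (hzx.trans h1)
  have hxx := w.sq x hx
  have huu := w.sq u hu
  have xinv := w.inv hx
  have uinv := w.inv hu
  by_cases hc : x * u = u * x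
  · exact cp_of_comm hx hu hc hxu
  exfalso
  -- `u1 = u^x`
  obtain ⟨u1, hu1⟩ : ∃ u1, u1 = x * u * x⁻¹ := ⟨_, rfl⟩
  have hu1Z : u1 ∈ Z := hu1 ▸ w.conjZ u hu x
  have hne : u ≠ u1 := by
    intro h1
    apply hc
    rw [hu1, eq_mul_inv_iff_mul_eq] at h1
    exact h1.symm
  have hxz : x * z * x⁻¹ = z := by rw [← hE.2.1, mul_inv_cancel_right]
  have hcp1 : CP K z u1 := by
    have h1 := w.cp_conj hz hu hcp x
    rwa [hxz, ← hu1] at h1
  have hxu1 : x * u1 * x⁻¹ = u := by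
    have : x * u1 * x⁻¹ = (x * x) * u * (x * x)⁻¹ := by rw [hu1]; group
    rw [this, hxx]; group
  have u1inv := w.inv hu1Z
  by_cases huc : u * u1 = u1 * u
  · by_cases hcc : CP K u u1
    · -- a C-swap `(u, x)`
      refine hxu (conn_of_csw hx hu (w.csw_symm hu hx ?_))
      rw [CSw, ← hu1]
      exact hcc
    · have hN : NP K u u1 := ⟨hne, huc, hcc⟩
      have hqZ := (h.np u hu u1 hu1Z hN).1
      have hq1 := (h.np u hu u1 hu1Z hN).2
      obtain ⟨q, hq⟩ : ∃ q, q = u * u1 := ⟨_, rfl⟩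
      rw [← hq] at hqZ hq1
      -- `x` and `q` commute
      have hxq : x * q * x⁻¹ = q := by
        have : x * q * x⁻¹ = (x * u * x⁻¹) * (x * u1 * x⁻¹) := by rw [hq]; group
        rw [this, hxu1, ← hu1, ← huc, ← hq]
      have hxq' : x * q = q * x := mul_inv_eq_iff_eq_mul.1 hxq
      have hux : u * x * u⁻¹ = x * q := by
        rw [uinv, hxq', hq, hu1, xinv]
        simp only [mul_assoc, hxx, mul_one]
      have hqne : q ≠ 1 := w.ne q hqZ
      have hxqZ : x * q ∈ Z := hux ▸ w.conjZ x hx u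
      by_cases hcx : CP K x (x * q)
      · rw [← hux] at hcx
        exact hxu (conn_of_csw hx hu hcx)
      · have hNx : NP K x (x * q) := by
          refine ⟨fun h1 => hqne (mul_eq_left.1 h1.symm), ?_, hcx⟩
          rw [mul_assoc, ← hxq']
        have h3 := (h.np x hx _ hxqZ hNx).2
        have h4 : x * (x * q) = q := by rw [← mul_assoc, hxx, one_mul]
        rw [h4] at h3
        exact hxu ((conn_of_np hx hqZ h3).trans (conn_of_np hqZ hu hq1.symm))
  · -- `u`, `u1` do not commute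
    have hu1N : u1 ∈ NC z u := hu1 ▸ conj_mem_NC hE.2.1.symm
    have hsw : CSw K u u1 := by
      rcases h.two_five z (tor_one w hz) u hu (cen_of_cp_left w hz hcp) u1 hu1N with h1 | h1
      · exact absurd (mul_inv_eq_iff_eq_mul.1 h1).symm huc
      · exact h1
    obtain ⟨s, hs⟩ : ∃ s, s = wt u u1 := ⟨_, rfl⟩
    have hs1 : Tor Z K s := by rw [hs]; exact tor_wt w hu hu1Z hsw
    have hsu : Cen K s u := by rw [hs]; exact w.wt_cen_u hu hu1Z hsw
    have hss : s * s = 1 := by rw [hs]; exact w.wt_sq hu hu1Z hsw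
    -- `s = (u x)^4`
    have hs4 : s = u * x * u * x * u * x * u * x := by
      rw [hs, wt, u1inv, hu1, xinv]
      simp only [mul_assoc]
    have hsinv : s⁻¹ = s := inv_eq_of_mul_eq_one_right hss
    have hxs : x * s = s * x := by
      have h1 : s⁻¹ = x * u * x * u * x * u * x * u := by
        rw [hs4]
        simp only [mul_inv_rev, xinv, uinv, mul_assoc]
      rw [hsinv] at h1
      have h2 : x * s = x * (u * x * u * x * u * x * u * x) := by rw [← hs4]
      rw [h2, h1]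
      simp only [mul_assoc]
    -- `K_x` is centralised by `s`
    have hsx : Cen K s x := by
      obtain ⟨x1, hx1⟩ : ∃ x1, x1 = u * x * u⁻¹ := ⟨_, rfl⟩
      have hx1Z : x1 ∈ Z := hx1 ▸ w.conjZ x hx u
      have e1 : x1 * x * x1⁻¹ = s * x := by
        rw [w.inv hx1Z, hx1, uinv, hs4]
        simp only [mul_assoc, hxx, mul_one]
      have e2 : x * (s * x) = s := by rw [← mul_assoc, hxs, mul_assoc, hxx, mul_one]
      have hsxZ : s * x ∈ Z := e1 ▸ w.conjZ x hx x1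
      by_cases hcx : CP K x (s * x)
      · rw [← e1] at hcx
        have h1 := w.wt_cen_u hx hx1Z hcx
        rwa [wt, e1, e2] at h1
      · exfalso
        have hNx : NP K x (s * x) := by
          refine ⟨fun h1 => hs1.1 (mul_eq_right.1 h1.symm), ?_, hcx⟩
          rw [← mul_assoc, hxs]
        have h3 := (h.np x hx _ hsxZ hNx).1
        rw [e2, hs] at h3
        exact h.five_eight u hu u1 hu1Z hsw h3
    rcases h.dich hs1 hu hx hsu hsx with h2 | h2
    · exact hc h2.symm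
    · rw [← hu1] at h2
      exact huc (w.comm_of_cp hu hu1Z h2)

/-- (8.1), one step -/
theorem step (hz : z ∈ Z) (hu : u ∈ Z) (hcp : CP K z u) (hn : ¬ Conn Z K z u) (hE : Ed Z K z x) : CP K x u := by
  rcases hE.2.2 with h1 | h1 | h1
  · exact h.step_np hz hu hE.2.1 hcp hn h1
  · exact h1.cp_of hu hcp (fun h2 => hn (h2 ▸ conn_of_tw hz h1))
  · exact h.step_csw hz hu hE.2.1 hcp hn h1

theorem cp_left (hu : u ∈ Z) (hcp : CP K z u) (hn : ¬ Conn Z K z u) (hx : Conn Z K z x) : CP K x u := by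
  induction hx with
  | refl => exact hcp
  | tail h1 h2 ih => exact h.step h2.1 hu ih (fun h3 => hn (Conn.trans h1 h3)) h2

/-- **(8.1)** -/
theorem cp_of_not_conn (hz : z ∈ Z) (hu : u ∈ Z) (hc : z * u = u * z) (hn : ¬ Conn Z K z u)
    (hx : Conn Z K z x) (hy : Conn Z K u y) : CP K x y := by
  have h1 := h.cp_left hu (cp_of_comm hz hu hc hn) hn hx
  have h2 : ¬ Conn Z K u x := fun h3 => hn (hx.trans (h3.symm h.w))
  exact (h.cp_left (hx.mem hz) h1.symm h2 hy).symm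

end

end GD

end Cfsg.Agent.Cit.Nil.RTwoM.L1
end

-- part: Cit/Nil/RTwoM/L1/GraphB
section
prune_inst 0x3010050014220000001800000000004020000002004300002140000000400041a04506013060021001100870200a806013180009423800002a008a0040040401040220c21000100001000040e800000000000000000000000000000000000000200000000
set_option linter.all false
open scoped Cfsg.Agent.FastGrp

/-!
# S1309, (6b), any `r`, section 8 of helper545's text: the classes of components and the subgroup `M`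

`ROne/GraphB.lean` (helper587) for the world `WG Z K` (`K z = R_z`).

`Gr Z K P Cn` : `Cn x y` (`x`, `y` in the same connected component) with the properties proved in sections 2 and (8.1):

* `dich` : `P s` (`s` is a nontrivial product of elements of a clique), `x`, `y ∈ Z(s)`: they commute or form a C-swap;
* `swap` : C-swaps are in the same component;
* `perp` : (8.1).

Then `Rel x y := Cn x y ∨ CP K x y` is an equivalence relation on `Z` (8.2). `MM h z` : the stabiliser of the class of `z`;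
(8.3) `centralizer_le_MM`, `rel_of_comm`, `le_MM`, (8.4) `mem_MM`, `mem_of_MM`, (8.5) `centralizer_le_MM'`,
(8.6) `MM_ne_top` (more than one component), `const_false` (only one component and an invariant constant on the component).
-/

set_option autoImplicit false
set_option linter.style.haveILetI false
set_option linter.unusedSectionVars false

namespace Cfsg.Agent.Cit.Nil.RTwoM.L1

open Subgroup Cfsg Cfsg.Agent.Cit
open ROne (CP Cen NP CSw wt ZC NC cl Tw CS TT AN OneCls FSimp)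

variable {G : Type*} [Group G]

/-- see the head of the file -/
structure Gr (Z : Set G) (K : G → Subgroup G) (P : G → Prop) (Cn : G → G → Prop) : Prop where
  w : WG Z K
  cls : OneCls Z
  cp : ∀ S : Subgroup G, IsPGroup 2 S → ∀ x ∈ Z, ∀ y ∈ Z, K x ≤ S → K y ≤ S → x ≠ y → CP K x y
  refl : ∀ x ∈ Z, Cn x x
  symm : ∀ x y, Cn x y → Cn y x
  trans : ∀ x y z, Cn x y → Cn y z → Cn x z
  conj : ∀ x y g, Cn x y → Cn (g * x * g⁻¹) (g * y * g⁻¹)
  pz : ∀ z ∈ Z, P z
  dich : ∀ s, P s → ∀ x ∈ Z, ∀ y ∈ Z, Cen K s x → Cen K s y → x * y = y * x ∨ CP K x (y * x * y⁻¹)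
  swap : ∀ x ∈ Z, ∀ y ∈ Z, CP K x (y * x * y⁻¹) → Cn x y
  perp : ∀ x ∈ Z, ∀ y ∈ Z, x * y = y * x → ¬ Cn x y → ∀ x' ∈ Z, ∀ y' ∈ Z, Cn x x' → Cn y y' → CP K x' y'

namespace Gr

theorem conj_inv_conj (g x : G) : g⁻¹ * (g * x * g⁻¹) * g⁻¹⁻¹ = x := by group

theorem conj_conj (g h x : G) : g * (h * x * h⁻¹) * g⁻¹ = (g * h) * x * (g * h)⁻¹ := by group

variable {Z : Set G} {K : G → Subgroup G} {P : G → Prop} {Cn : G → G → Prop}

/-- the relation of (8.2) -/
def Rel (_h : Gr Z K P Cn) (x y : G) : Prop := Cn x y ∨ CP K x y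

section

variable (h : Gr Z K P Cn) {x y z g : G}

theorem rel_refl (hx : x ∈ Z) : h.Rel x x := Or.inl (h.refl x hx)

theorem rel_symm (hxy : h.Rel x y) : h.Rel y x := by
  rcases hxy with h1 | h1
  · exact Or.inl (h.symm x y h1)
  · exact Or.inr h1.symm

theorem rel_conj (hx : x ∈ Z) (hy : y ∈ Z) (hxy : h.Rel x y) (g : G) : h.Rel (g * x * g⁻¹) (g * y * g⁻¹) := by
  rcases hxy with h1 | h1
  · exact Or.inl (h.conj x y g h1)
  · exact Or.inr (h.w.cp_conj hx hy h1 g)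

/-- commuting elements are related -/
theorem rel_of_comm (hx : x ∈ Z) (hy : y ∈ Z) (hxy : x * y = y * x) : h.Rel x y := by
  by_cases h1 : Cn x y
  · exact Or.inl h1
  · exact Or.inr (h.perp x hx y hy hxy h1 x hx y hy (h.refl x hx) (h.refl y hy))

/-- an alternative: two elements in `Z(s)` are related -/
theorem rel_of_P {s : G} (hs : P s) (hx : x ∈ Z) (hy : y ∈ Z) (h1 : Cen K s x) (h2 : Cen K s y) : h.Rel x y := by
  rcases h.dich s hs x hx y hy h1 h2 with h3 | h3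
  · exact h.rel_of_comm hx hy h3
  · exact Or.inl (h.swap x hx y hy h3)

theorem cp_of_rel (hx : x ∈ Z) (hy : y ∈ Z) (hxy : h.Rel x y) (h1 : ¬ Cn x y) {x' y' : G} (hx' : x' ∈ Z)
    (hy' : y' ∈ Z) (hxx : Cn x x') (hyy : Cn y y') : CP K x' y' := by
  rcases hxy with h2 | h2
  · exact absurd h2 h1
  · exact h.perp x hx y hy (h.w.comm_of_cp hx hy h2) h1 x' hx' y' hy' hxx hyy

/-- **(8.2)** -/
theorem rel_trans (hx : x ∈ Z) (hy : y ∈ Z) (hz : z ∈ Z) (hxy : h.Rel x y) (hyz : h.Rel y z) : h.Rel x z := by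
  by_cases h1 : Cn x y
  · by_cases h2 : Cn y z
    · exact Or.inl (h.trans x y z h1 h2)
    · exact Or.inr (h.cp_of_rel hy hz hyz h2 hx hz (h.symm _ _ h1) (h.refl z hz))
  · by_cases h2 : Cn y z
    · exact Or.inr (h.cp_of_rel hx hy hxy h1 hx hz (h.refl x hx) h2)
    · have c1 : CP K y x := (h.cp_of_rel hx hy hxy h1 hx hy (h.refl x hx) (h.refl y hy)).symm
      have c2 : CP K y z := h.cp_of_rel hy hz hyz h2 hy hz (h.refl y hy) (h.refl z hz)
      exact h.rel_of_P (h.pz y hy) hx hz (h.w.cen_of_cp hy c1.symm) (h.w.cen_of_cp hy c2.symm)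

/-- the stabiliser of the class of `z` -/
def MM (z : G) (hz : z ∈ Z) : Subgroup G where
  carrier := {g | h.Rel z (g * z * g⁻¹)}
  one_mem' := by
    change h.Rel z (1 * z * 1⁻¹)
    rw [one_mul, inv_one, mul_one]
    exact h.rel_refl hz
  mul_mem' := by
    intro a b ha hb
    have h1 := h.rel_conj hz (h.w.conjZ z hz b) hb a
    rw [conj_conj] at h1
    exact h.rel_trans hz (h.w.conjZ z hz a) (h.w.conjZ z hz (a * b)) ha h1
  inv_mem' := by
    intro a ha
    have h1 := h.rel_conj hz (h.w.conjZ z hz a) ha a⁻¹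
    rw [conj_inv_conj] at h1
    exact h.rel_symm h1

theorem mem_MM_iff (hz : z ∈ Z) : g ∈ h.MM z hz ↔ h.Rel z (g * z * g⁻¹) := Iff.rfl

/-- related elements have the same stabiliser -/
theorem MM_eq (hx : x ∈ Z) (hy : y ∈ Z) (hxy : h.Rel x y) : h.MM x hx = h.MM y hy := by
  have key : ∀ {x y : G} (hx : x ∈ Z) (hy : y ∈ Z), h.Rel x y → h.MM x hx ≤ h.MM y hy := by
    intro x y hx hy hxy g hg
    have h1 := h.rel_conj hx hy hxy g
    exact h.rel_trans hy hx (h.w.conjZ y hy g) (h.rel_symm hxy)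
      (h.rel_trans hx (h.w.conjZ x hx g) (h.w.conjZ y hy g) hg h1)
  exact le_antisymm (key hx hy hxy) (key hy hx (h.rel_symm hxy))

theorem mem_MM_of_rel (hz : z ∈ Z) (hx : x ∈ Z) (hzx : h.Rel z x) (hg : h.Rel x (g * x * g⁻¹)) :
    g ∈ h.MM z hz := by
  rw [h.MM_eq hz hx hzx]
  exact hg

/-- **(8.3)** -/
theorem centralizer_le_MM (hz : z ∈ Z) (hx : x ∈ Z) (hzx : h.Rel z x) : centralizer {x} ≤ h.MM z hz := by
  intro g hg
  refine h.mem_MM_of_rel hz hx hzx ?_
  rw [mem_centralizer_singleton_iff.1 hg, mul_inv_cancel_right]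
  exact h.rel_refl hx

/-- two elements whose members lie in a common 2-group are related -/
theorem rel_of_le {S : Subgroup G} (hS : IsPGroup 2 S) (hx : x ∈ Z) (hy : y ∈ Z) (h1 : K x ≤ S) (h2 : K y ≤ S) :
    h.Rel x y := by
  by_cases h3 : x = y
  · rw [← h3]
    exact h.rel_refl hx
  · exact Or.inr (h.cp S hS x hx y hy h1 h2 h3)

/-- **(8.3)** -/
theorem le_MM {S : Subgroup G} (hS : IsPGroup 2 S) (hz : z ∈ Z) (h1 : K z ≤ S) : S ≤ h.MM z hz := by
  intro s hs
  refine h.rel_of_le hS hz (h.w.conjZ z hz s) h1 ?_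
  rw [h.w.conjK z hz]
  intro x hx
  have h2 := mul_mem (mul_mem hs (h1 (mem_cj.1 hx))) (inv_mem hs)
  simpa [mul_assoc] using h2

/-- **(8.5)** -/
theorem centralizer_le_MM' {s : G} (hs : P s) (hz : z ∈ Z) (h1 : Cen K s z) : centralizer {s} ≤ h.MM z hz := by
  intro g hg
  refine h.rel_of_P hs hz (h.w.conjZ z hz g) h1 ?_
  intro k hk
  rw [h.w.conjK z hz] at hk
  have h2 := h1 _ (mem_cj.1 hk)
  have h3 := mem_centralizer_singleton_iff.1 hg
  have h4 : g⁻¹ * s * g = s := by rw [mul_assoc, ← h3, inv_mul_cancel_left]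
  calc s * k = (g * (g⁻¹ * s * g) * g⁻¹) * k := by group
    _ = g * (s * (g⁻¹ * k * g)) * g⁻¹ := by rw [h4]; group
    _ = g * ((g⁻¹ * k * g) * (g⁻¹ * s * g)) * g⁻¹ := by rw [h2, h4]
    _ = k * s := by group

end

section

variable [Finite G] (h : Gr Z K P Cn) {x y z g : G}

/-- an element of `Z` in the class of `z` is in `M` -/
theorem mem_MM (hz : z ∈ Z) (hx : x ∈ Z) (hzx : h.Rel z x) : x ∈ h.MM z hz :=
  h.centralizer_le_MM hz hx hzx (mem_centralizer_singleton_iff.2 rfl)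

/-- **(8.4)** -/
theorem rel_of_mem_MM (hz : z ∈ Z) (hx : x ∈ Z) (hxM : x ∈ h.MM z hz) : h.Rel z x := by
  haveI : Fact (Nat.Prime 2) := ⟨Nat.prime_two⟩
  obtain ⟨S, hS⟩ := (h.w.two hz).exists_le_sylow
  have hSM : (S : Subgroup G) ≤ h.MM z hz := h.le_MM S.isPGroup' hz hS
  -- a conjugate of `x` lies in `S`
  let S' : Sylow 2 (h.MM z hz) := S.subtype hSM
  have h1 : IsPGroup 2 (zpowers (⟨x, hxM⟩ : h.MM z hz)) := by
    refine IsPGroup.of_card (n := 1) ?_
    rw [Nat.card_zpowers, pow_one, ← orderOf_injective (h.MM z hz).subtype (Subtype.coe_injective)]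
    exact h.w.ord hx
  obtain ⟨m, hm⟩ := exists_le_cj S' h1
  have h2 : (m : G)⁻¹ * x * m ∈ (S : Subgroup G) := by
    have h3 := mem_cj.1 (hm (mem_zpowers _))
    exact h3
  set m' : G := (m : G)⁻¹ with hm'
  have hm'M : m' ∈ h.MM z hz := inv_mem m.2
  have hx' : m' * x * m'⁻¹ ∈ Z := h.w.conjZ x hx m'
  have h3 : m' * x * m'⁻¹ ∈ (S : Subgroup G) := by
    rw [hm', inv_inv]
    exact h2
  have key : h.Rel z (m' * x * m'⁻¹) := by
    set x' := m' * x * m'⁻¹
    have h4 : K (x' * z * x'⁻¹) ≤ S := by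
      rw [h.w.conjK z hz]
      intro k hk
      have h5 := mul_mem (mul_mem h3 (hS (mem_cj.1 hk))) (inv_mem h3)
      simpa [mul_assoc] using h5
    by_cases h5 : z = x' * z * x'⁻¹
    · refine h.rel_of_comm hz hx' ?_
      exact eq_mul_inv_iff_mul_eq.1 h5
    · exact Or.inl (h.swap z hz x' hx' (h.cp S S.isPGroup' z hz _ (h.w.conjZ z hz x') hS h4 h5))
  have h6 := h.rel_conj hz hx' key m'⁻¹
  rw [conj_inv_conj] at h6
  exact h.rel_trans hz (h.w.conjZ z hz m'⁻¹) hx ((h.mem_MM_iff hz).1 (inv_mem hm'M)) h6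

/-- an element of `Z` in `M ∩ M^g` : then `g ∈ M` -/
theorem mem_of_mem (hz : z ∈ Z) (hx : x ∈ Z) (h1 : x ∈ h.MM z hz) (h2 : g⁻¹ * x * g ∈ h.MM z hz) :
    g ∈ h.MM z hz := by
  have h3 := h.rel_of_mem_MM hz hx h1
  have hx' : g⁻¹ * x * g⁻¹⁻¹ ∈ Z := h.w.conjZ x hx g⁻¹
  rw [inv_inv] at hx'
  have h4 := h.rel_of_mem_MM hz hx' h2
  have h5 := h.rel_conj hz hx' h4 g
  have h6 : g * (g⁻¹ * x * g) * g⁻¹ = x := by group
  rw [h6] at h5
  exact h.rel_trans hz hx (h.w.conjZ z hz g) h3 (h.rel_symm h5)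

end

end Gr


namespace Gr

variable {Z : Set G} {K : G → Subgroup G} {P : G → Prop} {Cn : G → G → Prop}

variable (h : Gr Z K P Cn) {x y z g : G} {G0 : Subgroup G}

end Gr

end Cfsg.Agent.Cit.Nil.RTwoM.L1
end

-- part: Cit/Nil/RTwoM/L1/Strong
section
set_option linter.all false
open scoped Cfsg.Agent.FastGrp

/-!
# S1309, (6b), any `r`: the strongly closed subgroup (section 9 of helper545's text)

`strongB` : `ROne.Strong.strong` (helper815) with helper764's data `DataB` (one quaternion group over each `z ∈ CS`,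
chosen for the given involution `b` only).
-/

set_option autoImplicit false
set_option linter.style.haveILetI false
set_option linter.unusedSectionVars false

namespace Cfsg.Agent.Cit.Nil.RTwoM.L1

open Subgroup Cfsg Cfsg.Agent.Cit
open ROne.Strong (exists_cj_le)
open RI (DataB)

variable {G : Type*} [Group G]

/-- **section 9** -/
theorem strongB [Finite G] (S : Sylow 2 G) {M : Subgroup G} (hSM : (S : Subgroup G) ≤ M) {CS : Set G}
    (hle : CS ⊆ (S : Subgroup G))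
    (d : ∀ b ∈ (S : Subgroup G), b * b = 1 → (∀ z ∈ CS, b * z * b⁻¹ ≠ z) →
      ∃ K : G → Subgroup G, DataB (S : Subgroup G) CS K b) (hne : CS.Nonempty)
    (P1 : ∀ z ∈ CS, ∀ x, x * z * x⁻¹ ∈ M → x ∈ M)
    (P2 : ∀ h ∈ closure CS, h ≠ 1 → ∀ c, c * h = h * c → c ∈ M)
    {A : Subgroup G} (hAS : A ≤ S) (hAM : M ≤ normalizer (A : Set G)) (hA2 : ∀ x ∈ A, x * x = 1)
    (P3 : ∀ x ∈ A, x ≠ 1 → ∀ R : Subgroup G, IsPGroup 2 R → (∀ r ∈ R, r * x = x * r) →
      ∃ c, c * x = x * c ∧ cj c R ≤ M) : IsStronglyClosed A (S : Subgroup G) := by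
  haveI : Fact (Nat.Prime 2) := ⟨Nat.prime_two⟩
  refine ⟨hAS, fun x hx g hg => ?_⟩
  by_contra hb
  set b := g * x * g⁻¹ with hbdef
  have hx1 : x ≠ 1 := by
    rintro rfl
    apply hb
    rw [hbdef, mul_one, mul_inv_cancel]
    exact A.one_mem
  have hbb : b * b = 1 := by
    have h1 : b * b = g * (x * x) * g⁻¹ := by rw [hbdef]; group
    rw [h1, hA2 x hx, mul_one, mul_inv_cancel]
  have hgb : g⁻¹ * b * g = x := by rw [hbdef]; group
  -- the 2-subgroup of `C(x)`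
  let R : Subgroup G := cj g⁻¹ ((S : Subgroup G) ⊓ centralizer {b})
  have hR : ∀ r ∈ R, g * r * g⁻¹ ∈ (S : Subgroup G) ⊓ centralizer {b} := by
    intro r hr
    rw [mem_cj, inv_inv] at hr
    exact hr
  have hR2 : IsPGroup 2 R := (S.isPGroup'.to_le inf_le_left).map _
  obtain ⟨c, hc, hcR⟩ := P3 x hx hx1 R hR2 (fun r hr => by
    have h1 := mem_centralizer_singleton_iff.1 (hR r hr).2
    rw [← hgb]
    calc r * (g⁻¹ * b * g) = g⁻¹ * ((g * r * g⁻¹) * b) * g := by group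
      _ = g⁻¹ * (b * (g * r * g⁻¹)) * g := by rw [h1]
      _ = _ := by group)
  -- into `S`
  obtain ⟨m, hm, hmS⟩ := exists_cj_le S hSM (R := cj c R) (hR2.map _) hcR
  have hkey : ∀ s ∈ (S : Subgroup G), s * b = b * s → (m * c * g⁻¹) * s * (m * c * g⁻¹)⁻¹ ∈ (S : Subgroup G) := by
    intro s hs hsb
    have h1 : g⁻¹ * s * g⁻¹⁻¹ ∈ R := conj_mem_cj ⟨hs, mem_centralizer_singleton_iff.2 hsb⟩
    have h2 := hmS (conj_mem_cj (g := m) (conj_mem_cj (g := c) h1))
    have h3 : (m * c * g⁻¹) * s * (m * c * g⁻¹)⁻¹ = m * (c * (g⁻¹ * s * g⁻¹⁻¹) * c⁻¹) * m⁻¹ := by group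
    rw [h3]
    exact h2
  have hwM : m * c * g⁻¹ ∉ M := by
    intro h1
    have h2 : b = (m * c * g⁻¹)⁻¹ * (m * x * m⁻¹) * (m * c * g⁻¹)⁻¹⁻¹ := by
      have h3 : c⁻¹ * x * c = x := by
        rw [mul_assoc, ← hc, inv_mul_cancel_left]
      calc b = g * x * g⁻¹ := hbdef
        _ = g * (c⁻¹ * x * c) * g⁻¹ := by rw [h3]
        _ = _ := by group
    apply hb
    rw [h2]
    have h3 : m * x * m⁻¹ ∈ A := (mem_normalizer_iff.1 (hAM hm) x).1 hx
    exact (mem_normalizer_iff.1 (hAM (M.inv_mem h1)) _).1 h3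
  set w := m * c * g⁻¹ with hwdef
  have hmove : ∀ z ∈ CS, b * z * b⁻¹ ≠ z := by
    intro z hz h1
    have h2 : z * b = b * z := by
      conv_lhs => rw [← h1]
      group
    exact hwM (P1 z hz w (hSM (hkey z (hle hz) h2)))
  obtain ⟨K, dK⟩ := d b hg hbb hmove
  refine dK.false_of (w := w) hne hg hbb hmove hkey ?_
  · intro h hh hhb hh1 z hz hcomm
    have h1 : w⁻¹ * z * w ∈ M := by
      refine P2 h hh hh1 _ ?_
      calc w⁻¹ * z * w * h = w⁻¹ * (z * (w * h * w⁻¹)) * w := by group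
        _ = w⁻¹ * ((w * h * w⁻¹) * z) * w := by rw [hcomm]
        _ = _ := by group
    have h2 := P1 z hz w⁻¹ (by rwa [inv_inv])
    exact hwM (by simpa using M.inv_mem h2)

end Cfsg.Agent.Cit.Nil.RTwoM.L1
end

-- part: Cit/Nil/RTwoM/L1/GraphC
section
prune_inst 0x2000000000220000001800000000004000000002004300002140000000410041a00506013260021001100870200a8060121800090038000020008a0040000401040220c21000100001000040e800000000000000000000000000000000000000200000000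
set_option linter.all false
open scoped Cfsg.Agent.FastGrp

/-!
# S1309, (6b), any `r`: the strongly closed subgroup (sections 8 and 9 of helper545's text)

`ROne/GraphC.lean` (helper185) for the world `WS Z K` (`K z = R_z`).

`WOne Z K E` : `E` is a nontrivial equivariant map into the subgroups, constant on components, `E z ≤ ⟨[z]⟩`
(C-swaps exist: `E z = ⟨t_z⟩`; no C-swaps, `κ ≥ 2`: `E z = E_z^+`).
`WTwo Z K` : no C-swaps, `[z] = {z}`, no linked C-pairs (`κ = 1`).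
`Dat Z K` : the data for the count (`RI.DataB`).

* `GD.gr` : helper587's `Gr`;
* `WOne.exists_closed`, `WTwo.exists_closed` : **`A` is strongly closed in `S`**;
* `WTwo.not_conn`, `WTwo.comm_of_rel` : `κ = 1` : C-pairs are not connected; related elements commute.
-/

set_option autoImplicit false
set_option linter.style.haveILetI false
set_option linter.unusedSectionVars false

namespace Cfsg.Agent.Cit.Nil.RTwoM.L1

open Subgroup Cfsg Cit
open ROne (CP Cen NP CSw wt ZC NC cl Tw CS TT AN OneCls self_mem_NC conj_mem_NC)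

variable {G : Type*} [Group G]

/-- the data for the count -/
def Dat (Z : Set G) (K : G → Subgroup G) : Prop :=
  ∀ S : Sylow 2 G, ∀ b ∈ (S : Subgroup G), b * b = 1 → (∀ z ∈ CS Z K (S : Subgroup G), b * z * b⁻¹ ≠ z) →
    ∃ K' : G → Subgroup G, RI.DataB (S : Subgroup G) (CS Z K (S : Subgroup G)) K' b

/-- C-swaps exist, or `κ ≥ 2` -/
structure WOne (Z : Set G) (K : G → Subgroup G) (E : G → Subgroup G) : Prop where
  eqv : ∀ z ∈ Z, ∀ g, E (g * z * g⁻¹) = cj g (E z)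
  ne : ∀ z ∈ Z, E z ≠ ⊥
  le : ∀ z ∈ Z, E z ≤ closure {u | Tw Z K z u}
  np : ∀ z ∈ Z, ∀ x ∈ Z, NP K z x → E z = E x
  tw : ∀ z ∈ Z, ∀ x, Tw Z K z x → E z = E x
  sw : ∀ z ∈ Z, ∀ x ∈ Z, CSw K z x → E z = E x

/-- no C-swaps, `κ = 1` -/
structure WTwo (Z : Set G) (K : G → Subgroup G) : Prop where
  sw : ∀ z ∈ Z, ∀ x ∈ Z, ¬ CSw K z x
  tw : ∀ z ∈ Z, ∀ x, Tw Z K z x → x = z
  nl : ∀ u ∈ Z, ∀ e ∈ Z, ∀ x ∈ Z, CP K u e → NP K u x → NP K e x → False

namespace GD

variable [Finite G] {Z : Set G} {K : G → Subgroup G} {z u v g x y s : G}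

variable (h : GD Z K)

include h

/-- helper587's structure -/
theorem gr (cls : OneCls Z) : Gr Z K (Tor Z K) (Conn Z K) where
  w := h.w.toWG
  cls := cls
  cp _ hS _ hx _ hy h1 h2 hne := h.w.com hx hy hS h1 h2 hne
  refl x _ := Conn.refl x
  symm _ _ h1 := h1.symm h.w
  trans _ _ _ h1 h2 := h1.trans h2
  conj _ _ g h1 := h1.conj h.w g
  pz _ hz := tor_one h.w hz
  dich _ hs _ hx _ hy h1 h2 := h.dich hs hx hy h1 h2
  swap _ hx _ hy h1 := conn_of_csw hx hy h1
  perp _ hx _ hy hc hn _ _ _ _ h1 h2 := h.cp_of_not_conn hx hy hc hn h1 h2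

/-- the subgroup `M` contains the Sylow subgroup, (P1), (P2) -/
theorem le_MM (cls : OneCls Z) (S : Sylow 2 G) (hz : z ∈ CS Z K S) : (S : Subgroup G) ≤ (h.gr cls).MM z hz.1 :=
  (h.gr cls).le_MM S.isPGroup' hz.1 hz.2

theorem rel_CS (cls : OneCls Z) (S : Sylow 2 G) (hz : z ∈ CS Z K S) (hu : u ∈ CS Z K S) : (h.gr cls).Rel z u :=
  (h.gr cls).rel_of_le S.isPGroup' hz.1 hu.1 hz.2 hu.2

theorem P1 (cls : OneCls Z) (S : Sylow 2 G) (hz : z ∈ CS Z K S) (hu : u ∈ CS Z K S)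
    (hx : x * u * x⁻¹ ∈ (h.gr cls).MM z hz.1) : x ∈ (h.gr cls).MM z hz.1 := by
  have h1 : u ∈ (h.gr cls).MM z hz.1 := h.le_MM cls S hz (hu.2 (h.w.mem u hu.1))
  have h2 := (h.gr cls).mem_of_mem (g := x⁻¹) hz.1 hu.1 h1 (by rwa [inv_inv])
  simpa using inv_mem h2

theorem P2 (cls : OneCls Z) (S : Sylow 2 G) (hz : z ∈ CS Z K S) (hs : s ∈ TT Z K S) (hs1 : s ≠ 1)
    (hx : x * s = s * x) : x ∈ (h.gr cls).MM z hz.1 :=
  (h.gr cls).centralizer_le_MM' ⟨hs1, S, hs⟩ hz.1 (h.w.TT_cen S.isPGroup' hz hs) (mem_centralizer_singleton_iff.2 hx)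

end GD

namespace WOne

variable [Finite G] {Z : Set G} {K : G → Subgroup G} {E : G → Subgroup G} {z u v g x y s : G}

theorem const (o : WOne Z K E) (hE : Conn Z K x y) : E x = E y := by
  induction hE with
  | refl => rfl
  | tail _ h2 ih =>
    refine ih.trans ?_
    rcases h2.2.2 with h3 | h3 | h3
    · exact o.np _ h2.1 _ h2.2.1 h3
    · exact o.tw _ h2.1 _ h3
    · exact o.sw _ h2.1 _ h2.2.1 h3

variable (o : WOne Z K E) (h : GD Z K) (cls : OneCls Z)

include h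

/-- every component of the class meets `C_S` -/
theorem exists_conn (S : Sylow 2 G) (hz : z ∈ CS Z K S) (hx : x ∈ Z) (hzx : (h.gr cls).Rel z x) :
    ∃ c ∈ CS Z K S, Conn Z K x c := by
  by_contra hcon
  push Not at hcon
  have hg := h.gr cls
  have h1 : x ∈ CS Z K S := by
    refine h.w.mem_CS_of_clique S hx fun c hc => Or.inr ?_
    have h2 : hg.Rel c x := hg.rel_trans hc.1 hz.1 hx (h.rel_CS cls S hc hz) hzx
    rcases h2 with h2 | h2
    · exact absurd (h2.symm h.w) (hcon c hc)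
    · exact h2
  exact hcon x h1 (Conn.refl x)

/-- `[c] ⊆ C_S` -/
theorem tw_mem_CS (S : Sylow 2 G) (hz : z ∈ CS Z K S) (hu : Tw Z K z u) : u ∈ CS Z K S := by
  refine h.w.mem_CS_of_clique S hu.1 fun c hc => ?_
  have h1 : c ∈ cl Z K z := by
    by_cases hcz : c = z
    · exact ⟨hc.1, Or.inl hcz⟩
    · exact ⟨hc.1, Or.inr (h.w.com hz.1 hc.1 S.isPGroup' hz.2 hc.2 (Ne.symm hcz))⟩
  rw [hu.2] at h1
  exact h1.2.imp id CP.symm

include o

theorem E_le (S : Sylow 2 G) (hz : z ∈ CS Z K S) (hx : x ∈ Z) (hzx : (h.gr cls).Rel z x) : E x ≤ TT Z K S := by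
  obtain ⟨c, hc, hxc⟩ := exists_conn h cls S hz hx hzx
  rw [o.const hxc]
  refine (o.le c hc.1).trans ((closure_le _).2 fun u hu => subset_closure (tw_mem_CS h S hc hu))

/-- **(9.1)**, C-swaps exist or `κ ≥ 2` -/
theorem exists_closed (dat : Dat Z K) (S : Sylow 2 G) (hz : z ∈ CS Z K S) :
    ∃ A : Subgroup G, A ≠ ⊥ ∧ A ≤ TT Z K S ∧ IsStronglyClosed A (S : Subgroup G) ∧ ∀ a ∈ A, a ≠ 1 → ∀ c, c * a = a * c →
      c ∈ (h.gr cls).MM z hz.1 := by
  have hg := h.gr cls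
  have w := h.w
  set A : Subgroup G := closure {a | ∃ x ∈ Z, hg.Rel z x ∧ a ∈ E x} with hA
  have hAT : A ≤ TT Z K S := by
    rw [hA, closure_le]
    rintro a ⟨x, hx, hzx, ha⟩
    exact o.E_le h cls S hz hx hzx ha
  have hAM : hg.MM z hz.1 ≤ normalizer (A : Set G) := by
    have key : ∀ g ∈ hg.MM z hz.1, A ≤ A.comap (MulAut.conj g).toMonoidHom := by
      intro g hgM
      conv_lhs => rw [hA]
      rw [closure_le]
      rintro a ⟨x, hx, hzx, ha⟩
      refine subset_closure ⟨g * x * g⁻¹, w.conjZ x hx g, ?_, ?_⟩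
      · exact hg.rel_trans hz.1 (w.conjZ z hz.1 g) (w.conjZ x hx g) hgM (hg.rel_conj hz.1 hx hzx g)
      · rw [o.eqv x hx]
        exact conj_mem_cj ha
    intro g hgM
    rw [mem_normalizer_iff]
    intro a
    refine ⟨fun ha => key g hgM ha, fun ha => ?_⟩
    have h1 : g⁻¹ * (g * a * g⁻¹) * g⁻¹⁻¹ ∈ A := key g⁻¹ (inv_mem hgM) ha
    have h2 : g⁻¹ * (g * a * g⁻¹) * g⁻¹⁻¹ = a := by group
    rwa [h2] at h1
  have hP : ∀ a ∈ A, a ≠ 1 → ∀ c, c * a = a * c → c ∈ (h.gr cls).MM z hz.1 :=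
    fun a ha ha1 c hc => h.P2 cls S hz (hAT ha) ha1 hc
  refine ⟨A, ?_, hAT, ?_, hP⟩
  · intro h1
    apply o.ne z hz.1
    rw [eq_bot_iff, ← h1]
    exact fun a ha => subset_closure ⟨z, hz.1, hg.rel_refl hz.1, ha⟩
  · refine strongB S (h.le_MM cls S hz) (fun u hu => hu.2 (w.mem u hu.1)) (dat S) ⟨z, hz⟩ (fun u hu x hx => h.P1 cls S hz hu hx)
      (fun s hs hs1 c hc => h.P2 cls S hz hs hs1 hc) (hAT.trans w.TT_le) hAM
      (fun a ha => w.TT_sq S.isPGroup' (hAT ha)) ?_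
    intro a ha ha1 R _ hR
    refine ⟨1, by rw [one_mul, mul_one], ?_⟩
    rw [cj_one]
    exact fun r hr => hP a ha ha1 r (hR r hr)

end WOne

/-- `u`, `u1 = u^x` an N-pair: `q = u u1` is in the same component as `u` and `x` -/
theorem np_np {Z : Set G} {K : G → Subgroup G} {u x : G} [Finite G] (h : GD Z K) (hu : u ∈ Z) (hx : x ∈ Z)
    (hN : NP K u (x * u * x⁻¹)) (hsw : ¬ CSw K x u) :
    ∃ q ∈ Z, q = u * (x * u * x⁻¹) ∧ NP K u q ∧ NP K x q := by
  have w := h.w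
  have hxx := w.sq x hx
  have huu := w.sq u hu
  have xinv := w.inv hx
  have uinv := w.inv hu
  have hu1Z := w.conjZ u hu x
  have hqZ := (h.np u hu _ hu1Z hN).1
  have hq1 := (h.np u hu _ hu1Z hN).2
  have hxu1 : x * (x * u * x⁻¹) * x⁻¹ = u := by
    have : x * (x * u * x⁻¹) * x⁻¹ = (x * x) * u * (x * x)⁻¹ := by group
    rw [this, hxx]; group
  have huc := hN.2.1
  obtain ⟨q, hq⟩ : ∃ q, q = u * (x * u * x⁻¹) := ⟨_, rfl⟩
  rw [← hq] at hqZ hq1
  have hxq : x * q * x⁻¹ = q := by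
    have : x * q * x⁻¹ = (x * u * x⁻¹) * (x * (x * u * x⁻¹) * x⁻¹) := by rw [hq]; group
    rw [this, hxu1, ← huc, ← hq]
  have hxq' : x * q = q * x := mul_inv_eq_iff_eq_mul.1 hxq
  have hux : u * x * u⁻¹ = x * q := by
    rw [uinv, hxq', hq, xinv]
    simp only [mul_assoc, hxx, mul_one]
  have hqne : q ≠ 1 := w.ne q hqZ
  have hxqZ : x * q ∈ Z := hux ▸ w.conjZ x hx u
  have hcx : ¬ CP K x (x * q) := by
    intro hcx
    rw [← hux] at hcx
    exact hsw hcx
  have hNx : NP K x (x * q) := by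
    refine ⟨fun h1 => hqne (mul_eq_left.1 h1.symm), ?_, hcx⟩
    rw [mul_assoc, ← hxq']
  have h3 := (h.np x hx _ hxqZ hNx).2
  have h4 : x * (x * q) = q := by rw [← mul_assoc, hxx, one_mul]
  rw [h4] at h3
  exact ⟨q, hqZ, hq, hq1, h3⟩

namespace WTwo

variable [Finite G] {Z : Set G} {K : G → Subgroup G} {z u v g x y s : G}

variable (o : WTwo Z K) (h : GD Z K)

include o h

/-- the claim of (8.6) -/
theorem cp_np (hz : z ∈ Z) (hu : u ∈ Z) (hx : x ∈ Z) (hcp : CP K z u) (hE : NP K z x) : CP K x u := by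
  have w := h.w
  have hxu : x ≠ u := by
    rintro rfl
    exact hE.2.2 hcp
  by_cases hc : x * u = u * x
  · by_contra hn
    exact o.nl z hz u hu x hx hcp hE ⟨hxu.symm, hc.symm, fun h1 => hn h1.symm⟩
  exfalso
  have hu1Z := w.conjZ u hu x
  have hne : u ≠ x * u * x⁻¹ := by
    intro h1
    apply hc
    rw [eq_mul_inv_iff_mul_eq] at h1
    exact h1.symm
  have hxz : x * z * x⁻¹ = z := by rw [← hE.2.1, mul_inv_cancel_right]
  have hcp1 : CP K z (x * u * x⁻¹) := by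
    have h1 := w.cp_conj hz hu hcp x
    rwa [hxz] at h1
  have huc : u * (x * u * x⁻¹) = (x * u * x⁻¹) * u := by
    rcases h.two_five z (tor_one w hz) u hu (cen_of_cp_left w hz hcp) _ (conj_mem_NC hE.2.1.symm) with h1 | h1
    · exact (mul_inv_eq_iff_eq_mul.1 h1).symm
    · exact absurd h1 (o.sw u hu _ hu1Z)
  obtain ⟨q, hqZ, hq, h1, h2⟩ := np_np h hu hx ⟨hne, huc, o.sw u hu x hx⟩ (o.sw x hx u hu)
  have hzq : CP K z q := by
    refine w.csymm hz hqZ ?_ ?_
    · rintro rfl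
      exact h1.2.2 hcp.symm
    · rw [hq]
      exact (w.cen_of_cp hu hcp).mul (w.cen_of_cp hu1Z hcp1)
  exact o.nl z hz q hqZ x hx hzq hE h2.symm

theorem cp_conn (hu : u ∈ Z) (hcp : CP K z u) (hx : Conn Z K z x) : CP K x u := by
  induction hx with
  | refl => exact hcp
  | tail _ h2 ih =>
    rcases h2.2.2 with h3 | h3 | h3
    · exact o.cp_np h h2.1 hu h2.2.1 ih h3
    · rw [o.tw _ h2.1 _ h3]
      exact ih
    · exact absurd h3 (o.sw _ h2.1 _ h2.2.1)

variable (cls : OneCls Z)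

/-- related elements commute -/
theorem comm_of_rel {a b : G} (ha : a ∈ Z) (hb : b ∈ Z) (hab : CP K a b) (hz : z ∈ Z) (hx : x ∈ Z)
    (hzx : (h.gr cls).Rel z x) : z * x = x * z := by
  rcases hzx with h1 | h1
  · obtain ⟨g, rfl⟩ := cls a ha z hz
    have hu := h.w.conjZ b hb g
    have h2 := h.w.cp_conj ha hb hab g
    have h3 := o.cp_conn h hu h2 h1
    rcases h.dich (tor_one h.w hu) hz hx (h.w.cen_of_cp hu h2) (h.w.cen_of_cp hu h3) with h4 | h4
    · exact h4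
    · exact absurd h4 (o.sw _ hz _ hx)
  · exact h.w.comm_of_cp hz hx h1

/-- **(9.1)**, `κ = 1` -/
theorem exists_closed (dat : Dat Z K) (S : Sylow 2 G) (hz : z ∈ CS Z K S) (hu : u ∈ CS Z K S) (hzu : z ≠ u) :
    ∃ A : Subgroup G, A = closure {x | x ∈ Z ∧ (h.gr cls).Rel z x} ∧ A ≠ ⊥ ∧ (∀ x ∈ A, ∀ y ∈ A, x * y = y * x) ∧
      (∀ x ∈ A, x * x = 1) ∧ IsStronglyClosed A (S : Subgroup G) := by
  haveI : Fact (Nat.Prime 2) := ⟨Nat.prime_two⟩
  have hg := h.gr cls
  have w := h.w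
  have hcp : CP K z u := w.com hz.1 hu.1 S.isPGroup' hz.2 hu.2 hzu
  set A : Subgroup G := closure {x | x ∈ Z ∧ hg.Rel z x} with hA
  have hrel : ∀ x ∈ Z, ∀ y ∈ Z, hg.Rel z x → hg.Rel z y → x * y = y * x := fun x hx y hy h1 h2 =>
    o.comm_of_rel h cls hz.1 hu.1 hcp hx hy (hg.rel_trans hx hz.1 hy (hg.rel_symm h1) h2)
  have hAc : ∀ x ∈ A, ∀ y ∈ A, x * y = y * x := by
    have h1 : ∀ x ∈ Z, hg.Rel z x → A ≤ centralizer {x} := by
      intro x hx hzx
      rw [hA, closure_le]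
      rintro y ⟨hy, hzy⟩
      rw [SetLike.mem_coe, mem_centralizer_singleton_iff]
      exact hrel y hy x hx hzy hzx
    intro x hx y hy
    have h2 : A ≤ centralizer {y} := by
      conv_lhs => rw [hA]
      rw [closure_le]
      rintro a ⟨ha, hza⟩
      rw [SetLike.mem_coe, mem_centralizer_singleton_iff]
      exact (mem_centralizer_singleton_iff.1 (h1 a ha hza hy)).symm
    exact mem_centralizer_singleton_iff.1 (h2 hx)
  have hA2 : ∀ x ∈ A, x * x = 1 := by
    intro x hx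
    have hx' := hx
    rw [hA] at hx'
    refine (closure_induction (p := fun x _ => x ∈ A ∧ x * x = 1) ?_ ⟨A.one_mem, by simp⟩ ?_ ?_ hx').2
    · rintro a ⟨ha, hza⟩
      exact ⟨subset_closure ⟨ha, hza⟩, w.sq a ha⟩
    · rintro a b _ _ ⟨ha, ha2⟩ ⟨hb, hb2⟩
      refine ⟨A.mul_mem ha hb, ?_⟩
      calc a * b * (a * b) = a * (b * a) * b := by group
        _ = a * (a * b) * b := by rw [hAc b hb a ha]
        _ = (a * a) * (b * b) := by group
        _ = 1 := by rw [ha2, hb2, one_mul]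
    · rintro a _ ⟨ha, ha2⟩
      refine ⟨A.inv_mem ha, ?_⟩
      rw [← mul_inv_rev, ha2, inv_one]
  have hA2' : IsPGroup 2 A := by
    intro a
    refine ⟨1, Subtype.ext ?_⟩
    rw [pow_one, pow_two]
    exact hA2 a a.2
  have hAM : hg.MM z hz.1 ≤ normalizer (A : Set G) := by
    have key : ∀ g ∈ hg.MM z hz.1, A ≤ A.comap (MulAut.conj g).toMonoidHom := by
      intro g hgM
      conv_lhs => rw [hA]
      rw [closure_le]
      rintro x ⟨hx, hzx⟩
      exact subset_closure ⟨w.conjZ x hx g, hg.rel_trans hz.1 (w.conjZ z hz.1 g) (w.conjZ x hx g) hgM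
        (hg.rel_conj hz.1 hx hzx g)⟩
    intro g hgM
    rw [mem_normalizer_iff]
    intro a
    refine ⟨fun ha => key g hgM ha, fun ha => ?_⟩
    have h1 : g⁻¹ * (g * a * g⁻¹) * g⁻¹⁻¹ ∈ A := key g⁻¹ (inv_mem hgM) ha
    have h2 : g⁻¹ * (g * a * g⁻¹) * g⁻¹⁻¹ = a := by group
    rwa [h2] at h1
  have hAM' : A ≤ hg.MM z hz.1 := by
    conv_lhs => rw [hA]
    rw [closure_le]
    rintro x ⟨hx, hzx⟩
    exact hg.mem_MM hz.1 hx hzx
  have hSM := h.le_MM cls S hz
  have hAS : A ≤ S := by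
    have h1 : IsPGroup 2 (A ⊔ S : Subgroup G) := IsPGroup.to_sup_of_normal_left' hA2' S.isPGroup' (hSM.trans hAM)
    have h2 := S.is_maximal' h1 le_sup_right
    rw [← h2]
    exact le_sup_left
  have hzA : z ∈ A := subset_closure ⟨hz.1, hg.rel_refl hz.1⟩
  refine ⟨A, hA, ?_, hAc, hA2, ?_⟩
  · intro h1
    rw [h1, mem_bot] at hzA
    exact w.ne z hz.1 hzA
  · refine strongB S hSM (fun u hu => hu.2 (w.mem u hu.1)) (dat S) ⟨z, hz⟩ (fun u hu x hx => h.P1 cls S hz hu hx)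
      (fun s hs hs1 c hc => h.P2 cls S hz hs hs1 hc) hAS hAM hA2 ?_
    intro a ha _ R hR hRa
    set H : Subgroup G := centralizer {a} with hH
    have hAH : A ≤ H := fun x hx => mem_centralizer_singleton_iff.2 (hAc x hx a ha)
    have hRH : R ≤ H := fun x hx => mem_centralizer_singleton_iff.2 (hRa x hx)
    obtain ⟨P, hP⟩ := (hA2'.comap_subtype (K := H)).exists_le_sylow
    have hP2 : IsPGroup 2 ((P : Subgroup H).map H.subtype) := P.isPGroup'.map _
    have hAP : A ≤ (P : Subgroup H).map H.subtype := fun x hx => ⟨⟨x, hAH hx⟩, hP (mem_subgroupOf.2 hx), rfl⟩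
    have hPM : (P : Subgroup H).map H.subtype ≤ hg.MM z hz.1 := by
      by_contra hcon
      obtain ⟨b, hb, hb1, hb2⟩ := exists_normalizing hP2
        (A := (P : Subgroup H).map H.subtype ⊓ hg.MM z hz.1) inf_le_left (fun h1 => hcon (inf_eq_left.1 h1))
      apply hb1
      refine Subgroup.mem_inf.2 ⟨hb, ?_⟩
      have h1 : z ∈ (P : Subgroup H).map H.subtype ⊓ hg.MM z hz.1 := Subgroup.mem_inf.2 ⟨hAP hzA, hAM' hzA⟩
      have h2 := conj_mem_cj (g := b) h1
      rw [hb2] at h2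
      exact h.P1 cls S hz hz h2.2
    obtain ⟨m, hm⟩ := exists_le_cj P (hR.comap_subtype (K := H))
    refine ⟨(m : G)⁻¹, ?_, ?_⟩
    · have h1 := mem_centralizer_singleton_iff.1 m.2
      rw [inv_mul_eq_iff_eq_mul, ← mul_assoc, h1, mul_inv_cancel_right]
    · intro x hx
      rw [mem_cj, inv_inv] at hx
      have h1 : (⟨(m : G) * x * (m : G)⁻¹, hRH hx⟩ : H) ∈ cj m (P : Subgroup H) := hm (mem_subgroupOf.2 hx)
      rw [mem_cj] at h1
      have h2 := hPM (mem_map_of_mem H.subtype h1)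
      have h3 : H.subtype (m⁻¹ * (⟨(m : G) * x * (m : G)⁻¹, hRH hx⟩ : H) * m) = x := by
        change (m : G)⁻¹ * ((m : G) * x * (m : G)⁻¹) * (m : G) = x
        group
      rwa [h3] at h2

end WTwo

end Cfsg.Agent.Cit.Nil.RTwoM.L1

private theorem dce_c7a4ef1e381d : _root_.True := by
  try have : _root_.True := by simp only [_root_.Cfsg.Agent.Cit.Nil.RTwoM.L1.Gr.MM.congr_simp]
  exact _root_.True.intro
end

-- part: Cit/Nil/CV/Inh
section
set_option linter.all false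
open scoped Cfsg.Agent.FastGrp

/-!
# (6b)(CV): inheritance of the world `CVW`

`CVW` passes to subgroups (`CVW.restr`), to central quotients (`CVW.imgc`) and to subfamilies (`CVW.sub`).
(helper463's `CV1/Inherit.lean` without the field `lin`.)
-/

set_option autoImplicit false
set_option linter.style.haveILetI false
set_option linter.unusedSectionVars false

namespace Cfsg.Agent.Cit.CV

open Subgroup Cfsg Cit Tau

variable {G : Type*} [Group G] {Om : Set (Subgroup G)} {U : Subgroup G → Subgroup G} {H K L : Subgroup G}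

namespace CVW

section basic

variable [Finite G]

/-- a member is not abelian -/
theorem not_comm (w : CVW Om U) (hK : K ∈ Om) : ∃ x ∈ K, ∃ y ∈ K, x * y ≠ y * x := by
  obtain ⟨v, hv, hv4⟩ := w.exists_v hK
  obtain ⟨y, hy, hyX⟩ := w.exists_y hK
  refine ⟨y, hy, v, w.vch.le K hK hv, fun h => ?_⟩
  have h1 := w.y_inv hK hy hyX hv
  rw [h, mul_inv_cancel_right] at h1
  have h2 : v * v = 1 := by
    nth_rewrite 1 [h1]
    exact inv_mul_cancel v
  rw [w.sq_eq hK hv hv4] at h2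
  exact w.hyp.zz_ne hK h2

end basic

/-- subgroups -/
theorem restr [Finite G] (w : CVW Om U) (H : Subgroup G) : CVW (Cit.restr Om H) (CV1.uH H U) := by
  have hle : ∀ J ∈ Cit.restr Om H, U (J.map H.subtype) ≤ H := fun J hJ =>
    (w.vch.le _ hJ).trans (map_subtype_le J)
  have htwo : ∀ J ∈ Cit.restr Om H, IsPGroup 2 J := fun J hJ =>
    (w.two _ hJ).of_equiv (J.equivMapOfInjective _ H.subtype_injective).symm
  refine ⟨w.hyp.restr H, htwo, ⟨?_, ?_, ?_, ?_, ?_⟩, ?_⟩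
  · intro J hJ x hx
    obtain ⟨y, hy, hyx⟩ := w.vch.le _ hJ (CV1.mem_uH.1 hx)
    have : y = x := Subtype.ext hyx
    rwa [← this]
  · intro J hJ g
    ext x
    rw [CV1.mem_uH, cj_map, w.vch.cj _ hJ, mem_cj, mem_cj, CV1.mem_uH]
    simp
  · intro J hJ
    rw [OO_eq_bot_of_two (htwo J hJ)]
    exact bot_le
  · intro J hJ
    rw [OO_eq_bot_of_two (htwo J hJ), card_bot]
    have h1 := w.vch.card _ hJ
    rw [w.oo hJ, card_bot] at h1
    rw [← h1]
    exact Nat.card_congr (subgroupOfEquivOfLe (hle J hJ)).toEquiv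
  · intro J hJ
    obtain ⟨v, hv, hv4⟩ := w.exists_v hJ
    exact ⟨⟨v, hle J hJ hv⟩, hv, by rw [Subgroup.orderOf_mk]; exact hv4⟩
  · intro J hJ J' hJ'
    have h1 := w.eqc _ hJ _ hJ'
    rwa [card_map_of_injective H.subtype_injective, card_map_of_injective H.subtype_injective] at h1

section img

variable {G' : Type*} [Group G'] {f : G →* G'}

/-- the world passes to images as soon as `f` is injective on the members and the choice is well defined -/
theorem img_aux [Finite G] (w : CVW Om U) (hf : Function.Surjective f) (hyp : Hyp (Cit.img f Om))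
    (hinj : ∀ K ∈ Om, K ⊓ f.ker = ⊥)
    (hU : ∀ K ∈ Om, ∀ L ∈ Om, K.map f = L.map f → (U K).map f = (U L).map f) :
    CVW (Cit.img f Om) (CV1.imgU f Om U) := by
  haveI : Finite G' := Finite.of_surjective f hf
  have hUinf : ∀ K ∈ Om, U K ⊓ f.ker = ⊥ := fun K hK =>
    le_bot_iff.1 ((inf_le_inf_right _ (w.vch.le K hK)).trans (hinj K hK).le)
  have htwo : ∀ J ∈ Cit.img f Om, IsPGroup 2 J := by
    rintro _ ⟨K, hK, rfl⟩
    exact (w.two K hK).map f
  refine ⟨hyp, htwo, ⟨?_, ?_, ?_, ?_, ?_⟩, ?_⟩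
  · rintro _ ⟨K, hK, rfl⟩
    rw [CV1.imgU_map hU hK]
    exact Subgroup.map_mono (w.vch.le K hK)
  · rintro _ ⟨K, hK, rfl⟩ g'
    obtain ⟨g, rfl⟩ := hf g'
    rw [← cj_map, CV1.imgU_map hU hK, CV1.imgU_map hU (w.hyp.conj K hK g), w.vch.cj K hK, cj_map]
  · intro J hJ
    rw [OO_eq_bot_of_two (htwo J hJ)]
    exact bot_le
  · rintro _ ⟨K, hK, rfl⟩
    rw [OO_eq_bot_of_two (htwo _ ⟨K, hK, rfl⟩), card_bot, CV1.imgU_map hU hK]
    have h1 := w.vch.card _ hK
    rw [w.oo hK, card_bot] at h1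
    rw [← h1]
    exact (Nat.card_congr (QuoCen.equivMap (hUinf K hK)).toEquiv).symm
  · rintro _ ⟨K, hK, rfl⟩
    obtain ⟨v, hv, hv4⟩ := w.exists_v hK
    rw [CV1.imgU_map hU hK]
    exact ⟨f v, ⟨v, hv, rfl⟩, by rw [QuoCen.orderOf_map (hUinf K hK) hv]; exact hv4⟩
  · rintro _ ⟨K, hK, rfl⟩ _ ⟨L, hL, rfl⟩
    rw [← Nat.card_congr (QuoCen.equivMap (hinj K hK)).toEquiv, ← Nat.card_congr (QuoCen.equivMap (hinj L hL)).toEquiv]
    exact w.eqc K hK L hL

/-- two members with the same image do not commute -/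
theorem not_comm_map [Finite G] (w : CVW Om U) (hK : K ∈ Om) (hinj : K ⊓ f.ker = ⊥) (hKL : K.map f = L.map f) :
    ¬ ∀ x ∈ K, ∀ y ∈ L, x * y = y * x := by
  intro h
  obtain ⟨x, hx, y, hy, hxy⟩ := w.not_comm hK
  obtain ⟨y', hy', hyy⟩ : f y ∈ L.map f := by rw [← hKL]; exact ⟨y, hy, rfl⟩
  have h2 : f (x * y) = f (y * x) := by
    rw [map_mul, map_mul, ← hyy, ← map_mul, ← map_mul, h x hx y' hy']
  exact hxy (congrArg Subtype.val (QuoCen.injOn_of_inf hinj
    (a₁ := ⟨x * y, K.mul_mem hx hy⟩) (a₂ := ⟨y * x, K.mul_mem hy hx⟩) h2))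

variable [Finite G]

/-- `f` with central kernel is injective on `Om` -/
theorem eq_of_map_eq (w : CVW Om U) (hC : f.ker ≤ center G) (hKC : ∀ K ∈ Om, K ⊓ f.ker = ⊥) (hK : K ∈ Om)
    (hL : L ∈ Om) (hKL : K.map f = L.map f) : K = L := by
  by_contra hne
  -- `zz K = [y, v]`
  obtain ⟨v, hv, hv4⟩ := w.exists_v hK
  obtain ⟨y, hy, hyX⟩ := w.exists_y hK
  have hvK := w.vch.le K hK hv
  have h1 := w.y_inv hK hy hyX hv
  obtain ⟨v', hv', hvv⟩ : f v ∈ L.map f := by rw [← hKL]; exact ⟨v, hvK, rfl⟩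
  obtain ⟨y', hy', hyy⟩ : f y ∈ L.map f := by rw [← hKL]; exact ⟨y, hy, rfl⟩
  have hcen : ∀ {a b : G}, f a = f b → ∀ x : G, x * (a⁻¹ * b) = a⁻¹ * b * x := by
    intro a b hab x
    exact mem_center_iff.1 (hC (by rw [MonoidHom.mem_ker, map_mul, map_inv, hab, inv_mul_cancel])) x
  have e1 : y' * v' * y'⁻¹ * v'⁻¹ = y * v * y⁻¹ * v⁻¹ := by
    have c1 := hcen hyy.symm
    have c2 := hcen hvv.symm
    have f1 : y' = y * (y⁻¹ * y') := by group
    have f2 : v' = v * (v⁻¹ * v') := by group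
    set c := y⁻¹ * y' with hc
    set d := v⁻¹ * v' with hd
    rw [f1, f2]
    have g1 : ∀ x : G, Commute c x := fun x => (c1 x).symm
    have g2 : ∀ x : G, Commute d x := fun x => (c2 x).symm
    calc y * c * (v * d) * (y * c)⁻¹ * (v * d)⁻¹ = y * (c * (v * d * c⁻¹)) * y⁻¹ * (d⁻¹ * v⁻¹) := by group
      _ = y * ((v * d * c⁻¹) * c) * y⁻¹ * (d⁻¹ * v⁻¹) := by rw [(g1 _).eq]
      _ = y * v * (d * (y⁻¹ * d⁻¹)) * v⁻¹ := by group
      _ = y * v * ((y⁻¹ * d⁻¹) * d) * v⁻¹ := by rw [(g2 _).eq]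
      _ = y * v * y⁻¹ * v⁻¹ := by group
  have h2 : v * v = zz K := w.sq_eq hK hv hv4
  have e2 : zz K ∈ L := by
    have e3 : (y * v * y⁻¹ * v⁻¹)⁻¹ = zz K := by rw [h1, mul_inv_rev, inv_inv, h2]
    rw [← e3, ← e1]
    exact L.inv_mem (L.mul_mem (L.mul_mem (L.mul_mem hy' hv') (L.inv_mem hy')) (L.inv_mem hv'))
  have e4 : zz K = zz L := w.hyp.uniq L hL _ e2 (w.hyp.orderOf_zz hK)
  exact w.not_comm_map hK (hKC K hK) hKL fun x hx y hy => w.comm_of_zz_eq hK hL e4 hne hx hy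

/-- **central quotients** -/
theorem imgc (w : CVW Om U) (hf : Function.Surjective f) (hC : f.ker ≤ center G)
    (hKC : ∀ K ∈ Om, K ⊓ f.ker = ⊥) : CVW (Cit.img f Om) (CV1.imgU f Om U) := by
  refine w.img_aux hf (QuoCen.hyp_img_central w.hyp hf hC hKC) hKC ?_
  intro K hK L hL hKL
  rw [w.eq_of_map_eq hC hKC hK hL hKL]

theorem imgU_imgc (w : CVW Om U) (hC : f.ker ≤ center G) (hKC : ∀ K ∈ Om, K ⊓ f.ker = ⊥) (hK : K ∈ Om) :
    CV1.imgU f Om U (K.map f) = (U K).map f :=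
  CV1.imgU_map (fun K hK L hL hKL => by rw [w.eq_of_map_eq hC hKC hK hL hKL]) hK

end img

/-- subfamilies -/
theorem sub [Finite G] (w : CVW Om U) {Om' : Set (Subgroup G)} (hsub : Om' ⊆ Om) (hc : ∀ K ∈ Om', ∀ g, cj g K ∈ Om') :
    CVW Om' U :=
  { hyp := QuoCen.hyp_subset w.hyp hsub hc
    two := fun K hK => w.two K (hsub hK)
    vch :=
      { le := fun K hK => w.vch.le K (hsub hK)
        cj := fun K hK => w.vch.cj K (hsub hK)
        oo := fun K hK => w.vch.oo K (hsub hK)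
        card := fun K hK => w.vch.card K (hsub hK)
        ex := fun K hK => w.vch.ex K (hsub hK) }
    eqc := fun K hK L hL => w.eqc K (hsub hK) L (hsub hL) }

end CVW

end Cfsg.Agent.Cit.CV
end

-- part: Cit/Nil/CV/NilA
section
prune_inst 0x10000010220000001800000000004000000002004300002140000000000040a04506010060021000000c500000006013180000023800000000080040040401000200021000000001000000a000000000000000000000000000000000000000200000000
set_option linter.all false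
open scoped Cfsg.Agent.FastGrp

/-!
# (6b)(CV): the theorem NIL, first part

`cn g x = g x g⁻¹`; `Q8 K z` : `K` is a quaternion group of order 8 (elementary form).
`NW Om U` : the world of a minimal counterexample to NIL: all `zz K ∈ O₂(G)`, no `U K ≤ O₂(G)`, and
`C(K) ∩ C(N)` contains no involution as soon as `TP Om U K N` (`V_K`, `V_N` do not commute).
-/

set_option autoImplicit false
set_option linter.style.haveILetI false
set_option linter.unusedSectionVars false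

namespace Cfsg.Agent.Cit.CV

open Subgroup Cfsg Cit Tau

namespace NilT

variable {G : Type*} [Group G]

/-! ### Conjugation -/

/-- conjugation -/
def cn (g x : G) : G := g * x * g⁻¹

section cn

variable {g h x y : G}

theorem cn_def : cn g x = g * x * g⁻¹ := rfl

theorem cn_mul : cn g (x * y) = cn g x * cn g y := by simp [cn, mul_assoc]

theorem cn_cn : cn g (cn h x) = cn (g * h) x := by simp [cn, mul_assoc]

theorem cn_one : cn g 1 = (1 : G) := by simp [cn]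

theorem one_cn : cn 1 x = x := by simp [cn]

theorem cn_inv : cn g x⁻¹ = (cn g x)⁻¹ := by simp [cn, mul_assoc]

theorem cn_eq_iff : cn g x = x ↔ Commute g x := by
  rw [cn, mul_inv_eq_iff_eq_mul]; exact Iff.rfl

theorem cn_of (h : Commute g x) : cn g x = x := cn_eq_iff.2 h

theorem cn_inj : cn g x = cn g y ↔ x = y := by simp [cn]

theorem cn_inv_cn : cn g⁻¹ (cn g x) = x := by rw [cn_cn, inv_mul_cancel, one_cn]

theorem cn_cn_inv : cn g (cn g⁻¹ x) = x := by rw [cn_cn, mul_inv_cancel, one_cn]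

theorem cn_comm (hh : Commute x y) : Commute (cn g x) (cn g y) := by
  show cn g x * cn g y = cn g y * cn g x
  rw [← cn_mul, ← cn_mul, hh.eq]

theorem cn_comm_iff : Commute (cn g x) (cn g y) ↔ Commute x y := by
  refine ⟨fun hh => ?_, cn_comm⟩
  have := cn_comm (g := g⁻¹) hh
  rwa [cn_inv_cn, cn_inv_cn] at this

theorem cn_pow (n : ℕ) : cn g (x ^ n) = cn g x ^ n := by simp [cn, conj_pow]

theorem cn_mem {K : Subgroup G} (hx : x ∈ K) : cn g x ∈ cj g K := conj_mem_cj hx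

end cn

/-! ### Quaternion groups of order 8 -/

/-- `K` is quaternion of order 8 with involution `z` -/
structure Q8 (K : Subgroup G) (z : G) : Prop where
  z_mem : z ∈ K
  z_ne : z ≠ 1
  z_mul : z * z = 1
  sq : ∀ k ∈ K, k = 1 ∨ k = z ∨ k * k = z
  cz : ∀ k ∈ K, Commute k z
  ex : ∃ v ∈ K, ∃ y ∈ K, v ≠ 1 ∧ v ≠ z ∧ y ≠ 1 ∧ y ≠ z ∧ y ≠ v ∧ y ≠ v * z

/-- `k ∈ K` is not in `⟨z⟩` -/
def Nt (K : Subgroup G) (z k : G) : Prop := k ∈ K ∧ k ≠ 1 ∧ k ≠ z

/-- `l ∈ K` is not in `⟨k⟩` -/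
def Ind (K : Subgroup G) (z k l : G) : Prop := Nt K z l ∧ l ≠ k ∧ l ≠ k * z

namespace Q8

variable {K : Subgroup G} {z k l : G}

theorem exists_ind' (q : Q8 K z) : ∃ v y, Nt K z v ∧ Ind K z v y := by
  obtain ⟨v, hv, y, hy, h1, h2, h3, h4, h5, h6⟩ := q.ex
  exact ⟨v, y, ⟨hv, h1, h2⟩, ⟨hy, h3, h4⟩, h5, h6⟩

theorem sqz (q : Q8 K z) (hk : Nt K z k) : k * k = z := by
  rcases q.sq k hk.1 with h | h | h
  · exact absurd h hk.2.1
  · exact absurd h hk.2.2
  · exact h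

theorem zinv (q : Q8 K z) : z⁻¹ = z := inv_eq_of_mul_eq_one_left q.z_mul

theorem inv_eq (q : Q8 K z) (hk : Nt K z k) : k⁻¹ = k * z := by
  rw [inv_eq_iff_mul_eq_one, ← mul_assoc, q.sqz hk, q.z_mul]

theorem nt_mul (q : Q8 K z) (hk : Nt K z k) (hl : Ind K z k l) : Nt K z (k * l) := by
  refine ⟨K.mul_mem hk.1 hl.1.1, fun h => hl.2.2 ?_, fun h => hl.2.1 ?_⟩
  · rw [← q.inv_eq hk]; exact eq_inv_of_mul_eq_one_right h
  · have h1 : l = k⁻¹ * z := by rw [← h]; group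
    rw [h1, q.inv_eq hk, mul_assoc, q.z_mul, mul_one]

/-- independent elements anticommute -/
theorem anti (q : Q8 K z) (hk : Nt K z k) (hl : Ind K z k l) : cn l k = k * z := by
  have h1 := q.sqz (q.nt_mul hk hl)
  have h2 : l * k * l = k := by
    have : l * k * l = k⁻¹ * (k * l * (k * l)) := by group
    rw [this, h1, q.inv_eq hk, mul_assoc, q.z_mul, mul_one]
  have h3 : cn l k = (l * k * l) * (l * l)⁻¹ := by rw [cn]; group
  rw [h3, h2, q.sqz hl.1, q.zinv]

theorem ind_symm (q : Q8 K z) (hk : Nt K z k) (hl : Ind K z k l) : Ind K z l k := by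
  refine ⟨hk, Ne.symm hl.2.1, fun h => hl.2.2 ?_⟩
  rw [h, mul_assoc, q.z_mul, mul_one]

theorem exists_ind (q : Q8 K z) (hk : Nt K z k) : ∃ l, Ind K z k l := by
  obtain ⟨v, y, hv, hy⟩ := q.exists_ind'
  by_cases h1 : Ind K z k v
  · exact ⟨v, h1⟩
  · refine ⟨y, hy.1, ?_, ?_⟩
    · rintro rfl
      exact h1 (q.ind_symm hv hy)
    · rintro rfl
      refine h1 ⟨hv, ?_, ?_⟩
      · rintro rfl
        exact hy.2.2 rfl
      · rintro rfl
        exact hy.2.1 rfl

/-- what commutes with two independent elements commutes with `K` -/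
theorem cov (q : Q8 K z) (hk : Nt K z k) (hl : Ind K z k l) {x : G} (hx1 : Commute k x) (hx2 : Commute l x) :
    ∀ y ∈ K, Commute y x := by
  have hz : Commute z x := by rw [← q.sqz hk]; exact hx1.mul_left hx1
  intro y hy
  by_cases h1 : Ind K z k y
  · -- `l⁻¹ y` commutes with `k`
    have e1 := q.anti hk hl
    have e2 := q.anti hk h1
    have e3 : cn (l⁻¹ * y) k = k := by rw [← cn_cn, e2, ← e1, cn_inv_cn]
    have h2 : ¬ Ind K z k (l⁻¹ * y) := by
      intro h3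
      rw [q.anti hk h3] at e3
      exact q.z_ne (mul_eq_left.1 e3)
    have h3 : l⁻¹ * y = 1 ∨ l⁻¹ * y = z ∨ l⁻¹ * y = k ∨ l⁻¹ * y = k * z := by
      by_contra hcon
      push Not at hcon
      exact h2 ⟨⟨K.mul_mem (K.inv_mem hl.1.1) hy, hcon.1, hcon.2.1⟩, hcon.2.2.1, hcon.2.2.2⟩
    have h4 : Commute (l⁻¹ * y) x := by
      rcases h3 with h | h | h | h <;> rw [h]
      · exact Commute.one_left x
      · exact hz
      · exact hx1
      · exact hx1.mul_left hz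
    have h5 : y = l * (l⁻¹ * y) := by group
    rw [h5]
    exact hx2.mul_left h4
  · have h3 : y = 1 ∨ y = z ∨ y = k ∨ y = k * z := by
      by_contra hcon
      push Not at hcon
      exact h1 ⟨⟨hy, hcon.1, hcon.2.1⟩, hcon.2.2.1, hcon.2.2.2⟩
    rcases h3 with h | h | h | h <;> rw [h]
    · exact Commute.one_left x
    · exact hz
    · exact hx1
    · exact hx1.mul_left hz

/-- centre -/
theorem cen (q : Q8 K z) (hk : k ∈ K) (hc : ∀ y ∈ K, Commute y k) : k = 1 ∨ k = z := by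
  by_contra hcon
  push Not at hcon
  have hk' : Nt K z k := ⟨hk, hcon.1, hcon.2⟩
  obtain ⟨l, hl⟩ := q.exists_ind hk'
  have h1 := q.anti hk' hl
  rw [cn_of (hc l hl.1.1)] at h1
  exact q.z_ne (mul_eq_left.1 h1.symm)

theorem conj (q : Q8 K z) (g : G) : Q8 (cj g K) (cn g z) := by
  refine ⟨cn_mem q.z_mem, fun h => q.z_ne ?_, ?_, ?_, ?_, ?_⟩
  · rwa [← cn_one (g := g), cn_inj] at h
  · rw [← cn_mul, q.z_mul, cn_one]
  · rintro _ ⟨k, hk, rfl⟩
    show cn g k = 1 ∨ cn g k = cn g z ∨ cn g k * cn g k = cn g z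
    rw [← cn_mul, cn_inj, cn_inj]
    nth_rewrite 1 [← cn_one (g := g)]
    rw [cn_inj]
    exact q.sq k hk
  · rintro _ ⟨k, hk, rfl⟩
    exact cn_comm (q.cz k hk)
  · obtain ⟨v, hv, y, hy, h1, h2, h3, h4, h5, h6⟩ := q.ex
    refine ⟨cn g v, cn_mem hv, cn g y, cn_mem hy, ?_, ?_, ?_, ?_, ?_, ?_⟩
    · rwa [Ne, ← cn_one (g := g), cn_inj]
    · rwa [Ne, cn_inj]
    · rwa [Ne, ← cn_one (g := g), cn_inj]
    · rwa [Ne, cn_inj]
    · rwa [Ne, cn_inj]
    · rwa [Ne, ← cn_mul, cn_inj]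

end Q8

/-! ### T-pairs -/

/-- `V_K`, `V_N` do not commute -/
def TP (Om : Set (Subgroup G)) (U : Subgroup G → Subgroup G) (K N : Subgroup G) : Prop :=
  K ∈ Om ∧ N ∈ Om ∧ ¬ ∀ v ∈ U K, Commute v (zz N)

section tp

variable [Finite G] {Om : Set (Subgroup G)} {U : Subgroup G → Subgroup G} {K N K' N' : Subgroup G} {v w : G}

theorem tp_iff (h : CVW Om U) (hK : K ∈ Om) (hN : N ∈ Om) (hv : v ∈ U K) (hv4 : orderOf v = 4) :
    TP Om U K N ↔ ¬ Commute v (zz N) := by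
  refine ⟨fun ht hc => ht.2.2 fun x hx => ?_, fun hc => ⟨hK, hN, fun hh => hc (hh v hv)⟩⟩
  obtain ⟨n, rfl⟩ := h.exists_pw_U hK hv hv4 hx
  exact (pw_comm hc.symm.eq n).symm

theorem comm_vw (h : CVW Om U) (hK : K ∈ Om) (hN : N ∈ Om) (hv : v ∈ U K) (hv4 : orderOf v = 4) (hw : w ∈ U N)
    (hw4 : orderOf w = 4) (hc : Commute v (zz N)) : Commute v w := by
  have h1 := h.norm_h3 hK hN (h.vch.le K hK hv) hv4.ge hc.eq
  have hv2 : IsPGroup 2 (zpowers v) := (h.two K hK).to_le (zpowers_le.2 (h.vch.le K hK hv))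
  have hT : IsPGroup 2 (zpowers v ⊔ N : Subgroup G) :=
    hv2.to_sup_of_normal_right' (h.two N hN) (zpowers_le.2 h1)
  exact h.vch.commute h.hyp hT hK hN hv hw hv4 hw4 (mem_sup_left (mem_zpowers v)) (mem_sup_right (h.vch.le N hN hw))

theorem tp_iff' (h : CVW Om U) (hK : K ∈ Om) (hN : N ∈ Om) (hv : v ∈ U K) (hv4 : orderOf v = 4) (hw : w ∈ U N)
    (hw4 : orderOf w = 4) : TP Om U K N ↔ ¬ Commute v w := by
  rw [tp_iff h hK hN hv hv4, not_iff_not]
  refine ⟨comm_vw h hK hN hv hv4 hw hw4, fun hc => ?_⟩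
  rw [← h.sq_eq hN hw hw4]
  exact hc.mul_right hc

theorem TP.symm (ht : TP Om U K N) (h : CVW Om U) : TP Om U N K := by
  obtain ⟨v, hv, hv4⟩ := h.exists_v ht.1
  obtain ⟨w, hw, hw4⟩ := h.exists_v ht.2.1
  rw [tp_iff' h ht.2.1 ht.1 hw hw4 hv hv4]
  rw [tp_iff' h ht.1 ht.2.1 hv hv4 hw hw4] at ht
  exact fun hc => ht hc.symm

theorem TP.right (ht : TP Om U K N) (h : CVW Om U) (hN' : N' ∈ Om) (hz : zz N' = zz N) : TP Om U K N' := by
  obtain ⟨v, hv, hv4⟩ := h.exists_v ht.1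
  rw [tp_iff h ht.1 hN' hv hv4, hz]
  rwa [tp_iff h ht.1 ht.2.1 hv hv4] at ht

theorem TP.of_zz (ht : TP Om U K N) (h : CVW Om U) (hK' : K' ∈ Om) (hN' : N' ∈ Om) (hz : zz K' = zz K)
    (hz' : zz N' = zz N) : TP Om U K' N' :=
  (((ht.right h hN' hz').symm h).right h hK' hz).symm h

theorem zz_cn (h : CVW Om U) (hK : K ∈ Om) (g : G) : zz (cj g K) = cn g (zz K) := h.hyp.zz_cj hK g

theorem TP.cj (ht : TP Om U K N) (h : CVW Om U) (g : G) : TP Om U (cj g K) (cj g N) := by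
  obtain ⟨v, hv, hv4⟩ := h.exists_v ht.1
  rw [tp_iff h (h.hyp.conj K ht.1 g) (h.hyp.conj N ht.2.1 g) (h.vch.conj_mem ht.1 hv g) (orderOf_conj_four hv4 g),
    zz_cn h ht.2.1, ← cn_def, cn_comm_iff]
  rwa [tp_iff h ht.1 ht.2.1 hv hv4] at ht

theorem TP.zz_ne (ht : TP Om U K N) (h : CVW Om U) : zz K ≠ zz N := by
  intro hz
  apply ht.2.2
  intro x hx
  rw [← hz]
  exact h.hyp.comm_zz ht.1 (le_normalizer (h.vch.le K ht.1 hx))

end tp

/-! ### The world NW -/

/-- the world of a minimal counterexample -/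
structure NW (Om : Set (Subgroup G)) (U : Subgroup G → Subgroup G) : Prop where
  h : CVW Om U
  all : ∀ K ∈ Om, zz K ∈ pCore 2 G
  bad : ∀ K ∈ Om, ¬ U K ≤ pCore 2 G
  cen : ∀ K N, TP Om U K N → ∀ x : G, (∀ k ∈ K, Commute k x) → (∀ n ∈ N, Commute n x) → x * x = 1 → x = 1

/-- the subgroup generated by the `zz K` -/
def ZO (Om : Set (Subgroup G)) : Subgroup G := closure {x | ∃ K ∈ Om, x = zz K}

namespace NW

variable [Finite G] {Om : Set (Subgroup G)} {U : Subgroup G → Subgroup G} {K N K' N' L : Subgroup G}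
  {a b g k l n v w x y : G} (c : NW Om U)
include c

theorem pnorm : (pCore 2 G).Normal := Lib.Cores.pCore_normal 2

theorem zz_mul (hK : K ∈ Om) : zz K * zz K = 1 := c.h.hyp.zz_mul hK

theorem zz_inv (hK : K ∈ Om) : (zz K)⁻¹ = zz K := c.h.hyp.zz_inv hK

/-- (2) -/
theorem comm_of_P (hK : K ∈ Om) (hp : g ∈ pCore 2 G) (hne : cj g K ≠ K) (ha : a ∈ cj g K) (hb : b ∈ K) :
    Commute a b := by
  haveI := c.pnorm
  have hS : IsPGroup 2 (pCore 2 G ⊔ K : Subgroup G) :=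
    (Lib.Cores.pCore_isPGroup 2).to_sup_of_normal_left (c.h.two K hK)
  have h1 : cj g K ≤ pCore 2 G ⊔ K := by
    rintro _ ⟨k, hk, rfl⟩
    exact mul_mem (mul_mem (mem_sup_left hp) (mem_sup_right hk)) (inv_mem (mem_sup_left hp))
  have hOm : ∀ {M : Subgroup G}, M ∈ Om → M ≤ pCore 2 G ⊔ K → M ∈ OmS Om (pCore 2 G ⊔ K) := by
    intro M hM hle
    refine ⟨hM, ?_⟩
    rw [relIndex_eq_one.2 hle]
    norm_num
  exact c.h.hyp.comm hS (hOm (c.h.hyp.conj K hK g) h1) (hOm hK le_sup_right) hne ⟨ha, h1 ha⟩ ⟨hb, mem_sup_right hb⟩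

/-- (6): no `zz N` inverts `V_K` -/
theorem no_inv (hN : N ∈ Om) (hK : K ∈ Om) (hv : v ∈ U K) (hv4 : orderOf v = 4) : cn (zz N) v ≠ v⁻¹ := by
  intro hs
  haveI := c.pnorm
  obtain ⟨y, hy, hyX⟩ := c.h.exists_y hK
  obtain ⟨hd, hodd⟩ := Nil.CV.XLevel.inv_y c.h hN hK hv hv4 hs hy hyX
  obtain ⟨i, hi⟩ := Nil.CV.XLevel.gen_of_odd c.h hK hd hodd (c.h.U_le_XX hK hv)
  apply c.bad K hK
  rw [c.h.U_eq hK hv hv4, zpowers_le, hi]
  apply zpow_mem
  have h1 : (zz N * y * (zz N)⁻¹)⁻¹ * y = zz N * (y⁻¹ * (zz N)⁻¹ * y) := by group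
  rw [h1]
  refine mul_mem (c.all N hN) ?_
  have h2 := c.pnorm.conj_mem _ (inv_mem (c.all N hN)) y⁻¹
  rwa [inv_inv] at h2

/-- members over the same involution -/
theorem comm_over (hK : K ∈ Om) (hL : L ∈ Om) (hz : zz K = zz L) (hne : K ≠ L) (ha : a ∈ K) (hb : b ∈ L) :
    Commute a b := c.h.comm_of_zz_eq hK hL hz hne ha hb

theorem zz_cen (hK : K ∈ Om) (hk : k ∈ K) : Commute k (zz K) := c.h.hyp.comm_zz hK (le_normalizer hk)

/-- (7) -/
theorem zz_comm (hK : K ∈ Om) (hN : N ∈ Om) : Commute (zz K) (zz N) := by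
  obtain ⟨v, hv, hv4⟩ := c.h.exists_v hK
  by_cases ht : TP Om U K N
  swap
  · rw [tp_iff c.h hK hN hv hv4, not_not] at ht
    rw [← c.h.sq_eq hK hv hv4]
    exact ht.mul_left ht
  have hz := c.zz_mul hK
  have hs := c.zz_mul hN
  have hzi := c.zz_inv hK
  have hsi := c.zz_inv hN
  have hzm := c.h.hyp.zz_mem hK
  have hsm := c.h.hyp.zz_mem hN
  by_cases h1 : cj (zz N) K = K
  · have h2 := zz_cn c.h hK (zz N)
    rw [h1] at h2
    exact (cn_eq_iff.1 h2.symm).symm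
  by_cases h2 : cj (zz K) N = N
  · have h3 := zz_cn c.h hN (zz K)
    rw [h2] at h3
    exact cn_eq_iff.1 h3.symm
  have e1 : zz K * zz N * (zz K * zz N) = zz K * cn (zz N) (zz K) := by rw [cn, hsi]; group
  have e2 : zz K * zz N * (zz K * zz N) = cn (zz K) (zz N) * zz N := by rw [cn, hzi]; group
  have k1 : ∀ k ∈ K, Commute k (zz K * zz N * (zz K * zz N)) := by
    intro k hk
    rw [e1]
    exact (c.zz_cen hK hk).mul_right (c.comm_of_P hK (c.all N hN) h1 (cn_mem hzm) hk).symm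
  have k2 : ∀ n ∈ N, Commute n (zz K * zz N * (zz K * zz N)) := by
    intro n hn
    rw [e2]
    exact (c.comm_of_P hN (c.all K hK) h2 (cn_mem hsm) hn).symm.mul_right (c.zz_cen hN hn)
  have h3 := c.cen K N ht (zz K * zz N * (zz K * zz N)) k1 k2 ?_
  · show zz K * zz N = zz N * zz K
    rw [mul_eq_one_iff_eq_inv, mul_inv_rev, hsi, hzi] at h3
    exact h3
  · have h4 : Commute (zz K) (cn (zz N) (zz K)) := (c.comm_of_P hK (c.all N hN) h1 (cn_mem hzm) hzm).symm
    rw [e1]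
    calc zz K * cn (zz N) (zz K) * (zz K * cn (zz N) (zz K))
        = zz K * (cn (zz N) (zz K) * zz K) * cn (zz N) (zz K) := by group
      _ = zz K * (zz K * cn (zz N) (zz K)) * cn (zz N) (zz K) := by rw [h4.eq]
      _ = (zz K * zz K) * (cn (zz N) (zz K) * cn (zz N) (zz K)) := by group
      _ = 1 := by rw [hz, ← cn_mul, hz, cn_one, mul_one]

/-! #### `ZO` -/

theorem zz_mem_ZO (hK : K ∈ Om) : zz K ∈ ZO Om := subset_closure ⟨K, hK, rfl⟩

theorem ZO_comm (ha : a ∈ ZO Om) (hb : b ∈ ZO Om) : Commute a b := by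
  have h1 : ZO Om ≤ centralizer {x | ∃ K ∈ Om, x = zz K} := by
    rw [ZO, closure_le]
    rintro _ ⟨K, hK, rfl⟩
    rw [SetLike.mem_coe, mem_centralizer_iff]
    rintro _ ⟨N, hN, rfl⟩
    exact (c.zz_comm hN hK).eq
  have h2 : ZO Om ≤ centralizer (ZO Om : Set G) := by
    nth_rewrite 1 [ZO]
    rw [closure_le]
    intro x hx
    rw [SetLike.mem_coe, mem_centralizer_iff]
    intro y hy
    exact ((mem_centralizer_iff.1 (h1 hy)) x hx).symm
  exact ((mem_centralizer_iff.1 (h2 ha)) b hb).symm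

theorem ZO_sq (ha : a ∈ ZO Om) : a * a = 1 := by
  have h1 : a ∈ ZO Om ∧ a * a = 1 := by
    unfold ZO at ha
    induction ha using closure_induction with
    | mem x hx => obtain ⟨K, hK, rfl⟩ := hx; exact ⟨c.zz_mem_ZO hK, c.zz_mul hK⟩
    | one => exact ⟨one_mem _, one_mul 1⟩
    | mul x y _ _ hx hy =>
      refine ⟨mul_mem hx.1 hy.1, ?_⟩
      calc x * y * (x * y) = x * (y * x) * y := by group
        _ = x * (x * y) * y := by rw [(c.ZO_comm hx.1 hy.1).eq]
        _ = (x * x) * (y * y) := by group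
        _ = 1 := by rw [hx.2, hy.2, one_mul]
    | inv x _ hx => exact ⟨inv_mem hx.1, by rw [← mul_inv_rev, hx.2, inv_one]⟩
  exact h1.2

theorem ZO_inv (ha : a ∈ ZO Om) : a⁻¹ = a := inv_eq_of_mul_eq_one_left (c.ZO_sq ha)

theorem ZO_cn (ha : a ∈ ZO Om) (g : G) : cn g a ∈ ZO Om := by
  unfold ZO at ha
  induction ha using closure_induction with
  | mem x hx =>
    obtain ⟨K, hK, rfl⟩ := hx
    rw [← zz_cn c.h hK]
    exact c.zz_mem_ZO (c.h.hyp.conj K hK g)
  | one => rw [cn_one]; exact one_mem _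
  | mul x y _ _ hx hy => rw [cn_mul]; exact mul_mem hx hy
  | inv x _ hx => rw [cn_inv]; exact inv_mem hx

/-- (8) -/
theorem cj_ne (ht : TP Om U K N) : cj (zz N) K ≠ K := by
  intro h1
  obtain ⟨v, hv, hv4⟩ := c.h.exists_v ht.1
  rcases c.h.conj_or ht.1 (mem_normalizer_iff_cj.2 h1) hv hv4 with h2 | h2
  · rw [tp_iff c.h ht.1 ht.2.1 hv hv4] at ht
    exact ht (cn_eq_iff.1 h2).symm
  · exact c.no_inv ht.2.1 ht.1 hv hv4 h2

/-- (11) -/
theorem tp_iff_cj (hK : K ∈ Om) (hL : L ∈ Om) : TP Om U K L ↔ cj (zz L) K ≠ K := by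
  refine ⟨c.cj_ne, fun h1 => ?_⟩
  obtain ⟨v, hv, hv4⟩ := c.h.exists_v hK
  rw [tp_iff c.h hK hL hv hv4]
  intro hc
  exact h1 (mem_normalizer_iff_cj.1 (c.h.norm_of_comm hK hv hv4 hc.symm.eq))

theorem zz_cj_zz (hK : K ∈ Om) (hN : N ∈ Om) : zz (cj (zz N) K) = zz K := by
  rw [zz_cn c.h hK]
  exact cn_of (c.zz_comm hN hK)

theorem cj_comm (ht : TP Om U K N) (ha : a ∈ cj (zz N) K) (hb : b ∈ K) : Commute a b :=
  c.comm_of_P ht.1 (c.all N ht.2.1) (c.cj_ne ht) ha hb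

/-- `[k, s]`, `s = zz N` -/
theorem mul_cn (hN : N ∈ Om) (k : G) : zz N * cn k (zz N) = cn (zz N) k * k⁻¹ := by
  have hsi := c.zz_inv hN
  rw [cn, cn, hsi]
  group

/-- the centre of a member -/
theorem cen_K (hK : K ∈ Om) (hk : k ∈ K) (hc : ∀ x ∈ K, Commute x k) : k = 1 ∨ k = zz K := by
  obtain ⟨v, hv, hv4⟩ := c.h.exists_v hK
  obtain ⟨y, hy, hyX⟩ := c.h.exists_y hK
  have hvv : v ≠ v⁻¹ := by
    intro h1
    have h2 : v * v = 1 := by nth_rewrite 1 [h1]; exact inv_mul_cancel v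
    rw [c.h.sq_eq hK hv hv4] at h2
    exact c.h.hyp.zz_ne hK h2
  have hkX : k ∈ XX U K := by
    rw [c.h.mem_XX_iff hK hv hv4 hk]
    exact (hc v (c.h.vch.le K hK hv)).symm.eq
  have h1 := (c.h.y_facts hK hy hyX).2.2 k hkX
  have h2 : y * k * y⁻¹ = k := cn_of (hc y hy)
  rw [h2] at h1
  have h3 : k * k = 1 := by nth_rewrite 1 [h1]; exact inv_mul_cancel k
  by_cases hk1 : k = 1
  · exact Or.inl hk1
  · right
    refine c.h.hyp.uniq K hK k hk (orderOf_eq_prime ?_ hk1)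
    rw [pow_two, h3]

theorem sq_mem (ht : TP Om U K N) (hk : k ∈ K) : k * k = 1 ∨ k * k = zz K := by
  have hs := c.all N ht.2.1
  have h1 : cn (zz N) k ∈ cj (zz N) K := cn_mem hk
  have h2 : zz N * cn k (zz N) ∈ ZO Om :=
    mul_mem (c.zz_mem_ZO ht.2.1) (c.ZO_cn (c.zz_mem_ZO ht.2.1) k)
  have h3 := c.ZO_sq h2
  rw [c.mul_cn ht.2.1] at h3
  have h4 := c.cj_comm ht h1 hk
  have h5 : k * k = cn (zz N) k * cn (zz N) k := by
    have h6 : cn (zz N) k * cn (zz N) k * (k⁻¹ * k⁻¹) = 1 := by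
      rw [← h3]
      calc cn (zz N) k * cn (zz N) k * (k⁻¹ * k⁻¹) = cn (zz N) k * (cn (zz N) k * k⁻¹) * k⁻¹ := by group
        _ = cn (zz N) k * (k⁻¹ * cn (zz N) k) * k⁻¹ := by rw [h4.inv_right.eq]
        _ = _ := by group
    rw [mul_eq_one_iff_eq_inv] at h6
    rw [h6, mul_inv_rev, inv_inv]
  refine c.cen_K ht.1 (K.mul_mem hk hk) fun x hx => ?_
  rw [h5]
  have h6 := (c.cj_comm ht h1 hx).symm
  exact h6.mul_right h6

/-- (8): `K` is quaternion of order 8 -/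
theorem q8 (ht : TP Om U K N) : Q8 K (zz K) := by
  obtain ⟨v, hv, hv4⟩ := c.h.exists_v ht.1
  obtain ⟨y, hy, hyX⟩ := c.h.exists_y ht.1
  have hvK := c.h.vch.le K ht.1 hv
  have hvX := c.h.U_le_XX ht.1 hv
  have hzX : zz K ∈ XX U K := by
    rw [← c.h.sq_eq ht.1 hv hv4]
    exact mul_mem hvX hvX
  refine ⟨c.h.hyp.zz_mem ht.1, c.h.hyp.zz_ne ht.1, c.zz_mul ht.1, ?_, fun k hk => c.zz_cen ht.1 hk,
    v, hvK, y, hy, ?_, ?_, ?_, ?_, ?_, ?_⟩
  · intro k hk
    rcases c.sq_mem ht hk with h1 | h1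
    · by_cases hk1 : k = 1
      · exact Or.inl hk1
      · right; left
        refine c.h.hyp.uniq K ht.1 k hk (orderOf_eq_prime ?_ hk1)
        rw [pow_two, h1]
    · exact Or.inr (Or.inr h1)
  · rintro rfl
    rw [orderOf_one] at hv4
    omega
  · intro h1
    have h2 := c.h.sq_eq ht.1 hv hv4
    rw [h1, c.zz_mul ht.1] at h2
    exact c.h.hyp.zz_ne ht.1 h2.symm
  · rintro rfl
    exact hyX (one_mem _)
  · rintro rfl
    exact hyX hzX
  · rintro rfl
    exact hyX hvX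
  · rintro rfl
    exact hyX (mul_mem hvX hzX)

/-- (8): `C_K(s) = ⟨z⟩` -/
theorem cen_s (ht : TP Om U K N) (hk : k ∈ K) (hc : Commute k (zz N)) : k = 1 ∨ k = zz K := by
  refine c.cen_K ht.1 hk fun x hx => ?_
  have h1 : k ∈ cj (zz N) K := by
    have := cn_mem (g := zz N) hk
    rwa [cn_of hc.symm] at this
  exact (c.cj_comm ht h1 hx).symm

theorem eq_of_cn (ht : TP Om U K N) (hk : k ∈ K) (hl : l ∈ K) (he : cn k (zz N) = cn l (zz N)) :
    l = k ∨ l = k * zz K := by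
  have h1 : cn (k⁻¹ * l) (zz N) = zz N := by rw [← cn_cn, ← he, cn_inv_cn]
  rcases c.cen_s ht (K.mul_mem (K.inv_mem hk) hl) (cn_eq_iff.1 h1) with h2 | h2
  · left
    rw [inv_mul_eq_one] at h2
    exact h2.symm
  · right
    rw [← h2]; group

end NW

end NilT

end Cfsg.Agent.Cit.CV

private theorem dce_2a750d2f0487 : _root_.True := by
  try have : _root_.True := by simp only [_root_.Cfsg.Agent.Cit.CV.NilT.ZO.eq_1]
  try have : _root_.True := by simp only [_root_.Cfsg.Agent.Cit.CV.NilT.cn.eq_1]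
  exact _root_.True.intro
end

-- part: Cit/Nil/CV/NilB
section
prune_inst 0x3010010014220000000000000000006000000002000300002140000000400001804006003000021001000820000a8020131800090210000020008a0040040401040220c21000100001000040e800000000000000000000000000000000000000200000000
set_option linter.all false
open scoped Cfsg.Agent.FastGrp

/-!
# (6b)(CV): the theorem NIL, second part

The world `NW Om U` is impossible as soon as there is a T-pair: (9)-(18) of the text (R18, helper748, 06:04Z).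
-/

set_option autoImplicit false
set_option linter.style.haveILetI false
set_option linter.unusedSectionVars false

namespace Cfsg.Agent.Cit.CV

open Subgroup Cfsg Cit Tau

namespace NilT

variable {G : Type*} [Group G]

namespace NW

variable [Finite G] {Om : Set (Subgroup G)} {U : Subgroup G → Subgroup G} {K N K' N' L : Subgroup G}
  {a b g k k' l n n' m u v w x y : G} (c : NW Om U)
include c

/-- two T-pairs `(K, N)`, `(K', N)` over the same involution with a common value -/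
theorem over_eq (ht : TP Om U K N) (hK' : K' ∈ Om) (hz : zz K' = zz K) (hk : k ∈ K)
    (hk' : Nt K' (zz K') k') (he : cn k (zz N) = cn k' (zz N)) : K' = K ∨ K' = cj (zz N) K := by
  by_contra hcon
  push Not at hcon
  have ht' : TP Om U K' N := ht.of_zz c.h hK' ht.2.1 hz rfl
  have cA : ∀ x ∈ K', ∀ y ∈ K, Commute x y := fun x hx y hy => c.comm_over hK' ht.1 hz hcon.1 hx hy
  have cB : ∀ x ∈ K', ∀ y ∈ cj (zz N) K, Commute x y := fun x hx y hy =>
    c.comm_over hK' (c.h.hyp.conj K ht.1 _) (by rw [hz, c.zz_cj_zz ht.1 ht.2.1]) hcon.2 hx hy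
  have e1 : cn (zz N) k * k⁻¹ = cn (zz N) k' * k'⁻¹ := by
    rw [← c.mul_cn ht.2.1, ← c.mul_cn ht.2.1, he]
  have h1 : ∀ x ∈ K', Commute x k' := by
    intro x hx
    have h2 : Commute x (cn (zz N) k' * k'⁻¹) := by
      rw [← e1]
      exact (cB x hx _ (cn_mem hk)).mul_right (cA x hx k hk).inv_right
    have h3 : Commute x (cn (zz N) k') := (c.cj_comm ht' (cn_mem hk'.1) hx).symm
    have h4 : k' = (cn (zz N) k' * k'⁻¹)⁻¹ * cn (zz N) k' := by group
    rw [h4]
    exact h2.inv_right.mul_right h3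
  rcases c.cen_K hK' hk'.1 h1 with h2 | h2
  · exact hk'.2.1 h2
  · exact hk'.2.2 h2

/-- (9) -/
theorem nine (ht : TP Om U K N) (ha : a ∈ ZO Om) : cj a K = K ∨ cj a K = cj (zz N) K := by
  obtain ⟨k, -, hk, -⟩ := (c.q8 ht).exists_ind'
  have hza : cn a (zz K) = zz K := cn_of (c.ZO_comm ha (c.zz_mem_ZO ht.1))
  have hz : zz (cj a K) = zz K := by rw [zz_cn c.h ht.1, hza]
  refine c.over_eq ht (c.h.hyp.conj K ht.1 a) hz hk.1 (k' := cn a k) ⟨cn_mem hk.1, ?_, ?_⟩ ?_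
  · intro h1
    rw [← cn_one (g := a), cn_inj] at h1
    exact hk.2.1 h1
  · intro h1
    rw [zz_cn c.h ht.1, cn_inj] at h1
    exact hk.2.2 h1
  · have h1 : cn (cn a k) (zz N) = cn a (cn k (cn a⁻¹ (zz N))) := by simp [cn, mul_assoc]
    rw [h1, c.ZO_inv ha, cn_of (c.ZO_comm ha (c.zz_mem_ZO ht.2.1)),
      cn_of (c.ZO_comm ha (c.ZO_cn (c.zz_mem_ZO ht.2.1) k))]

/-- the product of two moving elements is not moving -/
theorem lam_mul (ht : TP Om U K N) (ha : a ∈ ZO Om) (hb : b ∈ ZO Om) (ha1 : cj a K ≠ K) (hb1 : cj b K ≠ K) :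
    cj (a * b) K = K := by
  have h1 := (c.nine ht ha).resolve_left ha1
  have h2 := (c.nine ht hb).resolve_left hb1
  rw [cj_mul, h2, ← cj_mul, (c.ZO_comm ha (c.zz_mem_ZO ht.2.1)).eq, cj_mul, h1, ← cj_mul, c.zz_mul ht.2.1, cj_one]

/-- (10) -/
theorem ten (hK : K ∈ Om) (ha : a ∈ ZO Om) (ha1 : cj a K = K) (hk : k ∈ K) : cn k a = a ∨ cn k a = a * zz K := by
  have h1 : a * cn k a ∈ ZO Om := mul_mem ha (c.ZO_cn ha k)
  have h2 : a * cn k a = cn a k * k⁻¹ := by
    have h3 := c.ZO_inv ha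
    rw [cn, cn, h3]; group
  have h3 : cn a k * k⁻¹ ∈ K := by
    refine K.mul_mem ?_ (K.inv_mem hk)
    have := cn_mem (g := a) hk
    rwa [ha1] at this
  have h4 := c.ZO_sq h1
  by_cases h5 : a * cn k a = 1
  · left
    have h6 := c.ZO_inv ha
    rw [mul_eq_one_iff_inv_eq, h6] at h5
    exact h5.symm
  · right
    have h6 : a * cn k a = zz K := by
      refine c.h.hyp.uniq K hK _ (by rw [h2]; exact h3) (orderOf_eq_prime ?_ h5)
      rw [pow_two, h4]
    rw [← h6, ← mul_assoc, c.ZO_sq ha, one_mul]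

theorem cent_v (hL : L ∈ Om) (hK : K ∈ Om) (h1 : cj (zz L) K = K) (hv : v ∈ U K) (hv4 : orderOf v = 4) :
    Commute v (zz L) := by
  by_contra h2
  rw [← tp_iff c.h hK hL hv hv4, c.tp_iff_cj hK hL] at h2
  exact h2 h1

/-- (12) -/
theorem twelve (ht : TP Om U K N) (hw : w ∈ U N) (hw4 : orderOf w = 4) : TP Om U K (cj w K) := by
  obtain ⟨v, hv, hv4⟩ := c.h.exists_v ht.1
  by_contra hcon
  rw [tp_iff' c.h ht.1 (c.h.hyp.conj K ht.1 w) hv hv4 (c.h.vch.conj_mem ht.1 hv w) (orderOf_conj_four hv4 w),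
    not_not] at hcon
  have hcon' : Commute v (cn w v) := hcon
  have hw2 : w * w = zz N := c.h.sq_eq ht.2.1 hw hw4
  have hvK := c.h.vch.le K ht.1 hv
  have e2 : Commute v (cn (w * w) v) := by
    rw [hw2]
    exact (c.cj_comm ht (cn_mem hvK) hvK).symm
  have e3 : Commute v (cn (w * w * w) v) := by
    have h1 : Commute (cn w v) (cn w (cn (w * w * w) v)) := by
      have h2 : cn w (cn (w * w * w) v) = v := by
        have h3 : w * (w * w * w) = 1 := by
          calc w * (w * w * w) = (w * w) * (w * w) := by group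
            _ = 1 := by rw [hw2, c.zz_mul ht.2.1]
        rw [cn_cn, h3, one_cn]
      rw [h2]
      exact hcon'.symm
    exact cn_comm_iff.1 h1
  have hw4' : w ^ 4 = 1 := by rw [← hw4]; exact pow_orderOf_eq_one w
  -- all powers
  have key : ∀ i : ℕ, Commute v (cn (w ^ i) v) := by
    intro i
    have h1 : w ^ i = w ^ (i % 4) := by
      conv_lhs => rw [← Nat.div_add_mod i 4, pow_add, pow_mul, hw4', one_pow, one_mul]
    rw [h1]
    have h2 : i % 4 < 4 := Nat.mod_lt _ (by norm_num)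
    interval_cases i % 4
    · rw [pow_zero, one_cn]
    · rw [pow_one]; exact hcon'
    · rw [pow_two]; exact e2
    · rw [pow_succ, pow_two]; exact e3
  have key2 : ∀ i j : ℕ, Commute (cn (w ^ i) v) (cn (w ^ j) v) := by
    have aux : ∀ i d : ℕ, Commute (cn (w ^ i) v) (cn (w ^ (i + d)) v) := by
      intro i d
      rw [pow_add, ← cn_cn]
      exact cn_comm (key d)
    intro i j
    rcases le_total i j with h1 | h1
    · obtain ⟨d, rfl⟩ := Nat.exists_eq_add_of_le h1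
      exact aux i d
    · obtain ⟨d, rfl⟩ := Nat.exists_eq_add_of_le h1
      exact (aux j d).symm
  set A : Subgroup G := closure {x | ∃ i : ℕ, x = cn (w ^ i) v} with hA
  have hAc : ∀ a ∈ A, ∀ b ∈ A, Commute a b := by
    have h1 : A ≤ centralizer {x | ∃ i : ℕ, x = cn (w ^ i) v} := by
      rw [hA, closure_le]
      rintro _ ⟨i, rfl⟩
      rw [SetLike.mem_coe, mem_centralizer_iff]
      rintro _ ⟨j, rfl⟩
      exact (key2 j i).eq
    intro a ha b hb
    have h2 : A ≤ centralizer {a} := by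
      rw [hA, closure_le]
      intro x hx
      rw [SetLike.mem_coe, mem_centralizer_singleton_iff]
      exact (mem_centralizer_iff.1 (h1 ha)) x hx
    exact (mem_centralizer_singleton_iff.1 (h2 hb)).symm
  have hA4 : ∀ a ∈ A, a ^ 4 = 1 := by
    have h1 : ∀ a ∈ A, a ∈ A ∧ a ^ 4 = 1 := by
      intro a ha
      have ha' := ha
      rw [hA] at ha'
      induction ha' using closure_induction with
      | mem x hx =>
        refine ⟨ha, ?_⟩
        obtain ⟨i, rfl⟩ := hx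
        rw [← cn_pow, ← hv4, pow_orderOf_eq_one, cn_one]
      | one => exact ⟨ha, one_pow 4⟩
      | mul x y hx' hy' hx hy =>
        have hx2 := hx hx'
        have hy2 := hy hy'
        exact ⟨ha, by rw [(hAc x hx' y hy').mul_pow, hx2.2, hy2.2, one_mul]⟩
      | inv x hx' hx => exact ⟨ha, by rw [inv_pow, (hx hx').2, inv_one]⟩
    exact fun a ha => (h1 a ha).2
  have hA2 : IsPGroup 2 A := by
    intro a
    refine ⟨2, ?_⟩
    apply Subtype.ext
    have := hA4 a.1 a.2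
    simpa using this
  have hwA : zpowers w ≤ normalizer (A : Set G) := by
    rw [zpowers_le, mem_normalizer_iff_cj]
    refine Subgroup.eq_of_le_of_card_ge ?_ (card_cj w A).ge
    rw [cj_def, map_le_iff_le_comap, hA, closure_le]
    rintro _ ⟨i, rfl⟩
    show cn w (cn (w ^ i) v) ∈ A
    rw [cn_cn, ← pow_succ']
    exact subset_closure ⟨i + 1, rfl⟩
  have hw2' : IsPGroup 2 (zpowers w) := (c.h.two N ht.2.1).to_le (zpowers_le.2 (c.h.vch.le N ht.2.1 hw))
  have hT : IsPGroup 2 (zpowers w ⊔ A : Subgroup G) := hw2'.to_sup_of_normal_right' hA2 hwA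
  refine (tp_iff' c.h ht.1 ht.2.1 hv hv4 hw hw4).1 ht (c.h.vch.commute c.h.hyp hT ht.1 ht.2.1 hv hw hv4 hw4
    (mem_sup_right (subset_closure ⟨0, ?_⟩)) (mem_sup_left (mem_zpowers w)))
  rw [pow_zero, one_cn]

/-! ### (13) -/

/-- (13) -/
theorem prod (ht : TP Om U K N) (hw : Nt N (zz N) w) (hu : Ind N (zz N) w u) :
    zz K * cn w (zz K) * cn u (zz K) * cn (w * u) (zz K) = zz N := by
  have hN := c.q8 (ht.symm c.h)
  have hzi := c.zz_inv ht.1
  have hz := c.zz_mul ht.1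
  have hzO := c.zz_mem_ZO ht.1
  -- `z z^n = n^z n⁻¹`
  have e : ∀ n, zz K * cn n (zz K) = cn (zz K) n * n⁻¹ := fun n => c.mul_cn ht.1 n
  have hc : ∀ n ∈ N, ∀ m ∈ N, Commute (cn (zz K) n) m := fun n hn m hm =>
    c.cj_comm (ht.symm c.h) (cn_mem hn) hm
  have e1 : cn u (zz K) * cn (w * u) (zz K) = (zz K * cn u (zz K)) * (zz K * cn (w * u) (zz K)) := by
    have h1 := (c.ZO_comm hzO (c.ZO_cn hzO u)).eq
    calc cn u (zz K) * cn (w * u) (zz K) = cn u (zz K) * (zz K * zz K) * cn (w * u) (zz K) := by rw [hz]; group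
      _ = (cn u (zz K) * zz K) * zz K * cn (w * u) (zz K) := by group
      _ = (zz K * cn u (zz K)) * zz K * cn (w * u) (zz K) := by rw [h1]
      _ = _ := by group
  have hwN := hw.1
  have huN := hu.1.1
  have hww := hN.sqz hw
  have huu := hN.sqz hu.1
  have hwu := hN.sqz (hN.nt_mul hw hu)
  obtain ⟨p, hp⟩ : ∃ p, p = cn (zz K) w := ⟨_, rfl⟩
  obtain ⟨q, hq⟩ : ∃ q, q = cn (zz K) u := ⟨_, rfl⟩
  have hpc : ∀ m ∈ N, Commute p m := by rw [hp]; exact hc w hwN
  have hqc : ∀ m ∈ N, Commute q m := by rw [hq]; exact hc u huN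
  have hpq : p * q * (p * q) = zz N := by
    rw [hp, hq, ← cn_mul, ← cn_mul, hwu]
    exact cn_of (c.ZO_comm hzO (c.zz_mem_ZO ht.2.1))
  rw [mul_assoc, e1, e, e, e, cn_mul, ← hp, ← hq]
  have h2 : (w * u)⁻¹ = u⁻¹ * w⁻¹ := mul_inv_rev w u
  calc p * w⁻¹ * (q * u⁻¹ * (p * q * (w * u)⁻¹)) = p * w⁻¹ * (q * (u⁻¹ * (p * q)) * (u⁻¹ * w⁻¹)) := by rw [h2]; group
    _ = p * w⁻¹ * (q * ((p * q) * u⁻¹) * (u⁻¹ * w⁻¹)) := by
        rw [((hpc u⁻¹ (N.inv_mem huN)).mul_left (hqc u⁻¹ (N.inv_mem huN))).eq]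
    _ = p * (w⁻¹ * (q * (p * q))) * ((u * u)⁻¹ * w⁻¹) := by group
    _ = p * ((q * (p * q)) * w⁻¹) * ((u * u)⁻¹ * w⁻¹) := by
        rw [((hqc w⁻¹ (N.inv_mem hwN)).mul_left ((hpc w⁻¹ (N.inv_mem hwN)).mul_left (hqc w⁻¹ (N.inv_mem hwN)))).eq]
    _ = (p * q * (p * q)) * (w⁻¹ * (u * u)⁻¹ * w⁻¹) := by group
    _ = zz N * (w⁻¹ * (zz N * w⁻¹)) := by rw [hpq, huu, hN.zinv, mul_assoc]
    _ = zz N * (w⁻¹ * (w⁻¹ * zz N)) := by rw [(hN.cz w⁻¹ (N.inv_mem hwN)).eq]
    _ = zz N * ((w * w)⁻¹ * zz N) := by group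
    _ = zz N := by rw [hww, hN.zinv, hN.z_mul, mul_one]

/-- the product formula, second form -/
theorem prod' (ht : TP Om U K N) (hw : Nt N (zz N) w) (hu : Ind N (zz N) w u) :
    cn u (zz K) * cn (w * u) (zz K) = zz K * (cn w (zz K) * zz N) := by
  have h1 := c.prod ht hw hu
  have hzO := c.zz_mem_ZO ht.1
  have h2 := (c.ZO_comm hzO (c.ZO_cn hzO w)).eq
  have h3 : cn w (zz K) * cn w (zz K) = 1 := by rw [← cn_mul, c.zz_mul ht.1, cn_one]
  calc cn u (zz K) * cn (w * u) (zz K)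
      = (zz K * (cn w (zz K) * cn w (zz K)) * zz K) * (cn u (zz K) * cn (w * u) (zz K)) := by
        rw [h3, mul_one, c.zz_mul ht.1, one_mul]
    _ = zz K * cn w (zz K) * (cn w (zz K) * zz K) * (cn u (zz K) * cn (w * u) (zz K)) := by group
    _ = zz K * cn w (zz K) * (zz K * cn w (zz K)) * (cn u (zz K) * cn (w * u) (zz K)) := by rw [h2]
    _ = zz K * cn w (zz K) * (zz K * cn w (zz K) * cn u (zz K) * cn (w * u) (zz K)) := by group
    _ = _ := by rw [h1, mul_assoc]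

/-- distinctness -/
theorem cn_ne (ht : TP Om U K N) (hw : Nt N (zz N) w) (hu : Ind N (zz N) w u) : cn u (zz K) ≠ cn (w * u) (zz K) := by
  intro h1
  have hN := c.q8 (ht.symm c.h)
  rcases c.eq_of_cn (ht.symm c.h) hu.1.1 (N.mul_mem hw.1 hu.1.1) h1 with h2 | h2
  · exact hw.2.1 (mul_eq_right.1 h2)
  · rw [(hN.cz u hu.1.1).eq] at h2
    exact hw.2.2 (mul_right_cancel h2)

theorem cn_ne' (ht : TP Om U K N) (hw : Nt N (zz N) w) (hu : Ind N (zz N) w u) : cn w (zz K) ≠ cn u (zz K) := by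
  intro h1
  rcases c.eq_of_cn (ht.symm c.h) hw.1 hu.1.1 h1 with h2 | h2
  · exact hu.2.1 h2
  · exact hu.2.2 h2

/-! ### (14) -/

theorem nt_of_four (hK : K ∈ Om) (hv : v ∈ U K) (hv4 : orderOf v = 4) : Nt K (zz K) v := by
  refine ⟨c.h.vch.le K hK hv, ?_, ?_⟩
  · rintro rfl
    rw [orderOf_one] at hv4
    omega
  · rintro rfl
    rw [c.h.hyp.orderOf_zz hK] at hv4
    omega

theorem cj_zz (hK : K ∈ Om) : cj (zz K) K = K :=
  mem_normalizer_iff_cj.1 (le_normalizer (c.h.hyp.zz_mem hK))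

theorem no_q (hN : N ∈ Om) (hL : L ∈ Om) (hw : w ∈ U N) (hw4 : orderOf w = 4) (hx : x = zz L) :
    x * cn w x ≠ zz N := by
  intro h1
  have hqi : x⁻¹ = x := by rw [hx]; exact c.zz_inv hL
  have e1 : cn w x = x⁻¹ * zz N := by rw [← h1]; group
  have hww : w * w = zz N := c.h.sq_eq hN hw hw4
  have e2 : zz N * w = w⁻¹ := by
    rw [eq_inv_iff_mul_eq_one, mul_assoc, hww, c.zz_mul hN]
  refine c.no_inv hL hN hw hw4 ?_
  rw [← hx]
  calc cn x w = x⁻¹ * w * x := by rw [cn, hqi]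
    _ = x⁻¹ * cn w x * w := by rw [cn]; group
    _ = x⁻¹ * (x⁻¹ * zz N) * w := by rw [e1]
    _ = (x * x)⁻¹ * (zz N * w) := by group
    _ = w⁻¹ := by rw [e2, hx, c.zz_mul hL, inv_one, one_mul]

/-- (14) -/
theorem fourteen (ht : TP Om U K N) (hn : Nt N (zz N) n) : TP Om U K (cj n K) := by
  have hN := c.q8 (ht.symm c.h)
  have hK := c.q8 ht
  obtain ⟨w, hw, hw4⟩ := c.h.exists_v ht.2.1
  have hwt := c.nt_of_four ht.2.1 hw hw4
  by_cases hind : Ind N (zz N) w n
  swap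
  · have h1 : n = w ∨ n = w * zz N := by
      by_contra hcon
      push Not at hcon
      exact hind ⟨hn, hcon.1, hcon.2⟩
    rcases h1 with rfl | rfl
    · exact c.twelve ht hw hw4
    · rw [← hN.inv_eq hwt]
      exact c.twelve ht ((U N).inv_mem hw) (by rw [orderOf_inv, hw4])
  have hzO := c.zz_mem_ZO ht.1
  have hsO := c.zz_mem_ZO ht.2.1
  have hwO := c.ZO_cn hzO w
  have hnO := c.ZO_cn hzO n
  have hwnO := c.ZO_cn hzO (w * n)
  have hpr := c.prod' ht hwt hind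
  rw [c.tp_iff_cj ht.1 (c.h.hyp.conj K ht.1 n), zz_cn c.h ht.1]
  intro h1
  have hT1 : cj (cn w (zz K)) K ≠ K := by
    rw [← zz_cn c.h ht.1, ← c.tp_iff_cj ht.1 (c.h.hyp.conj K ht.1 w)]
    exact c.twelve ht hw hw4
  have h2 : cj (cn (w * n) (zz K)) K = K := by
    have e1 : cn (w * n) (zz K) = cn n (zz K) * (zz K * (cn w (zz K) * zz N)) := by
      rw [← hpr, ← mul_assoc, c.ZO_sq hnO, one_mul]
    rw [e1, cj_mul, cj_mul, c.lam_mul ht hwO hsO hT1 (c.cj_ne ht), c.cj_zz ht.1, h1]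
  obtain ⟨v, hv, hv4⟩ := c.h.exists_v ht.1
  have hvt := c.nt_of_four ht.1 hv hv4
  have hv1 : Commute v (cn n (zz K)) := by
    rw [← zz_cn c.h ht.1]
    exact c.cent_v (c.h.hyp.conj K ht.1 n) ht.1 (by rw [zz_cn c.h ht.1]; exact h1) hv hv4
  have hv2 : Commute v (cn (w * n) (zz K)) := by
    rw [← zz_cn c.h ht.1]
    exact c.cent_v (c.h.hyp.conj K ht.1 _) ht.1 (by rw [zz_cn c.h ht.1]; exact h2) hv hv4
  obtain ⟨y, hy⟩ := hK.exists_ind hvt
  have hw1 : cn w (cn n (zz K)) = cn (w * n) (zz K) := cn_cn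
  have hw2 : cn w (cn (w * n) (zz K)) = cn n (zz K) := by
    rw [← hw1, cn_cn, c.h.sq_eq ht.2.1 hw hw4]
    exact cn_of (c.ZO_comm hsO hnO)
  have hne := c.cn_ne ht hwt hind
  set t1 := cn n (zz K) with ht1
  set t2 := cn (w * n) (zz K) with ht2
  set zw := cn w (zz K) with hzw
  -- `t1 t2` does not commute with `y`
  have hcase : ¬ Commute y (t1 * t2) := by
    intro hyc
    have hall := hK.cov hvt hy (hv1.mul_right hv2) hyc
    have hall2 : ∀ k ∈ cj w K, Commute k (t1 * t2) := by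
      rintro _ ⟨k, hk, rfl⟩
      have e1 : t1 * t2 = cn w (t1 * t2) := by rw [cn_mul, hw1, hw2, (c.ZO_comm hnO hwnO).eq]
      show Commute (cn w k) (t1 * t2)
      rw [e1]
      exact cn_comm (hall k hk)
    have h3 := c.cen K (cj w K) (c.twelve ht hw hw4) (t1 * t2) hall hall2 (c.ZO_sq (mul_mem hnO hwnO))
    rw [mul_eq_one_iff_eq_inv, c.ZO_inv hwnO] at h3
    exact hne h3
  have hsz : t1 * zz K * (t2 * zw) = zz N := by
    have e1 : t1 * zz K * (t2 * zw) = t1 * t2 * (zz K * zw) :=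
      Commute.mul_mul_mul_comm (c.ZO_comm hzO hwnO) _ _
    have hb := mul_mem hzO hwO
    calc t1 * zz K * (t2 * zw) = zz K * (zw * zz N) * (zz K * zw) := by rw [e1, hpr]
      _ = (zz K * zw) * (zz N * (zz K * zw)) := by group
      _ = (zz K * zw) * ((zz K * zw) * zz N) := by rw [(c.ZO_comm hsO hb).eq]
      _ = zz N := by rw [← mul_assoc, c.ZO_sq hb, one_mul]
  have hyc := c.ten ht.1 hnO h1 hy.1.1
  have hyd := c.ten ht.1 hwnO h2 hy.1.1
  rcases hyc with h3 | h3 <;> rcases hyd with h4 | h4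
  · refine hcase (cn_eq_iff.1 ?_)
    rw [cn_mul, h3, h4]
  · refine c.no_q ht.2.1 (c.h.hyp.conj _ (c.h.hyp.conj K ht.1 (w * n)) y) hw hw4 (x := t2 * zz K) ?_ ?_
    · rw [zz_cn c.h (c.h.hyp.conj K ht.1 (w * n)), zz_cn c.h ht.1, ← ht2, h4]
    · rw [cn_mul, hw2, ← hzw]
      have e1 : t2 * zz K * (t1 * zw) = t2 * t1 * (zz K * zw) :=
        Commute.mul_mul_mul_comm (c.ZO_comm hzO hnO) _ _
      have e2 : t1 * zz K * (t2 * zw) = t1 * t2 * (zz K * zw) :=
        Commute.mul_mul_mul_comm (c.ZO_comm hzO hwnO) _ _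
      rw [e1, (c.ZO_comm hwnO hnO).eq, ← e2, hsz]
  · refine c.no_q ht.2.1 (c.h.hyp.conj _ (c.h.hyp.conj K ht.1 n) y) hw hw4 (x := t1 * zz K) ?_ ?_
    · rw [zz_cn c.h (c.h.hyp.conj K ht.1 n), zz_cn c.h ht.1, ← ht1, h3]
    · rw [cn_mul, hw1, ← hzw, hsz]
  · refine hcase (cn_eq_iff.1 ?_)
    rw [cn_mul, h3, h4]
    have e2 : t1 * zz K * (t2 * zz K) = t1 * t2 * (zz K * zz K) :=
      Commute.mul_mul_mul_comm (c.ZO_comm hzO hwnO) _ _
    rw [e2, c.zz_mul ht.1, mul_one]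

end NW

end NilT

end Cfsg.Agent.Cit.CV
end

-- part: Cit/Nil/CV/NilC
section
set_option linter.all false
open scoped Cfsg.Agent.FastGrp

/-!
# (6b)(CV): the theorem NIL, third part

(16)-(18) of the text (R18, helper748, 06:04Z): `NW.false_of_tp`.
-/

set_option autoImplicit false
set_option linter.style.haveILetI false
set_option linter.unusedSectionVars false

namespace Cfsg.Agent.Cit.CV

open Subgroup Cfsg Cit Tau

namespace NilT

variable {G : Type*} [Group G]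

namespace NW

variable [Finite G] {Om : Set (Subgroup G)} {U : Subgroup G → Subgroup G} {K N K' N' L : Subgroup G}
  {a b g k k' l n n' m u v w x y : G} (c : NW Om U)
include c

theorem zs_norm (ht : TP Om U K N) (hn : Nt N (zz N) n) : cj (cn n (zz K) * zz N) K = K := by
  refine c.lam_mul ht (c.ZO_cn (c.zz_mem_ZO ht.1) n) (c.zz_mem_ZO ht.2.1) ?_ (c.cj_ne ht)
  rw [← zz_cn c.h ht.1, ← c.tp_iff_cj ht.1 (c.h.hyp.conj K ht.1 n)]
  exact c.fourteen ht hn

theorem zs_mem (hK : K ∈ Om) (hN : N ∈ Om) : cn n (zz K) * zz N ∈ ZO Om :=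
  mul_mem (c.ZO_cn (c.zz_mem_ZO hK) n) (c.zz_mem_ZO hN)

/-- (16): `z^n s` does not centralise `K` -/
theorem sixteen (ht : TP Om U K N) (hn : Nt N (zz N) n) : ¬ ∀ k ∈ K, Commute k (cn n (zz K) * zz N) := by
  intro hall
  have hN := c.q8 (ht.symm c.h)
  have hK := c.q8 ht
  obtain ⟨u, hu⟩ := hN.exists_ind hn
  have hpr := c.prod' ht hn hu
  have hzO := c.zz_mem_ZO ht.1
  have huO := c.ZO_cn hzO u
  have hnuO := c.ZO_cn hzO (n * u)
  have h1 : ∀ k ∈ K, Commute k (cn u (zz K) * cn (n * u) (zz K)) := by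
    intro k hk
    rw [hpr]
    exact (c.zz_cen ht.1 hk).mul_right (hall k hk)
  have e1 : cn n (cn u (zz K) * cn (n * u) (zz K)) = cn u (zz K) * cn (n * u) (zz K) := by
    rw [cn_mul, cn_cn, cn_cn, ← mul_assoc, hN.sqz hn]
    nth_rewrite 2 [← cn_cn]
    rw [cn_of (c.ZO_comm (c.zz_mem_ZO ht.2.1) huO)]
    exact c.ZO_comm hnuO huO
  have h2 : ∀ k ∈ cj n K, Commute k (cn u (zz K) * cn (n * u) (zz K)) := by
    rintro _ ⟨k, hk, rfl⟩
    show Commute (cn n k) (cn u (zz K) * cn (n * u) (zz K))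
    rw [← e1]
    exact cn_comm (h1 k hk)
  have h3 := c.cen K (cj n K) (c.fourteen ht hn) _ h1 h2 (c.ZO_sq (mul_mem huO hnuO))
  rw [mul_eq_one_iff_eq_inv, c.ZO_inv hnuO] at h3
  exact c.cn_ne ht hn hu h3

/-- (16), second form -/
theorem sixteen' (ht : TP Om U K N) (hn : Nt N (zz N) n) (hk : Nt K (zz K) k)
    (hc : Commute k (cn n (zz K) * zz N)) (hl : Ind K (zz K) k l) :
    cn l (cn n (zz K) * zz N) = cn n (zz K) * zz N * zz K := by
  rcases c.ten ht.1 (c.zs_mem ht.1 ht.2.1) (c.zs_norm ht hn) hl.1.1 with h1 | h1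
  · exact absurd ((c.q8 ht).cov hk hl hc (cn_eq_iff.1 h1)) (c.sixteen ht hn)
  · exact h1

/-- (17) -/
theorem seventeen (ht : TP Om U K N) (hn : Nt N (zz N) n) (hk : Nt K (zz K) k)
    (hc : Commute k (cn n (zz K) * zz N)) : cn k (zz N) = cn n (zz K) := by
  have hN := c.q8 (ht.symm c.h)
  have hK := c.q8 ht
  have hzO := c.zz_mem_ZO ht.1
  have hsO := c.zz_mem_ZO ht.2.1
  have hnO := c.ZO_cn hzO n
  have hkO := c.ZO_cn hsO k
  have hsi := c.zz_inv ht.2.1
  have hfO := mul_mem hkO hnO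
  -- `f = s^k z^n = (k (s k⁻¹ s⁻¹)) (z^n s)`
  have ef : cn k (zz N) * cn n (zz K) = k * cn (zz N) k⁻¹ * (cn n (zz K) * zz N) := by
    have e1 : k * cn (zz N) k⁻¹ = cn k (zz N) * zz N := by rw [cn, cn, hsi]; group
    rw [e1]
    calc cn k (zz N) * cn n (zz K) = cn k (zz N) * (zz N * zz N) * cn n (zz K) := by
          rw [c.zz_mul ht.2.1, mul_one]
      _ = cn k (zz N) * zz N * (zz N * cn n (zz K)) := by group
      _ = _ := by rw [(c.ZO_comm hsO hnO).eq]
  have hkc : ∀ x ∈ K, Commute (cn (zz N) k⁻¹) x := fun x hx => c.cj_comm ht (cn_mem (K.inv_mem hk.1)) hx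
  obtain ⟨l, hl⟩ := hK.exists_ind hk
  have f1 : ∀ x ∈ K, Commute x (cn k (zz N) * cn n (zz K)) := by
    refine hK.cov hk hl ?_ ?_
    · rw [ef]
      exact ((Commute.refl k).mul_right (hkc k hk.1).symm).mul_right hc
    · rw [← cn_eq_iff, ef, cn_mul, cn_mul, hK.anti hk hl, cn_of (hkc l hl.1.1).symm, c.sixteen' ht hn hk hc hl]
      have hzO' := hzO
      have h2 : Commute (zz K) (cn (zz N) k⁻¹) := (hkc _ (c.h.hyp.zz_mem ht.1)).symm
      have hm := c.zs_mem (n := n) ht.1 ht.2.1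
      calc k * zz K * cn (zz N) k⁻¹ * (cn n (zz K) * zz N * zz K)
          = k * (zz K * cn (zz N) k⁻¹) * ((cn n (zz K) * zz N) * zz K) := by group
        _ = k * (cn (zz N) k⁻¹ * zz K) * (zz K * (cn n (zz K) * zz N)) := by
            rw [h2.eq, (c.ZO_comm hm hzO).eq]
        _ = k * cn (zz N) k⁻¹ * (zz K * zz K) * (cn n (zz K) * zz N) := by group
        _ = _ := by rw [c.zz_mul ht.1, mul_one]
  -- `f` normalises `N`
  have f2 : cj (cn k (zz N) * cn n (zz K)) N = N := by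
    refine c.lam_mul (ht.symm c.h) hkO hnO ?_ ?_
    · rw [← zz_cn c.h ht.2.1, ← c.tp_iff_cj ht.2.1 (c.h.hyp.conj N ht.2.1 k)]
      exact c.fourteen (ht.symm c.h) hk
    · rw [← zz_cn c.h ht.1, ← c.tp_iff_cj ht.2.1 (c.h.hyp.conj K ht.1 n)]
      have h1 := (ht.symm c.h).cj c.h n
      rwa [mem_normalizer_iff_cj.1 (le_normalizer hn.1)] at h1
  -- some nontrivial element of `N` centralises `f`
  obtain ⟨m, hm, hmf⟩ : ∃ m, Nt N (zz N) m ∧ cn m (cn k (zz N) * cn n (zz K)) = cn k (zz N) * cn n (zz K) := by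
    obtain ⟨u, hu⟩ := hN.exists_ind hn
    rcases c.ten ht.2.1 hfO f2 hn.1 with h1 | h1
    · exact ⟨n, hn, h1⟩
    rcases c.ten ht.2.1 hfO f2 hu.1.1 with h2 | h2
    · exact ⟨u, hu.1, h2⟩
    refine ⟨n * u, hN.nt_mul hn hu, ?_⟩
    rw [← cn_cn, h2, cn_mul, h1, cn_of (hN.cz n hn.1), mul_assoc, c.zz_mul ht.2.1, mul_one]
  have f3 : ∀ x ∈ cj m K, Commute x (cn k (zz N) * cn n (zz K)) := by
    rintro _ ⟨x, hx, rfl⟩
    show Commute (cn m x) (cn k (zz N) * cn n (zz K))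
    rw [← hmf]
    exact cn_comm (f1 x hx)
  have h3 := c.cen K (cj m K) (c.fourteen ht hm) _ f1 f3 (c.ZO_sq hfO)
  rwa [mul_eq_one_iff_eq_inv, c.ZO_inv hnO] at h3

/-- (17a) -/
theorem seventeen_a (ht : TP Om U K N) (hk : Nt K (zz K) k) :
    ∃ n, Nt N (zz N) n ∧ cn k (zz N) = cn n (zz K) := by
  have hN := c.q8 (ht.symm c.h)
  have hK := c.q8 ht
  obtain ⟨w, u, hw, hu⟩ := hN.exists_ind'
  by_contra hcon
  push Not at hcon
  have key : ∀ n, Nt N (zz N) n → cn k (cn n (zz K) * zz N) = cn n (zz K) * zz N * zz K := by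
    intro n hn
    rcases c.ten ht.1 (c.zs_mem ht.1 ht.2.1) (c.zs_norm ht hn) hk.1 with h1 | h1
    · exact absurd (c.seventeen ht hn hk (cn_eq_iff.1 h1)) (hcon n hn)
    · exact h1
  have hzO := c.zz_mem_ZO ht.1
  have hsO := c.zz_mem_ZO ht.2.1
  have hwO := c.ZO_cn hzO w
  have huO := c.ZO_cn hzO u
  have hwuO := c.ZO_cn hzO (w * u)
  have hpr := c.prod' ht hw hu
  -- the product of the three is `z`
  have e1 : (cn w (zz K) * zz N) * ((cn u (zz K) * zz N) * (cn (w * u) (zz K) * zz N)) = zz K := by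
    have h1 : (cn u (zz K) * zz N) * (cn (w * u) (zz K) * zz N) = cn u (zz K) * cn (w * u) (zz K) * (zz N * zz N) :=
      Commute.mul_mul_mul_comm (c.ZO_comm hsO hwuO) _ _
    rw [h1, c.zz_mul ht.2.1, mul_one, hpr]
    have h2 := c.zs_mem (n := w) ht.1 ht.2.1
    rw [(c.ZO_comm hzO h2).eq, ← mul_assoc, c.ZO_sq h2, one_mul]
  have e2 := congrArg (cn k) e1
  rw [cn_mul (x := cn w (zz K) * zz N), cn_mul (x := cn u (zz K) * zz N), key w hw, key u hu.1,
    key (w * u) (hN.nt_mul hw hu), cn_of (hK.cz k hk.1)] at e2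
  have h1 : cn u (zz K) * zz N * zz K * (cn (w * u) (zz K) * zz N * zz K) =
      (cn u (zz K) * zz N) * (cn (w * u) (zz K) * zz N) * (zz K * zz K) :=
    Commute.mul_mul_mul_comm (c.ZO_comm hzO (c.zs_mem ht.1 ht.2.1)) _ _
  rw [h1, c.zz_mul ht.1, mul_one, mul_assoc (cn w (zz K) * zz N)] at e2
  have h2 : Commute (zz K) ((cn u (zz K) * zz N) * (cn (w * u) (zz K) * zz N)) :=
    c.ZO_comm hzO (mul_mem (c.zs_mem ht.1 ht.2.1) (c.zs_mem ht.1 ht.2.1))
  rw [h2.eq, ← mul_assoc, e1, c.zz_mul ht.1] at e2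
  exact c.h.hyp.zz_ne ht.1 e2.symm

/-- (17b) -/
theorem seventeen_b (ht : TP Om U K N) (hn : Nt N (zz N) n) :
    ∃ k, Nt K (zz K) k ∧ cn k (zz N) = cn n (zz K) := by
  have hK := c.q8 ht
  obtain ⟨v, y, hv, hy⟩ := hK.exists_ind'
  rcases c.ten ht.1 (c.zs_mem ht.1 ht.2.1) (c.zs_norm ht hn) hv.1 with h1 | h1
  · exact ⟨v, hv, c.seventeen ht hn hv (cn_eq_iff.1 h1)⟩
  rcases c.ten ht.1 (c.zs_mem ht.1 ht.2.1) (c.zs_norm ht hn) hy.1.1 with h2 | h2
  · exact ⟨y, hy.1, c.seventeen ht hn hy.1 (cn_eq_iff.1 h2)⟩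
  refine ⟨v * y, hK.nt_mul hv hy, c.seventeen ht hn (hK.nt_mul hv hy) (cn_eq_iff.1 ?_)⟩
  rw [← cn_cn, h2, cn_mul, h1, cn_of (hK.cz v hv.1), mul_assoc, c.zz_mul ht.1, mul_one]

/-- (17c) -/
theorem seventeen_c (ht : TP Om U K N) (hn : Nt N (zz N) n) (hk : Nt K (zz K) k) (he : cn k (zz N) = cn n (zz K))
    (hn' : Ind N (zz N) n n') : cn k (cn n' (zz K)) = cn (n * n') (zz K) := by
  have hzO := c.zz_mem_ZO ht.1
  have hsO := c.zz_mem_ZO ht.2.1
  have hnO := c.ZO_cn hzO n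
  have hn'O := c.ZO_cn hzO n'
  have hpr := c.prod' ht hn hn'
  have h1 : cn k (cn n' (zz K) * zz N) = cn n' (zz K) * zz N * zz K := by
    rcases c.ten ht.1 (c.zs_mem ht.1 ht.2.1) (c.zs_norm ht hn'.1) hk.1 with h1 | h1
    · have h2 := c.seventeen ht hn'.1 hk (cn_eq_iff.1 h1)
      rw [he] at h2
      exact absurd h2 (c.cn_ne' ht hn hn')
    · exact h1
  rw [cn_mul, he] at h1
  -- `z_{nn'} = z_{n'} z (z_n s)`
  have h2 : cn (n * n') (zz K) = cn n' (zz K) * (zz K * (cn n (zz K) * zz N)) := by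
    rw [← hpr, ← mul_assoc, c.ZO_sq hn'O, one_mul]
  rw [h2]
  have h3 : cn k (cn n' (zz K)) = cn n' (zz K) * zz N * zz K * cn n (zz K) := by
    rw [← h1, mul_assoc, c.ZO_sq hnO, mul_one]
  rw [h3]
  calc cn n' (zz K) * zz N * zz K * cn n (zz K) = cn n' (zz K) * (zz N * (zz K * cn n (zz K))) := by group
    _ = cn n' (zz K) * ((zz K * cn n (zz K)) * zz N) := by rw [(c.ZO_comm hsO (mul_mem hzO hnO)).eq]
    _ = _ := by group

/-- (18): there is no T-pair -/
theorem false_of_tp (ht : TP Om U K N) : False := by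
  have hN := c.q8 (ht.symm c.h)
  have hK := c.q8 ht
  have hzO := c.zz_mem_ZO ht.1
  have hsO := c.zz_mem_ZO ht.2.1
  obtain ⟨v, hv, hv4⟩ := c.h.exists_v ht.1
  have hvt := c.nt_of_four ht.1 hv hv4
  obtain ⟨n, hn, hvn⟩ := c.seventeen_a ht hvt
  obtain ⟨m, hm⟩ := hN.exists_ind hn
  obtain ⟨k, hk, hkm⟩ := c.seventeen_b ht hm.1
  have hcO : ∀ {a b : G}, a ∈ ZO Om → b ∈ ZO Om → cn a b = b := fun ha hb => cn_of (c.ZO_comm ha hb)
  obtain ⟨A, hA⟩ : ∃ A, A = cn n (zz K) := ⟨_, rfl⟩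
  obtain ⟨B, hB⟩ : ∃ B, B = cn m (zz K) := ⟨_, rfl⟩
  obtain ⟨C, hC⟩ : ∃ C, C = cn (n * m) (zz K) := ⟨_, rfl⟩
  have hAO : A ∈ ZO Om := by rw [hA]; exact c.ZO_cn hzO n
  have hBO : B ∈ ZO Om := by rw [hB]; exact c.ZO_cn hzO m
  have hCO : C ∈ ZO Om := by rw [hC]; exact c.ZO_cn hzO _
  have hAB : A ≠ B := by rw [hA, hB]; exact c.cn_ne' ht hn hm
  have sqn : ∀ {x : G}, x ∈ ZO Om → cn n (cn n x) = x := by
    intro x hx
    rw [cn_cn, hN.sqz hn]
    exact hcO hsO hx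
  have sqv : ∀ {x : G}, x ∈ ZO Om → cn v (cn v x) = x := by
    intro x hx
    rw [cn_cn, hK.sqz hvt]
    exact hcO hzO hx
  have sqk : ∀ {x : G}, x ∈ ZO Om → cn k (cn k x) = x := by
    intro x hx
    rw [cn_cn, hK.sqz hk]
    exact hcO hzO hx
  have n_z : cn n (zz K) = A := hA.symm
  have n_A : cn n A = zz K := by rw [hA]; exact sqn hzO
  have n_B : cn n B = C := by rw [hB, hC, cn_cn]
  have n_C : cn n C = B := by rw [← n_B]; exact sqn hBO
  have n_s : cn n (zz N) = zz N := cn_of (hN.cz n hn.1)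
  have v_z : cn v (zz K) = zz K := cn_of (hK.cz v hvt.1)
  have v_s : cn v (zz N) = A := by rw [hvn, hA]
  have v_B : cn v B = C := by rw [hB, hC]; exact c.seventeen_c ht hn hvt hvn hm
  have v_C : cn v C = B := by rw [← v_B]; exact sqv hBO
  have k_z : cn k (zz K) = zz K := cn_of (hK.cz k hk.1)
  have k_s : cn k (zz N) = B := by rw [hkm, hB]
  have k_B : cn k B = zz N := by rw [← k_s]; exact sqk hsO
  have k_A : cn k A = C := by
    rw [hA, hC, c.seventeen_c ht hm.1 hk hkm (hN.ind_symm hn hm)]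
    have h1 : m * n = n * m * zz N := by
      have h2 := hN.anti hn hm
      rw [cn, mul_inv_eq_iff_eq_mul] at h2
      rw [h2, mul_assoc, mul_assoc, (hN.cz m hm.1.1).eq]
    rw [h1, ← cn_cn, hcO hsO hzO]
  have k_C : cn k C = A := by rw [← k_A]; exact sqk hAO
  have inv' : ∀ {g x y : G}, cn g x = y → cn g⁻¹ y = x := by
    intro g x y h1
    rw [← h1, cn_inv_cn]
  obtain ⟨g, hg⟩ : ∃ g, g = n * (k * (n * (v * (k⁻¹ * n⁻¹)))) := ⟨_, rfl⟩
  have hgx : ∀ x, cn g x = cn n (cn k (cn n (cn v (cn k⁻¹ (cn n⁻¹ x))))) := by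
    intro x
    rw [hg]
    simp only [cn_cn, mul_assoc]
  have g_z : cn g (zz K) = zz K := by
    rw [hgx, inv' n_A, inv' k_C, v_C, n_B, k_C, n_A]
  have g_s : cn g (zz N) = zz N := by
    rw [hgx, inv' n_s, inv' k_B, v_B, n_C, k_B, n_s]
  have g_A : cn g A = B := by
    rw [hgx, inv' n_z, inv' k_z, v_z, n_z, k_A, n_C]
  have hgK := c.h.hyp.conj K ht.1 g
  have hvg : cn (cn g v) (zz N) = B := by
    have h1 : cn (cn g v) (zz N) = cn g (cn v (cn g⁻¹ (zz N))) := by simp [cn, mul_assoc]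
    rw [h1, inv' g_s, v_s, g_A]
  have hgv4 : orderOf (cn g v) = 4 := orderOf_conj_four hv4 g
  have hgvU : cn g v ∈ U (cj g K) := c.h.vch.conj_mem ht.1 hv g
  have fin : ∀ x ∈ U K, orderOf x = 4 → cn x (zz N) ≠ B := by
    intro x hx hx4 h1
    rcases c.h.eq_or_inv ht.1 hv hv4 hx hx4 with h2 | h2
    · rw [h2, v_s] at h1
      exact hAB h1
    · rw [h2, hK.inv_eq hvt, ← cn_cn, hcO hzO hsO, v_s] at h1
      exact hAB h1
  rcases c.over_eq ht hgK (by rw [zz_cn c.h ht.1, g_z]) hk.1 (c.nt_of_four hgK hgvU hgv4) (by rw [hvg, k_s]) with h1 | h1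
  · rw [h1] at hgvU
    exact fin _ hgvU hgv4 hvg
  · refine fin (cn (zz N) (cn g v)) ?_ (orderOf_conj_four hgv4 _) ?_
    · have h2 := c.h.vch.conj_mem hgK hgvU (zz N)
      rwa [h1, ← cj_mul, c.zz_mul ht.2.1, cj_one] at h2
    · have h2 : cn (cn (zz N) (cn g v)) (zz N) = cn (zz N) (cn (cn g v) (cn (zz N)⁻¹ (zz N))) := by simp [cn, mul_assoc]
      rw [h2, c.zz_inv ht.2.1, hcO hsO hsO, hvg, hcO hsO hBO]

end NW

end NilT

end Cfsg.Agent.Cit.CV
end

-- part: Cit/Nil/CV/NilT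
section
set_option linter.all false
open scoped Cfsg.Agent.FastGrp

/-!
# (6b)(CV): the theorem NIL

`CVW.nil` : in the world `CVW Om U`, `zz K ∈ O₂(G)` implies `U K ≤ O₂(G)`.
(helper748, R18, 06:04Z; it replaces section 5 of helper599's text.)
-/

set_option autoImplicit false
set_option linter.style.haveILetI false
set_option linter.unusedSectionVars false

namespace Cfsg.Agent.Cit.CV

open Subgroup Cfsg Cit Tau

universe u

namespace NilT

section

variable {G : Type*} [Group G] [Finite G] {Om : Set (Subgroup G)} {U : Subgroup G → Subgroup G} {K L N H : Subgroup G}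
  {g v : G}

/-- the class of `K` -/
def cls (K : Subgroup G) : Set (Subgroup G) := {L | ∃ g, L = cj g K}

theorem cls_sub (h : CVW Om U) (hK : K ∈ Om) : cls K ⊆ Om := by
  rintro _ ⟨g, rfl⟩
  exact h.hyp.conj K hK g

theorem cls_cj : ∀ L ∈ cls K, ∀ g, cj g L ∈ cls K := by
  rintro _ ⟨g, rfl⟩ a
  exact ⟨a * g, (cj_mul a g K).symm⟩

theorem self_mem_cls (K : Subgroup G) : K ∈ cls K := ⟨1, (cj_one K).symm⟩

theorem cj_le_pCore : cj g K ≤ pCore 2 G ↔ K ≤ pCore 2 G := by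
  have h1 : cj g (pCore 2 G) = pCore 2 G :=
    mem_normalizer_iff_cj.1 (by rw [normalizer_eq_top_iff.2 (Lib.Cores.pCore_normal 2)]; exact mem_top g)
  nth_rewrite 1 [← h1]
  exact cj_le_cj

/-- a member over a central involution lies in `O₂(G)` -/
theorem le_of_central (h : CVW Om U) (hK : K ∈ Om) (hc : zz K ∈ center G) : K ≤ pCore 2 G := by
  refine SignalizersComponents.CompBasic.subnormal_pGroup_le_pCore ?_ (h.two K hK)
  have h1 := h.hyp.sub K hK
  have h2 : centralizer {zz K} = ⊤ := by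
    rw [eq_top_iff]
    intro x _
    rw [mem_centralizer_singleton_iff]
    exact mem_center_iff.1 hc x
  rw [h2] at h1
  exact IsSubnormal.trans le_top h1 IsSubnormal.top

end

section

variable {G : Type u} [Group G] [Finite G] {Om : Set (Subgroup G)} {U : Subgroup G → Subgroup G} {K L N H : Subgroup G}
  {g v x : G}

/-- NIL for the groups of order smaller than `n` -/
def NilLt (n : ℕ) : Prop := ∀ (G : Type u) [Group G] [Finite G], Nat.card G < n → ∀ (Om : Set (Subgroup G))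
  (U : Subgroup G → Subgroup G), CVW Om U → ∀ K ∈ Om, zz K ∈ pCore 2 G → U K ≤ pCore 2 G

/-- the induction on a proper subgroup -/
theorem ind_sub (h : CVW Om U) (ih : NilLt.{u} (Nat.card G)) (hH : H ≠ ⊤) (hK : K ∈ Om) (hKH : K ≤ H)
    (hz : zz K ∈ pCore 2 G) : U K ≤ (pCore 2 H).map H.subtype := by
  have hcard : Nat.card H < Nat.card G := by
    rw [← card_top (G := G)]
    have h2 : (H : Set G) ⊂ ((⊤ : Subgroup G) : Set G) := by
      rw [Set.ssubset_def]
      refine ⟨fun x _ => mem_top x, fun hh => hH ?_⟩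
      rw [eq_top_iff]
      exact hh
    exact Set.Finite.card_lt_card (Set.toFinite _) h2
  have hK' := subgroupOf_mem_restr hK hKH
  have h1 := ih H hcard _ _ (h.restr H) _ hK' ?_
  · intro x hx
    have hxH : x ∈ H := hKH (h.vch.le K hK hx)
    refine ⟨⟨x, hxH⟩, h1 ?_, rfl⟩
    rw [CV1.mem_uH, map_subgroupOf_eq_of_le hKH]
    exact hx
  · have h2 : (pCore 2 G).subgroupOf H ≤ pCore 2 H :=
      Lib.Cores.le_pCore ((Lib.Cores.pCore_normal 2).subgroupOf H) (Lib.Cores.pCore_isPGroup 2).comap_subtype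
    apply h2
    rw [mem_subgroupOf, zz_map h.hyp hK', map_subgroupOf_eq_of_le hKH]
    exact hz

/-- the induction on a central quotient -/
theorem ind_quo (h : CVW Om U) (ih : NilLt.{u} (Nat.card G)) (hx : x ∈ center G) (hx2 : x * x = 1) (hx1 : x ≠ 1)
    (hne : ∀ K ∈ Om, x ≠ zz K) (hK : K ∈ Om) (hz : zz K ∈ pCore 2 G) : U K ≤ pCore 2 G := by
  haveI : Fact (Nat.Prime 2) := ⟨Nat.prime_two⟩
  have hle : zpowers x ≤ center G := zpowers_le.2 hx
  haveI hn : (zpowers x).Normal := ⟨fun a ha g => by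
    rw [mem_center_iff.1 (hle ha) g, mul_inv_cancel_right]; exact ha⟩
  have hord : orderOf x = 2 := orderOf_eq_prime (by rw [pow_two, hx2]) hx1
  have h2 : IsPGroup 2 (zpowers x) := by
    intro a
    refine ⟨1, ?_⟩
    obtain ⟨a, k, rfl⟩ := a
    apply Subtype.ext
    show ((x ^ k : G)) ^ 2 ^ 1 = 1
    rw [pow_one, ← zpow_natCast, ← zpow_mul, mul_comm, zpow_mul, zpow_natCast, pow_two, hx2, one_zpow]
  have hker : (QuotientGroup.mk' (zpowers x)).ker = zpowers x := QuotientGroup.ker_mk' _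
  have hKC : ∀ K ∈ Om, K ⊓ (QuotientGroup.mk' (zpowers x)).ker = ⊥ := by
    intro K hK
    rw [hker, eq_bot_iff]
    rintro a ⟨ha, ha'⟩
    rw [mem_bot]
    by_contra ha1
    have h3 : a = x := by
      have h4 : a ∈ zpowers x := ha'
      rw [mem_zpowers_iff] at h4
      obtain ⟨k, rfl⟩ := h4
      rcases Int.even_or_odd' k with ⟨j, rfl | rfl⟩
      · rw [zpow_mul, show x ^ (2 : ℤ) = 1 by rw [zpow_ofNat, pow_two, hx2], one_zpow] at ha1
        exact absurd rfl ha1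
      · rw [zpow_add, zpow_mul, show x ^ (2 : ℤ) = 1 by rw [zpow_ofNat, pow_two, hx2], one_zpow, one_mul, zpow_one]
    rw [h3] at ha
    exact hne K hK (h.hyp.uniq K hK x ha hord)
  have hsurj := QuotientGroup.mk'_surjective (zpowers x)
  have hC : (QuotientGroup.mk' (zpowers x)).ker ≤ center G := by rw [hker]; exact hle
  have hcard : Nat.card (G ⧸ zpowers x) < Nat.card G := by
    rw [card_eq_card_quotient_mul_card_subgroup (zpowers x), Nat.card_zpowers, hord]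
    have : 0 < Nat.card (G ⧸ zpowers x) := Nat.card_pos
    omega
  have h3 := ih (G ⧸ zpowers x) hcard _ _ (h.imgc hsurj hC hKC) _ ⟨K, hK, rfl⟩ ?_
  · rw [h.imgU_imgc hC hKC hK, map_le_iff_le_comap, Lib.Cores.comap_mk_pCore 2 h2] at h3
    exact h3
  · rw [QuoCen.zz_map_of_inf h.hyp hK (hKC K hK)]
    have h4 := Lib.Cores.comap_mk_pCore (G := G) 2 h2
    have h5 : zz K ∈ (pCore 2 (G ⧸ zpowers x)).comap (QuotientGroup.mk' (zpowers x)) := by rw [h4]; exact hz
    exact h5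

/-- the induction step -/
theorem step (h : CVW Om U) (ih : NilLt.{u} (Nat.card G)) (hK : K ∈ Om) (hz : zz K ∈ pCore 2 G) : U K ≤ pCore 2 G := by
  by_contra hbad
  have h' : CVW (cls K) U := h.sub (cls_sub h hK) cls_cj
  have all : ∀ L ∈ cls K, zz L ∈ pCore 2 G := by
    rintro _ ⟨g, rfl⟩
    rw [h.hyp.zz_cj hK]
    exact (Lib.Cores.pCore_normal 2).conj_mem _ hz g
  have bad : ∀ L ∈ cls K, ¬ U L ≤ pCore 2 G := by
    rintro _ ⟨g, rfl⟩
    rw [h.vch.cj K hK, cj_le_pCore]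
    exact hbad
  have c : NW (cls K) U := by
    refine ⟨h', all, bad, ?_⟩
    intro L N ht x hx1 hx2 hxx
    by_contra hx
    -- `G = ⟨L, N⟩`
    have htop : L ⊔ N = ⊤ := by
      by_contra hne
      have h1 := ind_sub h' ih hne ht.1 le_sup_left (all L ht.1)
      have h2 := ind_sub h' ih hne ht.2.1 le_sup_right (all N ht.2.1)
      obtain ⟨v, hv, hv4⟩ := h'.exists_v ht.1
      obtain ⟨w, hw, hw4⟩ := h'.exists_v ht.2.1
      exact (tp_iff' h' ht.1 ht.2.1 hv hv4 hw hw4).1 ht (h'.vch.commute h'.hyp ((Lib.Cores.pCore_isPGroup 2).map _)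
        ht.1 ht.2.1 hv hw hv4 hw4 (h1 hv) (h2 hw))
    have hxc : x ∈ center G := by
      have h1 : L ⊔ N ≤ centralizer {x} := by
        refine sup_le ?_ ?_
        · intro y hy
          rw [mem_centralizer_singleton_iff]
          exact (hx1 y hy).eq
        · intro y hy
          rw [mem_centralizer_singleton_iff]
          exact (hx2 y hy).eq
      rw [htop] at h1
      rw [mem_center_iff]
      intro g
      exact mem_centralizer_singleton_iff.1 (h1 (mem_top g))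
    refine bad L ht.1 (ind_quo h' ih hxc hxx hx ?_ ht.1 (all L ht.1))
    rintro M hM rfl
    exact bad M hM ((h'.vch.le M hM).trans (le_of_central h' hM hxc))
  -- a T-pair exists
  obtain ⟨v, hv, hv4⟩ := h.exists_v hK
  have hex : ∃ g, ¬ Commute v (cn g v) := by
    by_contra hcon
    push Not at hcon
    set A : Subgroup G := closure {x | ∃ g, x = cn g v} with hA
    have hgen : ∀ a b, Commute (cn a v) (cn b v) := by
      intro a b
      have h1 := cn_comm (g := a) (hcon (a⁻¹ * b))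
      rwa [cn_cn, mul_inv_cancel_left] at h1
    have hAn : A.Normal := by
      refine ⟨fun x hx g => ?_⟩
      rw [hA] at hx
      induction hx using closure_induction with
      | mem x hx =>
        obtain ⟨a, rfl⟩ := hx
        exact subset_closure ⟨g * a, cn_cn⟩
      | one => rw [mul_one, mul_inv_cancel]; exact one_mem _
      | mul x y _ _ hx hy =>
        have h1 : g * (x * y) * g⁻¹ = (g * x * g⁻¹) * (g * y * g⁻¹) := by group
        rw [h1]; exact mul_mem hx hy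
      | inv x _ hx =>
        have h1 : g * x⁻¹ * g⁻¹ = (g * x * g⁻¹)⁻¹ := by group
        rw [h1]; exact inv_mem hx
    have hAc : ∀ a ∈ A, ∀ b ∈ A, Commute a b := by
      have h1 : A ≤ centralizer {x | ∃ g, x = cn g v} := by
        rw [hA, closure_le]
        rintro _ ⟨i, rfl⟩
        rw [SetLike.mem_coe, mem_centralizer_iff]
        rintro _ ⟨j, rfl⟩
        exact (hgen j i).eq
      intro a ha b hb
      have h2 : A ≤ centralizer {a} := by
        rw [hA, closure_le]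
        intro x hx
        rw [SetLike.mem_coe, mem_centralizer_singleton_iff]
        exact (mem_centralizer_iff.1 (h1 ha)) x hx
      exact (mem_centralizer_singleton_iff.1 (h2 hb)).symm
    have hA4 : ∀ a ∈ A, a ∈ A ∧ a ^ 4 = 1 := by
      intro a ha
      have ha' := ha
      rw [hA] at ha'
      induction ha' using closure_induction with
      | mem x hx =>
        refine ⟨ha, ?_⟩
        obtain ⟨i, rfl⟩ := hx
        rw [← cn_pow, ← hv4, pow_orderOf_eq_one, cn_one]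
      | one => exact ⟨ha, one_pow 4⟩
      | mul x y hx' hy' hx hy =>
        have hx2 := hx hx'
        have hy2 := hy hy'
        exact ⟨ha, by rw [(hAc x hx' y hy').mul_pow, hx2.2, hy2.2, one_mul]⟩
      | inv x hx' hx => exact ⟨ha, by rw [inv_pow, (hx hx').2, inv_one]⟩
    have hA2 : IsPGroup 2 A := by
      intro a
      refine ⟨2, ?_⟩
      apply Subtype.ext
      have := (hA4 a.1 a.2).2
      simpa using this
    apply hbad
    rw [h.U_eq hK hv hv4, zpowers_le]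
    exact Lib.Cores.le_pCore hAn hA2 (subset_closure ⟨1, one_cn.symm⟩)
  obtain ⟨g, hg⟩ := hex
  refine c.false_of_tp (K := K) (N := cj g K) ?_
  rw [tp_iff' h' (self_mem_cls K) ⟨g, rfl⟩ hv hv4 (h.vch.conj_mem hK hv g) (orderOf_conj_four hv4 g)]
  exact hg

theorem nil_aux : ∀ n, NilLt.{u} n := by
  intro n
  induction n with
  | zero => intro G _ _ hG; omega
  | succ n ih =>
    intro G _ _ hG Om U h K hK hz
    exact step h (fun G' _ _ hG' => ih G' (by omega)) hK hz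

end

end NilT

/-- **THEOREM NIL** -/
theorem CVW.nil {G : Type u} [Group G] [Finite G] {Om : Set (Subgroup G)} {U : Subgroup G → Subgroup G}
    (h : CVW Om U) {K : Subgroup G} (hK : K ∈ Om) (hz : zz K ∈ pCore 2 G) : U K ≤ pCore 2 G :=
  NilT.nil_aux (Nat.card G + 1) G (Nat.lt_succ_self _) Om U h K hK hz

end Cfsg.Agent.Cit.CV
end

-- part: Cit/Nil/CVA/Tri
section
prune_inst 0x2010000030220000001800000000006000000002004000002040000001410040a04500010220001000100c5060000060131800000228000000000800000404010002000210240000000000000000000000000000000000000000000000000000200000000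
set_option linter.all false
open scoped Cfsg.Agent.FastGrp

/-!
# (6b)(CV), type `A2`: the triples

`AW Om U` : the world `CVW` in which all components are of type `A2`.
`Tri Om U A v₁ v₂ v₃` : the component `{±v₁, ±v₂, ±v₃}` of `A`, `v₁ v₂ v₃ = 1`.

* `AW.symm_bond`, `AW.exists_tri` ;
* `AW.sq_inj`, `AW.over_eq` : at most one member over an involution;
* `AW.root_of_zz` : `zz N ∈ A` implies `U N ≤ A`;
* `AW.mul_ne_zz`, `AW.four` : independence of the components.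
-/

set_option autoImplicit false
set_option linter.style.haveILetI false
set_option linter.unusedSectionVars false

namespace Cfsg.Agent.Cit.CVA

open Subgroup Cfsg Cit Tau CV NilT

variable {G : Type*} [Group G]

/-- the world of type `A2` -/
structure AW (Om : Set (Subgroup G)) (U : Subgroup G → Subgroup G) : Prop where
  h : CVW Om U
  rk : ∀ A, IsA Om U A → RkTwo Om U A

/-- a component of type `A2` -/
structure Tri (Om : Set (Subgroup G)) (U : Subgroup G → Subgroup G) (A : Subgroup G) (v₁ v₂ v₃ : G) : Prop where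
  m1 : v₁ ∈ RR Om U A
  m2 : v₂ ∈ RR Om U A
  m3 : v₃ ∈ RR Om U A
  prod : v₁ * v₂ * v₃ = 1
  a12 : al Om U v₁ v₂ = -1
  a21 : al Om U v₂ v₁ = -1
  a13 : al Om U v₁ v₃ = -1
  a31 : al Om U v₃ v₁ = -1
  a23 : al Om U v₂ v₃ = -1
  a32 : al Om U v₃ v₂ = -1
  cl : ∀ u ∈ RR Om U A, (u = v₁ ∨ u = v₁⁻¹ ∨ u = v₂ ∨ u = v₂⁻¹ ∨ u = v₃ ∨ u = v₃⁻¹) ∨
    (al Om U v₁ u = 0 ∧ al Om U v₂ u = 0 ∧ al Om U v₃ u = 0)

variable [Finite G] {Om : Set (Subgroup G)} {U : Subgroup G → Subgroup G}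
  {A B K L N : Subgroup G} {a b g s t u v w x y v₁ v₂ v₃ : G}

namespace AW

variable (c : AW Om U)
include c

theorem lk_symm (hA : IsA Om U A) (hv : v ∈ RR Om U A) (hw : w ∈ RR Om U A) (hl : Lk Om U v w) : Lk Om U w v :=
  c.h.lk_symm hA hv hw hl

theorem exists_lk (hA : IsA Om U A) (hv : v ∈ RR Om U A) : ∃ w ∈ RR Om U A, Lk Om U v w := by
  obtain ⟨w, hw, hl, -⟩ := c.rk A hA v hv
  exact ⟨w, hw, hl⟩

theorem rf_inv_right (hA : IsA Om U A) (hv : v ∈ RR Om U A) (hw : w ∈ RR Om U A) : rf Om U v w⁻¹ = (rf Om U v w)⁻¹ := by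
  rw [rf, rf, c.h.al_inv hA hv hw.1, mul_inv_rev, ← pw_neg hv.2.1, pw_comm (c.h.comm hA (A.inv_mem hw.1) hv.1)]

/-- the roots linked to `v` -/
theorem lk_cases (hA : IsA Om U A) (hv : v ∈ RR Om U A) (hw : w ∈ RR Om U A) (hl : Lk Om U v w)
    (hu : u ∈ RR Om U A) (hlu : Lk Om U v u) : u = w ∨ u = w⁻¹ ∨ u = rf Om U v w ∨ u = (rf Om U v w)⁻¹ := by
  obtain ⟨w', hw', hl', hcl⟩ := c.rk A hA v hv
  have h1 := hcl w hw hl
  have h2 := hcl u hu hlu
  have e1 := c.rf_inv_right hA hv hw'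
  have e2 := c.h.rf_rf hA hv hw'.1
  have hr := c.h.rf_mem hA hv hw'
  have e3 : rf Om U v (rf Om U v w')⁻¹ = w'⁻¹ := by rw [c.rf_inv_right hA hv hr, e2]
  rcases h1 with rfl | rfl | rfl | rfl
  · exact h2
  · rw [e1, inv_inv, inv_inv]
    (solve | (intros; casesm* _ ∨ _, _ ∧ _) <;> (first | with_reducible contradiction | repeat (first | with_reducible assumption | exact Or.inl (by with_reducible assumption) | refine Or.inr ?_)) | tauto)
  · rw [e2]
    (solve | (intros; casesm* _ ∨ _, _ ∧ _) <;> (first | with_reducible contradiction | repeat (first | with_reducible assumption | exact Or.inl (by with_reducible assumption) | refine Or.inr ?_)) | tauto)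
  · rw [e3, inv_inv, inv_inv]
    (solve | (intros; casesm* _ ∨ _, _ ∧ _) <;> (first | with_reducible contradiction | repeat (first | with_reducible assumption | exact Or.inl (by with_reducible assumption) | refine Or.inr ?_)) | tauto)

/-- the bonds are symmetric -/
theorem symm_bond (hA : IsA Om U A) (hv : v ∈ RR Om U A) (hw : w ∈ RR Om U A) (hl : Lk Om U v w) :
    al Om U w v = al Om U v w := by
  rcases c.h.al_odd_symm hA hv hw hl.1 hl.2 with h1 | h1
  · exact h1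
  exfalso
  obtain ⟨t, ht, htt, ht1, ht2, -, htl⟩ := c.h.gTwo hA hv hw hl h1
  have hwv := c.lk_symm hA hv hw hl
  have h4 := htl w hw hwv
  have h5 := c.h.sq_rf hA hw hv hwv
  have h6 := CVW.sq_ne_one hw
  have hr := c.h.rf_mem hA hw hv
  rcases c.lk_cases hA hw hv hwv ht h4 with h3 | h3 | h3 | h3
  · exact ht1 h3
  · exact ht2 h3
  · rw [h3, h5] at htt
    exact h6 (mul_eq_left.1 htt)
  · rw [h3, CVW.sq_inv hr, h5] at htt
    exact h6 (mul_eq_left.1 htt)

theorem exists_tri (hA : IsA Om U A) (hv : v ∈ RR Om U A) : ∃ v₂ v₃, Tri Om U A v v₂ v₃ := by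
  obtain ⟨w, hw, hl, hvw⟩ : ∃ w ∈ RR Om U A, Lk Om U v w ∧ al Om U v w = -1 := by
    obtain ⟨w, hw, hl⟩ := c.exists_lk hA hv
    rcases (lk_iff _ _).1 hl with h1 | h1
    · refine ⟨w⁻¹, CVW.RR_inv hw, ?_, ?_⟩
      · rw [lk_iff, c.h.al_inv hA hv hw.1, h1]
        right; rfl
      · rw [c.h.al_inv hA hv hw.1, h1]
    · exact ⟨w, hw, hl, h1⟩
  have hwv : al Om U w v = -1 := by rw [c.symm_bond hA hv hw hl, hvw]
  have hr := c.h.rf_mem hA hv hw
  have hrf : rf Om U v w = w * v := by rw [rf, hvw, neg_neg, pw_one]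
  have hcm : w * v = v * w := c.h.comm hA hw.1 hv.1
  have hself := c.h.al_self hA hv
  have hselfw := c.h.al_self hA hw
  set v₃ := (rf Om U v w)⁻¹ with hv₃
  have h3 : v₃ ∈ RR Om U A := CVW.RR_inv hr
  have hsum : ∀ a ∈ A, al Om U v₃ a = -(al Om U v a + al Om U w a) := by
    intro a ha
    rw [hv₃, c.h.al_neg hA hr ha, c.h.al_rf' hA hv hw ha, hwv]
    ring
  have b13 : al Om U v v₃ = -1 := by
    rw [hv₃, hrf, c.h.al_inv hA hv (A.mul_mem hw.1 hv.1), c.h.al_mul hA hv hw.1 hv.1, hvw, hself]; rfl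
  have b23 : al Om U w v₃ = -1 := by
    rw [hv₃, hrf, c.h.al_inv hA hw (A.mul_mem hw.1 hv.1), c.h.al_mul hA hw hw.1 hv.1, hwv, hselfw]; rfl
  refine ⟨w, v₃, hv, hw, h3, ?_, hvw, hwv, b13, ?_, b23, ?_, ?_⟩
  · rw [hv₃, hrf, ← hcm, mul_inv_cancel]
  · rw [hsum v hv.1, hself, hwv]; rfl
  · rw [hsum w hw.1, hvw, hselfw]; rfl
  · intro u hu
    by_cases h0 : al Om U v u = 0
    · by_cases h0' : al Om U w u = 0
      · right
        refine ⟨h0, h0', ?_⟩
        rw [hsum u hu.1, h0, h0', add_zero, neg_zero]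
      · left
        by_cases h2 : al Om U w u = 2
        · rcases c.h.al_two hA hw hu h2 with h4 | h4
          · exact Or.inr (Or.inr (Or.inl h4))
          · exact Or.inr (Or.inr (Or.inr (Or.inl h4)))
        · have hlw : Lk Om U w v := c.lk_symm hA hv hw hl
          have hrw : rf Om U w v = v * w := by rw [rf, hwv, neg_neg, pw_one]
          rcases c.lk_cases hA hw hv hlw hu ⟨h0', h2⟩ with h4 | h4 | h4 | h4
          · exact Or.inl h4
          · exact Or.inr (Or.inl h4)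
          · right; right; right; right; right
            rw [hv₃, hrf, inv_inv, h4, hrw, hcm]
          · right; right; right; right; left
            rw [hv₃, hrf, h4, hrw, hcm]
    · left
      by_cases h2 : al Om U v u = 2
      · rcases c.h.al_two hA hv hu h2 with h4 | h4
        · exact Or.inl h4
        · exact Or.inr (Or.inl h4)
      · rcases c.lk_cases hA hv hw hl hu ⟨h0, h2⟩ with h4 | h4 | h4 | h4
        · exact Or.inr (Or.inr (Or.inl h4))
        · exact Or.inr (Or.inr (Or.inr (Or.inl h4)))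
        · right; right; right; right; right
          rw [hv₃, inv_inv, h4]
        · right; right; right; right; left
          exact h4

end AW

namespace Tri

variable (l : Tri Om U A v₁ v₂ v₃) (h : CVW Om U) (hA : IsA Om U A)
include l h hA

theorem rot : Tri Om U A v₂ v₃ v₁ where
  m1 := l.m2
  m2 := l.m3
  m3 := l.m1
  prod := by
    have h1 := l.prod
    rw [mul_eq_one_iff_eq_inv] at h1
    have h2 : v₃ = (v₁ * v₂)⁻¹ := by rw [h1, inv_inv]
    rw [h2]; group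
  a12 := l.a23
  a21 := l.a32
  a13 := l.a21
  a31 := l.a12
  a23 := l.a31
  a32 := l.a13
  cl := fun u hu => by
    rcases l.cl u hu with h1 | h1
    · left; (solve | (intros; casesm* _ ∨ _, _ ∧ _) <;> (first | with_reducible contradiction | repeat (first | with_reducible assumption | exact Or.inl (by with_reducible assumption) | refine Or.inr ?_)) | tauto)
    · right; (solve | (intros; casesm* _ ∨ _, _ ∧ _) <;> (first | with_reducible contradiction | simp only [*, true_or, or_true, and_self, true_and, and_true, not_false_eq_true]) | tauto)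

theorem swap : Tri Om U A v₁ v₃ v₂ where
  m1 := l.m1
  m2 := l.m3
  m3 := l.m2
  prod := by
    rw [mul_assoc, h.comm hA l.m3.1 l.m2.1, ← mul_assoc]
    exact l.prod
  a12 := l.a13
  a21 := l.a31
  a13 := l.a12
  a31 := l.a21
  a23 := l.a32
  a32 := l.a23
  cl := fun u hu => by
    rcases l.cl u hu with h1 | h1
    · left; (solve | (intros; casesm* _ ∨ _, _ ∧ _) <;> (first | with_reducible contradiction | repeat (first | with_reducible assumption | exact Or.inl (by with_reducible assumption) | refine Or.inr ?_)) | tauto)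
    · right; (solve | (intros; casesm* _ ∨ _, _ ∧ _) <;> (first | with_reducible contradiction | simp only [*, true_or, or_true, and_self, true_and, and_true, not_false_eq_true]) | tauto)

theorem three_eq : v₃ = v₂⁻¹ * v₁⁻¹ := by
  have := l.prod
  rw [← mul_inv_rev]
  exact eq_inv_of_mul_eq_one_right this

theorem rf_eq : rf Om U v₁ v₂ = v₃⁻¹ := by
  rw [rf, l.a12, neg_neg, pw_one, l.three_eq h hA, mul_inv_rev, inv_inv, inv_inv, h.comm hA l.m2.1 l.m1.1]

/-- the three functions have sum zero -/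
theorem sum (ha : a ∈ A) : al Om U v₁ a + al Om U v₂ a + al Om U v₃ a = 0 := by
  have h2 := h.al_rf' hA l.m1 l.m2 ha
  rw [l.rf_eq h hA, h.al_neg hA l.m3 ha, l.a21] at h2
  linear_combination -h2

theorem lk12 : Lk Om U v₁ v₂ := (lk_iff _ _).2 (Or.inr l.a12)

/-- a root orthogonal to `v₁` is orthogonal to the component -/
theorem zero_of (hu : u ∈ RR Om U A) (h0 : al Om U v₁ u = 0) : al Om U v₂ u = 0 ∧ al Om U v₃ u = 0 := by
  rcases l.cl u hu with h1 | h1
  · exfalso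
    rcases h1 with rfl | rfl | rfl | rfl | rfl | rfl
    · rw [h.al_self hA l.m1] at h0; exact absurd h0 (by decide)
    · rw [h.al_inv hA l.m1 l.m1.1, h.al_self hA l.m1] at h0; exact absurd h0 (by decide)
    · rw [l.a12] at h0; exact absurd h0 (by decide)
    · rw [h.al_inv hA l.m1 l.m2.1, l.a12] at h0; exact absurd h0 (by decide)
    · rw [l.a13] at h0; exact absurd h0 (by decide)
    · rw [h.al_inv hA l.m1 l.m3.1, l.a13] at h0; exact absurd h0 (by decide)
  · exact h1.2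

/-- a root not orthogonal to `v₁` is in the component -/
theorem mem_of (hu : u ∈ RR Om U A) (h0 : al Om U v₁ u ≠ 0) :
    u = v₁ ∨ u = v₁⁻¹ ∨ u = v₂ ∨ u = v₂⁻¹ ∨ u = v₃ ∨ u = v₃⁻¹ := by
  rcases l.cl u hu with h1 | h1
  · exact h1
  · exact absurd h1.1 h0

/-- the symmetric form of `zero_of` -/
theorem zero_of' (hu : u ∈ RR Om U A) (h0 : al Om U v₁ u = 0) :
    al Om U u v₁ = 0 ∧ al Om U u v₂ = 0 ∧ al Om U u v₃ = 0 := by
  obtain ⟨h2, h3⟩ := l.zero_of h hA hu h0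
  exact ⟨h.al_zero_symm hA l.m1 hu h0, h.al_zero_symm hA l.m2 hu h2, h.al_zero_symm hA l.m3 hu h3⟩

/-- the squares -/
theorem sq : v₁ * v₁ * (v₂ * v₂) = v₃ * v₃ := by
  have h1 := h.sq_rf hA l.m1 l.m2 (l.lk12 h hA)
  rw [l.rf_eq h hA, CVW.sq_inv l.m3] at h1
  rw [h1, h.comm hA (A.mul_mem l.m1.1 l.m1.1) (A.mul_mem l.m2.1 l.m2.1)]

end Tri

namespace AW

variable (c : AW Om U)
include c

/-- at most one root over an involution -/
theorem sq_inj (hA : IsA Om U A) (hv : v ∈ RR Om U A) (hu : u ∈ RR Om U A) (he : v * v = u * u) : u = v ∨ u = v⁻¹ := by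
  obtain ⟨w, hw, hl⟩ := c.exists_lk hA hv
  have hwv := c.lk_symm hA hv hw hl
  have h1 := c.h.al_sq hA hw hv.1
  rw [he, c.h.al_sq hA hw hu.1, ((lk_iff' w v).1 hwv)] at h1
  have hwu : Lk Om U w u := (lk_iff' w u).2 h1
  have h5 := c.h.sq_rf hA hw hv hwv
  have h6 := CVW.sq_ne_one hw
  rcases c.lk_cases hA hw hv hwv hu hwu with h3 | h3 | h3 | h3
  · exact Or.inl h3
  · exact Or.inr h3
  · exfalso
    rw [h3, h5] at he
    exact h6 (mul_eq_left.1 he.symm)
  · exfalso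
    rw [h3, CVW.sq_inv (c.h.rf_mem hA hw hv), h5] at he
    exact h6 (mul_eq_left.1 he.symm)

/-- at most one member over an involution -/
theorem over_eq (hK : K ∈ Om) (hL : L ∈ Om) (hz : zz K = zz L) : K = L := by
  by_contra hne
  obtain ⟨v, hv, hv4⟩ := c.h.exists_v hK
  obtain ⟨w, hw, hw4⟩ := c.h.exists_v hL
  have hvw : v * w = w * v := c.h.comm_of_zz_eq hK hL hz hne (c.h.vch.le K hK hv) (c.h.vch.le L hL hw)
  -- a common Sylow subgroup
  have h2 : IsPGroup 2 (K ⊔ L : Subgroup G) := by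
    refine (c.h.two K hK).to_sup_of_normal_right' (c.h.two L hL) ?_
    intro x hx
    rw [mem_normalizer_iff]
    intro y
    constructor
    · intro hy
      have h3 : x * y = y * x := c.h.comm_of_zz_eq hK hL hz hne hx hy
      rwa [h3, mul_inv_cancel_right]
    · intro hy
      have h3 : x * (x * y * x⁻¹) = x * y * x⁻¹ * x := c.h.comm_of_zz_eq hK hL hz hne hx hy
      have h4 : x * y * x⁻¹ = y := by
        have h5 : x * (x * y * x⁻¹) * x⁻¹ = x * y * x⁻¹ := by rw [h3]; group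
        have h6 : x⁻¹ * (x * (x * y * x⁻¹) * x⁻¹) * x = x⁻¹ * (x * y * x⁻¹) * x := by rw [h5]
        have h7 : x⁻¹ * (x * (x * y * x⁻¹) * x⁻¹) * x = x * y * x⁻¹ := by group
        have h8 : x⁻¹ * (x * y * x⁻¹) * x = y := by group
        rw [h7, h8] at h6
        exact h6
      rwa [h4] at hy
  obtain ⟨S, hS⟩ := h2.exists_le_sylow
  have hA : IsA Om U (WW Om U (S : Subgroup G)) := ⟨S, rfl⟩
  have hvA : v ∈ RR Om U (WW Om U (S : Subgroup G)) := by
    rw [RR_WW]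
    exact ⟨hS (mem_sup_left (c.h.vch.le K hK hv)), hv4, K, hK, hv⟩
  have hwA : w ∈ RR Om U (WW Om U (S : Subgroup G)) := by
    rw [RR_WW]
    exact ⟨hS (mem_sup_right (c.h.vch.le L hL hw)), hw4, L, hL, hw⟩
  have he : v * v = w * w := by rw [c.h.sq_eq hK hv hv4, c.h.sq_eq hL hw hw4, hz]
  rcases c.sq_inj hA hvA hwA he with h3 | h3
  · exact hne (c.h.eq_of_mem hK hL hv (by rw [← h3]; exact hw) hv4)
  · refine hne (c.h.eq_of_mem hK hL ((U K).inv_mem hv) (by rw [← h3]; exact hw) (by rw [orderOf_inv, hv4]))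

/-- `zz N ∈ A` implies `U N ≤ A` -/
theorem root_of_zz (hA : IsA Om U A) (hN : N ∈ Om) (hz : zz N ∈ A) (hx : x ∈ U N) (hx4 : orderOf x = 4) :
    x ∈ RR Om U A := by
  have h1 : ∀ w ∈ RR Om U A, x * w = w * x := by
    rintro w ⟨hwA, hw4, L, hL, hwL⟩
    exact (comm_vw c.h hL hN hwL hw4 hx hx4 (c.h.comm hA hwA hz)).symm.eq
  have h2 : A ≤ centralizer {x} := by
    have h3 : closure (RR Om U A) ≤ centralizer {x} := by
      rw [closure_le]
      intro w hw
      rw [SetLike.mem_coe, mem_centralizer_singleton_iff]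
      exact (h1 w hw).symm
    have h4 : closure (RR Om U A) = A := CVW.WW_self hA
    rwa [h4] at h3
  have hx2 : IsPGroup 2 (zpowers x) := (c.h.two N hN).to_le (zpowers_le.2 (c.h.vch.le N hN hx))
  have hn : zpowers x ≤ normalizer (A : Set G) := by
    rw [zpowers_le, mem_normalizer_iff]
    intro y
    constructor
    · intro hy
      rw [← mem_centralizer_singleton_iff.1 (h2 hy), mul_inv_cancel_right]
      exact hy
    · intro hy
      have h5 := mem_centralizer_singleton_iff.1 (h2 hy)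
      have h6 : y = x⁻¹ * (x * y * x⁻¹) * x := by group
      rw [h6, mul_assoc, h5, inv_mul_cancel_left]
      exact hy
  have hP : IsPGroup 2 (zpowers x ⊔ A : Subgroup G) := hx2.to_sup_of_normal_right' (CVW.isA_two hA) hn
  have h7 := c.h.WW_eq hA hP le_sup_right
  have h8 : x ∈ RR Om U (zpowers x ⊔ A) := ⟨mem_sup_left (mem_zpowers x), hx4, N, hN, hx⟩
  rw [← RR_WW, h7] at h8
  exact h8

/-- two components: the product of the involutions is not a `zz` -/
theorem mul_ne_zz (hA : IsA Om U A) (hv : v ∈ RR Om U A) (hu : u ∈ RR Om U A) (h0 : al Om U v u = 0)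
    (hN : N ∈ Om) : v * v * (u * u) ≠ zz N := by
  intro he
  obtain ⟨x, hx, hx4⟩ := c.h.exists_v hN
  have hzA : zz N ∈ A := by rw [← he]; exact A.mul_mem (A.mul_mem hv.1 hv.1) (A.mul_mem hu.1 hu.1)
  have hxR := c.root_of_zz hA hN hzA hx hx4
  have hxx := c.h.sq_eq hN hx hx4
  -- `x` is in the component of `v`
  have key : ∀ {v u : G}, v ∈ RR Om U A → u ∈ RR Om U A → al Om U v u = 0 → x * x = v * v * (u * u) →
      al Om U v x ≠ 0 := by
    intro v u hv hu h0 he hvx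
    obtain ⟨v₂, v₃, l⟩ := c.exists_tri hA hv
    have h1 := (l.zero_of c.h hA hu h0).1
    have h2 : al Om U v₂ (x * x) = 2 := by
      rw [he, c.h.al_mul hA l.m2 (A.mul_mem l.m1.1 l.m1.1) (A.mul_mem hu.1 hu.1), c.h.al_sq hA l.m2 l.m1.1,
        c.h.al_sq hA l.m2 hu.1, l.a21, h1]
      decide
    rw [c.h.al_sq hA l.m2 hxR.1] at h2
    have h3 : Lk Om U v₂ x := (lk_iff' v₂ x).2 h2
    exact h3.1 (l.zero_of c.h hA hxR hvx).1
  have h1 := key hv hu h0 (by rw [hxx, he])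
  have h2 := key hu hv (c.h.al_zero_symm hA hv hu h0)
    (by rw [hxx, ← he, c.h.comm hA (A.mul_mem hv.1 hv.1) (A.mul_mem hu.1 hu.1)])
  obtain ⟨v₂, v₃, l⟩ := c.exists_tri hA hv
  obtain ⟨h3, h4, h5⟩ := l.zero_of' c.h hA hu h0
  rcases l.mem_of c.h hA hxR h1 with h6 | h6 | h6 | h6 | h6 | h6
  · rw [h6] at h2; exact h2 h3
  · rw [h6, c.h.al_inv hA hu l.m1.1, h3] at h2; exact h2 (by decide)
  · rw [h6] at h2; exact h2 h4
  · rw [h6, c.h.al_inv hA hu l.m2.1, h4] at h2; exact h2 (by decide)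
  · rw [h6] at h2; exact h2 h5
  · rw [h6, c.h.al_inv hA hu l.m3.1, h5] at h2; exact h2 (by decide)

/-- four pairwise orthogonal roots -/
theorem four (hA : IsA Om U A) (hv : v ∈ RR Om U A) (hx : x ∈ RR Om U A) (hy : y ∈ RR Om U A) (hu : u ∈ RR Om U A)
    (h1 : al Om U v x = 0) (h2 : al Om U v y = 0) (h3 : al Om U v u = 0) :
    v * v * (x * x) * (y * y) * (u * u) ≠ 1 := by
  intro he
  obtain ⟨v₂, v₃, l⟩ := c.exists_tri hA hv
  have h5 := (l.zero_of c.h hA hx h1).1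
  have h6 := (l.zero_of c.h hA hy h2).1
  have h7 := (l.zero_of c.h hA hu h3).1
  have e1 := A.mul_mem l.m1.1 l.m1.1
  have e2 := A.mul_mem hx.1 hx.1
  have e3 := A.mul_mem hy.1 hy.1
  have e4 := A.mul_mem hu.1 hu.1
  have h8 := congrArg (al Om U v₂) he
  rw [c.h.al_mul hA l.m2 (A.mul_mem (A.mul_mem e1 e2) e3) e4, c.h.al_mul hA l.m2 (A.mul_mem e1 e2) e3,
    c.h.al_mul hA l.m2 e1 e2, c.h.al_sq hA l.m2 l.m1.1, c.h.al_sq hA l.m2 hx.1, c.h.al_sq hA l.m2 hy.1,
    c.h.al_sq hA l.m2 hu.1, c.h.al_one hA l.m2, l.a21, h5, h6, h7] at h8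
  exact absurd h8 (by decide)

end AW

end Cfsg.Agent.Cit.CVA
end

-- part: Cit/Nil/CVA/Inv
section
prune_inst 0x2010000030220000001800000000006000000002004300002140000009010040a044060122600210000008d060000040131800000230000000000800400404010003002210340c00110000008000000000000000000000000000000000000000200000000
set_option linter.all false
open scoped Cfsg.Agent.FastGrp

/-!
# (6b)(CV), type `A2`: the involutions `zz N` in `N(A)`

`Mn Om U A s v` : `s` fixes the root `v` of `A` and interchanges the two other members of the component of `v`.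

* `AW.exists_A` : commuting roots lie in a common `A`;
* `AW.dich` : `s = zz N ∈ N(A)`: `s ∈ A` or `Mn s v` for some root `v`;
* `AW.stay` : no component is moved;
* `AW.minus_lk` : `Mn s v`: `V_N` and `v` are linked;
* `AW.minus_unique` : `s` centralises the other components;
* `AW.eps` : commuting `s`, `s'` with `Mn s v`, `Mn s' v`: `s' ∈ {s, s v²}`.
-/

set_option autoImplicit false
set_option linter.style.haveILetI false
set_option linter.unusedSectionVars false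

namespace Cfsg.Agent.Cit.CVA

open Subgroup Cfsg Cit Tau CV NilT

variable {G : Type*} [Group G] [Finite G] {Om : Set (Subgroup G)} {U : Subgroup G → Subgroup G}
  {A B K L N N' : Subgroup G} {a b g s s' t u v w x x' y v₁ v₂ v₃ : G}

/-- `s` fixes `v` and interchanges the two other members of the component of `v` -/
def Mn (Om : Set (Subgroup G)) (U : Subgroup G → Subgroup G) (A : Subgroup G) (s v : G) : Prop :=
  ∃ v₂ v₃, Tri Om U A v v₂ v₃ ∧ cn s v = v ∧ cn s v₂ = v₃ ∧ cn s v₃ = v₂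

/-- the roots of the world -/
def Rt (Om : Set (Subgroup G)) (U : Subgroup G → Subgroup G) (v : G) : Prop := orderOf v = 4 ∧ ∃ K ∈ Om, v ∈ U K

theorem Rt.mem (hv : Rt Om U v) (hvA : v ∈ A) : v ∈ RR Om U A := ⟨hvA, hv.1, hv.2⟩

theorem rt_of (hv : v ∈ RR Om U A) : Rt Om U v := hv.2

namespace AW

variable (c : AW Om U)
include c

/-- a 2-group lies in a Sylow subgroup -/
theorem exists_A {T : Subgroup G} (hT : IsPGroup 2 T) : ∃ A, IsA Om U A ∧ T ≤ normalizer (A : Set G) ∧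
    ∀ v ∈ T, Rt Om U v → v ∈ RR Om U A := by
  obtain ⟨S, hS⟩ := hT.exists_le_sylow
  refine ⟨WW Om U (S : Subgroup G), ⟨S, rfl⟩, (hS.trans le_normalizer).trans (c.h.sylow_norm S), fun v hv hr => ?_⟩
  rw [RR_WW]
  exact ⟨hS hv, hr⟩

omit c in
theorem two_zpowers (hv : v ^ 4 = 1) : IsPGroup 2 (zpowers v) := by
  haveI : Fact (Nat.Prime 2) := ⟨Nat.prime_two⟩
  refine IsPGroup.of_card_dvd_pow (n := 2) ?_
  rw [Nat.card_zpowers]
  exact orderOf_dvd_of_pow_eq_one (by rw [show (2 : ℕ) ^ 2 = 4 by norm_num]; exact hv)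

omit c in
theorem Rt.pow (hv : Rt Om U v) : v ^ 4 = 1 := by rw [← hv.1]; exact pow_orderOf_eq_one v

/-- the subgroup generated by a commuting element -/
theorem sup_two {T : Subgroup G} (hT : IsPGroup 2 T) (hv : v ^ 4 = 1) (hc : ∀ t ∈ T, v * t = t * v) :
    IsPGroup 2 (zpowers v ⊔ T : Subgroup G) := by
  refine (two_zpowers hv).to_sup_of_normal_right' hT ?_
  rw [zpowers_le, mem_normalizer_iff]
  intro y
  constructor
  · intro hy
    rw [hc y hy, mul_inv_cancel_right]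
    exact hy
  · intro hy
    have h5 := hc _ hy
    have h6 : y = v⁻¹ * (v * y * v⁻¹) * v := by group
    rw [h6, mul_assoc, ← h5, inv_mul_cancel_left]
    exact hy

/-- `x` is a root of `N`, `zz N` commutes with the root `v` -/
theorem comm_root (hv : Rt Om U v) (hN : N ∈ Om) (hx : x ∈ U N) (hx4 : orderOf x = 4) (hc : v * zz N = zz N * v) :
    v * x = x * v := by
  obtain ⟨hv4, K, hK, hvK⟩ := hv
  exact (comm_vw c.h hK hN hvK hv4 hx hx4 hc).eq

/-- `zz N` centralises the roots of `A` -/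
theorem root_of_cen (hA : IsA Om U A) (hN : N ∈ Om) (hz : ∀ v ∈ RR Om U A, v * zz N = zz N * v) (hx : x ∈ U N)
    (hx4 : orderOf x = 4) : x ∈ RR Om U A := by
  have h1 : ∀ w ∈ RR Om U A, x * w = w * x := fun w hw => (c.comm_root (rt_of hw) hN hx hx4 (hz w hw)).symm
  have h2 : A ≤ centralizer {x} := by
    have h3 : closure (RR Om U A) ≤ centralizer {x} := by
      rw [closure_le]
      intro w hw
      rw [SetLike.mem_coe, mem_centralizer_singleton_iff]
      exact (h1 w hw).symm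
    have h4 : closure (RR Om U A) = A := CVW.WW_self hA
    rwa [h4] at h3
  have hP : IsPGroup 2 (zpowers x ⊔ A : Subgroup G) :=
    c.sup_two (CVW.isA_two hA) (Rt.pow ⟨hx4, N, hN, hx⟩) fun t ht => (mem_centralizer_singleton_iff.1 (h2 ht)).symm
  have h7 := c.h.WW_eq hA hP le_sup_right
  have h8 : x ∈ RR Om U (zpowers x ⊔ A) := ⟨mem_sup_left (mem_zpowers x), hx4, N, hN, hx⟩
  rw [← RR_WW, h7] at h8
  exact h8

/-- two commuting roots lie in a common `A` -/
theorem exists_A2 (hv : Rt Om U v) (hw : Rt Om U w) (hc : v * w = w * v) :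
    ∃ A, IsA Om U A ∧ v ∈ RR Om U A ∧ w ∈ RR Om U A := by
  have h2 : IsPGroup 2 (zpowers v ⊔ zpowers w : Subgroup G) := by
    refine c.sup_two (two_zpowers (Rt.pow hw)) (Rt.pow hv) ?_
    intro t ht
    obtain ⟨i, rfl⟩ := mem_zpowers_iff.1 ht
    exact (Commute.zpow_right (show Commute v w from hc) i).eq
  obtain ⟨A, hA, -, h⟩ := c.exists_A h2
  exact ⟨A, hA, h v (mem_sup_left (mem_zpowers v)) hv, h w (mem_sup_right (mem_zpowers w)) hw⟩

/-- three commuting roots lie in a common `A` -/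
theorem exists_A3 (hv : Rt Om U v) (hw : Rt Om U w) (hx : Rt Om U x) (h1 : v * w = w * v) (h2 : v * x = x * v)
    (h3 : w * x = x * w) : ∃ A, IsA Om U A ∧ v ∈ RR Om U A ∧ w ∈ RR Om U A ∧ x ∈ RR Om U A := by
  have e1 : IsPGroup 2 (zpowers w ⊔ zpowers x : Subgroup G) := by
    refine c.sup_two (two_zpowers (Rt.pow hx)) (Rt.pow hw) ?_
    intro t ht
    obtain ⟨i, rfl⟩ := mem_zpowers_iff.1 ht
    exact (Commute.zpow_right (show Commute w x from h3) i).eq
  have e2 : IsPGroup 2 (zpowers v ⊔ (zpowers w ⊔ zpowers x) : Subgroup G) := by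
    refine c.sup_two e1 (Rt.pow hv) ?_
    have e3 : zpowers w ⊔ zpowers x ≤ centralizer {v} := by
      rw [sup_le_iff, zpowers_le, zpowers_le, mem_centralizer_singleton_iff, mem_centralizer_singleton_iff]
      exact ⟨h1.symm, h2.symm⟩
    intro t ht
    exact (mem_centralizer_singleton_iff.1 (e3 ht)).symm
  obtain ⟨A, hA, -, h⟩ := c.exists_A e2
  exact ⟨A, hA, h v (mem_sup_left (mem_zpowers v)) hv, h w (mem_sup_right (mem_sup_left (mem_zpowers w))) hw,
    h x (mem_sup_right (mem_sup_right (mem_zpowers x))) hx⟩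

/-- four commuting roots lie in a common `A` -/
theorem exists_A4 (hv : Rt Om U v) (hw : Rt Om U w) (hx : Rt Om U x) (hy : Rt Om U y) (h1 : v * w = w * v)
    (h2 : v * x = x * v) (h3 : v * y = y * v) (h4 : w * x = x * w) (h5 : w * y = y * w) (h6 : x * y = y * x) :
    ∃ A, IsA Om U A ∧ v ∈ RR Om U A ∧ w ∈ RR Om U A ∧ x ∈ RR Om U A ∧ y ∈ RR Om U A := by
  have e0 : IsPGroup 2 (zpowers x ⊔ zpowers y : Subgroup G) := by
    refine c.sup_two (two_zpowers (Rt.pow hy)) (Rt.pow hx) ?_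
    intro t ht
    obtain ⟨i, rfl⟩ := mem_zpowers_iff.1 ht
    exact (Commute.zpow_right (show Commute x y from h6) i).eq
  have e1 : IsPGroup 2 (zpowers w ⊔ (zpowers x ⊔ zpowers y) : Subgroup G) := by
    refine c.sup_two e0 (Rt.pow hw) ?_
    have e3 : zpowers x ⊔ zpowers y ≤ centralizer {w} := by
      rw [sup_le_iff, zpowers_le, zpowers_le, mem_centralizer_singleton_iff, mem_centralizer_singleton_iff]
      exact ⟨h4.symm, h5.symm⟩
    intro t ht
    exact (mem_centralizer_singleton_iff.1 (e3 ht)).symm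
  have e2 : IsPGroup 2 (zpowers v ⊔ (zpowers w ⊔ (zpowers x ⊔ zpowers y)) : Subgroup G) := by
    refine c.sup_two e1 (Rt.pow hv) ?_
    have e3 : zpowers w ⊔ (zpowers x ⊔ zpowers y) ≤ centralizer {v} := by
      rw [sup_le_iff, sup_le_iff, zpowers_le, zpowers_le, zpowers_le, mem_centralizer_singleton_iff,
        mem_centralizer_singleton_iff, mem_centralizer_singleton_iff]
      exact ⟨h1.symm, h2.symm, h3.symm⟩
    intro t ht
    exact (mem_centralizer_singleton_iff.1 (e3 ht)).symm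
  obtain ⟨A, hA, -, h⟩ := c.exists_A e2
  exact ⟨A, hA, h v (mem_sup_left (mem_zpowers v)) hv, h w (mem_sup_right (mem_sup_left (mem_zpowers w))) hw,
    h x (mem_sup_right (mem_sup_right (mem_sup_left (mem_zpowers x)))) hx,
    h y (mem_sup_right (mem_sup_right (mem_sup_right (mem_zpowers y)))) hy⟩

/-- values of `al` under `cn` -/
theorem al_cn (hA : IsA Om U A) (hg : g ∈ normalizer (A : Set G)) (hv : v ∈ RR Om U A) (ha : a ∈ A) :
    al Om U (cn g v) (cn g a) = al Om U v a := c.h.al_conj hA hg hv ha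

theorem RR_cn (hg : g ∈ normalizer (A : Set G)) (hv : v ∈ RR Om U A) : cn g v ∈ RR Om U A := c.h.RR_conj hg hv

theorem ne_of_al (h1 : al Om U v a ≠ al Om U v b) : a ≠ b := fun hh => h1 (by rw [hh])

/-- `s = zz N` fixing or inverting `v₁` -/
theorem fix_one (hA : IsA Om U A) (hN : N ∈ Om) (hs : zz N ∈ normalizer (A : Set G)) (l : Tri Om U A v₁ v₂ v₃)
    (h1 : cn (zz N) v₁ = v₁ ∨ cn (zz N) v₁ = v₁⁻¹) :
    (cn (zz N) v₁ = v₁ ∧ cn (zz N) v₂ = v₂ ∧ cn (zz N) v₃ = v₃) ∨ Mn Om U A (zz N) v₁ := by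
  have hzz := c.h.hyp.zz_mul hN
  have hcc : ∀ a, cn (zz N) (cn (zz N) a) = a := fun a => by rw [cn_cn, hzz, one_cn]
  have h2R := c.RR_cn hs l.m2
  have hval := c.al_cn hA hs l.m1 l.m2.1
  rw [l.a12] at hval
  have hne : al Om U v₁ (cn (zz N) v₂) ≠ 0 := by
    rcases h1 with h1 | h1
    · rw [h1] at hval; rw [hval]; decide
    · rw [h1, c.h.al_neg hA l.m1 h2R.1] at hval
      intro h0
      rw [h0] at hval
      exact absurd hval (by decide)
  have hcase := l.mem_of c.h hA h2R hne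
  -- not `± v₁`
  have hno1 : cn (zz N) v₂ ≠ v₁ := by
    intro hh
    have h3 := hcc v₂
    rw [hh] at h3
    rcases h1 with h1 | h1
    · rw [h1] at h3
      exact c.ne_of_al (v := v₁) (by rw [l.a12, c.h.al_self hA l.m1]; decide) h3
    · rw [h1] at h3
      exact c.ne_of_al (v := v₁) (by rw [l.a12, c.h.al_inv hA l.m1 l.m1.1, c.h.al_self hA l.m1]; decide) h3
  have hno2 : cn (zz N) v₂ ≠ v₁⁻¹ := by
    intro hh
    have h3 := hcc v₂
    rw [hh, cn_inv] at h3
    rcases h1 with h1 | h1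
    · rw [h1] at h3
      exact c.ne_of_al (v := v₁) (by rw [l.a12, c.h.al_inv hA l.m1 l.m1.1, c.h.al_self hA l.m1]; decide) h3
    · rw [h1, inv_inv] at h3
      exact c.ne_of_al (v := v₁) (by rw [l.a12, c.h.al_self hA l.m1]; decide) h3
  rcases h1 with h1 | h1
  swap
  · -- inverted
    exfalso
    have hl := l.lk12 c.h hA
    obtain ⟨i1, i2, i3, i4⟩ := c.h.inverted hA hN hs l.m1 l.m2 hl.1 hl.2 h1
    rw [l.rf_eq c.h hA] at i3 i4
    rw [inv_inv] at i4
    rcases hcase with h3 | h3 | h3 | h3 | h3 | h3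
    · exact hno1 h3
    · exact hno2 h3
    · exact i1 h3
    · exact i2 h3
    · exact i4 h3
    · exact i3 h3
  rw [h1] at hval
  rcases hcase with h3 | h3 | h3 | h3 | h3 | h3
  · exact absurd h3 hno1
  · exact absurd h3 hno2
  · left
    refine ⟨h1, h3, ?_⟩
    rw [l.three_eq c.h hA, cn_mul, cn_inv, cn_inv, h3, h1]
  · exfalso
    rw [h3, c.h.al_inv hA l.m1 l.m2.1, l.a12] at hval
    exact absurd hval (by decide)
  · right
    refine ⟨v₂, v₃, l, h1, h3, ?_⟩
    rw [← h3, hcc]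
  · exfalso
    rw [h3, c.h.al_inv hA l.m1 l.m3.1, l.a13] at hval
    exact absurd hval (by decide)

/-- `s = zz N` staying in a component -/
theorem fix_cases (hA : IsA Om U A) (hN : N ∈ Om) (hs : zz N ∈ normalizer (A : Set G)) (l : Tri Om U A v₁ v₂ v₃)
    (h0 : al Om U v₁ (cn (zz N) v₁) ≠ 0) :
    (cn (zz N) v₁ = v₁ ∧ cn (zz N) v₂ = v₂ ∧ cn (zz N) v₃ = v₃) ∨
      Mn Om U A (zz N) v₁ ∨ Mn Om U A (zz N) v₂ ∨ Mn Om U A (zz N) v₃ := by
  have hzz := c.h.hyp.zz_mul hN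
  have hcc : ∀ a, cn (zz N) (cn (zz N) a) = a := fun a => by rw [cn_cn, hzz, one_cn]
  -- `v₁ ↦ ± v₂`
  have key : ∀ {v₁ v₂ v₃ : G}, Tri Om U A v₁ v₂ v₃ → (cn (zz N) v₁ = v₂ ∨ cn (zz N) v₁ = v₂⁻¹) →
      Mn Om U A (zz N) v₃ := by
    intro v₁ v₂ v₃ l h1
    have h3 : cn (zz N) v₃ = v₃ ∨ cn (zz N) v₃ = v₃⁻¹ := by
      rcases h1 with h1 | h1
      · left
        have h2 : cn (zz N) v₂ = v₁ := by rw [← h1, hcc]
        rw [l.three_eq c.h hA, cn_mul, cn_inv, cn_inv, h1, h2]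
        exact c.h.comm hA (A.inv_mem l.m1.1) (A.inv_mem l.m2.1)
      · right
        have h2 : cn (zz N) v₂ = v₁⁻¹ := by
          have h4 := hcc v₁
          rw [h1, cn_inv] at h4
          rw [← h4, inv_inv]
        rw [l.three_eq c.h hA, cn_mul, cn_inv, cn_inv, h1, h2, inv_inv, inv_inv, mul_inv_rev, inv_inv, inv_inv]
    rcases c.fix_one hA hN hs (l.rot c.h hA |>.rot c.h hA) h3 with h4 | h4
    · exfalso
      rcases h1 with h1 | h1
      · rw [h4.2.1] at h1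
        exact c.ne_of_al (v := v₁) (by rw [l.a12, c.h.al_self hA l.m1]; decide) h1
      · rw [h4.2.1] at h1
        exact c.ne_of_al (v := v₁) (by rw [c.h.al_inv hA l.m1 l.m2.1, l.a12, c.h.al_self hA l.m1]; decide) h1
    · exact h4
  rcases l.mem_of c.h hA (c.RR_cn hs l.m1) h0 with h1 | h1 | h1 | h1 | h1 | h1
  · rcases c.fix_one hA hN hs l (Or.inl h1) with h2 | h2
    · exact Or.inl h2
    · exact Or.inr (Or.inl h2)
  · rcases c.fix_one hA hN hs l (Or.inr h1) with h2 | h2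
    · exact Or.inl h2
    · exact Or.inr (Or.inl h2)
  · exact Or.inr (Or.inr (Or.inr (key l (Or.inl h1))))
  · exact Or.inr (Or.inr (Or.inr (key l (Or.inr h1))))
  · exact Or.inr (Or.inr (Or.inl (key (l.swap c.h hA) (Or.inl h1))))
  · exact Or.inr (Or.inr (Or.inl (key (l.swap c.h hA) (Or.inr h1))))

/-- orthogonality to a component -/
theorem orth_trans (hA : IsA Om U A) (hv : v ∈ RR Om U A) (hu : u ∈ RR Om U A) (hx : x ∈ RR Om U A)
    (h0 : al Om U v u = 0) (h1 : al Om U v x ≠ 0) : al Om U u x = 0 := by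
  obtain ⟨v₂, v₃, l⟩ := c.exists_tri hA hv
  obtain ⟨h3, h4, h5⟩ := l.zero_of' c.h hA hu h0
  rcases l.mem_of c.h hA hx h1 with h6 | h6 | h6 | h6 | h6 | h6
  · rw [h6, h3]
  · rw [h6, c.h.al_inv hA hu l.m1.1, h3, neg_zero]
  · rw [h6, h4]
  · rw [h6, c.h.al_inv hA hu l.m2.1, h4, neg_zero]
  · rw [h6, h5]
  · rw [h6, c.h.al_inv hA hu l.m3.1, h5, neg_zero]

theorem rt_root (hN : N ∈ Om) (hx : x ∈ U N) (hx4 : orderOf x = 4) : Rt Om U x := ⟨hx4, N, hN, hx⟩

/-- `Mn s v`: there is a member over `s v²` -/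
theorem minus_zz (hA : IsA Om U A) (hN : N ∈ Om) (hm : Mn Om U A (zz N) v) : ∃ N' ∈ Om, zz N' = zz N * (v * v) := by
  obtain ⟨v₂, v₃, l, h1, h2, h3⟩ := hm
  refine ⟨cj (v₂ * v₂) N, c.h.hyp.conj N hN _, ?_⟩
  rw [zz_cn c.h hN]
  have e1 : cn (zz N) (v₂ * v₂) = v₃ * v₃ := by rw [cn_mul, h2]
  have hsi := c.h.hyp.zz_inv hN
  have e2 : cn (v₂ * v₂) (zz N) = zz N * cn (zz N) (v₂ * v₂) * (v₂ * v₂)⁻¹ := by
    have : zz N * (zz N * (v₂ * v₂) * (zz N)⁻¹) * (v₂ * v₂)⁻¹ = (zz N * zz N) * (v₂ * v₂) * (zz N)⁻¹ * (v₂ * v₂)⁻¹ := by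
      group
    rw [cn, cn, this, c.h.hyp.zz_mul hN, one_mul, hsi]
  have e3 := l.sq c.h hA
  rw [e2, e1, ← e3]
  group

/-- `Mn s v`: `V_N` and `v` are linked -/
theorem minus_lk (hA : IsA Om U A) (hN : N ∈ Om) (hm : Mn Om U A (zz N) v) (hx : x ∈ U N) (hx4 : orderOf x = 4) :
    v * x = x * v ∧ Lk Om U v x := by
  have hm' := hm
  obtain ⟨v₂, v₃, l, h1, h2, h3⟩ := hm
  have hvx : v * x = x * v := c.comm_root (rt_of l.m1) hN hx hx4 (cn_eq_iff.1 h1).symm.eq
  obtain ⟨A', hA', hv', hx'⟩ := c.exists_A2 (rt_of l.m1) (c.rt_root hN hx hx4) hvx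
  refine ⟨hvx, fun h0 => ?_, fun h4 => ?_⟩
  · obtain ⟨N', hN', hzz⟩ := c.minus_zz hA hN hm'
    refine c.mul_ne_zz hA' hx' hv' (c.h.al_zero_symm hA' hv' hx' h0) hN' ?_
    rw [hzz, c.h.sq_eq hN hx hx4]
  · -- `s = v²`
    have h5 : x * x = v * v := by
      rcases c.h.al_two hA' hv' hx' h4 with h5 | h5
      · rw [h5]
      · rw [h5, CVW.sq_inv hv']
    rw [c.h.sq_eq hN hx hx4] at h5
    have h6 : cn (zz N) v₂ = v₂ := by
      apply cn_of
      rw [h5]
      exact (c.h.comm hA (A.mul_mem l.m1.1 l.m1.1) l.m2.1)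
    rw [h6] at h2
    exact c.ne_of_al (v := v₂) (by rw [c.h.al_self hA l.m2, l.a23]; decide) h2

/-- no component is moved -/
theorem stay (hA : IsA Om U A) (hN : N ∈ Om) (hs : zz N ∈ normalizer (A : Set G)) (hv : v ∈ RR Om U A) :
    al Om U v (cn (zz N) v) ≠ 0 := by
  intro h0
  obtain ⟨v₂, v₃, l⟩ := c.exists_tri hA hv
  obtain ⟨x, hx, hx4⟩ := c.h.exists_v hN
  have hzz := c.h.hyp.zz_mul hN
  have hsi := c.h.hyp.zz_inv hN
  have hcc : ∀ a, cn (zz N) (cn (zz N) a) = a := fun a => by rw [cn_cn, hzz, one_cn]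
  have hxx := c.h.sq_eq hN hx hx4
  have hvR' := c.RR_cn hs hv
  have hvR2 := c.RR_cn hs l.m2
  have hvR3 := c.RR_cn hs l.m3
  -- all the cross values vanish
  obtain ⟨z1, z2, z3⟩ := l.zero_of' c.h hA hvR' h0
  have hcross : ∀ {w w' : G}, w ∈ RR Om U A → w' ∈ RR Om U A → al Om U v w ≠ 0 → al Om U v w' ≠ 0 →
      al Om U w (cn (zz N) w') = 0 := by
    intro w w' hw hw' h1 h2
    have h3 : al Om U (cn (zz N) v) w = 0 := c.orth_trans hA hv hvR' hw h0 h1
    have h4 : al Om U (cn (zz N) v) (cn (zz N) w') ≠ 0 := by rwa [c.al_cn hA hs hv hw'.1]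
    exact c.orth_trans hA hvR' hw (c.RR_cn hs hw') h3 h4
  -- `e = w² (w²)^s`
  have hw : ∀ w ∈ RR Om U A, al Om U v w ≠ 0 → Commute (w * w * (cn (zz N) w * cn (zz N) w)) x ∧
      cn (w * w) (zz N) = zz N * (w * w * (cn (zz N) w * cn (zz N) w)) ∧
      Commute (zz N) (w * w * (cn (zz N) w * cn (zz N) w)) ∧ w * w * (w * w) = 1 := by
    intro w hw hvw
    have hwR' := c.RR_cn hs hw
    have hcw := c.h.comm hA hw.1 hwR'.1
    -- `w w^s` commutes with `s`
    have h1 : cn (zz N) (w * cn (zz N) w) = w * cn (zz N) w := by rw [cn_mul, hcc, hcw]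
    have h2 : cj (w * cn (zz N) w) N = N := by
      apply c.over_eq (c.h.hyp.conj N hN _) hN
      rw [zz_cn c.h hN]
      exact cn_of (cn_eq_iff.1 h1).symm
    have h3 : cn (w * cn (zz N) w) x = x ∨ cn (w * cn (zz N) w) x = x⁻¹ :=
      c.h.conj_or hN (mem_normalizer_iff_cj.2 h2) hx hx4
    have h4 : w * w * (cn (zz N) w * cn (zz N) w) = (w * cn (zz N) w) * (w * cn (zz N) w) := by
      calc w * w * (cn (zz N) w * cn (zz N) w) = w * (w * cn (zz N) w) * cn (zz N) w := by group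
        _ = w * (cn (zz N) w * w) * cn (zz N) w := by rw [hcw]
        _ = _ := by group
    have h5 : w * w * (w * w) = 1 := by
      have h5 : w ^ 4 = 1 := by rw [← hw.2.1]; exact pow_orderOf_eq_one w
      rw [← h5]
      simp [pow_succ, mul_assoc]
    refine ⟨?_, ?_, ?_, h5⟩
    · rw [h4, ← cn_eq_iff, ← cn_cn]
      rcases h3 with h3 | h3
      · rw [h3, h3]
      · rw [h3, cn_inv, h3, inv_inv]
    · have hww : (w * w)⁻¹ = w * w := by rw [inv_eq_iff_mul_eq_one, h5]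
      have e2 : cn (w * w) (zz N) = zz N * cn (zz N) (w * w) * (w * w)⁻¹ := by
        have : zz N * (zz N * (w * w) * (zz N)⁻¹) * (w * w)⁻¹ = (zz N * zz N) * (w * w) * (zz N)⁻¹ * (w * w)⁻¹ := by
          group
        rw [cn, cn, this, hzz, one_mul, hsi]
      rw [e2, cn_mul, hww, mul_assoc]
      congr 1
      exact c.h.comm hA (A.mul_mem hwR'.1 hwR'.1) (A.mul_mem hw.1 hw.1)
    · rw [h4]
      have h6 := (cn_eq_iff.1 h1)
      exact h6.mul_right h6
  have hself : al Om U v v ≠ 0 := by rw [c.h.al_self hA hv]; decide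
  have h12 : al Om U v v₂ ≠ 0 := by rw [l.a12]; decide
  have h13 : al Om U v v₃ ≠ 0 := by rw [l.a13]; decide
  have hsx : Commute x (zz N) := by rw [← hxx]; exact (Commute.refl x).mul_right (Commute.refl x)
  have hxR := c.rt_root hN hx hx4
  -- the root `x_w`
  have hroot : ∀ w, Rt Om U (cn (w * w) x) := fun w =>
    ⟨orderOf_conj_four hx4 _, cj (w * w) N, c.h.hyp.conj N hN _, c.h.vch.conj_mem hN hx _⟩
  have hzw : ∀ w, w ∈ RR Om U A → al Om U v w ≠ 0 →
      zz (cj (w * w) N) = zz N * (w * w * (cn (zz N) w * cn (zz N) w)) := by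
    intro w hwR hvw
    rw [zz_cn c.h hN, (hw w hwR hvw).2.1]
  have hx1 : ∀ w, w ∈ RR Om U A → al Om U v w ≠ 0 → x * cn (w * w) x = cn (w * w) x * x := by
    intro w hwR hvw
    refine c.comm_root hxR (c.h.hyp.conj N hN _) (c.h.vch.conj_mem hN hx _) (orderOf_conj_four hx4 _) ?_
    rw [hzw w hwR hvw]
    exact (hsx.mul_right (hw w hwR hvw).1.symm).eq
  have hx2 : ∀ w w', w ∈ RR Om U A → al Om U v w ≠ 0 → w' ∈ RR Om U A → al Om U v w' ≠ 0 →
      cn (w * w) x * cn (w' * w') x = cn (w' * w') x * cn (w * w) x := by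
    intro w w' hwR hvw hwR' hvw'
    refine c.comm_root (hroot w) (c.h.hyp.conj N hN _) (c.h.vch.conj_mem hN hx _) (orderOf_conj_four hx4 _) ?_
    rw [hzw w' hwR' hvw']
    obtain ⟨a1, a2, a3, a4⟩ := hw w hwR hvw
    obtain ⟨b1, b2, b3, b4⟩ := hw w' hwR' hvw'
    set E := w * w * (cn (zz N) w * cn (zz N) w) with hE
    set E' := w' * w' * (cn (zz N) w' * cn (zz N) w') with hE'
    have hE'A : E' ∈ A := A.mul_mem (A.mul_mem hwR'.1 hwR'.1) (A.mul_mem (c.RR_cn hs hwR').1 (c.RR_cn hs hwR').1)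
    have h6 : cn (w * w) (zz N * E') = zz N * E * E' := by
      rw [cn_mul, a2, cn_of (g := w * w) (x := E') (c.h.comm hA (A.mul_mem hwR.1 hwR.1) hE'A)]
    have h7 : Commute x (cn (w * w) (zz N * E')) := by
      rw [h6]
      exact (hsx.mul_right a1.symm).mul_right b1.symm
    have h8 := cn_comm (g := w * w) h7
    rw [cn_cn (x := zz N * E'), a4, one_cn] at h8
    exact h8.eq
  obtain ⟨A', hA', hxA, hx1A, hx2A, hx3A⟩ := c.exists_A4 hxR (hroot v) (hroot v₂) (hroot v₃) (hx1 v hv hself)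
    (hx1 v₂ l.m2 h12) (hx1 v₃ l.m3 h13) (hx2 v v₂ hv hself l.m2 h12) (hx2 v v₃ hv hself l.m3 h13)
    (hx2 v₂ v₃ l.m2 h12 l.m3 h13)
  have hsq : ∀ w, w ∈ RR Om U A → al Om U v w ≠ 0 → cn (w * w) x * cn (w * w) x =
      zz N * (w * w * (cn (zz N) w * cn (zz N) w)) := by
    intro w hwR hvw
    rw [← cn_mul, hxx, (hw w hwR hvw).2.1]
  have horth : ∀ w, w ∈ RR Om U A → al Om U v w ≠ 0 → cn (w * w) x ∈ RR Om U A' → al Om U x (cn (w * w) x) = 0 := by
    intro w hwR hvw hmem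
    by_contra hne
    have hwR' := c.RR_cn hs hwR
    have h0w := hcross hwR hwR hvw hvw
    obtain ⟨a1, a2, a3, a4⟩ := hw w hwR hvw
    have hE1 : w * w * (cn (zz N) w * cn (zz N) w) ≠ 1 := by
      intro h6
      have h7 : w * w = cn (zz N) w * cn (zz N) w := by
        have h8 : (w * w)⁻¹ = w * w := by rw [inv_eq_iff_mul_eq_one, a4]
        rw [mul_eq_one_iff_inv_eq, h8] at h6
        exact h6
      rcases c.sq_inj hA hwR hwR' h7 with h8 | h8
      · rw [h8, c.h.al_self hA hwR] at h0w; exact absurd h0w (by decide)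
      · rw [h8, c.h.al_inv hA hwR hwR.1, c.h.al_self hA hwR] at h0w; exact absurd h0w (by decide)
    have hs2 := hsq w hwR hvw
    by_cases h2 : al Om U x (cn (w * w) x) = 2
    · have h7 : cn (w * w) x * cn (w * w) x = x * x := by
        rcases c.h.al_two hA' hxA hmem h2 with h8 | h8
        · rw [h8]
        · rw [h8, CVW.sq_inv hxA]
      rw [hs2, hxx] at h7
      exact hE1 (mul_eq_left.1 h7)
    · have hr := c.h.rf_mem hA' hxA hmem
      have h7 := c.h.sq_rf hA' hxA hmem ⟨hne, h2⟩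
      rw [hs2, hxx, mul_assoc, ← a3.eq, ← mul_assoc, hzz, one_mul] at h7
      obtain ⟨-, hr4, R, hR, hrR⟩ := hr
      rw [c.h.sq_eq hR hrR hr4] at h7
      exact c.mul_ne_zz hA hwR hwR' h0w hR h7.symm
  refine c.four hA' hxA hx1A hx2A hx3A (horth v hv hself hx1A) (horth v₂ l.m2 h12 hx2A) (horth v₃ l.m3 h13 hx3A) ?_
  rw [hxx, hsq v hv hself, hsq v₂ l.m2 h12, hsq v₃ l.m3 h13]
  have hE2 := (hw v₂ l.m2 h12).2.2.1
  have e1 := l.sq c.h hA
  have e3 := (hw v₃ l.m3 h13).2.2.2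
  have hAA := fun {a b : G} (ha : a ∈ A) (hb : b ∈ A) => c.h.comm hA ha hb
  have m1 := A.mul_mem hv.1 hv.1
  have m2 := A.mul_mem l.m2.1 l.m2.1
  have m3 := A.mul_mem l.m3.1 l.m3.1
  have m1' := A.mul_mem hvR'.1 hvR'.1
  have m2' := A.mul_mem hvR2.1 hvR2.1
  have m3' := A.mul_mem hvR3.1 hvR3.1
  -- the product is `e₁ e₂ e₃ = 1`
  have p1 : zz N * (zz N * (v * v * (cn (zz N) v * cn (zz N) v))) * (zz N * (v₂ * v₂ * (cn (zz N) v₂ * cn (zz N) v₂))) *
      (zz N * (v₃ * v₃ * (cn (zz N) v₃ * cn (zz N) v₃))) =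
      (v * v * (cn (zz N) v * cn (zz N) v)) * (v₂ * v₂ * (cn (zz N) v₂ * cn (zz N) v₂)) *
      (v₃ * v₃ * (cn (zz N) v₃ * cn (zz N) v₃)) := by
    set E₁ := v * v * (cn (zz N) v * cn (zz N) v)
    set E₂ := v₂ * v₂ * (cn (zz N) v₂ * cn (zz N) v₂)
    set E₃ := v₃ * v₃ * (cn (zz N) v₃ * cn (zz N) v₃)
    calc zz N * (zz N * E₁) * (zz N * E₂) * (zz N * E₃) = (zz N * zz N) * E₁ * (zz N * E₂) * (zz N * E₃) := by group
      _ = E₁ * (E₂ * zz N) * (zz N * E₃) := by rw [hzz, one_mul, hE2.eq]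
      _ = E₁ * E₂ * (zz N * zz N) * E₃ := by group
      _ = E₁ * E₂ * E₃ := by rw [hzz, mul_one]
  rw [p1]
  have q : ∀ a₁ b₁ a₂ b₂ a₃ b₃ : G, a₁ ∈ A → b₁ ∈ A → a₂ ∈ A → b₂ ∈ A → a₃ ∈ A → b₃ ∈ A →
      a₁ * b₁ * (a₂ * b₂) * (a₃ * b₃) = (a₁ * a₂ * a₃) * (b₁ * b₂ * b₃) := by
    intro a₁ b₁ a₂ b₂ a₃ b₃ ha₁ hb₁ ha₂ hb₂ ha₃ hb₃
    have k1 : Commute b₁ a₂ := hAA hb₁ ha₂
    have k2 : Commute (b₁ * b₂) a₃ := hAA (A.mul_mem hb₁ hb₂) ha₃
    rw [k1.mul_mul_mul_comm, k2.mul_mul_mul_comm]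
  rw [q _ _ _ _ _ _ m1 m1' m2 m2' m3 m3', e1, e3, one_mul, ← cn_mul, ← cn_mul, ← cn_mul, ← cn_mul, ← cn_mul, e1, e3,
    cn_one]

/-- `s` centralises the other components -/
theorem minus_unique (hA : IsA Om U A) (hN : N ∈ Om) (hs : zz N ∈ normalizer (A : Set G)) (hm : Mn Om U A (zz N) v)
    (hu : u ∈ RR Om U A) (h0 : al Om U v u = 0) : cn (zz N) u = u := by
  obtain ⟨u₂, u₃, l⟩ := c.exists_tri hA hu
  obtain ⟨x, hx, hx4⟩ := c.h.exists_v hN
  have hv : v ∈ RR Om U A := by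
    obtain ⟨v₂, v₃, l, -⟩ := hm
    exact l.m1
  obtain ⟨z1, z2, z3⟩ := l.zero_of' c.h hA hv (c.h.al_zero_symm hA hv hu h0)
  obtain ⟨hvx, hlk⟩ := c.minus_lk hA hN hm hx hx4
  -- no `Mn` in the component of `u`
  have key : ∀ {w : G}, al Om U v w = 0 → Mn Om U A (zz N) w → False := by
    intro w hvw hm'
    have hw : w ∈ RR Om U A := by
      obtain ⟨w₂, w₃, l, -⟩ := hm'
      exact l.m1
    obtain ⟨hwx, hlk'⟩ := c.minus_lk hA hN hm' hx hx4
    obtain ⟨A', hA', hv', hw', hx'⟩ := c.exists_A3 (rt_of hv) (rt_of hw) (c.rt_root hN hx hx4)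
      (c.h.comm hA hv.1 hw.1) hvx hwx
    exact hlk'.1 (c.orth_trans hA' hv' hw' hx' hvw hlk.1)
  rcases c.fix_cases hA hN hs l (c.stay hA hN hs hu) with h1 | h1 | h1 | h1
  · exact h1.1
  · exact (key z1 h1).elim
  · exact (key z2 h1).elim
  · exact (key z3 h1).elim

/-- `s ∈ A` or `Mn s v` -/
theorem dich (hA : IsA Om U A) (hN : N ∈ Om) (hs : zz N ∈ normalizer (A : Set G)) :
    (∀ x ∈ U N, orderOf x = 4 → x ∈ RR Om U A) ∨ ∃ v, Mn Om U A (zz N) v := by
  by_cases h1 : ∀ v ∈ RR Om U A, v * zz N = zz N * v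
  · left
    intro x hx hx4
    exact c.root_of_cen hA hN h1 hx hx4
  · right
    push Not at h1
    obtain ⟨v, hv, hne⟩ := h1
    obtain ⟨v₂, v₃, l⟩ := c.exists_tri hA hv
    rcases c.fix_cases hA hN hs l (c.stay hA hN hs hv) with h2 | h2 | h2 | h2
    · exact absurd (cn_eq_iff.1 h2.1).symm.eq hne
    · exact ⟨_, h2⟩
    · exact ⟨_, h2⟩
    · exact ⟨_, h2⟩

end AW

end Cfsg.Agent.Cit.CVA
end

-- part: Cit/Nil/CVA/Part
section
prune_inst 0x201000001022000000000000000000000000000000030000214000000101000080400600322000000000000020080060131800000210000000000000000404010000000010000000010000408000000000000000000000000000000000000000200000000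
set_option linter.all false
open scoped Cfsg.Agent.FastGrp

/-!
# (6b)(CV), type `A2`: orthogonality and linkage on `ZZ`

* `AW.no_inv` : `zz N ∈ N(A)` inverts no root;
* `AW.comm_V` : `zz K`, `zz L` commute: `V_K`, `V_L` commute;
* `Lnk K L` : `K`, `L` linked; `AW.three` : `zz K`, `zz L` commute: `K = L`, `Orth K L` or `Lnk K L`;
* `AW.eps`, `AW.comm_minus` ;
* `Inn Om U A K v` : `K` belongs to the component of the root `v` of `A`; `AW.exists_inn`, `AW.orth_of_inn`, `AW.chain_of_inn`;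
* `AW.orth_or`, `AW.orth_equiv` : in a 2-group "not orthogonal" is an equivalence relation.
-/

set_option autoImplicit false
set_option linter.style.haveILetI false
set_option linter.unusedSectionVars false

namespace Cfsg.Agent.Cit.CVA

open Subgroup Cfsg Cit Tau CV NilT
open Cfsg.Agent.Cit.CV1 (Orth)

variable {G : Type*} [Group G] [Finite G] {Om : Set (Subgroup G)} {U : Subgroup G → Subgroup G}
  {A B K L M N N' T : Subgroup G} {a b g s s' t u v w x x' y v₁ v₂ v₃ : G}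

/-- linked members -/
def Lnk (Om : Set (Subgroup G)) (U : Subgroup G → Subgroup G) (K L : Subgroup G) : Prop :=
  K ∈ Om ∧ L ∈ Om ∧ ∃ A, IsA Om U A ∧ ∃ v ∈ U K, ∃ w ∈ U L, v ∈ RR Om U A ∧ w ∈ RR Om U A ∧ Lk Om U v w

namespace AW

variable (c : AW Om U)
include c

omit [Finite G] c in
theorem ne_inv_of_four (hv4 : orderOf v = 4) : v ≠ v⁻¹ := by
  intro hh
  have h3 : v ^ 2 = 1 := by rw [pow_two]; nth_rw 1 [hh]; exact inv_mul_cancel v
  have h4 := orderOf_dvd_of_pow_eq_one h3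
  rw [hv4] at h4
  exact absurd (Nat.le_of_dvd (by norm_num) h4) (by norm_num)

/-- `zz N ∈ N(A)` inverts no root -/
theorem no_inv (hA : IsA Om U A) (hN : N ∈ Om) (hs : zz N ∈ normalizer (A : Set G)) (hv : v ∈ RR Om U A) :
    cn (zz N) v ≠ v⁻¹ := by
  intro h1
  obtain ⟨v₂, v₃, l⟩ := c.exists_tri hA hv
  have h2 : cn (zz N) v = v := by
    rcases c.fix_one hA hN hs l (Or.inr h1) with h3 | h3
    · exact h3.1
    · obtain ⟨_, _, _, h4, _⟩ := h3
      exact h4
  exact ne_inv_of_four hv.2.1 (by rw [← h1, h2])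

/-- `zz L` commutes with `zz K`: it centralises `V_K` -/
theorem comm_zz_V (hK : K ∈ Om) (hL : L ∈ Om) (hc : Commute (zz K) (zz L)) (hx : x ∈ U K) (hx4 : orderOf x = 4) :
    Commute x (zz L) := by
  have h1 : cj (zz L) K = K := by
    apply c.over_eq (c.h.hyp.conj K hK _) hK
    rw [zz_cn c.h hK]
    exact cn_of hc.symm
  have h2 := c.h.conj_or hK (mem_normalizer_iff_cj.2 h1) hx hx4
  have hz4 : zz L ^ 4 = 1 := by
    have := c.h.hyp.zz_mul hL
    rw [show (4 : ℕ) = 2 * 2 by norm_num, pow_mul, pow_two (zz L), this, one_pow]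
  have hT : IsPGroup 2 (zpowers (zz L) ⊔ K : Subgroup G) :=
    (two_zpowers hz4).to_sup_of_normal_right' (c.h.two K hK) (zpowers_le.2 (mem_normalizer_iff_cj.2 h1))
  obtain ⟨A, hA, hTA, hr⟩ := c.exists_A hT
  have hxA := hr x (mem_sup_right (c.h.vch.le K hK hx)) (c.rt_root hK hx hx4)
  rcases h2 with h2 | h2
  · exact (cn_eq_iff.1 h2).symm
  · exact absurd h2 (c.no_inv hA hL (hTA (mem_sup_left (mem_zpowers _))) hxA)

/-- `zz K`, `zz L` commute: `V_K`, `V_L` commute -/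
theorem comm_V (hK : K ∈ Om) (hL : L ∈ Om) (hc : Commute (zz K) (zz L)) (hx : x ∈ U K) (hx4 : orderOf x = 4)
    (hy : y ∈ U L) (hy4 : orderOf y = 4) : Commute x y :=
  c.comm_root (c.rt_root hK hx hx4) hL hy hy4 (c.comm_zz_V hK hL hc hx hx4).eq

theorem sq_comm (h1 : Commute x y) : Commute (x * x) (y * y) :=
  (h1.mul_right h1).mul_left (h1.mul_right h1)

/-- the relation of two commuting roots does not depend on `A` -/
theorem lnk_of (hK : K ∈ Om) (hL : L ∈ Om) (hx : x ∈ U K) (hx4 : orderOf x = 4) (hy : y ∈ U L) (hy4 : orderOf y = 4)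
    (hc : Commute x y) (hl : Lk Om U x y) : Lnk Om U K L := by
  obtain ⟨A, hA, hxA, hyA⟩ := c.exists_A2 (c.rt_root hK hx hx4) (c.rt_root hL hy hy4) hc.eq
  exact ⟨hK, hL, A, hA, x, hx, y, hy, hxA, hyA, hl⟩

theorem orth_of (hK : K ∈ Om) (hL : L ∈ Om) (hx : x ∈ U K) (hx4 : orderOf x = 4) (hy : y ∈ U L) (hy4 : orderOf y = 4)
    (hc : Commute x y) (hl : al Om U x y = 0) : Orth K L := by
  obtain ⟨A, hA, hxA, hyA⟩ := c.exists_A2 (c.rt_root hK hx hx4) (c.rt_root hL hy hy4) hc.eq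
  exact c.h.comm_of_al_zero hA hK hx hx4 hxA.1 hL hy hy4 hyA.1 hl

theorem al_of_orth (hK : K ∈ Om) (hL : L ∈ Om) (ho : Orth K L) (hx : x ∈ U K) (hx4 : orderOf x = 4) (hy : y ∈ U L)
    (hy4 : orderOf y = 4) : al Om U x y = 0 := by
  have hc : x * y = y * x := ho.2 x (c.h.vch.le K hK hx) y (c.h.vch.le L hL hy)
  obtain ⟨A, hA, hxA, hyA⟩ := c.exists_A2 (c.rt_root hK hx hx4) (c.rt_root hL hy hy4) hc
  obtain ⟨k, hk, hkX⟩ := c.h.exists_y hK
  refine c.h.al_eq hA hK hx hx4 hxA.1 hk hkX hyA.1 ?_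
  rw [ho.2 k hk y (c.h.vch.le L hL hy), mul_inv_cancel_right, neg_zero, pw_zero, mul_one]

theorem lnk_symm (hl : Lnk Om U K L) : Lnk Om U L K := by
  obtain ⟨hK, hL, A, hA, v, hv, w, hw, hvA, hwA, h1⟩ := hl
  exact ⟨hL, hK, A, hA, w, hw, v, hv, hwA, hvA, c.lk_symm hA hvA hwA h1⟩

theorem lnk_not_orth (hl : Lnk Om U K L) : ¬ Orth K L := by
  obtain ⟨hK, hL, A, hA, v, hv, w, hw, hvA, hwA, h1⟩ := hl
  intro ho
  exact h1.1 (c.al_of_orth hK hL ho hv hvA.2.1 hw hwA.2.1)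

theorem lnk_comm (hl : Lnk Om U K L) : Commute (zz K) (zz L) := by
  obtain ⟨hK, hL, A, hA, v, hv, w, hw, hvA, hwA, h1⟩ := hl
  rw [← c.h.sq_eq hK hv hvA.2.1, ← c.h.sq_eq hL hw hwA.2.1]
  exact c.sq_comm (c.h.comm hA hvA.1 hwA.1)

theorem lnk_ne (hl : Lnk Om U K L) : K ≠ L := by
  obtain ⟨hK, hL, A, hA, v, hv, w, hw, hvA, hwA, h1⟩ := hl
  rintro rfl
  rcases c.h.eq_or_inv hK hv hvA.2.1 hw hwA.2.1 with h2 | h2
  · rw [h2, Lk, c.h.al_self hA hvA] at h1
    exact h1.2 rfl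
  · rw [h2, Lk, c.h.al_inv hA hvA hvA.1, c.h.al_self hA hvA] at h1
    exact h1.2 (by decide)

/-- **E2** -/
theorem three (hK : K ∈ Om) (hL : L ∈ Om) (hc : Commute (zz K) (zz L)) : K = L ∨ Orth K L ∨ Lnk Om U K L := by
  obtain ⟨x, hx, hx4⟩ := c.h.exists_v hK
  obtain ⟨y, hy, hy4⟩ := c.h.exists_v hL
  have hxy := c.comm_V hK hL hc hx hx4 hy hy4
  obtain ⟨A, hA, hxA, hyA⟩ := c.exists_A2 (c.rt_root hK hx hx4) (c.rt_root hL hy hy4) hxy.eq
  by_cases h0 : al Om U x y = 0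
  · exact Or.inr (Or.inl (c.orth_of hK hL hx hx4 hy hy4 hxy h0))
  by_cases h2 : al Om U x y = 2
  · left
    rcases c.h.al_two hA hxA hyA h2 with h3 | h3
    · rw [h3] at hy
      exact c.h.eq_of_mem hK hL hx hy hx4
    · rw [h3, inv_mem_iff] at hy
      exact c.h.eq_of_mem hK hL hx hy hx4
  · exact Or.inr (Or.inr (c.lnk_of hK hL hx hx4 hy hy4 hxy ⟨h0, h2⟩))

/-- **(eps)** -/
theorem eps (hA : IsA Om U A) (hN : N ∈ Om) (hN' : N' ∈ Om) (hm : Mn Om U A (zz N) v) (hm' : Mn Om U A (zz N') v)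
    (hc : Commute (zz N) (zz N')) : zz N' = zz N ∨ zz N' = zz N * (v * v) := by
  obtain ⟨x, hx, hx4⟩ := c.h.exists_v hN
  obtain ⟨x', hx', hx4'⟩ := c.h.exists_v hN'
  obtain ⟨h1, h2⟩ := c.minus_lk hA hN hm hx hx4
  obtain ⟨h3, h4⟩ := c.minus_lk hA hN' hm' hx' hx4'
  have hv : v ∈ RR Om U A := by
    obtain ⟨v₂, v₃, l, -⟩ := hm
    exact l.m1
  obtain ⟨A', hA', hvA, hxA, hxA'⟩ := c.exists_A3 (rt_of hv) (c.rt_root hN hx hx4) (c.rt_root hN' hx' hx4') h1 h3
    (c.comm_V hN hN' hc hx hx4 hx' hx4').eq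
  rw [← c.h.sq_eq hN hx hx4, ← c.h.sq_eq hN' hx' hx4']
  have hr := c.h.rf_mem hA' hvA hxA
  have hsq := c.h.sq_rf hA' hvA hxA h2
  rcases c.lk_cases hA' hvA hxA h2 hxA' h4 with h5 | h5 | h5 | h5
  · left; rw [h5]
  · left; rw [h5, CVW.sq_inv hxA]
  · right; rw [h5, hsq]
  · right; rw [h5, CVW.sq_inv hr, hsq]

/-- `s t` for `s`, `t` acting on different components -/
theorem comm_minus (hA : IsA Om U A) (hT : IsPGroup 2 T) (hTA : T ≤ normalizer (A : Set G)) (hK : K ∈ Om) (hL : L ∈ Om)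
    (hsT : zz K ∈ T) (htT : zz L ∈ T) (hm : Mn Om U A (zz K) v) (hm' : Mn Om U A (zz L) u) (h0 : al Om U v u = 0) :
    Commute (zz K) (zz L) := by
  have hv : v ∈ RR Om U A := by
    obtain ⟨v₂, v₃, l, -⟩ := hm
    exact l.m1
  have hu : u ∈ RR Om U A := by
    obtain ⟨v₂, v₃, l, -⟩ := hm'
    exact l.m1
  have h0' := c.h.al_zero_symm hA hv hu h0
  have hs := hTA hsT
  have ht := hTA htT
  have hss := c.h.hyp.zz_mul hK
  have htt := c.h.hyp.zz_mul hL
  have hsi := c.h.hyp.zz_inv hK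
  have hti := c.h.hyp.zz_inv hL
  by_contra hne
  -- the order of `s t`
  obtain ⟨m₀, hm₀⟩ := hT ⟨zz K * zz L, T.mul_mem hsT htT⟩
  have hm₀' : (zz K * zz L) ^ 2 ^ m₀ = 1 := congrArg Subtype.val hm₀
  have hex : ∃ m, (zz K * zz L) ^ 2 ^ m = 1 := ⟨m₀, hm₀'⟩
  classical
  obtain ⟨m, hmm, hmin⟩ : ∃ m, (zz K * zz L) ^ 2 ^ m = 1 ∧ ∀ j < m, (zz K * zz L) ^ 2 ^ j ≠ 1 :=
    ⟨Nat.find hex, Nat.find_spec hex, fun j hj => Nat.find_min hex hj⟩
  have hinvp : (zz K * zz L)⁻¹ = zz L * zz K := by rw [mul_inv_rev, hsi, hti]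
  have hm2 : 2 ≤ m := by
    by_contra hlt
    apply hne
    have h1 : (zz K * zz L) ^ 2 ^ 1 = 1 := by
      have h2 : m = 0 ∨ m = 1 := by omega
      rcases h2 with rfl | rfl
      · rw [pow_zero, pow_one] at hmm
        rw [hmm, one_pow]
      · exact hmm
    rw [pow_one, pow_two, mul_eq_one_iff_eq_inv, hinvp] at h1
    exact h1
  obtain ⟨j, rfl⟩ : ∃ j, m = j + 2 := ⟨m - 2, by omega⟩
  set p := zz K * zz L with hp
  set d := p ^ 2 ^ j with hd
  set e := p ^ 2 ^ (j + 1) with he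
  have hdd : d * d = e := by rw [hd, he, ← pow_add, ← two_mul, ← pow_succ']
  have hee : e * e = 1 := by rw [he, ← pow_add, ← two_mul, ← pow_succ', ← hmm]
  have he1 : e ≠ 1 := hmin (j + 1) (by omega)
  have hei : e⁻¹ = e := by rw [inv_eq_iff_mul_eq_one, hee]
  have hpT : p ∈ T := T.mul_mem hsT htT
  have hdT : d ∈ T := T.pow_mem hpT _
  have heT : e ∈ T := T.pow_mem hpT _
  have hsp : cn (zz K) p = p⁻¹ := by
    rw [hinvp, cn, hp, hsi]
    calc zz K * (zz K * zz L) * zz K = (zz K * zz K) * (zz L * zz K) := by group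
      _ = zz L * zz K := by rw [hss, one_mul]
  have htp : cn (zz L) p = p⁻¹ := by
    rw [hinvp, cn, hp, hti]
    calc zz L * (zz K * zz L) * zz L = (zz L * zz K) * (zz L * zz L) := by group
      _ = zz L * zz K := by rw [htt, mul_one]
  have hsd : cn (zz K) d = d⁻¹ := by rw [hd, cn_pow, hsp, inv_pow]
  have htd : cn (zz L) d = d⁻¹ := by rw [hd, cn_pow, htp, inv_pow]
  have hse : cn (zz K) e = e := by rw [← hdd, cn_mul, hsd, ← mul_inv_rev, hdd, hei]
  have hte : cn (zz L) e = e := by rw [← hdd, cn_mul, htd, ← mul_inv_rev, hdd, hei]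
  -- `cn d s = s e`
  have hds : ∀ {M : Subgroup G}, M ∈ Om → cn (zz M) d = d⁻¹ → cn d (zz M) = zz M * e := by
    intro M hM h1
    have h2 : cn d (zz M) = zz M * (cn (zz M)⁻¹ d) * d⁻¹ := by rw [cn, cn]; group
    rw [h2, c.h.hyp.zz_inv hM, h1, mul_assoc, ← mul_inv_rev, hdd, hei]
  have hds1 := hds hK hsd
  have hdt1 := hds hL htd
  -- `e` centralises the two components
  have hcomp : ∀ {s t v u : G}, (∀ w ∈ RR Om U A, al Om U v w ≠ 0 → cn s w ∈ RR Om U A ∧ al Om U v (cn s w) ≠ 0) →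
      (∀ w ∈ RR Om U A, al Om U v w ≠ 0 → cn t w = w) → s * s = 1 → ∀ w ∈ RR Om U A, al Om U v w ≠ 0 →
      cn (s * t) (cn (s * t) w) = w ∧ cn (t * s) (cn (t * s) w) = w := by
    intro s t v u h1 h2 hss w hw hvw
    obtain ⟨h3, h4⟩ := h1 w hw hvw
    have h5 := h2 w hw hvw
    have h6 := h2 _ h3 h4
    constructor
    · rw [← cn_cn, ← cn_cn, h5, h6, cn_cn, hss, one_cn]
    · rw [← cn_cn, ← cn_cn, h6, cn_cn (g := s), hss, one_cn, h5]
  have hst : ∀ {M : Subgroup G} {v : G}, M ∈ Om → zz M ∈ normalizer (A : Set G) → v ∈ RR Om U A → ∀ w ∈ RR Om U A,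
      al Om U v w ≠ 0 → cn (zz M) w ∈ RR Om U A ∧ al Om U v (cn (zz M) w) ≠ 0 := by
    intro M v hM hMn hv w hw hvw
    have h1 := c.RR_cn hMn hw
    refine ⟨h1, fun h2 => ?_⟩
    have h3 : al Om U w (cn (zz M) w) = 0 := by
      have := c.orth_trans hA hv h1 hw h2 hvw
      exact c.h.al_zero_symm hA h1 hw this
    exact c.stay hA hM hMn hw h3
  have hcen : ∀ w ∈ RR Om U A, (al Om U v w ≠ 0 ∨ al Om U u w ≠ 0) → cn e w = w := by
    intro w hw hvw
    have h1 : cn (p * p) w = w := by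
      rw [← cn_cn]
      rcases hvw with h1 | h1
      · refine (hcomp (v := v) (u := u) (hst hK hs hv) (fun w hw hvw => ?_) hss w hw h1).1
        exact c.minus_unique hA hL ht hm' hw (c.orth_trans hA hv hu hw h0 hvw)
      · refine (hcomp (s := zz L) (t := zz K) (v := u) (u := v) (hst hL ht hu) (fun w hw hvw => ?_) htt w hw h1).2
        exact c.minus_unique hA hK hs hm hw (c.orth_trans hA hu hv hw h0' hvw)
    have h2 : ∀ i : ℕ, cn ((p * p) ^ i) w = w := by
      intro i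
      induction i with
      | zero => rw [pow_zero, one_cn]
      | succ i ih => rw [pow_succ, ← cn_cn, h1, ih]
    have h3 : e = (p * p) ^ 2 ^ j := by rw [he, ← pow_two, ← pow_mul, ← pow_succ']
    rw [h3]
    exact h2 _
  -- `Mn (s e) v`
  have hmn : ∀ {M : Subgroup G} {v : G}, Mn Om U A (zz M) v → (∀ w ∈ RR Om U A, al Om U v w ≠ 0 → cn e w = w) →
      Mn Om U A (zz M * e) v := by
    intro M v hm h1
    obtain ⟨v₂, v₃, l, h2, h3, h4⟩ := hm
    refine ⟨v₂, v₃, l, ?_, ?_, ?_⟩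
    · rw [← cn_cn, h1 v l.m1 (by rw [c.h.al_self hA l.m1]; decide), h2]
    · rw [← cn_cn, h1 v₂ l.m2 (by rw [l.a12]; decide), h3]
    · rw [← cn_cn, h1 v₃ l.m3 (by rw [l.a13]; decide), h4]
  have hfin : ∀ {M : Subgroup G} {v : G}, M ∈ Om → Mn Om U A (zz M) v → cn d (zz M) = zz M * e → cn (zz M) e = e →
      (∀ w ∈ RR Om U A, al Om U v w ≠ 0 → cn e w = w) → e = v * v := by
    intro M v hM hm h1 h2 h3
    have h4 := hmn hm h3
    rw [← h1, ← zz_cn c.h hM] at h4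
    have h5 : Commute (zz M) (zz (cj d M)) := by
      rw [zz_cn c.h hM, h1]
      exact (Commute.refl _).mul_right (cn_eq_iff.1 h2)
    rcases c.eps hA hM (c.h.hyp.conj M hM d) hm h4 h5 with h6 | h6
    · rw [zz_cn c.h hM, h1] at h6
      exact absurd (mul_eq_left.1 h6) he1
    · rw [zz_cn c.h hM, h1] at h6
      exact mul_left_cancel h6
  have e1 := hfin hK hm hds1 hse fun w hw hvw => hcen w hw (Or.inl hvw)
  have e2 := hfin hL hm' hdt1 hte fun w hw hvw => hcen w hw (Or.inr hvw)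
  rcases c.sq_inj hA hv hu (by rw [← e1, ← e2]) with h6 | h6
  · rw [h6, c.h.al_self hA hv] at h0; exact absurd h0 (by decide)
  · rw [h6, c.h.al_inv hA hv hv.1, c.h.al_self hA hv] at h0; exact absurd h0 (by decide)

end AW

/-- the inverse triple -/
theorem Tri.inv (l : Tri Om U A v₁ v₂ v₃) (h : CVW Om U) (hA : IsA Om U A) : Tri Om U A v₁⁻¹ v₂⁻¹ v₃⁻¹ := by
  have key : ∀ {v w : G}, v ∈ RR Om U A → w ∈ RR Om U A → al Om U v w = -1 → al Om U v⁻¹ w⁻¹ = -1 := by
    intro v w hv hw h1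
    rw [h.al_neg hA hv (A.inv_mem hw.1), h.al_inv hA hv hw.1, h1]
    rfl
  refine ⟨CVW.RR_inv l.m1, CVW.RR_inv l.m2, CVW.RR_inv l.m3, ?_, key l.m1 l.m2 l.a12, key l.m2 l.m1 l.a21,
    key l.m1 l.m3 l.a13, key l.m3 l.m1 l.a31, key l.m2 l.m3 l.a23, key l.m3 l.m2 l.a32, ?_⟩
  · have h1 := l.prod
    have h2 : v₁⁻¹ * v₂⁻¹ = v₂⁻¹ * v₁⁻¹ := h.comm hA (A.inv_mem l.m1.1) (A.inv_mem l.m2.1)
    rw [h2, ← mul_inv_rev, h.comm hA (A.inv_mem (A.mul_mem l.m1.1 l.m2.1)) (A.inv_mem l.m3.1), ← mul_inv_rev, h1, inv_one]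
  · intro u hu
    rcases l.cl u hu with h1 | h1
    · left
      simp only [inv_inv]
      tauto
    · right
      rw [h.al_neg hA l.m1 hu.1, h.al_neg hA l.m2 hu.1, h.al_neg hA l.m3 hu.1, h1.1, h1.2.1, h1.2.2, neg_zero]
      exact ⟨rfl, rfl, rfl⟩

theorem Mn.inv (hm : Mn Om U A s v) (h : CVW Om U) (hA : IsA Om U A) : Mn Om U A s v⁻¹ := by
  obtain ⟨v₂, v₃, l, h1, h2, h3⟩ := hm
  exact ⟨v₂⁻¹, v₃⁻¹, l.inv h hA, by rw [cn_inv, h1], by rw [cn_inv, h2], by rw [cn_inv, h3]⟩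

theorem Mn.root (hm : Mn Om U A s v) : v ∈ RR Om U A := by
  obtain ⟨v₂, v₃, l, -⟩ := hm
  exact l.m1

/-- the action does not depend on the triple -/
theorem Mn.tri (hm : Mn Om U A s v₁) (h : CVW Om U) (hA : IsA Om U A) (l : Tri Om U A v₁ v₂ v₃) :
    cn s v₁ = v₁ ∧ cn s v₂ = v₃ ∧ cn s v₃ = v₂ := by
  obtain ⟨w₂, w₃, l', h1, h2, h3⟩ := hm
  have h4 : w₂ = v₂ ∨ w₂ = v₃ := by
    have h5 := l'.a12
    rcases l.mem_of h hA l'.m2 (by rw [h5]; decide) with h6 | h6 | h6 | h6 | h6 | h6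
    · rw [h6, h.al_self hA l.m1] at h5; exact absurd h5 (by decide)
    · rw [h6, h.al_inv hA l.m1 l.m1.1, h.al_self hA l.m1] at h5; exact absurd h5 (by decide)
    · exact Or.inl h6
    · rw [h6, h.al_inv hA l.m1 l.m2.1, l.a12] at h5; exact absurd h5 (by decide)
    · exact Or.inr h6
    · rw [h6, h.al_inv hA l.m1 l.m3.1, l.a13] at h5; exact absurd h5 (by decide)
  have e1 := l'.three_eq h hA
  have e2 := l.three_eq h hA
  have e3 := (l.swap h hA).three_eq h hA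
  rcases h4 with h4 | h4
  · rw [h4] at e1 h2 h3
    rw [e1, ← e2] at h2 h3
    exact ⟨h1, h2, h3⟩
  · rw [h4] at e1 h2 h3
    rw [e1, ← e3] at h2 h3
    exact ⟨h1, h3, h2⟩

/-- the central involution of a dihedral 2-group -/
theorem dihedral (hs : s * s = 1) (ht : t * t = 1) {m₀ : ℕ} (hp : (s * t) ^ 2 ^ m₀ = 1) (hne : ¬ Commute s t) :
    ∃ (i j : ℕ) (e d : G), e = (s * t * (s * t)) ^ i ∧ d = (s * t) ^ j ∧ e ≠ 1 ∧ e * e = 1 ∧ cn s e = e ∧ cn t e = e ∧
      cn d s = s * e ∧ cn d t = t * e := by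
  have hsi : s⁻¹ = s := inv_eq_of_mul_eq_one_left hs
  have hti : t⁻¹ = t := inv_eq_of_mul_eq_one_left ht
  have hex : ∃ m, (s * t) ^ 2 ^ m = 1 := ⟨m₀, hp⟩
  classical
  obtain ⟨m, hmm, hmin⟩ : ∃ m, (s * t) ^ 2 ^ m = 1 ∧ ∀ j < m, (s * t) ^ 2 ^ j ≠ 1 :=
    ⟨Nat.find hex, Nat.find_spec hex, fun j hj => Nat.find_min hex hj⟩
  have hinvp : (s * t)⁻¹ = t * s := by rw [mul_inv_rev, hsi, hti]
  have hm2 : 2 ≤ m := by
    by_contra hlt
    apply hne
    have h1 : (s * t) ^ 2 ^ 1 = 1 := by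
      have h2 : m = 0 ∨ m = 1 := by omega
      rcases h2 with rfl | rfl
      · rw [pow_zero, pow_one] at hmm
        rw [hmm, one_pow]
      · exact hmm
    rw [pow_one, pow_two, mul_eq_one_iff_eq_inv, hinvp] at h1
    exact h1
  obtain ⟨j, rfl⟩ : ∃ j, m = j + 2 := ⟨m - 2, by omega⟩
  set p := s * t with hp'
  set d := p ^ 2 ^ j with hd
  set e := p ^ 2 ^ (j + 1) with he
  have hdd : d * d = e := by rw [hd, he, ← pow_add, ← two_mul, ← pow_succ']
  have hee : e * e = 1 := by rw [he, ← pow_add, ← two_mul, ← pow_succ', ← hmm]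
  have he1 : e ≠ 1 := hmin (j + 1) (by omega)
  have hei : e⁻¹ = e := by rw [inv_eq_iff_mul_eq_one, hee]
  have hsp : cn s p = p⁻¹ := by
    rw [hinvp, cn, hp', hsi]
    calc s * (s * t) * s = (s * s) * (t * s) := by group
      _ = t * s := by rw [hs, one_mul]
  have htp : cn t p = p⁻¹ := by
    rw [hinvp, cn, hp', hti]
    calc t * (s * t) * t = (t * s) * (t * t) := by group
      _ = t * s := by rw [ht, mul_one]
  have hsd : cn s d = d⁻¹ := by rw [hd, cn_pow, hsp, inv_pow]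
  have htd : cn t d = d⁻¹ := by rw [hd, cn_pow, htp, inv_pow]
  have hse : cn s e = e := by rw [← hdd, cn_mul, hsd, ← mul_inv_rev, hdd, hei]
  have hte : cn t e = e := by rw [← hdd, cn_mul, htd, ← mul_inv_rev, hdd, hei]
  have hds : ∀ {r : G}, r⁻¹ = r → cn r d = d⁻¹ → cn d r = r * e := by
    intro r hr h1
    have h2 : cn d r = r * (cn r⁻¹ d) * d⁻¹ := by rw [cn, cn]; group
    rw [h2, hr, h1, mul_assoc, ← mul_inv_rev, hdd, hei]
  refine ⟨2 ^ j, 2 ^ j, e, d, ?_, hd, he1, hee, hse, hte, hds hsi hsd, hds hti htd⟩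
  rw [he, ← pow_two, ← pow_mul, ← pow_succ']

namespace AW

variable (c : AW Om U)
include c

/-- no two `Mn` for linked roots in a 2-group -/
theorem minus_same (hA : IsA Om U A) (hT : IsPGroup 2 T) (hsT : s ∈ T) (htT : t ∈ T) (hm : Mn Om U A s v)
    (hm' : Mn Om U A t u) (hl : al Om U v u ≠ 0) : u = v ∨ u = v⁻¹ := by
  by_contra hcon
  push Not at hcon
  obtain ⟨v₂, v₃, l, -⟩ := id hm
  have h2 : al Om U v u ≠ 2 := by
    intro h3
    rcases c.h.al_two hA l.m1 hm'.root h3 with h4 | h4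
    · exact hcon.1 h4
    · exact hcon.2 h4
  -- up to the sign `u = v₂` (up to the order)
  have key : ∀ {v₂ v₃ : G}, Tri Om U A v v₂ v₃ → Mn Om U A t v₂ → False := by
    intro v₂ v₃ l hm'
    obtain ⟨s1, s2, s3⟩ := hm.tri c.h hA l
    obtain ⟨t1, t2, t3⟩ := hm'.tri c.h hA (l.rot c.h hA)
    -- `p = s t : v → v₂ → v₃ → v`
    have p1 : cn (s * t) v = v₂ := by rw [← cn_cn, t3, s3]
    have p2 : cn (s * t) v₂ = v₃ := by rw [← cn_cn, t1, s2]
    have p3 : cn (s * t) v₃ = v := by rw [← cn_cn, t2, s1]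
    have hne2 : v₂ ≠ v := c.ne_of_al (v := v) (by rw [l.a12, c.h.al_self hA l.m1]; decide)
    have hne3 : v₃ ≠ v := c.ne_of_al (v := v) (by rw [l.a13, c.h.al_self hA l.m1]; decide)
    obtain ⟨m, hm⟩ := hT ⟨s * t, T.mul_mem hsT htT⟩
    have hm' : (s * t) ^ 2 ^ m = 1 := congrArg Subtype.val hm
    have h3 : ∀ i : ℕ, cn ((s * t) ^ (3 * i)) v = v := by
      intro i
      induction i with
      | zero => rw [mul_zero, pow_zero, one_cn]
      | succ i ih =>
        rw [mul_add, pow_add, ← cn_cn, mul_one, pow_succ, pow_succ, pow_one, ← cn_cn, ← cn_cn, p1, p2, p3, ih]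
    have h4 : 2 ^ m % 3 = 1 ∨ 2 ^ m % 3 = 2 := by
      have h5 : ∀ m : ℕ, 2 ^ m % 3 = 1 ∨ 2 ^ m % 3 = 2 := by
        intro m
        induction m with
        | zero => left; rfl
        | succ m ih =>
          rw [pow_succ]
          omega
      exact h5 m
    have h5 : cn ((s * t) ^ (2 ^ m)) v = v := by rw [hm', one_cn]
    have h6 : 2 ^ m = 2 ^ m % 3 + 3 * (2 ^ m / 3) := (Nat.mod_add_div _ _).symm
    rw [h6, pow_add, ← cn_cn, h3] at h5
    rcases h4 with h4 | h4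
    · rw [h4, pow_one, p1] at h5
      exact hne2 h5
    · rw [h4, pow_two, ← cn_cn, p1, p2] at h5
      exact hne3 h5
  rcases l.mem_of c.h hA hm'.root hl with h4 | h4 | h4 | h4 | h4 | h4
  · exact hcon.1 h4
  · exact hcon.2 h4
  · rw [h4] at hm'
    exact key l hm'
  · rw [h4] at hm'
    have h5 := hm'.inv c.h hA
    rw [inv_inv] at h5
    exact key l h5
  · rw [h4] at hm'
    exact key (l.swap c.h hA) hm'
  · rw [h4] at hm'
    have h5 := hm'.inv c.h hA
    rw [inv_inv] at h5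
    exact key (l.swap c.h hA) h5

end AW

/-- `K` belongs to the component of `v` -/
def Inn (Om : Set (Subgroup G)) (U : Subgroup G → Subgroup G) (A K : Subgroup G) (v : G) : Prop :=
  v ∈ RR Om U A ∧ ((∃ x ∈ RR Om U A, x ∈ U K ∧ al Om U v x ≠ 0) ∨
    ∃ v' ∈ RR Om U A, al Om U v v' ≠ 0 ∧ Mn Om U A (zz K) v')

namespace AW

variable (c : AW Om U)
include c

/-- being in one component is an equivalence relation -/
theorem al_trans (hA : IsA Om U A) (hv : v ∈ RR Om U A) (hu : u ∈ RR Om U A) (hx : x ∈ RR Om U A)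
    (h0 : al Om U v u ≠ 0) (h1 : al Om U u x ≠ 0) : al Om U v x ≠ 0 := by
  intro h2
  have h3 := c.orth_trans hA hv hx hu h2 h0
  exact h1 (c.h.al_zero_symm hA hx hu h3)

theorem al_symm (hA : IsA Om U A) (hv : v ∈ RR Om U A) (hu : u ∈ RR Om U A) (h0 : al Om U v u ≠ 0) : al Om U u v ≠ 0 :=
  fun h2 => h0 (c.h.al_zero_symm hA hu hv h2)

theorem exists_inn (hA : IsA Om U A) (hK : K ∈ Om) (hs : zz K ∈ normalizer (A : Set G)) : ∃ v, Inn Om U A K v := by
  obtain ⟨x, hx, hx4⟩ := c.h.exists_v hK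
  rcases c.dich hA hK hs with h1 | ⟨v, hm⟩
  · have hxR := h1 x hx hx4
    exact ⟨x, hxR, Or.inl ⟨x, hxR, hx, by rw [c.h.al_self hA hxR]; decide⟩⟩
  · exact ⟨v, hm.root, Or.inr ⟨v, hm.root, by rw [c.h.al_self hA hm.root]; decide, hm⟩⟩

theorem inn_trans (hA : IsA Om U A) (hK : Inn Om U A K u) (hv : v ∈ RR Om U A) (hvu : al Om U v u ≠ 0) : Inn Om U A K v := by
  obtain ⟨hu, ⟨x, hx, hxK, h1⟩ | ⟨v', hv', h1, hm⟩⟩ := hK
  · exact ⟨hv, Or.inl ⟨x, hx, hxK, c.al_trans hA hv hu hx hvu h1⟩⟩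
  · exact ⟨hv, Or.inr ⟨v', hv', c.al_trans hA hv hu hv' hvu h1, hm⟩⟩

/-- different components: orthogonal -/
theorem orth_of_inn (hA : IsA Om U A) (hT : IsPGroup 2 T) (hTA : T ≤ normalizer (A : Set G)) (hK : K ∈ Om) (hL : L ∈ Om)
    (hsT : zz K ∈ T) (htT : zz L ∈ T) (hKv : Inn Om U A K v) (hLu : Inn Om U A L u) (h0 : al Om U v u = 0) : Orth K L := by
  have h0' := c.h.al_zero_symm hA hKv.1 hLu.1 h0
  -- one of the members in `A`
  have key : ∀ {K L : Subgroup G} {v u : G}, K ∈ Om → L ∈ Om → zz L ∈ T → u ∈ RR Om U A → v ∈ RR Om U A →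
      al Om U v u = 0 → (∃ x ∈ RR Om U A, x ∈ U K ∧ al Om U v x ≠ 0) →
      (∃ v' ∈ RR Om U A, al Om U u v' ≠ 0 ∧ Mn Om U A (zz L) v') → Orth K L := by
    intro K L v u hK hL htT hu hv h0 h1 h2
    obtain ⟨x, hx, hxK, h1⟩ := h1
    obtain ⟨u', hu', h2, hm⟩ := h2
    have h3 : al Om U u x = 0 := c.orth_trans hA hv hu hx h0 h1
    have h4 : al Om U x u' = 0 := c.orth_trans hA hu hx hu' h3 h2
    have h5 : al Om U u' x = 0 := c.h.al_zero_symm hA hx hu' h4
    have h6 := c.minus_unique hA hL (hTA htT) hm hx h5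
    obtain ⟨y, hy, hy4⟩ := c.h.exists_v hL
    obtain ⟨h7, h8⟩ := c.minus_lk hA hL hm hy hy4
    have hxy := c.comm_root (rt_of hx) hL hy hy4 (cn_eq_iff.1 h6).symm.eq
    obtain ⟨A', hA', hu'', hx', hy'⟩ := c.exists_A3 (rt_of hu') (rt_of hx) (c.rt_root hL hy hy4)
      (c.h.comm hA hu'.1 hx.1) h7 hxy
    exact c.orth_of hK hL hxK hx.2.1 hy hy4 hxy (c.orth_trans hA' hu'' hx' hy' h5 h8.1)
  obtain ⟨hv, h1 | h1⟩ := hKv
  · obtain ⟨hu, h2 | h2⟩ := hLu
    · obtain ⟨x, hx, hxK, h1⟩ := h1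
      obtain ⟨y, hy, hyL, h2⟩ := h2
      have h3 : al Om U u x = 0 := c.orth_trans hA hv hu hx h0 h1
      have h4 : al Om U x y = 0 := c.orth_trans hA hu hx hy h3 h2
      exact c.orth_of hK hL hxK hx.2.1 hyL hy.2.1 (c.h.comm hA hx.1 hy.1) h4
    · exact key hK hL htT hu hv h0 h1 h2
  · obtain ⟨hu, h2 | h2⟩ := hLu
    · have h3 := key hL hK hsT hv hu h0' h2 h1
      exact ⟨fun hh => h3.1 hh.symm, fun x hx y hy => (h3.2 y hy x hx).symm⟩
    · obtain ⟨v', hv', h3, hm⟩ := h1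
      obtain ⟨u', hu', h4, hm'⟩ := h2
      have h5 : al Om U u v' = 0 := c.orth_trans hA hv hu hv' h0 h3
      have h6 : al Om U v' u' = 0 := c.orth_trans hA hu hv' hu' h5 h4
      have hcm := c.comm_minus hA hT hTA hK hL hsT htT hm hm' h6
      obtain ⟨x, hx, hx4⟩ := c.h.exists_v hK
      obtain ⟨y, hy, hy4⟩ := c.h.exists_v hL
      have hxy := c.comm_V hK hL hcm hx hx4 hy hy4
      obtain ⟨h7, h8⟩ := c.minus_lk hA hK hm hx hx4
      obtain ⟨h9, h10⟩ := c.minus_lk hA hL hm' hy hy4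
      -- `t` centralises `v'`, so `y` does
      have h11 : cn (zz L) v' = v' := c.minus_unique hA hL (hTA htT) hm' hv' (c.h.al_zero_symm hA hv' hu' h6)
      have hvy := c.comm_root (rt_of hv') hL hy hy4 (cn_eq_iff.1 h11).symm.eq
      have h12 : cn (zz K) u' = u' := c.minus_unique hA hK (hTA hsT) hm hu' h6
      have hux := c.comm_root (rt_of hu') hK hx hx4 (cn_eq_iff.1 h12).symm.eq
      obtain ⟨A', hA', hv1, hu1, hx1, hy1⟩ := c.exists_A4 (rt_of hv') (rt_of hu') (c.rt_root hK hx hx4)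
        (c.rt_root hL hy hy4) (c.h.comm hA hv'.1 hu'.1) h7 hvy hux h9 hxy.eq
      have h13 : al Om U u' x = 0 := c.orth_trans hA' hv1 hu1 hx1 h6 h8.1
      exact c.orth_of hK hL hx hx4 hy hy4 hxy (c.orth_trans hA' hu1 hx1 hy1 h13 h10.1)

end AW

end Cfsg.Agent.Cit.CVA

private theorem dce_6716e0a07711 : _root_.True := by
  try have : _root_.True := by simp only [_root_.Cfsg.Agent.Cit.CV.Lk.eq_1]
  exact _root_.True.intro
end

-- part: Cit/Nil/CVA/Chain
section
set_option linter.all false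
open scoped Cfsg.Agent.FastGrp

/-!
# (6b)(CV), type `A2`: (E3), (E4), (E5)

* `AW.chain_of_inn` : two members of one component of `A` are not orthogonal, joined by a chain of linked ones in `T`;
* `AW.chain` : `T` a 2-group, `zz K`, `zz L ∈ T`: `Orth K L` or a chain in `T`;
* `AW.orth_or`, `AW.not_orth_trans` : in a 2-group "not orthogonal" is an equivalence relation.
-/

set_option autoImplicit false
set_option linter.style.haveILetI false
set_option linter.unusedSectionVars false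

namespace Cfsg.Agent.Cit.CVA

open Subgroup Cfsg Cit Tau CV NilT
open Cfsg.Agent.Cit.CV1 (Orth)

variable {G : Type*} [Group G] [Finite G] {Om : Set (Subgroup G)} {U : Subgroup G → Subgroup G}
  {A B K L M N N' T : Subgroup G} {a b g s s' t u v w x x' y v₁ v₂ v₃ : G}

/-- a chain of at most two links in `T` -/
def Chn (Om : Set (Subgroup G)) (U : Subgroup G → Subgroup G) (T K L : Subgroup G) : Prop :=
  K = L ∨ Lnk Om U K L ∨ ∃ M, zz M ∈ T ∧ Lnk Om U K M ∧ Lnk Om U M L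

namespace AW

variable (c : AW Om U)
include c

theorem chn_symm (h : Chn Om U T K L) : Chn Om U T L K := by
  rcases h with h | h | ⟨M, hM, h1, h2⟩
  · exact Or.inl h.symm
  · exact Or.inr (Or.inl (c.lnk_symm h))
  · exact Or.inr (Or.inr ⟨M, hM, c.lnk_symm h2, c.lnk_symm h1⟩)

theorem orth_symm (h : Orth K L) : Orth L K := ⟨fun hh => h.1 hh.symm, fun x hx y hy => (h.2 y hy x hx).symm⟩

theorem orth_comm (hK : K ∈ Om) (hL : L ∈ Om) (h : Orth K L) : Commute (zz K) (zz L) :=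
  h.2 _ (c.h.hyp.zz_mem hK) _ (c.h.hyp.zz_mem hL)

/-- the root `x` in `A`, `Mn` on the same component -/
theorem chain_one (hA : IsA Om U A) (hK : K ∈ Om) (hL : L ∈ Om)
    (hsT : zz K ∈ T) (htT : zz L ∈ T) (hx : x ∈ RR Om U A) (hxK : x ∈ U K) (hm : Mn Om U A (zz L) v)
    (h1 : al Om U v x ≠ 0) : ¬ Orth K L ∧ Chn Om U T K L := by
  obtain ⟨v₂, v₃, l, s1, s2, s3⟩ := id hm
  obtain ⟨y, hy, hy4⟩ := c.h.exists_v hL
  obtain ⟨h2, h3⟩ := c.minus_lk hA hL hm hy hy4
  by_cases h4 : al Om U v x = 2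
  · have h5 : v ∈ U K := by
      rcases c.h.al_two hA hm.root hx h4 with h6 | h6
      · rwa [h6] at hxK
      · rw [h6, inv_mem_iff] at hxK
        exact hxK
    have h6 := c.lnk_of hK hL h5 hm.root.2.1 hy hy4 h2 h3
    exact ⟨c.lnk_not_orth h6, Or.inr (Or.inl h6)⟩
  · have hl : Lk Om U v x := ⟨h1, h4⟩
    -- `v² = x² (x²)^t`
    have key : ∀ {v₂ v₃ : G}, Tri Om U A v v₂ v₃ → cn (zz L) v₂ = v₃ → (x = v₂ ∨ x = v₂⁻¹) →
        cn (zz L) (x * x) ≠ x * x ∧ v * v = x * x * cn (zz L) (x * x) := by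
      intro v₂ v₃ l e1 e2
      have e3 : x * x = v₂ * v₂ := by
        rcases e2 with e2 | e2
        · rw [e2]
        · rw [e2, CVW.sq_inv l.m2]
      rw [e3, cn_mul, e1]
      constructor
      · intro e4
        rcases c.sq_inj hA l.m2 l.m3 e4.symm with e5 | e5
        · exact c.ne_of_al (v := v₂) (by rw [c.h.al_self hA l.m2, l.a23]; decide) e5
        · exact c.ne_of_al (v := v₃) (by rw [c.h.al_self hA l.m3, c.h.al_inv hA l.m3 l.m2.1, l.a32]; decide) e5
      · exact (((l.rot c.h hA)).sq c.h hA).symm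
    have hxx : x * x = zz K := c.h.sq_eq hK hxK hx.2.1
    have hres : cn (zz L) (x * x) ≠ x * x ∧ v * v = x * x * cn (zz L) (x * x) := by
      have hself : al Om U v v = 2 := c.h.al_self hA hm.root
      rcases l.mem_of c.h hA hx h1 with h6 | h6 | h6 | h6 | h6 | h6
      · rw [h6] at h4; exact absurd hself h4
      · rw [h6, c.h.al_inv hA l.m1 l.m1.1, hself] at h4; exact absurd (by decide) h4
      · exact key l s2 (Or.inl h6)
      · exact key l s2 (Or.inr h6)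
      · exact key (l.swap c.h hA) s3 (Or.inl h6)
      · exact key (l.swap c.h hA) s3 (Or.inr h6)
    obtain ⟨hvA, hv4, M, hM, hvM⟩ := id hm.root
    have hvv : v * v = zz M := c.h.sq_eq hM hvM hv4
    refine ⟨fun ho => ?_, Or.inr (Or.inr ⟨M, ?_, ?_, c.lnk_of hM hL hvM hv4 hy hy4 h2 h3⟩)⟩
    · have h5 := c.orth_comm hK hL ho
      rw [← hxx] at h5
      exact hres.1 (cn_of h5.symm)
    · rw [← hvv, hres.2, hxx]
      refine T.mul_mem hsT ?_
      rw [cn]
      exact T.mul_mem (T.mul_mem htT hsT) (T.inv_mem htT)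
    · exact ⟨hK, hM, A, hA, x, hxK, v, hvM, hx, hm.root, c.lk_symm hA hm.root hx hl⟩

/-- two `Mn` on the same component -/
theorem chain_two (hA : IsA Om U A) (hT : IsPGroup 2 T) (hK : K ∈ Om) (hL : L ∈ Om)
    (hsT : zz K ∈ T) (htT : zz L ∈ T) (hm : Mn Om U A (zz K) v) (hm' : Mn Om U A (zz L) v) :
    ¬ Orth K L ∧ Chn Om U T K L := by
  obtain ⟨v₂, v₃, l, s1, s2, s3⟩ := id hm
  obtain ⟨t1, t2, t3⟩ := hm'.tri c.h hA l
  obtain ⟨x, hx, hx4⟩ := c.h.exists_v hK
  obtain ⟨y, hy, hy4⟩ := c.h.exists_v hL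
  obtain ⟨h1, h2⟩ := c.minus_lk hA hK hm hx hx4
  obtain ⟨h3, h4⟩ := c.minus_lk hA hL hm' hy hy4
  obtain ⟨hvA, hv4, M, hM, hvM⟩ := id hm.root
  have hvv : v * v = zz M := c.h.sq_eq hM hvM hv4
  by_cases hc : Commute (zz K) (zz L)
  · have hxy := c.comm_V hK hL hc hx hx4 hy hy4
    have hno : ¬ Orth K L := by
      intro ho
      have h5 := c.al_of_orth hK hL ho hx hx4 hy hy4
      obtain ⟨A', hA', hv', hx', hy'⟩ := c.exists_A3 (rt_of hm.root) (c.rt_root hK hx hx4) (c.rt_root hL hy hy4)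
        h1 h3 hxy.eq
      exact c.al_trans hA' hx' hv' hy' (c.al_symm hA' hv' hx' h2.1) h4.1 h5
    refine ⟨hno, ?_⟩
    rcases c.three hK hL hc with h5 | h5 | h5
    · exact Or.inl h5
    · exact absurd h5 hno
    · exact Or.inr (Or.inl h5)
  · refine ⟨fun ho => hc (c.orth_comm hK hL ho), Or.inr (Or.inr ⟨M, ?_,
      c.lnk_symm (c.lnk_of hM hK hvM hv4 hx hx4 h1 h2), c.lnk_of hM hL hvM hv4 hy hy4 h3 h4⟩)⟩
    obtain ⟨m, hm1⟩ := hT ⟨zz K * zz L, T.mul_mem hsT htT⟩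
    have hm2 : (zz K * zz L) ^ 2 ^ m = 1 := congrArg Subtype.val hm1
    obtain ⟨i, j, e, d, he, hd, he1, hee, hse, hte, hds, -⟩ :=
      dihedral (c.h.hyp.zz_mul hK) (c.h.hyp.zz_mul hL) hm2 hc
    have hpT : zz K * zz L ∈ T := T.mul_mem hsT htT
    have heT : e ∈ T := by rw [he]; exact T.pow_mem (T.mul_mem hpT hpT) _
    -- `e` is trivial on the component
    have htriv : ∀ w, cn (zz K * zz L) w = w → cn e w = w := by
      intro w hw
      have h5 : cn (zz K * zz L * (zz K * zz L)) w = w := by rw [← cn_cn, hw, hw]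
      have h6 : ∀ i : ℕ, cn ((zz K * zz L * (zz K * zz L)) ^ i) w = w := by
        intro i
        induction i with
        | zero => rw [pow_zero, one_cn]
        | succ i ih => rw [pow_succ, ← cn_cn, h5, ih]
      rw [he, h6]
    have e1 : cn e v = v := htriv v (by rw [← cn_cn, t1, s1])
    have e2 : cn e v₂ = v₂ := htriv v₂ (by rw [← cn_cn, t2, s3])
    have e3 : cn e v₃ = v₃ := htriv v₃ (by rw [← cn_cn, t3, s2])
    have hmn : Mn Om U A (zz (cj d K)) v := by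
      rw [zz_cn c.h hK, hds]
      exact ⟨v₂, v₃, l, by rw [← cn_cn, e1, s1], by rw [← cn_cn, e2, s2], by rw [← cn_cn, e3, s3]⟩
    have h5 : Commute (zz K) (zz (cj d K)) := by
      rw [zz_cn c.h hK, hds]
      exact (Commute.refl _).mul_right (cn_eq_iff.1 hse)
    rcases c.eps hA hK (c.h.hyp.conj K hK d) hm hmn h5 with h6 | h6
    · rw [zz_cn c.h hK, hds] at h6
      exact absurd (mul_eq_left.1 h6) he1
    · rw [zz_cn c.h hK, hds] at h6
      rw [← hvv, ← mul_left_cancel h6]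
      exact heT

/-- members of one component of `A` -/
theorem chain_of_inn (hA : IsA Om U A) (hT : IsPGroup 2 T) (hK : K ∈ Om) (hL : L ∈ Om) (hsT : zz K ∈ T) (htT : zz L ∈ T)
    (hKv : Inn Om U A K v) (hLv : Inn Om U A L v) : ¬ Orth K L ∧ Chn Om U T K L := by
  obtain ⟨hv, ⟨x, hx, hxK, h1⟩ | ⟨v', hv', h1, hm⟩⟩ := hKv
  · obtain ⟨-, ⟨y, hy, hyL, h2⟩ | ⟨u', hu', h2, hm'⟩⟩ := hLv
    · have h3 : al Om U x y ≠ 0 := c.al_trans hA hx hv hy (c.al_symm hA hv hx h1) h2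
      refine ⟨fun ho => h3 (c.al_of_orth hK hL ho hxK hx.2.1 hyL hy.2.1), ?_⟩
      have h4 : Commute x y := c.h.comm hA hx.1 hy.1
      have h5 : Commute (zz K) (zz L) := by
        rw [← c.h.sq_eq hK hxK hx.2.1, ← c.h.sq_eq hL hyL hy.2.1]
        exact c.sq_comm h4
      rcases c.three hK hL h5 with h6 | h6 | h6
      · exact Or.inl h6
      · exact absurd (c.al_of_orth hK hL h6 hxK hx.2.1 hyL hy.2.1) h3
      · exact Or.inr (Or.inl h6)
    · have h3 : al Om U x u' ≠ 0 := c.al_trans hA hx hv hu' (c.al_symm hA hv hx h1) h2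
      exact c.chain_one hA hK hL hsT htT hx hxK hm' (c.al_symm hA hx hu' h3)
  · obtain ⟨-, ⟨y, hy, hyL, h2⟩ | ⟨u', hu', h2, hm'⟩⟩ := hLv
    · have h3 : al Om U v' y ≠ 0 := c.al_trans hA hv' hv hy (c.al_symm hA hv hv' h1) h2
      obtain ⟨h4, h5⟩ := c.chain_one hA hL hK htT hsT hy hyL hm h3
      exact ⟨fun ho => h4 (c.orth_symm ho), c.chn_symm h5⟩
    · have h3 : al Om U v' u' ≠ 0 := c.al_trans hA hv' hv hu' (c.al_symm hA hv hv' h1) h2
      have h4 : Mn Om U A (zz L) v' := by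
        rcases c.minus_same hA hT hsT htT hm hm' h3 with h5 | h5
        · rw [h5] at hm'; exact hm'
        · rw [h5] at hm'
          have := hm'.inv c.h hA
          rwa [inv_inv] at this
      exact c.chain_two hA hT hK hL hsT htT hm h4

/-- **E3**, the chain -/
theorem chain (hT : IsPGroup 2 T) (hK : K ∈ Om) (hL : L ∈ Om) (hsT : zz K ∈ T) (htT : zz L ∈ T) (hno : ¬ Orth K L) :
    Chn Om U T K L := by
  obtain ⟨A, hA, hTA, -⟩ := c.exists_A hT
  obtain ⟨v, hKv⟩ := c.exists_inn hA hK (hTA hsT)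
  obtain ⟨u, hLu⟩ := c.exists_inn hA hL (hTA htT)
  by_cases h0 : al Om U v u = 0
  · exact absurd (c.orth_of_inn hA hT hTA hK hL hsT htT hKv hLu h0) hno
  · exact (c.chain_of_inn hA hT hK hL hsT htT hKv (c.inn_trans hA hLu hKv.1 h0)).2

/-- **E3**, the equivalence relation -/
theorem not_orth_trans (hT : IsPGroup 2 T) (hK : K ∈ Om) (hL : L ∈ Om) (hM : M ∈ Om) (h1 : zz K ∈ T) (h2 : zz L ∈ T)
    (h3 : zz M ∈ T) (hKL : ¬ Orth K L) (hLM : ¬ Orth L M) : ¬ Orth K M := by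
  obtain ⟨A, hA, hTA, -⟩ := c.exists_A hT
  obtain ⟨v, hKv⟩ := c.exists_inn hA hK (hTA h1)
  obtain ⟨u, hLu⟩ := c.exists_inn hA hL (hTA h2)
  obtain ⟨w, hMw⟩ := c.exists_inn hA hM (hTA h3)
  have h4 : al Om U v u ≠ 0 := fun h0 => hKL (c.orth_of_inn hA hT hTA hK hL h1 h2 hKv hLu h0)
  have h5 : al Om U u w ≠ 0 := fun h0 => hLM (c.orth_of_inn hA hT hTA hL hM h2 h3 hLu hMw h0)
  exact (c.chain_of_inn hA hT hK hM h1 h3 hKv (c.inn_trans hA hMw hKv.1 (c.al_trans hA hKv.1 hLu.1 hMw.1 h4 h5))).1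

end AW

end Cfsg.Agent.Cit.CVA
end

-- part: Cit/Nil/CVA/Four
section
set_option linter.all false
open scoped Cfsg.Agent.FastGrp

/-!
# (6b)(CV), type `A2`: (E4), (E5), linkage classes

* `AW.mem_norm` : `N(K) = C(zz K)`;
* `AW.exists_A_set` : members with pairwise commuting involutions lie in a common `A`;
* `AW.ne_zz`, `AW.ne_zz'` : an element acting on two components is not a `zz`;
* `AW.prod_ne_one`, `AW.prod_ne_zz` : pairwise orthogonal members;
* `AW.exists_zero`, `AW.exists_le_cen` : an involution of `A` centralises a member of every component;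
* `LC` : the linkage classes.
-/

set_option autoImplicit false
set_option linter.style.haveILetI false
set_option linter.unusedSectionVars false

namespace Cfsg.Agent.Cit.CVA

open Subgroup Cfsg Cit Tau CV NilT
open Cfsg.Agent.Cit.CV1 (Orth)

variable {G : Type*} [Group G] [Finite G] {Om : Set (Subgroup G)} {U : Subgroup G → Subgroup G}
  {A B K L M N N' T : Subgroup G} {a b e g s s' t u v w x x' y v₁ v₂ v₃ : G}

namespace AW

variable (c : AW Om U)
include c

/-- `N(K) = C(zz K)` -/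
theorem mem_norm (hK : K ∈ Om) : g ∈ normalizer (K : Set G) ↔ Commute g (zz K) := by
  constructor
  · exact fun h => c.h.hyp.comm_zz hK h
  · intro h
    rw [mem_normalizer_iff_cj]
    apply c.over_eq (c.h.hyp.conj K hK _) hK
    rw [zz_cn c.h hK]
    exact cn_of h

/-- **E4** for two members -/
theorem orth_mul_ne (hK : K ∈ Om) (hL : L ∈ Om) (ho : Orth K L) (hN : N ∈ Om) : zz K * zz L ≠ zz N := by
  obtain ⟨x, hx, hx4⟩ := c.h.exists_v hK
  obtain ⟨y, hy, hy4⟩ := c.h.exists_v hL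
  have hxy := c.comm_V hK hL (c.orth_comm hK hL ho) hx hx4 hy hy4
  obtain ⟨A, hA, hxA, hyA⟩ := c.exists_A2 (c.rt_root hK hx hx4) (c.rt_root hL hy hy4) hxy.eq
  have h0 := c.al_of_orth hK hL ho hx hx4 hy hy4
  rw [← c.h.sq_eq hK hx hx4, ← c.h.sq_eq hL hy hy4]
  exact c.mul_ne_zz hA hxA hyA h0 hN

/-- **E5** in a triple -/
theorem tri_zero (hA : IsA Om U A) (l : Tri Om U A v₁ v₂ v₃) (he : e ∈ A) (h2 : e * e = 1) :
    al Om U v₁ e = 0 ∨ al Om U v₂ e = 0 ∨ al Om U v₃ e = 0 := by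
  have h1 := l.sum c.h hA he
  rcases c.h.al_of_sq hA l.m1 he h2 with e1 | e1
  · exact Or.inl e1
  rcases c.h.al_of_sq hA l.m2 he h2 with e2 | e2
  · exact Or.inr (Or.inl e2)
  rcases c.h.al_of_sq hA l.m3 he h2 with e3 | e3
  · exact Or.inr (Or.inr e3)
  rw [e1, e2, e3] at h1
  exact absurd h1 (by decide)

/-- **E5** : `e` centralises a member of the component of `v` -/
theorem exists_zero (hA : IsA Om U A) (hv : v ∈ RR Om U A) (he : e ∈ A) (h2 : e * e = 1) :
    ∃ w ∈ RR Om U A, al Om U v w ≠ 0 ∧ al Om U w e = 0 := by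
  obtain ⟨v₂, v₃, l⟩ := c.exists_tri hA hv
  rcases c.tri_zero hA l he h2 with h1 | h1 | h1
  · exact ⟨v, hv, by rw [c.h.al_self hA hv]; decide, h1⟩
  · exact ⟨v₂, l.m2, by rw [l.a12]; decide, h1⟩
  · exact ⟨v₃, l.m3, by rw [l.a13]; decide, h1⟩

theorem le_cen (hA : IsA Om U A) (hK : K ∈ Om) (hv : v ∈ U K) (hvA : v ∈ RR Om U A) (he : e ∈ A) :
    K ≤ centralizer {e} ↔ al Om U v e = 0 := by
  constructor
  · intro hh
    obtain ⟨y, hy, hyX⟩ := c.h.exists_y hK
    refine c.h.al_eq hA hK hv hvA.2.1 hvA.1 hy hyX he ?_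
    rw [neg_zero, pw_zero, mul_one, mem_centralizer_singleton_iff.1 (hh hy), mul_inv_cancel_right]
  · intro hh y hy
    rw [mem_centralizer_singleton_iff]
    by_cases hyX : y ∈ XX U K
    · exact c.h.XX_comm hA hK hv hvA.2.1 hvA.1 hyX he
    · have h1 := c.h.al_spec hA hK hv hvA.2.1 hvA.1 hy hyX he
      rw [hh, neg_zero, pw_zero, mul_one] at h1
      exact mul_inv_eq_iff_eq_mul.1 h1

/-- **E5**, the members -/
theorem exists_le_cen (hA : IsA Om U A) (hK : K ∈ Om) (hv : v ∈ U K) (hvA : v ∈ RR Om U A) (he : e ∈ A) (h2 : e * e = 1) :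
    K ≤ centralizer {e} ∨ ∃ M, Lnk Om U K M ∧ M ≤ centralizer {e} ∧ ∃ w ∈ U M, w ∈ RR Om U A := by
  obtain ⟨w, hw, h3, h4⟩ := c.exists_zero hA hvA he h2
  obtain ⟨hwA, hw4, M, hM, hwM⟩ := id hw
  have h5 := (c.le_cen hA hM hwM hw he).2 h4
  by_cases h6 : al Om U v w = 2
  · left
    have h7 : K = M := by
      rcases c.h.al_two hA hvA hw h6 with h8 | h8
      · rw [h8] at hwM
        exact c.h.eq_of_mem hK hM hv hwM hvA.2.1
      · rw [h8, inv_mem_iff] at hwM
        exact c.h.eq_of_mem hK hM hv hwM hvA.2.1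
    rw [h7]; exact h5
  · exact Or.inr ⟨M, ⟨hK, hM, A, hA, v, hv, w, hwM, hvA, hw, h3, h6⟩, h5, w, hwM, hw⟩

/-! ### the linkage classes -/

end AW

end Cfsg.Agent.Cit.CVA
end
end
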