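import Cfsg.Agent.Cit.Nil.RTwoM.ELay_m3
import Cfsg.Agent.Cit.Nil.RTwoM.L1.GraphC_m3
import Cfsg.Agent.Cit.Nil.RI.Closed_m3
import Cfsg.Agent.Cit.Nil.RTwoM.Base_m3
import Cfsg.Agent.Cit.Nil.LO.FormQ_m3
import Cfsg.Agent.Cit.OneBasic
import Cfsg.Agent.ProdFusion.FunctorComplete_m3
import Cfsg.Agent.PermParts.Consumer_m3
import Cfsg.Agent.FastGrp
import Cfsg.Agent.Prune
set_option linter.all false

section
prune_inst 0x7f00000000000000000000000000000000000000000000000000000000000000000000000000000000000000000000000000000000000000000000000000000000000000000000000000000000000000003fffffffffffffffffffffffffffbeffbdffffffff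

-- part: Cit/Nil/RTwoM/L1/Bridge
section
set_option linter.all false
open scoped Cfsg.Agent.FastGrp

/-!
# S1309, (6b), `r = 2`: the world `WM Om` is a world `WG {z | InZ Om z} (RZ Om)`

* `Zs Om = {z | InZ Om z}`; `cp_iff`, `cen_iff'`, `cs_eq`, `tt_eq` : the two languages;
* `WM.wg`, `WM.dat`; `an_of`, `ant_of`.
-/

set_option autoImplicit false
set_option linter.style.haveILetI false
set_option linter.unusedSectionVars false

namespace Cfsg.Agent.Cit.Nil.RTwoM.L1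

open Subgroup Cfsg Cfsg.Agent.Cit

variable {G : Type*} [Group G] {Om : Set (Subgroup G)} {K L M : Subgroup G} {z t u v g x y s : G}

/-- `Z` -/
def Zs (Om : Set (Subgroup G)) : Set G := {z | InZ Om z}

variable [Finite G]

theorem cen_iff' : ROne.Cen (RZ Om) s z ↔ s ∈ CX Om z := by
  constructor
  · intro h1
    rw [mem_CX]
    exact fun K hK k hk => h1 k (hK.le_RZ hk)
  · exact fun h1 k hk => CX_comm hk h1

theorem cp_iff (h : WM Om) (hz : InZ Om z) (ht : InZ Om t) : ROne.CP (RZ Om) z t ↔ RG.CP Om z t := by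
  constructor
  · rintro ⟨h1, h2⟩
    exact ⟨h1, fun K hK L hL a ha b hb => h2 a (Mem.le_RZ (z := z) hK ha) b (Mem.le_RZ (z := t) hL hb)⟩
  · intro h1
    exact ⟨h1.1, fun a ha b hb => cp_RZ h h1 ha hb⟩

theorem two_RZ (h : WM Om) (hz : InZ Om z) : IsPGroup 2 (RZ Om z) := by
  rw [← RR_eq]
  exact h.wr.RR_two hz

theorem RZ_cj (h : WM Om) (z g : G) : RZ Om (g * z * g⁻¹) = cj g (RZ Om z) := by
  have key : ∀ z g : G, cj g (RZ Om z) ≤ RZ Om (g * z * g⁻¹) := by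
    intro z g x hx
    rw [mem_cj] at hx
    have h1 := RZ_conj h g hx
    have h2 : g * (g⁻¹ * x * g) * g⁻¹ = x := by group
    rwa [h2] at h1
  refine le_antisymm ?_ (key z g)
  have h1 := cj_mono g (key (g * z * g⁻¹) g⁻¹)
  rw [cj_cj_inv] at h1
  have h2 : g⁻¹ * (g * z * g⁻¹) * g⁻¹⁻¹ = z := by group
  rwa [h2] at h1

theorem _root_.Cfsg.Agent.Cit.Nil.RTwoM.WM.wg (h : WM Om) : WG (Zs Om) (RZ Om) where
  sq z hz := InZ.z2 hz h
  ne z hz := InZ.z1 hz h
  mem z hz := z_mem_RZ hz h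
  cent' z _ x hx := RZ_le_centralizer h hx
  two' z hz := two_RZ h hz
  conjZ z hz g := InZ.conj hz h g
  conjK z _ g := RZ_cj h z g
  com' S hS z hz u hu h1 h2 hne := by
    obtain ⟨K, hK⟩ : InZ Om z := hz
    obtain ⟨L, hL⟩ : InZ Om u := hu
    refine (cp_iff h ⟨K, hK⟩ ⟨L, hL⟩).2 (cp_of_cen h hK ⟨L, hL⟩ hne fun k hk => ?_)
    have hne' : K ≠ L := by
      rintro rfl
      exact hne (hK.2.symm.trans hL.2)
    exact (com h hS hK.1 hL.1 (hK.le_RZ.trans h1) (hL.le_RZ.trans h2) hne' k hk u (hL.zmem h)).symm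
  csymm' z hz u hu hne hc := by
    rw [cen_iff'] at hc
    rcases (cen_iff h hz hu).1 hc with h1 | h1
    · exact absurd h1 hne
    · exact (cp_iff h hz hu).2 h1

theorem cs_eq (h : WM Om) (S : Sylow 2 G) : ROne.CS (Zs Om) (RZ Om) (S : Subgroup G) = RI.CS Om (S : Subgroup G) := by
  ext z
  constructor
  · rintro ⟨⟨K, hK⟩, h1⟩
    exact ⟨K, hK, hK.le_RZ.trans h1⟩
  · intro hz
    exact ⟨CS.inZ hz, CS.RZ_le hz h⟩

theorem tt_eq (h : WM Om) (S : Sylow 2 G) : ROne.TT (Zs Om) (RZ Om) (S : Subgroup G) = TT Om (S : Subgroup G) := by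
  unfold ROne.TT TT
  rw [cs_eq h S]

theorem _root_.Cfsg.Agent.Cit.Nil.RTwoM.WM.dat (h : WM Om) : Dat (Zs Om) (RZ Om) := by
  intro S b hb hbb hmove
  rw [cs_eq h S] at hmove ⊢
  obtain ⟨K, h1, h2⟩ := RI.exists_K h.wr hb hbb hmove
  exact ⟨K, {
    sq := fun z hz => (CS.inZ hz).z2 h
    ne := fun z hz => (CS.inZ hz).z1 h
    mem := fun z hz => Mem.zmem (h1 z hz).1 h
    le := fun z hz => (h1 z hz).2
    q8 := fun z hz => h.wr.q8 _ (h1 z hz).1.1
    comm := fun z hz u hu hne => (CS.cp hz h S.isPGroup' hu hne).2 _ (h1 z hz).1 _ (h1 u hu).1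
    conjZ := fun s hs z hz => CS.conj hz h hs
    conjK := h2 }⟩

theorem an_of (ha : ANt Om s) : ROne.AN (Zs Om) (RZ Om) s := by
  rintro y ⟨K, hK⟩ hc
  obtain ⟨N, h1, h2, h3, h4⟩ := ha K hK.1 fun k hk => hc k (hK.le_RZ hk)
  rw [hK.2] at h4
  exact ⟨N, h1, h2, h3, h4⟩

theorem an_of_tt (h : WM Om) (ha : ANT Om) (S : Sylow 2 G) (hs : s ∈ ROne.TT (Zs Om) (RZ Om) (S : Subgroup G))
    (hs1 : s ≠ 1) : ROne.AN (Zs Om) (RZ Om) s := by
  rw [tt_eq h S] at hs
  exact an_of (ha S s hs hs1)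

end Cfsg.Agent.Cit.Nil.RTwoM.L1
end

-- part: Cit/Nil/RTwoM/L1/ClTwo
section
set_option linter.all false
open scoped Cfsg.Agent.FastGrp

/-!
# S1309, (6b), `r = 2`: section 2 of helper545's text: the normal closures `N = ⟨y^{C(s)}⟩`

`NC s y = ⟨y^{C(s)}⟩`, for `s` with `AN(s)` and `y ∈ Z(s)` : context `c : S2 Om s y` (`w : WM Om`, `an`, `mem`).
`ROne/ClTwoW.lean` (helper400) for `K y := R_y`.

* `c.mem_or`, `c.mem_of_ne` (2.4); `c.comm_of_not_mem` (2.1);
* `c.sq_of_comm`, `c.centre`, `c.class_two`, `c.sq_comm`, `c.not_central` (2.2);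
* `c.mem_inf` : a member over `y` meets `N` in `⟨y⟩`;
* `c.inner`, `c.inner_R`, `c.cj_eq` (2.3), **`N` not commutative**;
* `c.exists_w` (2.5), (2.6); `c.csw`, `c.wt_eq`, `c.wt_spec`, `c.wt_unique`, `c.comm_of_orbit`, `c.comm_of_no_csw`;
* the same as `WM.nc_*`.
-/

set_option autoImplicit false
set_option linter.style.haveILetI false
set_option linter.unusedSectionVars false

namespace Cfsg.Agent.Cit.Nil.RTwoM

open Subgroup Cfsg Cfsg.Agent.Cit
open L1 (Zs)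
open ROne (NC NCab wt self_mem_NC conj_mem_NC cj_NC mem_NC_conj NC_norm NC_le_of_norm NC_le_NC NC_conj comm_of_gens comm_inv
  K_le_cent K_norm)

variable {G : Type*} [Group G] {Om : Set (Subgroup G)} {K L M : Subgroup G} {z t u v g x y s n m k a b : G}

namespace L1

/-- `x ∈ Z(s)` -/
abbrev ZS (Om : Set (Subgroup G)) (s : G) : Set G := ROne.ZC (Zs Om) (RZ Om) s

/-- `AN(s)` in the form of `ROne` -/
abbrev ANs (Om : Set (Subgroup G)) (s : G) : Prop := ROne.AN (Zs Om) (RZ Om) s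

/-- the context of section 2: `WM`, `AN(s)`, `y ∈ Z(s)` -/
structure S2 (Om : Set (Subgroup G)) (s y : G) : Prop where
  w : WM Om
  an : ANs Om s
  mem : y ∈ ZS Om s

/-- the orbit of `M` under `C(s)` -/
def orbM (s : G) (M : Subgroup G) : Set (Subgroup G) := {L | ∃ g ∈ centralizer {s}, cj g M = L}

namespace S2

variable [Finite G]

theorem ZS_conj (h : WM Om) (hy : y ∈ ZS Om s) (hg : g * s = s * g) : g * y * g⁻¹ ∈ ZS Om s := by
  refine ⟨h.wg.conjZ y hy.1 g, ?_⟩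
  have h1 := h.wg.cen_conj hy.1 g hy.2
  rwa [hg, mul_inv_cancel_right] at h1

theorem conj (c : S2 Om s y) (hg : g * s = s * g) : S2 Om s (g * y * g⁻¹) := ⟨c.w, c.an, ZS_conj c.w c.mem hg⟩

theorem other (c : S2 Om s y) (hx : x ∈ ZS Om s) : S2 Om s x := ⟨c.w, c.an, hx⟩

theorem pN (c : S2 Om s y) : IsPGroup 2 (NC s y) := NC_two c.an c.mem

theorem mem_le_cent (hc : x ∈ ZS Om s) (hM : Mem Om x M) : M ≤ centralizer {s} := hM.le_RZ.trans (K_le_cent hc)

theorem NC_eq (h : WM Om) (hM : Mem Om y M) (s : G) : NC s y = closure (zz '' orbM s M) := by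
  rw [NC]
  congr 1
  ext x
  constructor
  · rintro ⟨g, hg, rfl⟩
    exact ⟨cj g M, ⟨g, mem_centralizer_singleton_iff.2 hg, rfl⟩, (hM.cj h g).2⟩
  · rintro ⟨_, ⟨g, hg, rfl⟩, rfl⟩
    exact ⟨g, mem_centralizer_singleton_iff.1 hg, (hM.cj h g).2⟩

theorem orb (c : S2 Om s y) (hM : Mem Om y M) :
    Cfsg.Agent.Cit.ROne.Orb Om (centralizer {s}) (NC s y) (orbM s M) := by
  have h1 := Cfsg.Agent.Cit.ROne.Orb.of_orbit (H := centralizer {s}) c.w.hyp
    (fun L hL => c.w.isPGroup hL) (K := M) hM.1 (mem_le_cent c.mem hM) (by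
      have := c.pN
      rw [NC_eq c.w hM] at this
      exact this)
  rw [NC_eq c.w hM]
  exact h1

theorem orb_self : M ∈ orbM s M := ⟨1, one_mem _, by rw [cj_one]⟩

/-- **(2.4)** : `x ∈ Z(s)` lies in `N`, or `R_x` commutes with `N` -/
theorem mem_or (c : S2 Om s y) (hx : x ∈ ZS Om s) : x ∈ NC s y ∨ ∀ k ∈ RZ Om x, ∀ n ∈ NC s y, k * n = n * k := by
  by_cases h1 : x ∈ NC s y
  · exact Or.inl h1
  right
  have h2 : RZ Om x ≤ centralizer (NC s y : Set G) := RZ_le fun M hM k hk => by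
    rw [mem_centralizer_iff]
    intro n hn
    refine (c.w.hyp.lemma_one hM.1 (c.w.isPGroup hM.1) c.pN (hM.le_RZ.trans (K_norm hx y)) ?_ k hk n hn).symm
    rwa [hM.2]
  exact fun k hk n hn => (mem_centralizer_iff.1 (h2 hk) n hn).symm

theorem mem_of_ne (c : S2 Om s y) (hx : x ∈ ZS Om s) (hn : n ∈ NC s y) (hne : x * n ≠ n * x) : x ∈ NC s y := by
  rcases c.mem_or hx with h | h
  · exact h
  · exact absurd (h x (c.w.wg.mem x hx.1) n hn) hne

/-- **(2.1)** : a `C(s)`-invariant subgroup of `N` without `y` commutes with `R_y` -/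
theorem comm_of_not_mem (c : S2 Om s y) {V : Subgroup G} (hV : centralizer {s} ≤ normalizer (V : Set G))
    (hVN : V ≤ NC s y) (hy : y ∉ V) : ∀ k ∈ RZ Om y, ∀ n ∈ V, k * n = n * k := by
  have h2 : RZ Om y ≤ centralizer (V : Set G) := RZ_le fun M hM k hk => by
    rw [mem_centralizer_iff]
    intro n hn
    refine (c.w.hyp.lemma_one hM.1 (c.w.isPGroup hM.1) (c.pN.to_le hVN) ((mem_le_cent c.mem hM).trans hV) ?_ k hk n
      hn).symm
    rwa [hM.2]
  exact fun k hk n hn => (mem_centralizer_iff.1 (h2 hk) n hn).symm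

/-- a member over `y` meets `N` in `⟨y⟩` -/
theorem mem_inf (c : S2 Om s y) (hM : Mem Om y M) (hx : x ∈ M) (hxN : x ∈ NC s y) : x = 1 ∨ x = y := by
  have h1 := (c.orb hM).mem_inf orb_self hx hxN
  rwa [hM.2] at h1

section noncomm

variable (hnc : ¬ ∀ a ∈ NC s y, ∀ b ∈ NC s y, a * b = b * a)

include hnc

/-- the centre of `N` commutes with `R_y` -/
theorem centre (c : S2 Om s y) (hn : n ∈ NC s y) (hc : ∀ a ∈ NC s y, n * a = a * n) (hk : k ∈ RZ Om y) :
    k * n = n * k := by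
  have h2 : RZ Om y ≤ centralizer {n} := RZ_le fun M hM k hk => by
    rw [mem_centralizer_singleton_iff]
    exact (c.orb hM).centre hnc orb_self hk hn hc
  exact mem_centralizer_singleton_iff.1 (h2 hk)

theorem class_two (c : S2 Om s y) (ha : a ∈ NC s y) (hb : b ∈ NC s y) (hn : n ∈ NC s y) :
    (a * b * a⁻¹ * b⁻¹) * n = n * (a * b * a⁻¹ * b⁻¹) := by
  obtain ⟨M, hM⟩ : InZ Om y := c.mem.1
  exact (c.orb hM).class_two hnc ha hb hn

theorem not_central (c : S2 Om s y) : ¬ ∀ n ∈ NC s y, y * n = n * y := by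
  obtain ⟨M, hM⟩ : InZ Om y := c.mem.1
  have h1 := (c.orb hM).zz_not_central hnc orb_self
  rwa [hM.2] at h1

/-- a conjugate of `y` which does not commute with `y` -/
theorem exists_nc (c : S2 Om s y) : ∃ g, g * s = s * g ∧ (g * y * g⁻¹) * y ≠ y * (g * y * g⁻¹) := by
  by_contra hcon
  push Not at hcon
  exact c.not_central hnc (comm_of_gens fun g hg => (hcon g hg).symm)

/-- (2.3): `n ∈ C_N(y)` normalises the members over `y` -/
theorem cj_self (c : S2 Om s y) (hM : Mem Om y M) (hn : n ∈ NC s y) (hny : n * y = y * n) : cj n M = M := by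
  by_contra hne
  obtain ⟨g, hg, hgy⟩ := c.exists_nc hnc
  have hmN : g * y * g⁻¹ ∈ NC s y := conj_mem_NC hg
  have h1 : M ≠ cj (g * y * g⁻¹) M := by
    intro h2
    have h3 := (hM.cj c.w (g * y * g⁻¹)).2
    rw [← h2, hM.2, eq_mul_inv_iff_mul_eq] at h3
    exact hgy h3.symm
  have h2 := (c.orb hM).unique hnc orb_self hn hmN (Ne.symm hne) h1
  have h3 := (hM.cj c.w n).2
  rw [h2, (hM.cj c.w (g * y * g⁻¹)).2, hny, mul_inv_cancel_right, mul_inv_eq_iff_eq_mul] at h3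
  exact hgy h3

theorem inner_self (c : S2 Om s y) (hM : Mem Om y M) (hn : n ∈ NC s y) (hny : n * y = y * n) (hk : k ∈ M) :
    n * k * n⁻¹ = k ∨ n * k * n⁻¹ = k * y := by
  have h0 : n * k * n⁻¹ ∈ M := by
    have h1 := conj_mem_cj (g := n) hk
    rwa [c.cj_self hnc hM hn hny] at h1
  have h1 : k⁻¹ * (n * k * n⁻¹) ∈ M := mul_mem (inv_mem hk) h0
  have h2 : k⁻¹ * (n * k * n⁻¹) ∈ NC s y := by
    have h3 := (mem_normalizer_iff.1 (K_norm c.mem y (inv_mem (hM.le_RZ hk))) n).1 hn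
    have h4 : k⁻¹ * (n * k * n⁻¹) = (k⁻¹ * n * k⁻¹⁻¹) * n⁻¹ := by group
    rw [h4]
    exact mul_mem h3 (inv_mem hn)
  rcases c.mem_inf hM h1 h2 with h3 | h3
  · left; rwa [inv_mul_eq_one, eq_comm] at h3
  · right; rwa [inv_mul_eq_iff_eq_mul] at h3

/-- `x ∈ Z(s)`: `R_x` commutes with `N`, or `N = ⟨x^{C(s)}⟩` -/
theorem dich (c : S2 Om s y) (hx : x ∈ ZS Om s) :
    (∀ k ∈ RZ Om x, ∀ n ∈ NC s y, k * n = n * k) ∨ NC s x = NC s y := by
  rcases c.mem_or hx with hxN | h1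
  swap
  · exact Or.inl h1
  have hle : NC s x ≤ NC s y := NC_le_NC hxN
  by_cases hy : y ∈ NC s x
  · exact Or.inr (le_antisymm hle (NC_le_NC hy))
  left
  -- `x` commutes with all `y^g`
  have h1 : ∀ g, g * s = s * g → ∀ k ∈ RZ Om (g * y * g⁻¹), k * x = x * k := by
    intro g hg k hk
    refine (c.conj hg).comm_of_not_mem (NC_norm s x) (by rwa [NC_conj hg]) (fun h2 => hy ?_) k hk x self_mem_NC
    have h3 := mem_NC_conj (comm_inv hg) h2
    have h4 : g⁻¹ * (g * y * g⁻¹) * g⁻¹⁻¹ = y := by group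
    rwa [h4] at h3
  intro k hk
  refine comm_of_gens fun g hg => ?_
  have hyg := (c.conj hg).mem.1
  have h2 : ROne.Cen (RZ Om) x (g * y * g⁻¹) := fun k hk => (h1 g hg k hk).symm
  rcases (c.w.wg.cen_iff hyg hx.1).1 h2 with h3 | h3
  · exact absurd (by
      have h4 := mem_NC_conj (comm_inv hg) (self_mem_NC (s := s) (y := x))
      have h5 : g⁻¹ * x * g⁻¹⁻¹ = y := by rw [← h3]; group
      rwa [h5] at h4) hy
  · exact (h3.2 _ (c.w.wg.mem _ hyg) k hk).symm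

/-- **(2.3)** : `n ∈ N` commuting with `x ∈ Z(s)` normalises the members over `x` -/
theorem cj_eq (c : S2 Om s y) (hx : x ∈ ZS Om s) (hM : Mem Om x M) (hn : n ∈ NC s y) (hnx : n * x = x * n) :
    cj n M = M := by
  rcases c.dich hnc hx with h1 | h1
  · have h2 : n ∈ normalizer (M : Set G) := by
      rw [mem_normalizer_iff]
      intro k
      constructor
      · intro hk
        rw [← h1 k (hM.le_RZ hk) n hn, mul_inv_cancel_right]
        exact hk
      · intro hk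
        have h3 := h1 _ (hM.le_RZ hk) n hn
        have h4 : n * k * n⁻¹ = k := by
          have h5 : n * k = n * (n * k * n⁻¹) := by rw [← h3]; group
          exact (mul_left_cancel h5).symm
        rwa [h4] at hk
    exact mem_normalizer_iff_cj.1 h2
  · refine (c.other hx).cj_self (by rwa [h1]) hM (by rwa [h1]) hnx

/-- **(2.3)** : `n ∈ N` commuting with `x ∈ Z(s)` acts on the members over `x` as an inner automorphism -/
theorem inner (c : S2 Om s y) (hx : x ∈ ZS Om s) (hM : Mem Om x M) (hn : n ∈ NC s y) (hnx : n * x = x * n)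
    (hk : k ∈ M) : n * k * n⁻¹ = k ∨ n * k * n⁻¹ = k * x := by
  rcases c.dich hnc hx with h1 | h1
  · left
    rw [← h1 k (hM.le_RZ hk) n hn, mul_inv_cancel_right]
  · exact (c.other hx).inner_self (by rwa [h1]) hM (by rwa [h1]) hnx hk

/-- (2.3): `Inn` -/
theorem inn (c : S2 Om s y) (hx : x ∈ ZS Om s) (hn : n ∈ NC s y) (hnx : n * x = x * n) : Inn Om x n := by
  intro M hM k hk
  rcases c.inner hnc hx hM hn hnx hk with h1 | h1
  · exact Or.inl h1
  · right; rw [h1, hM.comm_z c.w hk]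

end noncomm

/-- **(2.5), (2.6)** : `N` not commutative: `w` -/
theorem exists_w (c : S2 Om s y) (hnc : ¬ ∀ a ∈ NC s y, ∀ b ∈ NC s y, a * b = b * a) :
    ∃ w, w ≠ 1 ∧ w * w = 1 ∧ w ∈ NC s y ∧ (∀ n ∈ NC s y, w * n = n * w) ∧ (∀ k ∈ RZ Om y, k * w = w * k) ∧
      ROne.CP (RZ Om) y (y * w) ∧ y * w ∈ Zs Om ∧ (∀ n ∈ NC s y, n * y * n⁻¹ = y ∨ n * y * n⁻¹ = y * w) ∧
      ∃ g, g * s = s * g ∧ (g * y * g⁻¹) * y * (g * y * g⁻¹)⁻¹ = y * w := by
  have hyZ := c.mem.1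
  obtain ⟨M, hM⟩ : InZ Om y := c.mem.1
  have hyp := c.w.hyp
  obtain ⟨g, hg, hgy⟩ := c.exists_nc hnc
  set m := g * y * g⁻¹ with hm
  have hmN : m ∈ NC s y := conj_mem_NC hg
  have hKne : ∀ n, n * y * n⁻¹ ≠ y → M ≠ cj n M := by
    intro n h1 h2
    have h3 := (hM.cj c.w n).2
    rw [← h2, hM.2] at h3
    exact h1 h3.symm
  have hmy : m * y * m⁻¹ ≠ y := by rwa [Ne, mul_inv_eq_iff_eq_mul]
  have hzz : zz (cj m M) = m * y * m⁻¹ := (hM.cj c.w m).2
  have hw1 : ∀ n ∈ NC s y, _ := fun n hn => (c.orb hM).w_comm hnc orb_self hmN hn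
  have hw2 := (c.orb hM).w_mem orb_self hmN
  rw [hzz, hM.2] at hw1 hw2
  have hyy := c.w.wg.sq y hyZ
  have hyw : y * (y * (m * y * m⁻¹)) = m * y * m⁻¹ := by rw [← mul_assoc, hyy, one_mul]
  have hw4 : ∀ k ∈ RZ Om y, k * (y * (m * y * m⁻¹)) = (y * (m * y * m⁻¹)) * k := fun k hk =>
    c.centre hnc hw2 hw1 hk
  refine ⟨y * (m * y * m⁻¹), ?_, ?_, hw2, hw1, hw4, ?_, ?_, ?_, g, hg, ?_⟩
  · intro h1
    apply hmy
    calc m * y * m⁻¹ = y * (y * (m * y * m⁻¹)) := hyw.symm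
      _ = y := by rw [h1, mul_one]
  · have h1 := hw4 y (c.w.wg.mem y hyZ)
    rw [hyw] at h1
    have h2 : (m * y * m⁻¹) * (m * y * m⁻¹) = 1 := by
      have : (m * y * m⁻¹) * (m * y * m⁻¹) = m * (y * y) * m⁻¹ := by group
      rw [this, hyy]; group
    calc y * (m * y * m⁻¹) * (y * (m * y * m⁻¹)) = (y * (m * y * m⁻¹) * y) * (m * y * m⁻¹) := by group
      _ = (m * y * m⁻¹) * (m * y * m⁻¹) := by rw [← h1]
      _ = 1 := h2
  · rw [hyw]
    refine c.w.wg.csymm hyZ (c.w.wg.conjZ y hyZ m) hmy.symm ?_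
    intro k hk
    have h1 := hw4 k hk
    have h2 : k * y = y * k := c.w.wg.cent hyZ hk
    calc m * y * m⁻¹ * k = y * ((y * (m * y * m⁻¹)) * k) := by rw [← mul_assoc, hyw]
      _ = (y * k) * (y * (m * y * m⁻¹)) := by rw [← h1]; group
      _ = k * (y * (y * (m * y * m⁻¹))) := by rw [← h2]; group
      _ = k * (m * y * m⁻¹) := by rw [hyw]
  · rw [hyw]; exact c.w.wg.conjZ y hyZ m
  · intro n hn
    rw [hyw]
    by_cases h1 : n * y * n⁻¹ = y
    · exact Or.inl h1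
    right
    have h2 := (c.orb hM).unique hnc orb_self hn hmN (hKne n h1) (hKne m hmy)
    rw [← hzz, ← h2, (hM.cj c.w n).2]
  · rw [hyw]

/-- an element of `N` moving `y` -/
theorem ncomm_of_ne (hn : n ∈ NC s y) (hne : n * y * n⁻¹ ≠ y) :
    ¬ ∀ a ∈ NC s y, ∀ b ∈ NC s y, a * b = b * a := fun hc => hne (by
  rw [hc n hn y self_mem_NC, mul_inv_cancel_right])

/-- an element of `N` moving `y` moves it to a C-partner -/
theorem csw (c : S2 Om s y) (hn : n ∈ NC s y) (hne : n * y * n⁻¹ ≠ y) : ROne.CSw (RZ Om) y n := by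
  obtain ⟨w, -, -, -, -, -, hcp, -, hw, -⟩ := c.exists_w (ncomm_of_ne hn hne)
  rw [ROne.CSw, (hw n hn).resolve_left hne]
  exact hcp

/-- `w(y, n)` does not depend on `n ∈ N` moving `y` -/
theorem wt_eq (c : S2 Om s y) {m : G} (hn : n ∈ NC s y) (hne : n * y * n⁻¹ ≠ y) (hm : m ∈ NC s y)
    (hme : m * y * m⁻¹ ≠ y) : wt y n = wt y m := by
  obtain ⟨w, -, -, -, -, -, -, -, hw, -⟩ := c.exists_w (ncomm_of_ne hn hne)
  rw [wt, wt, (hw n hn).resolve_left hne, (hw m hm).resolve_left hme]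

/-- (3.3) -/
theorem wt_unique {u v v1 : G} (c : S2 Om s u) (hv : v ∈ ZS Om s) (hv1 : v1 ∈ ZS Om s)
    (hne : v * u ≠ u * v) (hne1 : v1 * u ≠ u * v1) : wt u v = wt u v1 :=
  c.wt_eq (c.mem_of_ne hv self_mem_NC hne) (by rwa [Ne, mul_inv_eq_iff_eq_mul])
    (c.mem_of_ne hv1 self_mem_NC hne1) (by rwa [Ne, mul_inv_eq_iff_eq_mul])

end S2

end L1

namespace WM

open L1 (S2 ZS ANs)

variable [Finite G]

section

variable (h : WM Om) (ha : ANs Om s) (hy : y ∈ ZS Om s)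

include h ha hy

/-- (2.4) -/
theorem nc_in_or (hx : x ∈ ZS Om s) : x ∈ NC s y ∨ ∀ n ∈ NC s y, ROne.Cen (RZ Om) n x := by
  rcases (S2.mk h ha hy).mem_or hx with h1 | h1
  · exact Or.inl h1
  · exact Or.inr fun n hn k hk => (h1 k hk n hn).symm

/-- (2.3) on members (`N` not commutative) -/
theorem nc_mem (hc : ¬ NCab s y) (hx : x ∈ ZS Om s) (hM : Mem Om x M) (hn : n ∈ NC s y) (hnx : n * x = x * n) :
    ∀ k ∈ M, n * k * n⁻¹ = k ∨ n * k * n⁻¹ = k * x := fun _ hk => (S2.mk h ha hy).inner hc hx hM hn hnx hk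

theorem nc_centre' (hc : ¬ NCab s y) {c : G} (hcN : c ∈ NC s y) (hcc : ∀ n ∈ NC s y, c * n = n * c) :
    ROne.Cen (RZ Om) c y := fun _ hk => ((S2.mk h ha hy).centre hc hcN hcc hk).symm

theorem nc_comm (hc : ¬ NCab s y) (haN : a ∈ NC s y) (hbN : b ∈ NC s y) :
    ∀ n ∈ NC s y, (a * b * a⁻¹ * b⁻¹) * n = n * (a * b * a⁻¹ * b⁻¹) :=
  fun _ hn => (S2.mk h ha hy).class_two hc haN hbN hn

/-- (2.5) -/
theorem nc_uniq {n' : G} (hn : n ∈ NC s y) (hn' : n' ∈ NC s y) (hne : n * y * n⁻¹ ≠ y)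
    (hne' : n' * y * n'⁻¹ ≠ y) : n * y * n⁻¹ = n' * y * n'⁻¹ := by
  have h1 := (S2.mk h ha hy).wt_eq hn hne hn' hne'
  exact mul_left_cancel h1

/-- (2.5) -/
theorem nc_csw (hn : n ∈ NC s y) (hne : n * y * n⁻¹ ≠ y) : ROne.CP (RZ Om) y (n * y * n⁻¹) :=
  (S2.mk h ha hy).csw hn hne

end

end WM

end Cfsg.Agent.Cit.Nil.RTwoM
end

-- part: Cit/Nil/RTwoM/L1/SwapW
section
set_option linter.all false
open scoped Cfsg.Agent.FastGrp

/-!
# S1309, (6b), `r = 2`: C-swaps: `WM Om` is a world `WS` ((3.1))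

* `Qp z w i j` : `⟨i, j⟩` is a quaternion group with involution `w` (or `w = 1`) in `C(z)`;
* `Qp.cen` : if `i`, `j` normalise the member `M` over `z`, then `w` centralises `M`;
* `Qp.cen3` : three pairwise commuting `Qp z w` : `w` centralises the members over `z`;
* `WM.ws` : (3.1).
-/

set_option autoImplicit false
set_option linter.style.haveILetI false
set_option linter.unusedSectionVars false

namespace Cfsg.Agent.Cit.Nil.RTwoM

open Subgroup Cfsg Cfsg.Agent.Cit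
open L1 (Zs)
open ROne (wt dg)
open RTwo (Q3 Act i11 i12 i21 i22 i_ne1 i_ne2 i_ne12 i_cases i_cases3)

variable {G : Type*} [Group G] {Om : Set (Subgroup G)} {K L M : Subgroup G} {z t u v g x y s w i j i' j' a b c : G}

namespace L1

/-- `⟨i, j⟩` is a quaternion group with involution `w` in `C(z)` -/
structure Qp (z w i j : G) : Prop where
  ci : i * z = z * i
  cj' : j * z = z * j
  ii : i * i = w
  jj : j * j = w
  ww : w * w = 1
  ji : j * i = w * (i * j)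

namespace Qp

theorem wi (q : Qp z w i j) : w * i = i * w := by rw [← q.ii, mul_assoc]

theorem wj (q : Qp z w i j) : w * j = j * w := by rw [← q.jj, mul_assoc]

theorem wz (q : Qp z w i j) : w * z = z * w := by
  rw [← q.ii, mul_assoc, q.ci, ← mul_assoc, q.ci, mul_assoc]

theorem symm (q : Qp z w i j) : Qp z w j i where
  ci := q.cj'
  cj' := q.ci
  ii := q.jj
  jj := q.ii
  ww := q.ww
  ji := by rw [q.ji, ← mul_assoc, q.ww, one_mul]

theorem left (q : Qp z w i j) : Qp z w (i * j) j where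
  ci := by rw [mul_assoc, q.cj', ← mul_assoc, q.ci, mul_assoc]
  cj' := q.cj'
  ii := by
    calc i * j * (i * j) = i * (j * i) * j := by group
      _ = i * (w * (i * j)) * j := by rw [q.ji]
      _ = (i * w) * i * (j * j) := by group
      _ = (w * i) * i * (j * j) := by rw [q.wi]
      _ = w * (i * i) * (j * j) := by group
      _ = w * w * w := by rw [q.ii, q.jj]
      _ = w := by rw [q.ww, one_mul]
  jj := q.jj
  ww := q.ww
  ji := by
    calc j * (i * j) = (j * i) * j := by group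
      _ = w * (i * j) * j := by rw [q.ji]
      _ = _ := by group

variable [Finite G]

/-- no quaternion group in `Aut Q₈` -/
theorem cen (q : Qp z w i j) (h : WM Om) (hM : Mem Om z M) (hi : cj i M = M) (hj : cj j M = M) :
    ∀ k ∈ M, w * k = k * w := by
  obtain ⟨x, hx⟩ := h.exists_q3 hM
  obtain ⟨σ, hσ⟩ := hx.exists_act hx hi q.ci
  obtain ⟨τ, hτ⟩ := hx.exists_act hx hj q.cj'
  have hz2 := hx.z2
  have hww : Act z x x (w * w) 1 := by rw [q.ww]; exact Act.one x z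
  have h1 : Act z x x w (σ * σ) := by
    have := hσ.comp hz2 hσ q.ci
    rwa [q.ii] at this
  have h2 : Act z x x w (τ * τ) := by
    have := hτ.comp hz2 hτ q.cj'
    rwa [q.jj] at this
  have h3 := (h1.comp hz2 h1 q.wz).unique hx hww
  have h4 : ∀ σ : Equiv.Perm (Fin 3), σ * σ * (σ * σ) = 1 → σ * σ = 1 := by decide
  have hσσ := h4 σ h3
  rw [hσσ] at h1
  have hττ : τ * τ = 1 := h2.unique hx h1
  have hwi := h1.inner hx q.wz
  -- elements acting as inner automorphisms: their squares act trivially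
  have key : ∀ g : G, g * z = z * g → Act z x x g 1 → g * g = w → ∀ k ∈ M, w * k = k * w := by
    intro g hg ha hgg k hk
    have h5 := ha.inner hx hg
    have h6 : g * g * k * (g * g)⁻¹ = k := by
      have e : g * g * k * (g * g)⁻¹ = g * (g * k * g⁻¹) * g⁻¹ := by group
      rw [e]
      rcases h5 k hk with h7 | h7
      · rw [h7, h7]
      · have e2 : g * (z * k) * g⁻¹ = (g * z * g⁻¹) * (g * k * g⁻¹) := by group
        rw [h7, e2, h7, hg, mul_inv_cancel_right, hx.zzx]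
    rwa [hgg, mul_inv_eq_iff_eq_mul] at h6
  rcases hx.inner_cases hwi with h5 | ⟨m, h5⟩
  · intro k hk
    have := h5 k hk
    rwa [mul_inv_eq_iff_eq_mul] at this
  -- `w` acts as `x m`; `i`, `j` fix `m`
  have hfix : ∀ g : G, g * z = z * g → g * w = w * g → ∀ σ, Act z x x g σ → cj g M = M → σ m = m := by
    intro g hg hgw σ hσ hgM
    by_contra hne
    -- `g (x m) g⁻¹ = (z) x (σ m)` is inverted by `w`
    have h6 : w * x m * w⁻¹ = x m := by rw [h5 _ (hx.mem m), Q3.conj_self]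
    have h7 : w * (g * x m * g⁻¹) * w⁻¹ = g * x m * g⁻¹ := by
      have h8 : w * g * w⁻¹ = g := by rw [← hgw, mul_inv_cancel_right]
      calc w * (g * x m * g⁻¹) * w⁻¹ = (w * g * w⁻¹) * (w * x m * w⁻¹) * (w * g * w⁻¹)⁻¹ := by group
        _ = g * x m * g⁻¹ := by rw [h8, h6]
    have h9 : w * x (σ m) * w⁻¹ = z * x (σ m) := by
      rw [h5 _ (hx.mem _), hx.conj_ne (Ne.symm hne)]
    rcases hσ m with h10 | h10
    · rw [h10, h9] at h7
      exact hx.zx_ne _ h7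
    · rw [h10] at h7
      have e : w * (z * x (σ m)) * w⁻¹ = (w * z * w⁻¹) * (w * x (σ m) * w⁻¹) := by group
      rw [e, h9, q.wz, mul_inv_cancel_right] at h7
      exact hx.zx_ne _ (mul_left_cancel h7)
  have hiw : i * w = w * i := q.wi.symm
  have hjw : j * w = w * j := q.wj.symm
  have hσm := hfix i q.ci hiw σ hσ hi
  have hτm := hfix j q.cj' hjw τ hτ hj
  have hdec : ∀ (m : Fin 3) (σ τ : Equiv.Perm (Fin 3)), σ m = m → τ m = m → σ = 1 ∨ τ = 1 ∨ σ * τ = 1 := by decide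
  rcases hdec m σ τ hσm hτm with h6 | h6 | h6
  · exact key i q.ci (h6 ▸ hσ) q.ii
  · exact key j q.cj' (h6 ▸ hτ) q.jj
  · have h7 := hτ.comp hz2 hσ q.ci
    rw [h6] at h7
    exact key (i * j) q.left.ci h7 q.left.ii

/-- an element commuting with `z` and moving `M` maps it to the other member -/
theorem swap_swap (h : WM Om) (hM : Mem Om z M) (hg : a * z = z * a) (hb : b * z = z * b) (h1 : cj a M ≠ M)
    (h2 : cj b M ≠ M) : cj (a * b) M = M := by
  obtain ⟨L, hL, hne, hall⟩ := hM.other h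
  have h3 : cj a M = L := (hall _ (hM.cj_comm h hg)).resolve_left h1
  have h4 : cj b M = L := (hall _ (hM.cj_comm h hb)).resolve_left h2
  have h5 : cj a L = M := by
    rcases hall _ (hL.cj_comm h hg) with h6 | h6
    · exact h6
    · exact absurd (cj_inj.1 (h3.trans h6.symm)) hne
  rw [cj_mul, h4, h5]

/-- some generator of order 4 normalises `M` -/
theorem exists_fix (q : Qp z w i j) (h : WM Om) (hM : Mem Om z M) :
    ∃ p ∈ closure {i, j}, ∃ r ∈ closure {i, j}, Qp z w p r ∧ cj p M = M := by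
  have hi : i ∈ closure ({i, j} : Set G) := subset_closure (by simp)
  have hj : j ∈ closure ({i, j} : Set G) := subset_closure (by simp)
  by_cases h1 : cj i M = M
  · exact ⟨i, hi, j, hj, q, h1⟩
  by_cases h2 : cj j M = M
  · exact ⟨j, hj, i, hi, q.symm, h2⟩
  · exact ⟨i * j, mul_mem hi hj, j, hj, q.left, swap_swap h hM q.ci q.cj' h1 h2⟩

/-- `w` acts as an inner automorphism on the members over `z` -/
theorem inn (q : Qp z w i j) (h : WM Om) : Inn Om z w := by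
  intro M hM
  obtain ⟨p, -, r, -, q', hp⟩ := q.exists_fix h hM
  obtain ⟨x, hx⟩ := h.exists_q3 hM
  obtain ⟨σ, hσ⟩ := hx.exists_act hx hp q'.ci
  have h1 : Act z x x w (σ * σ) := by
    have := hσ.comp hx.z2 hσ q'.ci
    rwa [q'.ii] at this
  have hww : Act z x x (w * w) 1 := by rw [q.ww]; exact Act.one x z
  have h3 := (h1.comp hx.z2 h1 q.wz).unique hx hww
  have h4 : ∀ σ : Equiv.Perm (Fin 3), σ * σ * (σ * σ) = 1 → σ * σ = 1 := by decide
  rw [h4 σ h3] at h1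
  exact h1.inner hx q.wz

/-- three pairwise commuting quaternion groups with the same involution `w` -/
theorem cen3 {i₁ j₁ i₂ j₂ i₃ j₃ : G} (q₁ : Qp z w i₁ j₁) (q₂ : Qp z w i₂ j₂) (q₃ : Qp z w i₃ j₃) (h : WM Om)
    (h12 : ∀ a ∈ ({i₁, j₁} : Set G), ∀ b ∈ ({i₂, j₂} : Set G), a * b = b * a)
    (h13 : ∀ a ∈ ({i₁, j₁} : Set G), ∀ b ∈ ({i₃, j₃} : Set G), a * b = b * a)
    (h23 : ∀ a ∈ ({i₂, j₂} : Set G), ∀ b ∈ ({i₃, j₃} : Set G), a * b = b * a)
    (hM : Mem Om z M) : ∀ k ∈ M, w * k = k * w := by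
  have comm : ∀ (A B : Set G), (∀ a ∈ A, ∀ b ∈ B, a * b = b * a) → ∀ a ∈ closure A, ∀ b ∈ closure B, a * b = b * a := by
    intro A B hAB a ha b hb
    have h1 : closure A ≤ centralizer B := (closure_le _).2 fun a ha => mem_centralizer_iff.2 fun b hb => (hAB a ha b hb).symm
    have h2 : closure B ≤ centralizer (closure A : Set G) := (closure_le _).2 fun b hb =>
      mem_centralizer_iff.2 fun a ha => (mem_centralizer_iff.1 (h1 ha) b hb).symm
    exact mem_centralizer_iff.1 (h2 hb) a ha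
  obtain ⟨p₁, hp₁, r₁, hr₁, t₁, c₁⟩ := q₁.exists_fix h hM
  obtain ⟨p₂, hp₂, r₂, hr₂, t₂, c₂⟩ := q₂.exists_fix h hM
  obtain ⟨p₃, hp₃, r₃, hr₃, t₃, c₃⟩ := q₃.exists_fix h hM
  have k12 := comm _ _ h12
  have k13 := comm _ _ h13
  have k23 := comm _ _ h23
  by_cases d₁ : cj r₁ M = M
  · exact t₁.cen h hM c₁ d₁
  by_cases d₂ : cj r₂ M = M
  · exact t₂.cen h hM c₂ d₂
  -- `p₁`, `r₁ r₂ p₃`
  have e1 := k12 r₁ hr₁ r₂ hr₂
  have e2 := k13 r₁ hr₁ p₃ hp₃
  have e3 := k23 r₂ hr₂ p₃ hp₃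
  have e4 := k12 p₁ hp₁ r₂ hr₂
  have e5 := k13 p₁ hp₁ p₃ hp₃
  have hj : Qp z w p₁ (r₁ * r₂ * p₃) := {
    ci := t₁.ci
    cj' := by
      calc r₁ * r₂ * p₃ * z = r₁ * r₂ * (p₃ * z) := by group
        _ = r₁ * (r₂ * z) * p₃ := by rw [t₃.ci]; group
        _ = (r₁ * z) * r₂ * p₃ := by rw [t₂.cj']; group
        _ = _ := by rw [t₁.cj']; group
    ii := t₁.ii
    jj := by
      calc r₁ * r₂ * p₃ * (r₁ * r₂ * p₃) = r₁ * r₂ * (p₃ * r₁) * r₂ * p₃ := by group
        _ = r₁ * (r₂ * r₁) * (p₃ * r₂) * p₃ := by rw [← e2]; group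
        _ = r₁ * (r₁ * r₂) * (r₂ * p₃) * p₃ := by rw [← e1, ← e3]
        _ = (r₁ * r₁) * (r₂ * r₂) * (p₃ * p₃) := by group
        _ = w * w * w := by rw [t₁.jj, t₂.jj, t₃.ii]
        _ = w := by rw [t₁.ww, one_mul]
    ww := t₁.ww
    ji := by
      calc r₁ * r₂ * p₃ * p₁ = r₁ * r₂ * (p₃ * p₁) := by group
        _ = r₁ * (r₂ * p₁) * p₃ := by rw [← e5]; group
        _ = (r₁ * p₁) * r₂ * p₃ := by rw [← e4]; group
        _ = w * (p₁ * r₁) * r₂ * p₃ := by rw [t₁.ji]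
        _ = _ := by group }
  refine hj.cen h hM c₁ ?_
  rw [cj_mul, c₃, swap_swap h hM t₁.cj' t₂.cj' d₁ d₂]

end Qp

section

variable [Finite G]

/-- the diagonal of a member -/
theorem Qp.of_dg (h : WM Om) (hu : u ∈ Zs Om) (hv : v ∈ Zs Om) (hs : ROne.CSw (RZ Om) u v) (hK : Mem Om u K)
    {x : Fin 3 → G} (hx : Q3 K u x) : Qp v (wt u v) (dg v (x 0)) (dg v (x 1)) := by
  have w := h.wg
  have hm : ∀ i, x i ∈ RZ Om u := fun i => hK.le_RZ (hx.mem i)
  exact {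
    ci := w.dg_comm_v hu hv hs (hm 0)
    cj' := w.dg_comm_v hu hv hs (hm 1)
    ii := w.dg_sq hu hv hs (hm 0) (hx.sq 0)
    jj := w.dg_sq hu hv hs (hm 1) (hx.sq 1)
    ww := w.wt_sq hu hv hs
    ji := by
      have h1 : x 1 * x 0 = u * (x 0 * x 1) := by
        have h2 := hx.mul' 0
        have h3 := hx.mul 0
        simp only [zero_add] at h2 h3
        rw [h2, h3]
      rw [← w.dg_mul hu hv hs (hm 1) (hm 0), h1, w.dg_mul hu hv hs (w.mem u hu) (mul_mem (hm 0) (hm 1)),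
        w.dg_mul hu hv hs (hm 0) (hm 1)]
      rfl }

/-- **(3.1)** -/
theorem wt_cen (h : WM Om) (hu : u ∈ Zs Om) (hv : v ∈ Zs Om) (hs : ROne.CSw (RZ Om) u v) :
    ROne.Cen (RZ Om) (wt u v) v := by
  have w := h.wg
  obtain ⟨K, hK⟩ := (id hu : InZ Om u)
  obtain ⟨L, hL, hne, -⟩ := hK.other h
  obtain ⟨x, hx⟩ := h.exists_q3 hK
  obtain ⟨y, hy⟩ := h.exists_q3 hL
  have q₁ := Qp.of_dg h hu hv hs hK hx
  have q₂ := Qp.of_dg h hu hv hs hL hy
  obtain ⟨e, he⟩ : ∃ e, e = wt u v := ⟨_, rfl⟩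
  rw [← he] at q₁ q₂ ⊢
  have he1 : e ≠ 1 := by rw [he]; exact w.wt_ne hu hv hs
  have hee : e * e = 1 := q₁.ww
  have hinn := q₁.inn h
  have hconj : u * v * u⁻¹ = v * e := by rw [he]; exact w.conj_v hu hv hs
  have hveZ : InZ Om (v * e) := hconj ▸ w.conjZ v hv u
  have hev : e * v = v * e := q₁.wz
  obtain ⟨M, hM⟩ := (id hv : InZ Om v)
  have hvn : v ≠ v * e := fun h1 => he1 (mul_eq_left.1 h1.symm)
  have hvi : Inn Om v (v * e) := (Inn.of_CX (z_mem_CX h)).mul hinn ⟨M, hM⟩ h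
  rw [cen_iff']
  rcases Inn.cases hvi h hv hveZ with h1 | h1 | h1
  · exact absurd h1 hvn
  · have h2 := cp_cx h hveZ h1
    have h3 : e = v⁻¹ * (v * e) := by group
    rw [h3]
    exact mul_mem (inv_mem (z_mem_CX h)) h2
  exfalso
  -- type I: `e ∈ Z`
  have hti : TI Om v e := by
    have h2 := h1.mul_right h
    rwa [← mul_assoc, InZ.z2 hv h, one_mul] at h2
  have heZ : InZ Om e := hti.inT
  have hcpu : ROne.CP (RZ Om) u (v * u * v⁻¹) := hs
  have hu' : v * u * v⁻¹ ∈ Zs Om := w.conjZ u hu v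
  have he' : e = u * (v * u * v⁻¹) := he
  have huu := w.sq u hu
  -- `e` centralises `R_u`, `R_{u'}`
  have hcu : ROne.Cen (RZ Om) e u := by
    rw [he']
    exact ROne.Cen.mul (fun k hk => (w.cent hu hk).symm) (w.cen_of_cp hu' hcpu)
  have hcu' : ROne.Cen (RZ Om) e (v * u * v⁻¹) := by
    rw [he']
    exact ROne.Cen.mul (w.cen_of_cp hu hcpu.symm) (fun k hk => (w.cent hu' hk).symm)
  have hue : u ≠ e := by
    rw [he']
    intro h2
    exact w.ne _ hu' (mul_eq_left.1 h2.symm)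
  have hue' : v * u * v⁻¹ ≠ e := by
    rw [he']
    intro h2
    exact w.ne _ hu (mul_eq_right.1 h2.symm)
  have c1 : ROne.CP (RZ Om) u e := w.csymm hu heZ hue hcu
  have c2 : ROne.CP (RZ Om) (v * u * v⁻¹) e := w.csymm hu' heZ hue' hcu'
  -- coordinates of a member `P` over `e`: `v` acts as `p 0`
  obtain ⟨P, hP⟩ := (id heZ : InZ Om e)
  obtain ⟨p0, hp0, hp00⟩ := (hti.symm h).exists_as h hP
  obtain ⟨p, hp, rfl⟩ := hP.exists_q h hp0.1 hp00
  have hmP : ∀ i, p i ∈ RZ Om e := fun i => hP.le_RZ (hp.mem i)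
  have hv0 : v * p 0 = p 0 * v := hp0.comm
  have hv1 : v * p 1 * v⁻¹ = e * p 1 := by rw [hp0.2 _ (hp.mem 1), hp.conj_ne (by decide)]
  have huP : ∀ i, u * p i = p i * u := fun i => c1.2 u (w.mem u hu) _ (hmP i)
  have heu : e * u = u * e := hcu u (w.mem u hu)
  have hueu : v * u * v⁻¹ = u * e := by rw [he', ← mul_assoc, huu, one_mul]
  have q₃ : Qp v e (p 0) (p 1 * u) := {
    ci := hv0.symm
    cj' := by
      have h2 : v * (p 1 * u) * v⁻¹ = p 1 * u := by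
        calc v * (p 1 * u) * v⁻¹ = (v * p 1 * v⁻¹) * (v * u * v⁻¹) := by group
          _ = e * p 1 * (u * e) := by rw [hv1, hueu]
          _ = (p 1 * e) * (e * u) := by rw [hp.zc, heu]
          _ = p 1 * (e * e) * u := by group
          _ = p 1 * u := by rw [hee, mul_one]
      rw [mul_inv_eq_iff_eq_mul] at h2
      exact h2.symm
    ii := hp.sq 0
    jj := by
      calc p 1 * u * (p 1 * u) = p 1 * (u * p 1) * u := by group
        _ = (p 1 * p 1) * (u * u) := by rw [huP 1]; group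
        _ = e := by rw [hp.sq, huu, mul_one]
    ww := hee
    ji := by
      have h2 : p 1 * p 0 = e * (p 0 * p 1) := by
        have h3 := hp.mul' 0
        have h4 := hp.mul 0
        simp only [zero_add] at h3 h4
        rw [h3, h4]
      calc p 1 * u * p 0 = p 1 * (u * p 0) := by group
        _ = (p 1 * p 0) * u := by rw [huP 0]; group
        _ = _ := by rw [h2]; group }
  have hdP : ∀ k ∈ RZ Om u, ∀ r ∈ RZ Om e, dg v k * r = r * dg v k := by
    intro k hk r hr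
    have h2 := c1.2 k hk r hr
    have h3 := c2.2 _ (w.conj_mem_K hu v hk) r hr
    unfold dg
    rw [mul_assoc, h3, ← mul_assoc, h2, mul_assoc]
  have hdu : ∀ k ∈ RZ Om u, dg v k * u = u * dg v k := by
    intro k hk
    have h2 := w.cent hu hk
    have h3 := hcpu.2 u (w.mem u hu) (v * k * v⁻¹) (w.conj_mem_K hu v hk)
    unfold dg
    rw [mul_assoc, ← h3, ← mul_assoc, h2, mul_assoc]
  have hd3 : ∀ k ∈ RZ Om u, ∀ b ∈ ({p 0, p 1 * u} : Set G), dg v k * b = b * dg v k := by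
    intro k hk b hb
    rcases hb with rfl | rfl
    · exact hdP k hk _ (hmP 0)
    · rw [← mul_assoc, hdP k hk _ (hmP 1), mul_assoc, hdu k hk, mul_assoc]
  have hmx : ∀ i, x i ∈ RZ Om u := fun i => hK.le_RZ (hx.mem i)
  have hmy : ∀ i, y i ∈ RZ Om u := fun i => hL.le_RZ (hy.mem i)
  have hd12 : ∀ i j, dg v (x i) * dg v (y j) = dg v (y j) * dg v (x i) := by
    intro i j
    rw [← w.dg_mul hu hv hs (hmx i) (hmy j), ← w.dg_mul hu hv hs (hmy j) (hmx i),
      hK.comm hL h hne (hx.mem i) (hy.mem j)]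
  refine hti.nc hM (Qp.cen3 q₁ q₂ q₃ h ?_ ?_ ?_ hM)
  · rintro a (rfl | rfl) b (rfl | rfl) <;> exact hd12 _ _
  · rintro a (rfl | rfl) b hb
    · exact hd3 _ (hmx 0) b hb
    · exact hd3 _ (hmx 1) b hb
  · rintro a (rfl | rfl) b hb
    · exact hd3 _ (hmy 0) b hb
    · exact hd3 _ (hmy 1) b hb

/-- **the world with (3.1)** -/
theorem _root_.Cfsg.Agent.Cit.Nil.RTwoM.WM.ws (h : WM Om) : WS (Zs Om) (RZ Om) where
  toWG := h.wg
  wt_cen' _ hu _ hv hs := wt_cen h hu hv hs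

end

end L1

end Cfsg.Agent.Cit.Nil.RTwoM
end

-- part: Cit/Nil/RTwoM/L1/SwapN
section
set_option linter.all false
open scoped Cfsg.Agent.FastGrp

/-!
# S1309, (6b), `r = 2`: C-swaps: (3.2), (3.3), (3.4)

`blueprints/R18-6b-r1-helper545.md` for `K u := R_u` (`ROne/SwapN.lean`, helper194). `ha : ANT Om` (helper596's `ANT`).
For a C-swap `(u, v)`, `w = wt u v`, `N = NC w u = NC w v`:

* `swap_an`, `swap_mem`, `swap_NC`, `swap_ncab`, `swap_act`, `swap_act'`, `swap_cent`, `swap_Inn` : (3.2);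
* `swap_in`, `swap_in'` (on `R_u`, `R_v`), `swap_mb`, `swap_mb'` (on members);
* `swap_uniq` : (3.3);
* `dg_mem`, `dg_conj`, `dg_conj'` : (3.4).
-/

set_option autoImplicit false
set_option linter.style.haveILetI false
set_option linter.unusedSectionVars false

namespace Cfsg.Agent.Cit.Nil.RTwoM

open Subgroup Cfsg Cfsg.Agent.Cit
open L1 (Zs S2 ZS ANs)
open ROne (NC NCab wt dg self_mem_NC conj_mem_NC cj_NC mem_NC_conj NC_norm NC_le_of_norm NC_le_NC NC_conj comm_of_gens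
  comm_inv K_le_cent K_norm)

variable {G : Type*} [Group G] {Om : Set (Subgroup G)} {K L M : Subgroup G} {z t u v g x y s n m k l a b : G}

namespace WM

variable [Finite G] (h : WM Om) (ha : ANT Om)

include h ha

theorem ant_TT (S : Sylow 2 G) (hs : s ∈ ROne.TT (Zs Om) (RZ Om) (S : Subgroup G)) (hs1 : s ≠ 1) : ANs Om s :=
  L1.an_of_tt h ha S hs hs1

section swap

variable (hu : u ∈ Zs Om) (hv : v ∈ Zs Om) (hs : ROne.CSw (RZ Om) u v)

include hu hv hs

theorem swap_an : ANs Om (wt u v) := by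
  obtain ⟨S, -, -, h1⟩ := h.ws.wt_mem_TT hu hv hs
  exact h.ant_TT ha S h1 (h.ws.wt_ne hu hv hs)

/-- **(3.2)** : `v ∈ N` -/
theorem swap_mem : v ∈ NC (wt u v) u := by
  rcases h.nc_in_or (h.swap_an ha hu hv hs) (h.ws.mem_ZC_u hu hv hs) (h.ws.mem_ZC_v hu hv hs) with h1 | h1
  · exact h1
  · exact absurd (h1 u self_mem_NC v (h.wg.mem v hv)) (h.ws.csw_not_comm hu hv hs)

theorem swap_mem' : u ∈ NC (wt u v) v := by
  have h1 := h.swap_mem ha hv hu (h.ws.csw_symm hu hv hs)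
  rwa [h.ws.wt_symm hu hv hs] at h1

/-- **(3.2)** : `N = ⟨v ^ H⟩` -/
theorem swap_NC : NC (wt u v) u = NC (wt u v) v :=
  le_antisymm (NC_le_NC (h.swap_mem' ha hu hv hs)) (NC_le_NC (h.swap_mem ha hu hv hs))

theorem swap_ncab : ¬ NCab (wt u v) u := fun hc =>
  h.ws.csw_not_comm hu hv hs (hc u self_mem_NC v (h.swap_mem ha hu hv hs))

/-- **(3.2)** : `R_u` centralises `Z(N)` -/
theorem swap_cent (hn : n ∈ NC (wt u v) u) (hc : ∀ m ∈ NC (wt u v) u, n * m = m * n) : ROne.Cen (RZ Om) n u :=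
  h.nc_centre' (h.swap_an ha hu hv hs) (h.ws.mem_ZC_u hu hv hs) (h.swap_ncab ha hu hv hs) hn hc

/-- (2.3) : `n ∈ C_N(x)`, `x ∈ Z(w)`, acts on the members over `x` as an inner automorphism -/
theorem swap_inner (hx : x ∈ ZS Om (wt u v)) (hM : Mem Om x M) (hn : n ∈ NC (wt u v) u) (hnx : n * x = x * n)
    (hk : k ∈ M) : n * k * n⁻¹ = k ∨ n * k * n⁻¹ = k * x :=
  h.nc_mem (h.swap_an ha hu hv hs) (h.ws.mem_ZC_u hu hv hs) (h.swap_ncab ha hu hv hs) hx hM hn hnx k hk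

/-- (2.3) for a member over `u` -/
theorem swap_mb (hM : Mem Om u M) (hn : n ∈ NC (wt u v) u) (hnu : n * u = u * n) (hk : k ∈ M) :
    n * k * n⁻¹ = k ∨ n * k * n⁻¹ = k * u :=
  h.swap_inner ha hu hv hs (h.ws.mem_ZC_u hu hv hs) hM hn hnu hk

/-- `[a, b]` is central in `N` -/
theorem swap_comm (haN : a ∈ NC (wt u v) u) (hbN : b ∈ NC (wt u v) u) :
    ∀ n ∈ NC (wt u v) u, (a * b * a⁻¹ * b⁻¹) * n = n * (a * b * a⁻¹ * b⁻¹) :=
  h.nc_comm (h.swap_an ha hu hv hs) (h.ws.mem_ZC_u hu hv hs) (h.swap_ncab ha hu hv hs) haN hbN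

/-! ### (3.4) -/

theorem K_norm_u (hk : k ∈ RZ Om u) (hn : n ∈ NC (wt u v) u) : k * n * k⁻¹ ∈ NC (wt u v) u :=
  mem_NC_conj (h.ws.wt_cen_u hu hv hs k hk).symm hn

/-- `d_k ∈ N` for `k` of order 4 -/
theorem dg_mem (hk : k ∈ RZ Om u) (hkk : k * k = u) : dg v k ∈ NC (wt u v) u := by
  have h1 := h.ws.conj_k_v hu hv hs hk hkk
  have h2 := h.K_norm_u ha hu hv hs hk (h.swap_mem ha hu hv hs)
  rw [h1] at h2
  have h3 : dg v k = v⁻¹ * (v * dg v k * u) * u⁻¹ := by group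
  rw [h3]
  exact mul_mem (mul_mem (inv_mem (h.swap_mem ha hu hv hs)) h2) (inv_mem self_mem_NC)

/-- `n ∈ C_N(u)` acts on `R_u'` as on `R_u` -/
theorem conj_vkv (hn : n ∈ NC (wt u v) u) (hk : k ∈ RZ Om u) :
    n * (v * k * v⁻¹) * n⁻¹ = v * (n * k * n⁻¹) * v⁻¹ := by
  have hN := h.swap_mem ha hu hv hs
  -- `c = n⁻¹ v⁻¹ n v` is central in `N`
  have h1 := h.swap_comm ha hu hv hs (inv_mem hn) (inv_mem hN)
  have h2 : n⁻¹ * v⁻¹ * n⁻¹⁻¹ * v⁻¹⁻¹ ∈ NC (wt u v) u :=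
    mul_mem (mul_mem (mul_mem (inv_mem hn) (inv_mem hN)) (inv_mem (inv_mem hn))) (inv_mem (inv_mem hN))
  have h3 := h.swap_cent ha hu hv hs h2 h1 k hk
  have h4 : v⁻¹ * n * v = n * (n⁻¹ * v⁻¹ * n⁻¹⁻¹ * v⁻¹⁻¹) := by group
  calc n * (v * k * v⁻¹) * n⁻¹ = v * ((v⁻¹ * n * v) * k * (v⁻¹ * n * v)⁻¹) * v⁻¹ := by group
    _ = v * (n * ((n⁻¹ * v⁻¹ * n⁻¹⁻¹ * v⁻¹⁻¹) * k) * (n * (n⁻¹ * v⁻¹ * n⁻¹⁻¹ * v⁻¹⁻¹))⁻¹) * v⁻¹ := by
        rw [h4]; group
    _ = v * (n * (k * (n⁻¹ * v⁻¹ * n⁻¹⁻¹ * v⁻¹⁻¹)) * (n * (n⁻¹ * v⁻¹ * n⁻¹⁻¹ * v⁻¹⁻¹))⁻¹) * v⁻¹ := by rw [h3]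
    _ = v * (n * k * n⁻¹) * v⁻¹ := by group

/-- **(3.4)** : `n ∈ N` centralising `k` centralises `d_k` -/
theorem dg_conj (hn : n ∈ NC (wt u v) u) (hk : k ∈ RZ Om u) (hc : n * k * n⁻¹ = k) : n * dg v k * n⁻¹ = dg v k := by
  have h1 := h.conj_vkv ha hu hv hs hn hk
  unfold dg
  calc n * (k * (v * k * v⁻¹)) * n⁻¹ = (n * k * n⁻¹) * (n * (v * k * v⁻¹) * n⁻¹) := by group
    _ = k * (v * k * v⁻¹) := by rw [h1, hc]

/-- **(3.4)** : `k ^ n = k u` gives `d_k ^ n = d_k w` -/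
theorem dg_conj' (hn : n ∈ NC (wt u v) u) (hk : k ∈ RZ Om u) (hc : n * k * n⁻¹ = k * u) :
    n * dg v k * n⁻¹ = dg v k * wt u v := by
  have h1 := h.conj_vkv ha hu hv hs hn hk
  have h2 := hs.2 u (h.wg.mem u hu) (v * k * v⁻¹) (h.wg.conj_mem_K hu v hk)
  unfold dg wt
  calc n * (k * (v * k * v⁻¹)) * n⁻¹ = (n * k * n⁻¹) * (n * (v * k * v⁻¹) * n⁻¹) := by group
    _ = k * (u * (v * k * v⁻¹)) * (v * u * v⁻¹) := by rw [h1, hc]; group
    _ = k * (v * k * v⁻¹) * (u * (v * u * v⁻¹)) := by rw [h2]; group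

end swap

end WM

end Cfsg.Agent.Cit.Nil.RTwoM
end

-- part: Cit/Nil/CompR/Csw
section
set_option linter.all false
open scoped Cfsg.Agent.FastGrp

/-!
# S1309 (6b), COMP, any `r`: the product situation, (F2) (the second half of 164's `Comp/Product.lean` for `GW`)

`WS Z K` (helper397) : `z z^x` centralises `K x` if `(z, z^x)` is a C-pair.

* `GW.wg` : `GW` gives helper397's `WG`; `PW.csw` : **(F2)** C-swaps have the same frame.
-/

set_option autoImplicit false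
set_option linter.style.haveILetI false
set_option linter.unusedSectionVars false

namespace Cfsg.Agent.Cit.Nil.CompR

open Subgroup Cfsg Cfsg.Agent.Cit Cfsg.Agent.Cit.Nil.AN
open Cfsg.Agent.Cit.Nil.ROne (CP CS TT OneCls CSw)
open Cfsg.Agent.Cit.Nil.RTwoM.L1 (WG WS)
open Cfsg.Agent.OddOrderLocal.NilParts Cfsg.Agent.StdEven.Syl

variable {G : Type*} [Group G] {Z : Set G} {K : G → Subgroup G} {z u v x y g s a b c : G} {A B : Set G}
  {F F' : Set (Set G)}

namespace PW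

variable [Finite G] (p : PW Z K) (ws : WS Z K)

include p ws

/-- a C-swap between different frames: there are only two blocks -/
theorem csw_cases (hz : z ∈ Z) (hx : x ∈ Z) (hs : CSw K z x) (hn : ¬ SF Z K z x) :
    ∃ F, Frm Z K F ∧ ∃ A ∈ F, ∃ B ∈ F, A ≠ B ∧ z ∈ A ∧ (∀ C ∈ F, C = A ∨ C = B) ∧ (∀ y ∈ A, x * y * x⁻¹ ∈ B) ∧
      ∀ y ∈ B, x * y * x⁻¹ ∈ A := by
  have hu := p.w.conjZ z hz x
  obtain ⟨F, f, ⟨A, hA, hzA⟩, B, hB, huB⟩ := p.cp hz hu hs
  have hF : ∀ C ∈ F, C = A ∨ C = B := by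
    by_contra hcon
    push Not at hcon
    obtain ⟨C, hC, hCA, hCB⟩ := hcon
    apply hn
    have h1 : ∀ b ∈ C, Cm (K z) (K b) := fun b hb => (p.cp_of f hA hC (Ne.symm hCA) hzA hb).2
    have h2 : ∀ b ∈ C, Cm (K (x * z * x⁻¹)) (K b) := fun b hb => (p.cp_of f hB hC (Ne.symm hCB) huB hb).2
    refine p.block' f hC (TP.of_mul p.w p.tp hz hu hs) (fun b hb => ?_) (z := z) ⟨hz, ws.wt_cen_u hz hx hs⟩ h1
      (x := x) ⟨hx, ws.wt_cen_v hz hx hs⟩ (fun h3 => ?_) hA hzA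
    · exact (ce_of_cm p.w hz (h1 b hb).symm).mul (ce_of_cm p.w hu (h2 b hb).symm)
    · exact ws.csw_not_comm hz hx hs (h3 x (p.w.mem x hx) z (p.w.mem z hz)).symm
  have hAB : A ≠ B := by
    obtain ⟨C, hC, hCA⟩ := f.other hA
    rcases hF C hC with h1 | h1
    · exact absurd h1 hCA
    · rw [← h1]
      exact hCA.symm
  obtain ⟨h1, h2⟩ := f.uniq p.w (f.conj p.w x) hB ⟨A, hA, rfl⟩ huB ⟨z, hzA, rfl⟩
  refine ⟨F, f, A, hA, B, hB, hAB, hzA, hF, fun y hy => ?_, fun y hy => ?_⟩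
  · rw [h2]
    exact ⟨y, hy, rfl⟩
  · have h3 : (fun y => x * y * x⁻¹) '' B ∈ (fun A : Set G => (fun y => x * y * x⁻¹) '' A) '' F := ⟨B, hB, rfl⟩
    rw [← h1] at h3
    have inj : Function.Injective (fun y : G => x * y * x⁻¹) := fun y y' hy => by
      have := mul_right_cancel hy
      exact mul_left_cancel this
    rcases hF _ h3 with h4 | h4
    · rw [← h4]
      exact ⟨y, hy, rfl⟩
    · exact absurd (inj.image_injective (h4.trans h2)).symm hAB

theorem csw_move (f : Frm Z K F) (hA : A ∈ F) (_hB : B ∈ F) (_hAB : A ≠ B) (hF : ∀ C ∈ F, C = A ∨ C = B) (hz : z ∈ A)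
    (hx : x ∈ Z) (hs : CSw K z x) (hn : ¬ SF Z K z x) : (∀ y ∈ A, x * y * x⁻¹ ∈ B) ∧ ∀ y ∈ B, x * y * x⁻¹ ∈ A := by
  obtain ⟨F', f', A', hA', B', hB', hAB', hz', hF', h1, h2⟩ := p.csw_cases ws (f.sub A hA hz) hx hs hn
  obtain ⟨rfl, rfl⟩ := f.uniq p.w f' hA hA' hz hz'
  rcases hF B' hB' with h3 | h3
  · exact absurd h3.symm hAB'
  · rw [h3] at h1 h2
    exact ⟨h1, h2⟩

omit p ws [Finite G] in
theorem diag_eq {y y' b : G} (hy : y * y = 1) (hy' : y' * y' = 1) (hb : b * b = 1)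
    (h1 : y' * (b * y * b⁻¹) = (b * y * b⁻¹) * y') (h2 : b * (y' * b * y'⁻¹) = (y' * b * y'⁻¹) * b) :
    (y * y') * (b * (y * y') * b⁻¹) = (y * b * y⁻¹) * (y' * b * y'⁻¹) := by
  have e1 : y⁻¹ = y := inv_eq_of_mul_eq_one_right hy
  have e2 : y'⁻¹ = y' := inv_eq_of_mul_eq_one_right hy'
  have e3 : b⁻¹ = b := inv_eq_of_mul_eq_one_right hb
  calc (y * y') * (b * (y * y') * b⁻¹) = y * (y' * (b * y * b⁻¹)) * (b * y' * b⁻¹) := by group
    _ = y * ((b * y * b⁻¹) * y') * (b * y' * b⁻¹) := by rw [h1]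
    _ = (y * b * y) * (b⁻¹ * y' * b * y' * b⁻¹) := by group
    _ = (y * b * y⁻¹) * (b * (y' * b * y'⁻¹) * b⁻¹) := by rw [e1, e2, e3]; group
    _ = (y * b * y⁻¹) * (y' * b * y'⁻¹) := by rw [h2, mul_inv_cancel_right]

end PW

/-- a group whose commutators are central is nilpotent -/
theorem isNilpotent_of_comm {G : Type*} [Group G] {P : Subgroup G}
    (h : ∀ x ∈ P, ∀ y ∈ P, ∀ z ∈ P, (x * y * x⁻¹ * y⁻¹) * z = z * (x * y * x⁻¹ * y⁻¹)) : Group.IsNilpotent P := by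
  rw [isNilpotent_iff_lowerCentralSeries]
  refine ⟨2, ?_⟩
  rw [Subgroup.lowerCentralSeries_succ, commutator_eq_bot_iff_le_centralizer, Subgroup.lowerCentralSeries_succ,
    Subgroup.lowerCentralSeries_zero, commutator_le]
  intro x hx y hy
  rw [mem_centralizer_iff]
  intro z hz
  exact (h x hx y hy z hz).symm

/-- if the generators commute modulo `C(A)`, `P ≤ ⟨A⟩`, all elements do -/
theorem comm_closure {G : Type*} [Group G] {A E : Set G} (hE : E ⊆ (closure A : Subgroup G))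
    (h : ∀ x ∈ E, ∀ y ∈ E, ∀ z ∈ A, (x * y * x⁻¹ * y⁻¹) * z = z * (x * y * x⁻¹ * y⁻¹)) :
    ∀ x ∈ closure E, ∀ y ∈ closure E, x * y * x⁻¹ * y⁻¹ ∈ centralizer ((closure A : Subgroup G) : Set G) := by
  set C := centralizer ((closure A : Subgroup G) : Set G) with hC
  have hle : closure E ≤ closure A := (closure_le _).2 hE
  have hc : ∀ {c x : G}, c ∈ C → x ∈ closure E → x * c = c * x := fun {c x} hc hx =>
    mem_centralizer_iff.1 hc x (hle hx)
  have h0 : ∀ x ∈ E, ∀ y ∈ E, x * y * x⁻¹ * y⁻¹ ∈ C := by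
    intro x hx y hy
    rw [hC, centralizer_closure, mem_centralizer_iff]
    exact fun z hz => (h x hx y hy z hz).symm
  have step : ∀ y ∈ closure E, (∀ x ∈ E, x * y * x⁻¹ * y⁻¹ ∈ C) → ∀ x ∈ closure E, x * y * x⁻¹ * y⁻¹ ∈ C := by
    intro y hy h1 x hx
    refine closure_induction (p := fun x _ => x * y * x⁻¹ * y⁻¹ ∈ C) h1 ?_ ?_ ?_ hx
    · have : (1 : G) * y * 1⁻¹ * y⁻¹ = 1 := by group
      rw [this]
      exact one_mem C
    · intro a b ha _ h2 h3
      have e : a * b * y * (a * b)⁻¹ * y⁻¹ = (b * y * b⁻¹ * y⁻¹) * (a * y * a⁻¹ * y⁻¹) := by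
        calc a * b * y * (a * b)⁻¹ * y⁻¹ = (a * (b * y * b⁻¹ * y⁻¹)) * (y * a⁻¹ * y⁻¹) := by group
          _ = ((b * y * b⁻¹ * y⁻¹) * a) * (y * a⁻¹ * y⁻¹) := by rw [hc h3 ha]
          _ = _ := by group
      rw [e]
      exact mul_mem h3 h2
    · intro a ha h2
      have e : a⁻¹ * y * a⁻¹⁻¹ * y⁻¹ = (a * y * a⁻¹ * y⁻¹)⁻¹ := by
        have h3 := hc (inv_mem h2) (inv_mem ha)
        calc a⁻¹ * y * a⁻¹⁻¹ * y⁻¹ = (a⁻¹ * (a * y * a⁻¹ * y⁻¹)⁻¹) * a := by group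
          _ = ((a * y * a⁻¹ * y⁻¹)⁻¹ * a⁻¹) * a := by rw [h3]
          _ = _ := by group
      rw [e]
      exact inv_mem h2
  have symm : ∀ {x y : G}, x * y * x⁻¹ * y⁻¹ ∈ C → y * x * y⁻¹ * x⁻¹ ∈ C := fun {x y} h1 => by
    have e : y * x * y⁻¹ * x⁻¹ = (x * y * x⁻¹ * y⁻¹)⁻¹ := by group
    rw [e]
    exact inv_mem h1
  intro x hx y hy
  refine step y hy (fun a ha => symm ?_) x hx
  exact step a (subset_closure ha) (fun b hb => h0 b hb a ha) y hy

namespace PW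

variable [Finite G] (p : PW Z K)

include p

/-- elements of different blocks commute -/
theorem comm_of (f : Frm Z K F) (hA : A ∈ F) (hB : B ∈ F) (hAB : A ≠ B) (ha : a ∈ A) (hb : b ∈ B) : a * b = b * a :=
  f.cm A hA B hB hAB a ha b hb a (p.w.mem a (f.sub A hA ha)) b (p.w.mem b (f.sub B hB hb))

theorem comm_closure_of (f : Frm Z K F) (hA : A ∈ F) (hB : B ∈ F) (hAB : A ≠ B) (ha : a ∈ closure A)
    (hb : b ∈ closure B) : a * b = b * a := by
  have h1 : closure A ≤ centralizer (B : Set G) := (closure_le _).2 fun x hx => mem_centralizer_iff.2 fun y hy =>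
    (p.comm_of f hA hB hAB hx hy).symm
  have h2 : closure B ≤ centralizer {a} := (closure_le _).2 fun y hy =>
    mem_centralizer_singleton_iff.2 (mem_centralizer_iff.1 (h1 ha) y hy)
  exact (mem_centralizer_singleton_iff.1 (h2 hb)).symm

/-- with two blocks `C(u)`, `u ∈ B`, normalises the block `A` -/
theorem norm_block (f : Frm Z K F) (hA : A ∈ F) (hB : B ∈ F) (hAB : A ≠ B) (hF : ∀ C ∈ F, C = A ∨ C = B) (hu : u ∈ B)
    (hc : c * u = u * c) (hy : y ∈ A) : c * y * c⁻¹ ∈ A := by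
  have hu' : u ∈ (fun y => c * y * c⁻¹) '' B := ⟨u, hu, by simp only [hc, mul_inv_cancel_right]⟩
  obtain ⟨h1, h2⟩ := f.uniq p.w (f.conj p.w c) hB ⟨B, hB, rfl⟩ hu hu'
  have h3 : (fun y => c * y * c⁻¹) '' A ∈ (fun A : Set G => (fun y => c * y * c⁻¹) '' A) '' F := ⟨A, hA, rfl⟩
  rw [← h1] at h3
  have inj : Function.Injective (fun y : G => c * y * c⁻¹) := fun y y' hy => by
    have := mul_right_cancel hy
    exact mul_left_cancel this
  rcases hF _ h3 with h4 | h4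
  · rw [← h4]
    exact ⟨y, hy, rfl⟩
  · exact absurd (inj.image_injective (h4.trans h2)) hAB

/-- **(F2)** -/
theorem csw (ws : WS Z K) (hz : z ∈ Z) (hx : x ∈ Z) (hs : CSw K z x) : SF Z K z x := by
  by_contra hn
  obtain ⟨F, f, A, hA, B, hB, hAB, hzA, hF, h1, h2⟩ := p.csw_cases ws hz hx hs hn
  obtain ⟨F', f', X, hX, Y, hY, hXY, hxX, hF', h3, h4⟩ :=
    p.csw_cases ws hx hz (ws.csw_symm hz hx hs) (fun h => hn h.symm)
  have nsf : ∀ {a b : G}, (∃ C ∈ F, a ∈ C) → (∃ D ∈ F', b ∈ D) → ¬ SF Z K a b := by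
    rintro a b ⟨C, hC, ha⟩ ⟨D, hD, hb⟩ h
    exact hn (p.sf_trans (p.sf_trans ⟨F, f, ⟨A, hA, hzA⟩, C, hC, ha⟩ h) ⟨F', f', ⟨D, hD, hb⟩, X, hX, hxX⟩)
  have ya : ∀ y ∈ A, (∀ b ∈ X, y * b * y⁻¹ ∈ Y) ∧ ∀ b ∈ Y, y * b * y⁻¹ ∈ X := fun y hy =>
    p.csw_move ws f' hX hY hXY hF' hxX (f.sub A hA hy)
      (ws.csw_symm (f.sub A hA hy) hx (p.cp_of f hA hB hAB hy (h1 y hy)))
      (fun h => nsf ⟨A, hA, hy⟩ ⟨X, hX, hxX⟩ h.symm)
  have bX : ∀ b ∈ X, ∀ y ∈ A, b * y * b⁻¹ ∈ B := fun b hb =>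
    (p.csw_move ws f hA hB hAB hF hzA (f'.sub X hX hb)
      (ws.csw_symm (f'.sub X hX hb) hz (p.cp_of f' hX hY hXY hb (h3 b hb)))
      (nsf ⟨A, hA, hzA⟩ ⟨X, hX, hb⟩)).1
  have bY : ∀ b ∈ Y, ∀ y ∈ A, b * y * b⁻¹ ∈ B := fun b hb =>
    (p.csw_move ws f hA hB hAB hF hzA (f'.sub Y hY hb)
      (ws.csw_symm (f'.sub Y hY hb) hz (p.cp_of f' hY hX hXY.symm hb (h4 b hb)))
      (nsf ⟨A, hA, hzA⟩ ⟨Y, hY, hb⟩)).1
  have sqA : ∀ y ∈ A, y * y = 1 := fun y hy => p.w.sq y (f.sub A hA hy)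
  have dX : ∀ b ∈ X, ∀ y ∈ A, ∀ y' ∈ A, (y * y') * (b * (y * y') * b⁻¹) = (y * b * y⁻¹) * (y' * b * y'⁻¹) :=
    fun b hb y hy y' hy' => diag_eq (sqA y hy) (sqA y' hy') (p.w.sq b (f'.sub X hX hb))
      (p.comm_of f hA hB hAB hy' (bX b hb y hy)) (p.comm_of f' hX hY hXY hb ((ya y' hy').1 b hb))
  have dY : ∀ b ∈ Y, ∀ y ∈ A, ∀ y' ∈ A, (y * y') * (b * (y * y') * b⁻¹) = (y * b * y⁻¹) * (y' * b * y'⁻¹) :=
    fun b hb y hy y' hy' => diag_eq (sqA y hy) (sqA y' hy') (p.w.sq b (f'.sub Y hY hb))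
      (p.comm_of f hA hB hAB hy' (bY b hb y hy)) (p.comm_of f' hY hX hXY.symm hb ((ya y' hy').2 b hb))
  -- the even part
  set E : Set G := {q | ∃ y ∈ A, ∃ y' ∈ A, q = y * y'} with hE
  have hEA : E ⊆ (closure A : Subgroup G) := by
    rintro _ ⟨y, hy, y', hy', rfl⟩
    exact mul_mem (subset_closure hy) (subset_closure hy')
  have hEB : ∀ {b : G}, (∀ y ∈ A, b * y * b⁻¹ ∈ B) → ∀ q ∈ E, b * q * b⁻¹ ∈ closure B := by
    rintro b hb _ ⟨y, hy, y', hy', rfl⟩
    have e : b * (y * y') * b⁻¹ = (b * y * b⁻¹) * (b * y' * b⁻¹) := by group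
    rw [e]
    exact mul_mem (subset_closure (hb y hy)) (subset_closure (hb y' hy'))
  have key : ∀ q ∈ E, ∀ r ∈ E, ∀ y ∈ A, (q * r * q⁻¹ * r⁻¹) * y = y * (q * r * q⁻¹ * r⁻¹) := by
    intro q hq r hr y hy
    have hx' := h3 x hxX
    set x' := z * x * z⁻¹ with hx'def
    have hq1 := hEB (bX x hxX) q hq
    have hr1 := hEB (bY x' hx') r hr
    set Q := x * q * x⁻¹ with hQ
    set R := x' * r * x'⁻¹ with hR
    have cAB : ∀ {a b : G}, a ∈ closure A → b ∈ closure B → a * b = b * a := fun ha hb =>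
      p.comm_closure_of f hA hB hAB ha hb
    have hcm : (q * Q) * (r * R) = (r * R) * (q * Q) := by
      obtain ⟨y1, hy1, y2, hy2, hq'⟩ := hq
      obtain ⟨y3, hy3, y4, hy4, hr'⟩ := hr
      have e1 : q * Q = (y1 * x * y1⁻¹) * (y2 * x * y2⁻¹) := by
        rw [hQ, hq']
        exact dX x hxX y1 hy1 y2 hy2
      have e2 : r * R = (y3 * x' * y3⁻¹) * (y4 * x' * y4⁻¹) := by
        rw [hR, hr']
        exact dY x' hx' y3 hy3 y4 hy4
      rw [e1, e2]
      exact (p.comm_closure_of f' hX hY hXY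
        (mul_mem (subset_closure ((ya y3 hy3).2 x' hx')) (subset_closure ((ya y4 hy4).2 x' hx')))
        (mul_mem (subset_closure ((ya y1 hy1).1 x hxX)) (subset_closure ((ya y2 hy2).1 x hxX)))).symm
    have c1 : Q * r = r * Q := (cAB (hEA hr) hq1).symm
    have c2 : R * q = q * R := (cAB (hEA hq) hr1).symm
    have e3 : q * r * (Q * R) = r * q * (R * Q) := by
      calc q * r * (Q * R) = q * (r * Q) * R := by group
        _ = q * (Q * r) * R := by rw [c1]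
        _ = (q * Q) * (r * R) := by group
        _ = (r * R) * (q * Q) := hcm
        _ = r * (R * q) * Q := by group
        _ = r * (q * R) * Q := by rw [c2]
        _ = r * q * (R * Q) := by group
    have hW : (R * Q) * (Q * R)⁻¹ ∈ closure B := mul_mem (mul_mem hr1 hq1) (inv_mem (mul_mem hq1 hr1))
    have hrq : r * q ∈ closure A := mul_mem (hEA hr) (hEA hq)
    have e4 : q * r * q⁻¹ * r⁻¹ = (R * Q) * (Q * R)⁻¹ := by
      have e5 : q * r = r * q * ((R * Q) * (Q * R)⁻¹) := by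
        rw [eq_comm, ← mul_assoc, mul_inv_eq_iff_eq_mul, e3]
      calc q * r * q⁻¹ * r⁻¹ = (q * r) * (r * q)⁻¹ := by group
        _ = r * q * ((R * Q) * (Q * R)⁻¹) * (r * q)⁻¹ := by rw [← e5]
        _ = ((R * Q) * (Q * R)⁻¹) * (r * q) * (r * q)⁻¹ := by rw [cAB hrq hW]
        _ = _ := by rw [mul_inv_cancel_right]
    rw [e4]
    exact (cAB (subset_closure hy) hW).symm
  have hP := comm_closure hEA key
  set P := closure E with hPdef
  have hPA : P ≤ closure A := (closure_le _).2 hEA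
  have hnil : Group.IsNilpotent P := isNilpotent_of_comm fun q hq r hr s hs =>
    (mem_centralizer_iff.1 (hP q hq r hr) s (hPA hs)).symm
  -- `C(u)` normalises `P`
  have huB := h1 z hzA
  set u := x * z * x⁻¹ with hu
  have huZ : u ∈ Z := f.sub B hB huB
  have hnor : ∀ {c : G}, c * u = u * c → c ∈ normalizer (P : Set G) := by
    intro c hc
    apply mem_normalizer_of_conj_le
    intro q hq
    have h5 : P ≤ P.comap (MulAut.conj c).toMonoidHom := (closure_le _).2 (by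
      rintro _ ⟨y, hy, y', hy', rfl⟩
      refine subset_closure ⟨_, p.norm_block f hA hB hAB hF huB hc hy, _, p.norm_block f hA hB hAB hF huB hc hy', ?_⟩
      change c * (y * y') * c⁻¹ = _
      group)
    exact h5 hq
  have hPu : P ≤ centralizer {u} := (closure_le _).2 (by
    rintro _ ⟨y, hy, y', hy', rfl⟩
    refine mul_mem ?_ ?_
    · exact mem_centralizer_singleton_iff.2 (p.comm_of f hA hB hAB hy huB)
    · exact mem_centralizer_singleton_iff.2 (p.comm_of f hA hB hAB hy' huB))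
  have hodd : oP' 2 P = ⊥ := p.cf u huZ (oP' 2 P) ((oP'_le 2 P).trans hPu)
    (fun c hc => normalizer_le_oP' 2 P (hnor (mem_centralizer_singleton_iff.1 hc)))
    (Nat.coprime_two_right.1 (coprime_oP' 2 P))
  have hP2 : IsPGroup 2 P := by
    have h5 := oP_sup_oP' hnil 2
    rw [hodd, sup_bot_eq] at h5
    rw [← h5]
    exact isPGroup_oP 2 P
  have hzu : z * u = u * z := p.comm_of f hA hB hAB hzA huB
  have hR : IsPGroup 2 (zpowers z ⊔ P : Subgroup G) :=
    Cit.OneBasic.isPGroup_sup_of_normalizes (isPGroup_zpowers_inv (p.w.sq z hz)) hP2 (by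
      rw [zpowers_le]
      exact hnor hzu)
  have hAR : A ⊆ (zpowers z ⊔ P : Subgroup G) := by
    intro y hy
    have e : y = (y * z) * z := by rw [mul_assoc, p.w.sq z hz, mul_one]
    rw [e]
    exact mul_mem ((le_sup_right : P ≤ _) (subset_closure ⟨y, hy, z, hzA, rfl⟩))
      ((le_sup_left : zpowers z ≤ _) (mem_zpowers z))
  have hAn : A ∈ NN Z K u := by
    rw [f.nn B hB u huB]
    exact ⟨hA, hAB⟩
  obtain ⟨h5, h6, h7⟩ := NN_cl p.w hAn hzA
  exact h6 (nil_down p.w h5 hR (by rw [← h7]; exact hAR))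

end PW

end Cfsg.Agent.Cit.Nil.CompR
end

-- part: Cit/Nil/CV1/Ends
section
set_option linter.all false
open scoped Cfsg.Agent.FastGrp

/-!
# (6b)(CV), rank one: the two final arguments of the T-type end

`false_of_comm` : `zz K^g` commutes with `zz L` for all `g`;
`false_of_closed` : a strongly closed subgroup `P ≠ 1` with `P ∩ WF = 1`, and a member without T-partner.
-/

set_option autoImplicit false
set_option linter.style.haveILetI false
set_option linter.unusedSectionVars false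

namespace Cfsg.Agent.Cit.CV1

open Subgroup Cfsg Cit Tau CV

universe u

variable {G : Type u} [Group G] [Finite G] {Om : Set (Subgroup G)} {U : Subgroup G → Subgroup G}
  {K L M N P S S' T : Subgroup G} {a b e g s t v w x y z : G}

theorem oddCore_eq_bot_of_OO (h : OO (⊤ : Subgroup G) = ⊥) : oddCore G = ⊥ := by
  have h0 : (oddCore G).Normal := Lib.Cores.pPrimeCore_normal 2
  rw [eq_bot_iff, ← h]
  refine le_OO le_top (by rw [normalizer_eq_top_iff.2 h0]) ?_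
  intro h2
  have h3 := Lib.Cores.pPrimeCore_coprime (G := G) 2
  have h4 := Nat.dvd_gcd h2 (dvd_refl 2)
  rw [h3] at h4
  omega

theorem Red.false_of_closed (r : Red Om U) (hT : LemT Om U) (hR : ¬ R1 Om ⊤) (hS : Syl S ⊤) (hP : P ≤ S)
    (hcl : ∀ x ∈ P, ∀ g : G, g * x * g⁻¹ ∈ S → g * x * g⁻¹ ∈ P) (hne : P ≠ ⊥) (hPW : P ⊓ WF Om U S = ⊥)
    (hF : L ∈ FF Om U S) : False := by
  haveI : Fact (Nat.Prime 2) := ⟨Nat.prime_two⟩
  have h := r.lw hT
  have hS2 : ¬ 2 ∣ S.index := by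
    have := hS.2.2
    rwa [relIndex_top_right] at this
  set Q : Sylow 2 G := hS.2.1.toSylow hS2 with hQ
  have hQS : (Q : Subgroup G) = S := rfl
  have h1 := TwoFusion.ClosedCommutator.commutator_le Q P (WF Om U S) hPW ⟨hP, hcl⟩
    ⟨h.WF_le, fun x hx g hg => h.wf_closed hS hx hg⟩
  rw [oddCore_eq_bot_of_OO r.core, le_bot_iff, commutator_eq_bot_iff_le_centralizer] at h1
  have hne' : normalClosure (P : Set G) ≠ ⊥ := by
    intro hh
    apply hne
    rw [eq_bot_iff, ← hh]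
    exact le_normalClosure
  obtain ⟨h2, h3⟩ := r.normal hT hR (N := normalClosure (P : Set G)) normalClosure_normal hne'
  have h4 : zz L ∈ centralizer ((normalClosure (P : Set G) : Subgroup G) : Set G) := by
    have h5 : zz L ∈ WF Om U S := subset_closure ⟨L, hF, rfl⟩
    rw [mem_centralizer_iff]
    intro x hx
    exact (mem_centralizer_iff.1 (h1 hx) (zz L) (subset_normalClosure h5)).symm
  rw [h3, mem_bot] at h4
  exact r.hyp.zz_ne hF.1.1 h4

end Cfsg.Agent.Cit.CV1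
end

-- part: Cit/Nil/CV1/TMany
section
set_option linter.all false
open scoped Cfsg.Agent.FastGrp

/-!
# (6b)(CV), rank one, section 6: the permuted product data

`AF Om` : the elements `u` with `N0 Om S u` for some Sylow subgroup `S`; a closed family by the `N₀`-closure theorem.
* `PP_iff` : `PP Om U S K = X_K ∪ s X_K`, `s` a T-partner of `K` in `S`.
* `pp_closed` = (6.3): `x ∈ PP K`, `g x g⁻¹ ∈ S` implies `g x g⁻¹ ∈ PP L` for some `L ∈ II Om U S`.
* `pp_indep` : the parts are independent; `data` : the permuted product data.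
* `Red.subsingleton` : `II Om U S` has at most one element.

Text: `blueprints/CIT-6b-CV-rank1-helper516.md`.
-/

set_option autoImplicit false
set_option linter.style.haveILetI false
set_option linter.unusedSectionVars false

namespace Cfsg.Agent.Cit.CV1

open Subgroup Cfsg Cit Tau CV
open Cfsg.Agent.TwoFusion.ClosedFam Cfsg.Agent.PermParts.OfProd

/-- the family of the elements fixing all members of a Sylow subgroup containing them -/
def AF {G : Type*} [Group G] (Om : Set (Subgroup G)) : Set G := {u | ∃ S, Syl S (⊤ : Subgroup G) ∧ N0 Om S u}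

section

universe u

variable {G : Type u} [Group G] [Finite G] {Om : Set (Subgroup G)} {U : Subgroup G → Subgroup G}
  {K K' L M N N' S S' T : Subgroup G} {a b e g q s t u v w x y z : G}

theorem syl_sylow (S : Sylow 2 G) : Syl (S : Subgroup G) ⊤ :=
  ⟨le_top, S.isPGroup', by
    haveI : Fact (Nat.Prime 2) := ⟨Nat.prime_two⟩
    rw [relIndex_top_right]; exact S.not_dvd_index⟩

theorem exists_sylow_eq (hS : Syl S ⊤) : ∃ T : Sylow 2 G, (T : Subgroup G) = S := by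
  obtain ⟨T, -, hT⟩ := hS.exists_sylow_ge
  exact ⟨T, by rwa [inf_top_eq] at hT⟩

namespace LW

variable (h : LW Om U)
include h

theorem N0_of_mem (hS : Syl S ⊤) (hK : K ∈ Phi Om S) (hx : x ∈ K) : N0 Om S x :=
  ⟨hK.2 hx, fun L hL => mem_normalizer_iff_cj.1 (by
    by_cases hKL : K = L
    · subst hKL; exact le_normalizer hx
    · exact mem_normalizer_of_comm fun k hk => (h.orth_of_Phi hS hK hL hKL).2 x hx k hk)⟩

theorem N0_of_zz (hS : Syl S ⊤) (hN : N ∈ Om) (hs : zz N ∈ S) : N0 Om S (zz N) :=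
  ⟨hs, fun _ hL => mem_normalizer_iff_cj.1 (h.norm_mem hS.2.1 hL.1 hL.2 hN hs)⟩

omit [Finite G] h in
theorem N0_mul (hx : N0 Om S x) (hy : N0 Om S y) : N0 Om S (x * y) :=
  ⟨S.mul_mem hx.1 hy.1, fun K hK => mem_normalizer_iff_cj.1
    (mul_mem (mem_normalizer_iff_cj.2 (hx.2 K hK)) (mem_normalizer_iff_cj.2 (hy.2 K hK)))⟩

omit [Finite G] h in
theorem N0_conj (hO : ∀ K ∈ Om, ∀ g, cj g K ∈ Om) (hx : N0 Om S x) (g : G) : N0 Om (cj g S) (g * x * g⁻¹) := by
  refine ⟨conj_mem_cj hx.1, fun K hK => ?_⟩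
  rw [Phi_cj hO] at hK
  obtain ⟨L, hL, rfl⟩ := hK
  rw [← cj_mul]
  have h1 : g * x * g⁻¹ * g = g * x := by group
  rw [h1, cj_mul, hx.2 L hL]

/-- **the closed family** -/
theorem closedFam : IsClosedFam (AF Om) where
  one_mem := by
    obtain ⟨S, hS, -⟩ := exists_top (G := G) (T := ⊥) IsPGroup.of_bot
    exact ⟨S, hS, S.one_mem, fun K _ => cj_one K⟩
  conj_mem := by
    rintro x ⟨S, hS, hx⟩ g
    exact ⟨cj g S, syl_cj_top hS g, N0_conj h.hO hx g⟩
  two := by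
    rintro x ⟨S, hS, hx⟩
    obtain ⟨k, hk⟩ := hS.2.1 ⟨x, hx.1⟩
    exact ⟨k, by simpa using congrArg Subtype.val hk⟩
  mul_mem := by
    rintro Q hQ x hxQ y hyQ ⟨S, hS, hx⟩ ⟨S', hS', hy⟩
    obtain ⟨T, hT, hQT⟩ := exists_top hQ
    exact ⟨T, hT, N0_mul (h.closure' hS hT hx (hQT hxQ)) (h.closure' hS' hT hy (hQT hyQ))⟩

theorem N0_of_AF (hS : Syl S ⊤) (hx : x ∈ AF Om) (hxS : x ∈ S) : N0 Om S x := by
  obtain ⟨T, hT, hxT⟩ := hx
  exact h.closure' hT hS hxT hxS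

/-! ### The parts -/

theorem PP_iff (hS : Syl S ⊤) (hK : K ∈ Phi Om S) (hN : N ∈ Om) (hs : zz N ∈ S) (ht : TT U K (zz N)) :
    g ∈ PP Om U S K ↔ g ∈ XX U K ∨ ∃ x ∈ XX U K, g = zz N * x := by
  constructor
  · intro hg
    have hinv : ∀ x ∈ XX U K, x * zz N = zz N * x⁻¹ := fun x hx => by
      have h1 := h.inv_XX hK.1 hN ht hx
      rw [← h1, h.hyp.zz_inv hN, ← mul_assoc, ← mul_assoc, h.zz_zz hN, one_mul]
    induction hg using closure_induction with
    | mem x hx =>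
      rcases hx with hx | ⟨hxS, M, hM, rfl, htM⟩
      · exact Or.inl hx
      · exact Or.inr (h.tt_coset hS hK hN hM hs hxS ht htM)
    | one => exact Or.inl (one_mem _)
    | mul a b _ _ ha hb =>
      rcases ha with ha | ⟨a', ha', rfl⟩ <;> rcases hb with hb | ⟨b', hb', rfl⟩
      · exact Or.inl (mul_mem ha hb)
      · refine Or.inr ⟨a⁻¹ * b', mul_mem (inv_mem ha) hb', ?_⟩
        rw [← mul_assoc, hinv a ha, mul_assoc]
      · exact Or.inr ⟨a' * b, mul_mem ha' hb, by rw [mul_assoc]⟩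
      · refine Or.inl ?_
        have h1 : zz N * a' * (zz N * b') = a'⁻¹ * b' := by
          rw [mul_assoc, ← mul_assoc a', hinv a' ha', ← mul_assoc, ← mul_assoc, h.zz_zz hN, one_mul]
        rw [h1]; exact mul_mem (inv_mem ha') hb'
    | inv a _ ha =>
      rcases ha with ha | ⟨a', ha', rfl⟩
      · exact Or.inl (inv_mem ha)
      · refine Or.inr ⟨a', ha', ?_⟩
        rw [mul_inv_rev, h.hyp.zz_inv hN, hinv _ (inv_mem ha'), inv_inv]
  · rintro (hg | ⟨x, hx, rfl⟩)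
    · exact subset_closure (Or.inl hg)
    · exact mul_mem (subset_closure (Or.inr ⟨hs, N, hN, rfl, ht⟩)) (subset_closure (Or.inl hx))

theorem mem_AF_of_PP (hS : Syl S ⊤) (hK : K ∈ Phi Om S) (hx : x ∈ PP Om U S K) : N0 Om S x := by
  induction hx using closure_induction with
  | mem x hx =>
    rcases hx with hx | ⟨hxS, M, hM, rfl, -⟩
    · exact h.N0_of_mem hS hK (XX_le K hx)
    · exact h.N0_of_zz hS hM hxS
  | one => exact ⟨S.one_mem, fun K _ => cj_one K⟩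
  | mul a b _ _ ha hb => exact N0_mul ha hb
  | inv a _ ha =>
    refine ⟨S.inv_mem ha.1, fun K hK => ?_⟩
    exact mem_normalizer_iff_cj.1 (inv_mem (mem_normalizer_iff_cj.2 (ha.2 K hK)))

/-- the parts are normalised by `N₀(S)` -/
theorem PP_norm (hK : K ∈ Phi Om S) (hq : N0 Om S q) (hx : x ∈ PP Om U S K) : q * x * q⁻¹ ∈ PP Om U S K := by
  have hqK := hq.2 K hK
  induction hx using closure_induction with
  | mem x hx =>
    apply Subgroup.subset_closure
    rcases hx with hx | ⟨hxS, M, hM, rfl, ht⟩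
    · refine Or.inl ?_
      have h1 := (conj_mem_XX (h.vch.cj K hK.1 q)).2 hx
      rwa [hqK] at h1
    · refine Or.inr ⟨S.mul_mem (S.mul_mem hq.1 hxS) (S.inv_mem hq.1), cj q M, h.hO M hM q, h.hyp.zz_cj hM q, ?_⟩
      have h1 := h.tt_cj hK.1 ht q
      rwa [hqK] at h1
  | one => rw [mul_one, mul_inv_cancel]; exact one_mem _
  | mul a b _ _ ha hb =>
    have h1 : q * (a * b) * q⁻¹ = (q * a * q⁻¹) * (q * b * q⁻¹) := by group
    rw [h1]; exact mul_mem ha hb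
  | inv a _ ha =>
    have h1 : q * a⁻¹ * q⁻¹ = (q * a * q⁻¹)⁻¹ := by group
    rw [h1]; exact inv_mem ha

/-- a member with a T-partner -/
theorem mem_II_or (hS : Syl S ⊤) (hM : M ∈ Om) (hz : zz M ∈ S) (hp : ∃ N ∈ Om, TT U M (zz N)) :
    M ∈ II Om U S ∨ ∃ L ∈ Phi Om S, TT U L (zz M) := by
  by_cases hh : ∃ L ∈ Phi Om S, TT U L (zz M)
  · exact Or.inr hh
  · push Not at hh
    exact Or.inl ⟨h.mem_Phi_of_not_tt hS hM hz hh, hp⟩

theorem exists_tt_cj (hK : K ∈ Om) (hp : ∃ N ∈ Om, TT U K (zz N)) (g : G) : ∃ N ∈ Om, TT U (cj g K) (zz N) := by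
  obtain ⟨N, hN, ht⟩ := hp
  exact ⟨cj g N, h.hO N hN g, by rw [h.hyp.zz_cj hN]; exact h.tt_cj hK ht g⟩

/-- an element `zz M` of `S`, `M` with a T-partner, lies in a part -/
theorem zz_mem_part (hS : Syl S ⊤) (hM : M ∈ Om) (hz : zz M ∈ S) (hp : ∃ N ∈ Om, TT U M (zz N)) :
    ∃ L ∈ II Om U S, zz M ∈ PP Om U S L := by
  rcases h.mem_II_or hS hM hz hp with h1 | ⟨L, hL, ht⟩
  · exact ⟨M, h1, Subgroup.subset_closure (Or.inl (h.zz_mem_XX hM))⟩
  · exact ⟨L, ⟨hL, M, hM, ht⟩, Subgroup.subset_closure (Or.inr ⟨hz, M, hM, rfl, ht⟩)⟩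

/-- **(6.3)** -/
theorem pp_closed (hS : Syl S ⊤) (hK : K ∈ II Om U S) (hx : x ∈ PP Om U S K)
    (hg : g * x * g⁻¹ ∈ S) : ∃ L ∈ II Om U S, g * x * g⁻¹ ∈ PP Om U S L := by
  haveI : Fact (Nat.Prime 2) := ⟨Nat.prime_two⟩
  obtain ⟨N, hN, hs, ht⟩ := h.exists_tt hS hK
  have hKO := hK.1.1
  rcases (h.PP_iff hS hK.1 hN hs ht).1 hx with hx | ⟨x', hx', rfl⟩
  · -- `x ∈ X_K`
    have hxM : g * x * g⁻¹ ∈ XX U (cj g K) := (conj_mem_XX (h.vch.cj K hKO g)).2 hx
    have hM : cj g K ∈ Om := h.hO K hKO g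
    by_cases hx2 : x * x = 1
    · by_cases hx1 : x = 1
      · refine ⟨K, hK, ?_⟩
        rw [hx1, mul_one, mul_inv_cancel]; exact one_mem _
      · have h1 : x = zz K := h.hyp.eq_zz hKO (XX_le K hx) hx2 hx1
        rw [h1, ← h.hyp.zz_cj hKO] at hg ⊢
        exact h.zz_mem_part hS hM hg (h.exists_tt_cj hKO hK.2 g)
    · -- order at least four
      obtain ⟨c, hc⟩ : ∃ c, c = g * x * g⁻¹ := ⟨_, rfl⟩
      have hcc : c * c ≠ 1 := by
        intro hh
        apply hx2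
        have h1 : c * c = g * (x * x) * g⁻¹ := by rw [hc]; group
        rw [h1] at hh
        have h2 : x * x = g⁻¹ * (g * (x * x) * g⁻¹) * g := by group
        rw [h2, hh]; group
      rw [← hc] at hg hxM ⊢
      obtain ⟨m, hm⟩ := (IsPGroup.iff_orderOf.1 hS.2.1) ⟨c, hg⟩
      rw [Subgroup.orderOf_mk] at hm
      have hm2 : 2 ≤ m := by
        by_contra hlt
        have h1 : m = 0 ∨ m = 1 := by omega
        rcases h1 with rfl | rfl
        · rw [pow_zero, orderOf_eq_one_iff] at hm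
          exact hcc (by rw [hm, one_mul])
        · rw [pow_one] at hm
          exact hcc (by rw [← pow_two, ← hm]; exact pow_orderOf_eq_one c)
      obtain ⟨w, hw⟩ : ∃ w, w = c ^ (2 ^ (m - 2)) := ⟨_, rfl⟩
      have hw4 : orderOf w = 4 := by
        rw [hw, orderOf_pow_of_dvd (pow_ne_zero _ (by norm_num))
          (by rw [hm]; exact pow_dvd_pow 2 (Nat.sub_le m 2)), hm,
          Nat.pow_div (Nat.sub_le m 2) (by norm_num), show m - (m - 2) = 2 by omega]
      have hwX : w ∈ XX U (cj g K) := by rw [hw]; exact pow_mem hxM _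
      have hwU : w ∈ U (cj g K) := h.mem_U_of_pow_four hM hwX (by rw [← hw4]; exact pow_orderOf_eq_one w)
      have hwS : w ∈ S := by rw [hw]; exact S.pow_mem hg _
      have hzS : zz (cj g K) ∈ S := by
        rw [← h.sq hM hwU hw4]; exact S.mul_mem hwS hwS
      rcases h.mem_II_or hS hM hzS (h.exists_tt_cj hKO hK.2 g) with h1 | ⟨L, hL, htL⟩
      · exact ⟨_, h1, Subgroup.subset_closure (Or.inl hxM)⟩
      · exfalso
        obtain ⟨-, v, hv, hv4, hne⟩ := htL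
        have h1 := h.vch.commute h.hyp hS.2.1 hM hL.1 hwU hv hw4 hv4 hwS (hL.2 (h.vch.le L hL.1 hv))
        apply hne
        rw [← h.sq hM hwU hw4, mul_assoc, h1, ← mul_assoc, h1, mul_assoc]
  · -- `x = s x'`
    obtain ⟨k, hk, hkz⟩ := h.exists_cj_mul hKO hN ht hx'
    have hN' : cj k N ∈ Om := h.hO N hN k
    rw [← hkz, ← h.hyp.zz_cj hN'] at hg ⊢
    refine h.zz_mem_part hS (h.hO _ hN' g) hg (h.exists_tt_cj hN' ?_ g)
    exact h.exists_tt_cj hN ⟨K, hKO, h.tt_symm hKO hN ht⟩ k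

/-- the other parts centralise `K` and the T-partners of `K` in `S` -/
theorem PP_cent_ne (hS : Syl S ⊤) (hK : K ∈ Phi Om S) (hN : N ∈ Om) (hs : zz N ∈ S) (ht : TT U K (zz N))
    (hL : L ∈ Phi Om S) (hKL : K ≠ L) (hx : x ∈ PP Om U S L) :
    (∀ y ∈ K, x * y = y * x) ∧ ∀ y ∈ N, x * y = y * x := by
  have hKs : ∀ M ∈ Om, zz M ∈ S → TT U L (zz M) → ∀ y ∈ K, zz M * y = y * zz M := by
    intro M hM hsM htM y hy
    have h1 : ¬ TT U K (zz M) := fun hh => hKL (h.tt_eq hS.2.1 hK.1 hK.2 hL.1 hL.2 hM hh htM)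
    rcases h.comm_of_not_tt hK.1 hM (h.comm_zz_of_mem hS.2.1 hK.1 hK.2 hM hsM) h1 with h2 | h2
    · exfalso
      subst h2
      exact h.not_tt_of_comm hL.1 hK.1 (Or.inr (h.orth_of_Phi hS hL hK hKL.symm).2) htM
    · exact (h2 y hy _ (h.hyp.zz_mem hM)).symm
  have hNL : ∀ y ∈ N, ∀ z ∈ L, z * y = y * z := by
    have h1 : ¬ TT U L (zz N) := fun hh => hKL (h.tt_eq hS.2.1 hK.1 hK.2 hL.1 hL.2 hN ht hh)
    rcases h.comm_of_not_tt hL.1 hN (h.comm_zz_of_mem hS.2.1 hL.1 hL.2 hN hs) h1 with h2 | h2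
    · exfalso
      subst h2
      exact h.not_tt_of_comm hK.1 hL.1 (Or.inr (h.orth_of_Phi hS hK hL hKL).2) ht
    · exact fun y hy z hz => h2 z hz y hy
  have h1 : PP Om U S L ≤ centralizer (K : Set G) ⊓ centralizer (N : Set G) := by
    rw [PP, closure_le]
    rintro a (ha | ⟨haS, M, hM, rfl, htM⟩)
    · refine ⟨mem_centralizer_iff.2 fun y hy => ?_, mem_centralizer_iff.2 fun y hy => ?_⟩
      · exact (h.orth_of_Phi hS hK hL hKL).2 y hy a (XX_le L ha)
      · exact (hNL y hy a (XX_le L ha)).symm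
    · refine ⟨mem_centralizer_iff.2 fun y hy => ?_, mem_centralizer_iff.2 fun y hy => ?_⟩
      · exact (hKs M hM haS htM y hy).symm
      · exact (h.tt_comm hS hK hL hKL hN hM hs haS ht htM y hy).symm
  exact ⟨fun y hy => (mem_centralizer_iff.1 (h1 hx).1 y hy).symm, fun y hy => (mem_centralizer_iff.1 (h1 hx).2 y hy).symm⟩

/-- **the parts are independent** -/
theorem pp_indep (hS : Syl S ⊤) (hK : K ∈ II Om U S) (hx : x ∈ PP Om U S K)
    (hx' : x ∈ (⨆ L : {L : {L // L ∈ II Om U S} // (L : Subgroup G) ≠ K}, PP Om U S L : Subgroup G)) : x = 1 := by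
  by_contra hx1
  obtain ⟨N, hN, hs, ht⟩ := h.exists_tt hS hK
  have hKO := hK.1.1
  have h1 : (⨆ L : {L : {L // L ∈ II Om U S} // (L : Subgroup G) ≠ K}, PP Om U S L : Subgroup G) ≤
      centralizer (K : Set G) ⊓ centralizer (N : Set G) := by
    refine iSup_le fun L y hy => ?_
    have h2 := h.PP_cent_ne hS hK.1 hN hs ht L.1.2.1 (Ne.symm L.2) hy
    exact ⟨mem_centralizer_iff.2 fun z hz => (h2.1 z hz).symm, mem_centralizer_iff.2 fun z hz => (h2.2 z hz).symm⟩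
  have h2 := h1 hx'
  have hxK : ∀ y ∈ K, x * y = y * x := fun y hy => (mem_centralizer_iff.1 h2.1 y hy).symm
  have hxN : ∀ y ∈ N, x * y = y * x := fun y hy => (mem_centralizer_iff.1 h2.2 y hy).symm
  obtain ⟨v, hv, hv4⟩ := h.exists_v hKO
  rcases (h.PP_iff hS hK.1 hN hs ht).1 hx with hx | ⟨x', hxX, rfl⟩
  · obtain ⟨y, hy, hyX⟩ := h.exists_y hKO
    have h3 := (h.y_facts hKO hy hyX).2.2 x hx
    have h4 : x * x = 1 := by
      have h5 : y * x * y⁻¹ = x := by rw [← hxK y hy, mul_inv_cancel_right]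
      rw [h5] at h3
      nth_rw 1 [h3]; exact inv_mul_cancel x
    have h5 : x = zz K := h.hyp.eq_zz hKO (XX_le K hx) h4 hx1
    obtain ⟨-, w, hw, hw4, hne⟩ := h.tt_symm hKO hN ht
    rw [h5] at hxN
    exact hne (hxN w (h.vch.le N hN hw))
  · obtain ⟨-, w, hw, hw4, hne⟩ := h.tt_mul hKO hN ht hxX
    exact hne (hxK w (h.vch.le K hKO hw))

/-- **the permuted product data** -/
theorem data (S : Sylow 2 G) :
    Data (AF Om) S (fun L : {L // L ∈ II Om U (S : Subgroup G)} => PP Om U (S : Subgroup G) L) := by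
  have hS : Syl (S : Subgroup G) ⊤ := syl_sylow S
  refine ⟨h.closedFam, ?_, ?_, ?_, ?_⟩
  · intro L x hx
    have h1 := h.mem_AF_of_PP hS L.2.1 hx
    exact ⟨⟨S, hS, h1⟩, h1.1⟩
  · intro L x hx q hq hqA
    exact h.PP_norm L.2.1 (h.N0_of_AF hS hqA hq) hx
  · intro L x hx hx'
    refine h.pp_indep hS L.2 hx ?_
    refine (iSup_le fun M => ?_ : (⨆ j : {j // j ≠ L}, PP Om U (S : Subgroup G) j : Subgroup G) ≤ _) hx'
    exact le_iSup (fun M : {M : {M // M ∈ II Om U (S : Subgroup G)} // (M : Subgroup G) ≠ L} =>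
      PP Om U (S : Subgroup G) M) ⟨M.1, fun hh => M.2 (Subtype.ext hh)⟩
  · intro L x hx g hg
    obtain ⟨M, hM, hxM⟩ := h.pp_closed hS L.2 hx hg
    exact ⟨⟨M, hM⟩, hxM⟩

/-- every involution of a part lies in a four-subgroup of the part -/
theorem pp_rich (hS : Syl S ⊤) (hK : K ∈ II Om U S) (hx : x ∈ PP Om U S K) (hx2 : orderOf x = 2) :
    ∃ y ∈ PP Om U S K, orderOf y = 2 ∧ y ≠ x ∧ x * y = y * x := by
  obtain ⟨N, hN, hs, ht⟩ := h.exists_tt hS hK
  have hKO := hK.1.1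
  have hx1 : x ≠ 1 := by rintro rfl; rw [orderOf_one] at hx2; norm_num at hx2
  have hxx : x * x = 1 := by rw [← pow_two, ← hx2]; exact pow_orderOf_eq_one x
  have hne : ∀ M ∈ Om, TT U K (zz M) → zz M ≠ zz K := by
    intro M hM htM hh
    obtain ⟨-, w, hw, hw4, hne⟩ := htM
    rw [hh] at hne
    exact hne (h.hyp.comm_zz hKO (le_normalizer (h.vch.le K hKO hw))).symm
  rcases (h.PP_iff hS hK.1 hN hs ht).1 hx with hxX | ⟨x', hx', rfl⟩
  · have h1 : x = zz K := h.hyp.eq_zz hKO (XX_le K hxX) hxx hx1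
    refine ⟨zz N, Subgroup.subset_closure (Or.inr ⟨hs, N, hN, rfl, ht⟩), h.hyp.orderOf_zz hN, ?_, ?_⟩
    · rw [h1]; exact hne N hN ht
    · rw [h1]; exact ht.1.symm
  · obtain ⟨k, hk, hkz⟩ := h.exists_cj_mul hKO hN ht hx'
    have h1 := h.tt_mul hKO hN ht hx'
    refine ⟨zz K, Subgroup.subset_closure (Or.inl (h.zz_mem_XX hKO)), h.hyp.orderOf_zz hKO, ?_, ?_⟩
    · rw [← hkz]
      refine (hne _ (h.hO N hN k) ?_).symm
      rw [hkz]; exact h1
    · exact h1.1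

end LW

/-- **`|II| ≥ 2`** -/
theorem Red.comm_zz_cj (r : Red Om U) (hL : LemT Om U) (hS : Syl S ⊤) (hK : K ∈ II Om U S)
    (hK' : K' ∈ II Om U S) (hne : K ≠ K') (g : G) : g * zz K * g⁻¹ * zz K' = zz K' * (g * zz K * g⁻¹) := by
  have h := r.lw hL
  obtain ⟨S, rfl⟩ := exists_sylow_eq hS
  have hd := h.data S
  have hg : g ∈ fam (AF Om) (⊤ : Subgroup G) := by
    have h1 : sSup Om ≤ fam (AF Om) (⊤ : Subgroup G) := by
      rw [sSup_le_iff]
      intro L hL x hx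
      obtain ⟨T, hT, hLT⟩ := exists_top (h.two L hL)
      exact mem_fam ⟨T, hT, h.N0_of_mem hT ⟨hL, hLT⟩ hx⟩ (mem_top x)
    rw [r.gen] at h1
    exact h1 (mem_top g)
  have h1 := Cfsg.Agent.PermParts.Consumer.commutator_mem_of_data hd
    (fun L x hx hx2 => h.pp_rich (syl_sylow S) L.2 hx hx2)
    (i := ⟨K, hK⟩) (j := ⟨K', hK'⟩) (fun hh => hne (congrArg Subtype.val hh))
    (x := zz K) (y := zz K') (g := g)
    (Subgroup.subset_closure (Or.inl (h.zz_mem_XX hK.1.1))) (Subgroup.subset_closure (Or.inl (h.zz_mem_XX hK'.1.1))) hg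
  have h2 : oddCore G = ⊥ := by
    rw [eq_bot_iff, ← r.core]
    have hn : (oddCore G).Normal := Lib.Cores.pPrimeCore_normal 2
    refine le_OO le_top (by rw [normalizer_eq_top_iff.2 hn]) ?_
    exact (Nat.Prime.coprime_iff_not_dvd Nat.prime_two).1 (Lib.Cores.pPrimeCore_coprime 2).symm
  rw [h2, mem_bot, mul_inv_eq_one, mul_inv_eq_iff_eq_mul] at h1
  exact h1

/-- **`II` has at most one element** -/
theorem Red.subsingleton (r : Red Om U) (hL : LemT Om U) (hR : ¬ R1 Om ⊤) (hS : Syl S ⊤)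
    (hK : K ∈ II Om U S) (hK' : K' ∈ II Om U S) : K = K' := by
  by_contra hne
  have h := r.lw hL
  have hn : (normalClosure {zz K}).Normal := normalClosure_normal
  have h1 : normalClosure {zz K} ≠ ⊥ := by
    intro hh
    have h2 : zz K ∈ normalClosure {zz K} := subset_normalClosure rfl
    rw [hh, mem_bot] at h2
    exact h.hyp.zz_ne hK.1.1 h2
  have h2 : zz K' ∈ centralizer (normalClosure {zz K} : Set G) := by
    have h3 : normalClosure {zz K} ≤ centralizer {zz K'} := by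
      rw [normalClosure, closure_le]
      intro x hx
      obtain ⟨_, rfl, hg⟩ := Group.mem_conjugatesOfSet_iff.1 hx
      obtain ⟨g, rfl⟩ := isConj_iff.1 hg
      exact mem_centralizer_singleton_iff.2 (r.comm_zz_cj hL hS hK hK' hne g)
    exact mem_centralizer_iff.2 fun x hx => mem_centralizer_singleton_iff.1 (h3 hx)
  rw [(r.normal hL hR hn h1).2, mem_bot] at h2
  exact h.hyp.zz_ne hK'.1.1 h2

end

end Cfsg.Agent.Cit.CV1

private theorem dce_abc17671b2c8 : _root_.True := by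
  try have : _root_.True := by simp only [_root_.Cfsg.Agent.Cit.CV1.PP.eq_1]
  exact _root_.True.intro
end
end
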