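import Cfsg.Agent.Cit.Nil.RTwoM.L1.SwapN_m3
import Cfsg.Agent.Cit.Nil.Comp.ProdEnd_m3
import Mathlib
import Cfsg.Agent.Cit.Nil.LO.Wt_m3
import Cfsg.Agent.Cit.OmB3.PairEx_m3
import Cfsg.Agent.Cit.FamFb_m3
import Cfsg.Agent.Nodes.RKindsBC
import Cfsg.Agent.Nodes.ChartFrame
import Cfsg.Agent.Cit.OmB3.Torus_m3
import Cfsg.Agent.Cit.TypeDet.KindsEF
import Cfsg.Agent.Cit.TPieces
import Cfsg.Agent.Cit.CorOf_m3
import Cfsg.Agent.Nodes.Reindex
import Cfsg.Agent.Nodes.MuSq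
import Cfsg.Agent.Cit.ParabSL2Opp
import Cfsg.Agent.Nodes.StdConn
import Cfsg.Agent.Nodes.FreeTorus
import Cfsg.Agent.Nodes.CardSup_m3
import Cfsg.Agent.Cit.CloGlue_m3
import Cfsg.Agent.Nodes.ShortSum
import Cfsg.Agent.Nodes.TyStd
import Cfsg.Agent.Cit.Nil.SC_m3
import Cfsg.Agent.Cit.Nil.AN.Main_m3
import Cfsg.Agent.Cit.LemmaB
import Cfsg.Agent.Cit.Nil.End
import Cfsg.Agent.Cit.TyTrans_m3
import Cfsg.Agent.Cit.Nil.Three.Lem_m3
import Cfsg.Agent.SignalizersComponents.ComponentNormalize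
import Cfsg.Agent.Cit.Nil.RFour.SClosed
import Cfsg.Agent.Cit.Parab
import Cfsg.Agent.Cit.Nil.Comp.MThreeAbs
import Cfsg.Agent.StrongEmb.Strong
import Cfsg.Agent.S1175
import Cfsg.Agent.SignalizersComponents.CompBasic
import Cfsg.Agent.SignalizersComponents.BalanceAux
import Cfsg.Agent.SignalizersComponents.PConstrained
import Cfsg.Agent.SignalizersComponents.PCompCore
import Cfsg.Agent.Lib.GenFitting
import Cfsg.Agent.Cit.Nil.RFour.Gen_m3
import Cfsg.Agent.Cit.OneComp_m3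
import Cfsg.Agent.Cit.Nil.CompR.SecRot_m3
import Cfsg.Agent.Cit.Sub
import Cfsg.Agent.FixBN.ReduceMain_m3
import Cfsg.Agent.OddHalf.Known
import Cfsg.Agent.Cit.Nil.RG.TZero
import Cfsg.Agent.Cit.Nil.RTwoM.ELay_m3
import Cfsg.Prelude.Def_ClassificationK
import Cfsg.Agent.LargeExtra.Enum9.TenConf
import Cfsg.Agent.LargeExtra.KillNine.Final
import Cfsg.Agent.LargeExtra.Tri.CaseTwo
import Cfsg.Agent.TypeD4Three.FromConf_mg
import Cfsg.Agent.TypeO8Plus.Main
import Cfsg.Agent.Cit.Nil.RG.Closed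
import Cfsg.Agent.Cit.Nil.LO.FormQ_m3
import Cfsg.Agent.FastGrp
import Cfsg.Agent.Prune
set_option linter.all false

section
prune_inst 0x7ffcfcfaafb83ddedfff7e7ffe99dffdb9f8dfffe6dff9033fe0abff0bdf030cabe5fbaf0de090fc0ec6e01410387813f97ec23fe36bdc7ffffd5ff41ffbee0fe5f7b50851d4983e0fbc0ffe03f07f8a7f3fffffffffffffffffffffffffffbeffbfffffffff

-- part: Cit/Nil/RTwoM/L1/End
section
set_option linter.all false
open scoped Cfsg.Agent.FastGrp

/-!
# S1309, (6b), `r = 2`: LAMBDA1: the end (section 10 of helper545's text)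

* `WM.two_four`, `WM.two_five` : two fields of `GD`;
* `WM.one_cls` : `ROne.OneCls` from `OneCl`;
* `WM.end_swap` : C-swaps exist, `F*(G) = G0` simple, `GD`, `WOne`: contradiction.
-/

set_option autoImplicit false
set_option linter.style.haveILetI false
set_option linter.unusedSectionVars false

namespace Cfsg.Agent.Cit.Nil.RTwoM

open Subgroup Cfsg Cfsg.Agent.Cit
open L1 (Zs S2 ZS ANs GD WOne Tor)
open ROne (NC NCab wt dg self_mem_NC conj_mem_NC NC_two CP Cen CSw OneCls FSimp CS)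

variable {G : Type*} [Group G] [Finite G] {Om : Set (Subgroup G)} {K L M G0 : Subgroup G} {z t u v g x y s n : G}

/-- a 2-subgroup of a group with a commutative Sylow 2-subgroup is commutative -/
theorem comm_of_sylow {G0 : Type*} [Group G0] [Finite G0] (T : Sylow 2 G0) (hT : IsMulCommutative (T : Subgroup G0))
    {P : Subgroup G0} (hP : IsPGroup 2 P) {a b : G0} (ha : a ∈ P) (hb : b ∈ P) : a * b = b * a := by
  haveI : Fact (Nat.Prime 2) := ⟨Nat.prime_two⟩
  obtain ⟨T', hT'⟩ := hP.exists_le_sylow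
  obtain ⟨r, hr⟩ := MulAction.exists_smul_eq G0 T T'
  have h4 : ∀ x ∈ (T' : Subgroup G0), r⁻¹ * x * r ∈ (T : Subgroup G0) := by
    intro x hx
    rw [← hr] at hx
    have h5 : x ∈ cj r (T : Subgroup G0) := hx
    exact mem_cj.1 h5
  have h5 := congrArg Subtype.val (hT.is_comm.comm ⟨_, h4 _ (hT' ha)⟩ ⟨_, h4 _ (hT' hb)⟩)
  have h7 : r⁻¹ * a * r * (r⁻¹ * b * r) = r⁻¹ * b * r * (r⁻¹ * a * r) := h5
  calc a * b = r * (r⁻¹ * a * r * (r⁻¹ * b * r)) * r⁻¹ := by group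
    _ = r * (r⁻¹ * b * r * (r⁻¹ * a * r)) * r⁻¹ := by rw [h7]
    _ = b * a := by group

namespace WM

theorem one_cls (hone : OneCl Om) : OneCls (Zs Om) := fun u hu v hv => hone u v hu hv

variable (h : WM Om) (ha : ANT Om)

include h ha

/-- **(10.1), (10.2), C-swaps exist** -/
theorem end_swap (hone : OneCl Om) (gd : GD (Zs Om) (RZ Om)) {E : G → Subgroup G} (o : WOne (Zs Om) (RZ Om) E)
    (f : FSimp G0) (hZ : ∀ z, InZ Om z → z ∈ G0) (gold : Cit.ROne.Gold G0) (hu : u ∈ Zs Om) (hv : v ∈ Zs Om)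
    (hs : CSw (RZ Om) u v) : False := by
  haveI : Fact (Nat.Prime 2) := ⟨Nat.prime_two⟩
  have w := h.wg
  obtain ⟨S, hzS⟩ := w.exists_sylow hu
  obtain ⟨A, hA, hAT, hsc, -⟩ := o.exists_closed gd (one_cls hone) h.dat S hzS
  have hAc : ∀ x ∈ A, ∀ y ∈ A, x * y = y * x := fun x hx y hy => w.TT_comm S.isPGroup' (hAT hx) (hAT hy)
  have hAG : A ≤ G0 := hAT.trans ((closure_le _).2 fun x hx => hZ x hx.1)
  obtain ⟨T, hT⟩ := ROne.exists_sylow_subgroupOf f.nor S
  -- `A` in `G0`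
  have hA' : A.subgroupOf G0 ≠ ⊥ := by
    intro h1
    apply hA
    rw [← map_subgroupOf_eq_of_le hAG, h1, Subgroup.map_bot]
  have hc' : ∀ x ∈ A.subgroupOf G0, ∀ y ∈ A.subgroupOf G0, x * y = y * x := fun x hx y hy =>
    Subtype.ext (hAc x hx y hy)
  have hsc' : IsStronglyClosed (A.subgroupOf G0) (T : Subgroup G0) := by
    refine ⟨?_, fun x hx g hg => ?_⟩
    · rw [hT]
      exact comap_mono hsc.1
    · rw [hT] at hg
      exact hsc.2 x hx g hg
  have huG := hZ u hu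
  have hvG := hZ v hv
  have hncomm : u * v ≠ v * u := h.ws.csw_not_comm hu hv hs
  rcases gold T _ hA' ⟨⟨fun a b => Subtype.ext (hc' a a.2 b b.2)⟩⟩ hsc' with h1 | ⟨H, hH⟩
  · -- commutative Sylow subgroups
    have hP : IsPGroup 2 ((NC (wt u v) u).subgroupOf G0) :=
      (NC_two (h.swap_an ha hu hv hs) (h.ws.mem_ZC_u hu hv hs)).comap_subtype
    have h2 := comm_of_sylow T h1 hP (a := ⟨u, huG⟩) (b := ⟨v, hvG⟩) (mem_subgroupOf.2 self_mem_NC)
      (mem_subgroupOf.2 (h.swap_mem ha hu hv hs))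
    exact hncomm (congrArg Subtype.val h2)
  · -- strongly embedded
    have hwG : wt u v ∈ G0 := mul_mem huG (mul_mem (mul_mem hvG huG) (inv_mem hvG))
    have h2 := Cfsg.Agent.TwoFusion.StronglyEmbeddedBasic.isConj_of_involutions hH (⟨u, huG⟩ : G0) ⟨wt u v, hwG⟩
      (by rw [← Subgroup.orderOf_coe]; exact orderOf_eq_prime (by rw [pow_two]; exact w.sq u hu) (w.ne u hu))
      (by
        rw [← Subgroup.orderOf_coe]
        exact orderOf_eq_prime (by rw [pow_two]; exact w.wt_sq hu hv hs) (h.ws.wt_ne hu hv hs))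
    obtain ⟨g, hg⟩ := isConj_iff.1 h2
    have h3 : (g : G) * u * (g : G)⁻¹ = wt u v := congrArg Subtype.val hg
    exact gd.five_eight u hu v hv hs (h3 ▸ w.conjZ u hu g)

end WM

end Cfsg.Agent.Cit.Nil.RTwoM
end

-- part: Cit/Nil/LO/StdChart_mg
section
prune_inst 0x10100008221000000000146000040010000002004c800020400702030000000000002000202500000a800000040020029800800000000000000000000401000028020090480000000000000004400000000000000000000000000000000004000000000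
set_option linter.all false
open scoped Cfsg.Agent.FastGrp

-- part: Cit/Nil/LO/LemS
section
/-!
# Lie odd sections, the chart part: short roots `y = (r + s) / 2` (S1309, (n1), piece (C))

* `triv_of_form` : a `Q₈` acting on an abelian `p`-group with an invariant symmetric anisotropic form with values in an
  abelian `p`-group: its involution acts trivially (no fields, no dimensions);
* `Pl cs h R r y` : the plane of type `B₂` of a long root `r ∈ R` and a short root `y`, `(y, r) > 0`; `q = r - 2 y`;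
* `Pl.conj` : `u x u⁻¹ = x c d`, `c ∈ X (r - y)`, `d = k x k⁻¹ ∈ X r`, for `1 ≠ u ∈ X y`, `x ∈ X q`;
* `Pl.ne` : here `c ≠ 1` if `x ≠ 1`;
* `Pl.form` : `(u, v) ↦ ⁅u, ⁅a⁻¹, v⁆⁆` is a symmetric anisotropic form on `X y` with values in `Z r`, for `1 ≠ a ∈ Z q`;
* `Pl.triv` : the involution of a `Q₈` which normalises `X y` and centralises `Z r`, `Z q` centralises `X y`.
-/

set_option autoImplicit false
set_option linter.unusedSectionVars false
set_option linter.dupNamespace false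

namespace Cfsg.Agent.LOC.LemS

open CoxeterSystem Cfsg.Agent.ChevalleyStructure.CoxeterGeom Cfsg.Agent.Tits.Roots Cfsg.Agent.Tits.Core
  Cfsg.Agent.Tits.RootComb Cfsg.Agent.Nodes.Comb Cfsg.Agent.Nodes.SubComb Cfsg.Agent.Nodes.Reps
  Cfsg.Agent.Nodes.Coroot Cfsg.Agent.Nodes.PosPair Cfsg.Agent.Nodes.BNOf Cfsg.Agent.Nodes.RGDLib
  Cfsg.Agent.Nodes.Chart Cfsg.Agent.Nodes.ClsNorm Cfsg.Agent.Nodes.ChartLoc Cfsg.Agent.Nodes.ChartFrame
  Cfsg.Agent.Nodes.Bruhat Cfsg.Agent.Nodes.CenVV Cfsg.Agent.LOC.ChartDefs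
open scoped commutatorElement

/-! ### A `Q₈` acting on an anisotropic form -/

section form

variable {Y : Type*} [Group Y] {K : Subgroup Y} {e : Y} {p : ℕ}

theorem eq_one_of_sq [Fact p.Prime] (hp2 : p ≠ 2) {S : Subgroup Y} (hS : IsPGroup p S) {a : Y} (ha : a ∈ S)
    (h2 : a * a = 1) : a = 1 := by
  obtain ⟨k, hk⟩ := hS ⟨a, ha⟩
  have hk' : a ^ p ^ k = 1 := by
    have := congrArg Subtype.val hk
    simpa only [_root_.SubmonoidClass.mk_pow, _root_.OneMemClass.coe_one] using this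
  have ho : Odd (orderOf a) := (((Fact.out : p.Prime).odd_of_ne_two hp2).pow (n := k)).of_dvd_nat
    (orderOf_dvd_of_pow_eq_one hk')
  have h3 : orderOf a ∣ 2 := orderOf_dvd_of_pow_eq_one (by rw [pow_two, h2])
  have h4 : orderOf a ∣ 1 := by
    rw [← Nat.Coprime.gcd_eq_one (Nat.coprime_two_left.2 ho)]
    exact Nat.dvd_gcd h3 dvd_rfl
  exact orderOf_eq_one_iff.1 (Nat.dvd_one.1 h4)

theorem exists_ab (hK : QK K e) : ∃ a ∈ K, ∃ b ∈ K, a * a = e ∧ b * b = e ∧ a⁻¹ * b * (a⁻¹ * b) = e := by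
  obtain ⟨a, ha, b, hb, h1, h2, h3⟩ := hK.com
  refine ⟨a, ha, b, hb, h1, h2, ?_⟩
  have hk : a⁻¹ * b ∈ K := mul_mem (inv_mem ha) hb
  rcases hK.pow _ hk with h4 | h4
  · exfalso
    rcases hK.one _ hk h4 with h5 | h5
    · have h6 : a = b := inv_mul_eq_one.1 h5
      rw [← h6, h1, hK.sq] at h3
      exact hK.ne h3
    · have h6 : b = a * e := inv_mul_eq_iff_eq_mul.1 h5
      have h7 : a * (a * e) = 1 := by rw [← mul_assoc, h1, hK.sq]
      have h8 : e * (a * e * a) = e := by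
        rw [mul_assoc a e a, ← hK.cen a ha, ← mul_assoc a a e, h1, hK.sq, mul_one]
      rw [h6, h7, h8] at h3
      exact hK.ne h3.symm
  · exact h4

theorem triv_of_form [Fact p.Prime] (hp2 : p ≠ 2) (hK : QK K e) {U A : Subgroup Y}
    (hU : IsPGroup p U) (hA : IsPGroup p A)
    (hn : ∀ k ∈ K, ∀ u ∈ U, k * u * k⁻¹ ∈ U) {b : Y → Y → Y} (hb : ∀ u ∈ U, ∀ v ∈ U, b u v ∈ A)
    (hadd : ∀ u ∈ U, ∀ v ∈ U, ∀ w ∈ U, b (u * v) w = b u w * b v w)
    (hsymm : ∀ u ∈ U, ∀ v ∈ U, b u v = b v u)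
    (hinv : ∀ k ∈ K, ∀ u ∈ U, ∀ v ∈ U, b (k * u * k⁻¹) (k * v * k⁻¹) = b u v)
    (han : ∀ u ∈ U, b u u = 1 → u = 1) : ∀ u ∈ U, e * u = u * e := by
  have hei := hK.inv_e
  by_contra hcon
  push Not at hcon
  obtain ⟨u₀, hu₀, hne⟩ := hcon
  -- an element of order `p` inverted by `e`
  obtain ⟨u, hu, hu1, hup, hue⟩ : ∃ u ∈ U, u ≠ 1 ∧ u ^ p = 1 ∧ e * u * e⁻¹ = u⁻¹ := by
    set v := e * u₀ * e⁻¹ * u₀⁻¹ with hv
    have hvU : v ∈ U := mul_mem (hn e hK.mem u₀ hu₀) (inv_mem hu₀)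
    have hv1 : v ≠ 1 := by
      intro h0
      apply hne
      rw [hv, mul_inv_eq_one, mul_inv_eq_iff_eq_mul] at h0
      exact h0
    have hve : e * v * e⁻¹ = v⁻¹ := by
      have h1 : e * (e * u₀ * e⁻¹ * u₀⁻¹) * e⁻¹ = (e * e) * u₀ * (e * e)⁻¹ * (e * u₀ * e⁻¹)⁻¹ := by group
      rw [hv, h1, hK.sq]
      group
    obtain ⟨m, hm⟩ := hU ⟨v, hvU⟩
    have hm' : ∃ m, v ^ p ^ m = 1 := ⟨m, congrArg Subtype.val hm⟩
    classical
    have h2 := Nat.find_spec hm'
    have h3 : Nat.find hm' ≠ 0 := by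
      intro h0
      rw [h0, pow_zero, pow_one] at h2
      exact hv1 h2
    obtain ⟨k, hk⟩ := Nat.exists_eq_succ_of_ne_zero h3
    refine ⟨v ^ p ^ k, pow_mem hvU _, Nat.find_min hm' (by omega), ?_, ?_⟩
    · rw [← pow_mul, ← pow_succ, ← Nat.succ_eq_add_one, ← hk]
      exact h2
    · rw [← conj_pow, hve, inv_pow]
  -- rules
  have b1 : ∀ w ∈ U, b 1 w = 1 := by
    intro w hw
    have h1 := hadd 1 (one_mem _) 1 (one_mem _) w hw
    rw [mul_one] at h1
    exact left_eq_mul.1 h1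
  have bpow : ∀ u ∈ U, ∀ w ∈ U, ∀ m : ℕ, b (u ^ m) w = b u w ^ m := by
    intro u hu w hw m
    induction m with
    | zero => rw [pow_zero, pow_zero, b1 w hw]
    | succ m ih => rw [pow_succ, hadd _ (pow_mem hu m) _ hu _ hw, ih, pow_succ]
  have binv : ∀ u ∈ U, ∀ w ∈ U, b u⁻¹ w = (b u w)⁻¹ := by
    intro u hu w hw
    have h1 := hadd u⁻¹ (inv_mem hu) u hu w hw
    rw [inv_mul_cancel, b1 w hw] at h1
    exact eq_inv_of_mul_eq_one_left h1.symm
  -- orthogonality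
  have orth : ∀ k ∈ K, k * k = e → b u (k * u * k⁻¹) = 1 := by
    intro k hk hkk
    have hku := hn k hk u hu
    have h1 := hinv k hk u hu _ hku
    have h2 : k * (k * u * k⁻¹) * k⁻¹ = u⁻¹ := by
      rw [← hue, ← hkk]; group
    rw [h2, hsymm _ hku _ (inv_mem hu), binv u hu _ hku] at h1
    have h3 : b u (k * u * k⁻¹) * b u (k * u * k⁻¹) = 1 := by
      rw [inv_eq_iff_mul_eq_one] at h1
      exact h1
    exact eq_one_of_sq hp2 hA (hb _ hu _ hku) h3
  obtain ⟨a, ha, c, hc, haa, hcc, hac⟩ := exists_ab hK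
  have hua := hn a ha u hu
  have huc := hn c hc u hu
  set ua := a * u * a⁻¹ with hua'
  set uc := c * u * c⁻¹ with huc'
  have o1 : b u ua = 1 := orth a ha haa
  have o2 : b u uc = 1 := orth c hc hcc
  have o3 : b ua uc = 1 := by
    have h1 := hinv a⁻¹ (inv_mem ha) ua hua uc huc
    have h2 : a⁻¹ * ua * a⁻¹⁻¹ = u := by rw [hua']; group
    have h3 : a⁻¹ * uc * a⁻¹⁻¹ = (a⁻¹ * c) * u * (a⁻¹ * c)⁻¹ := by rw [huc']; group
    rw [h2, h3] at h1
    rw [← h1]
    exact orth _ (mul_mem (inv_mem ha) hc) hac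
  have n1 : b ua ua = b u u := hinv a ha u hu u hu
  have n2 : b uc uc = b u u := hinv c hc u hu u hu
  set ν := b u u with hν
  have hνp : ν ^ p = 1 := by rw [hν, ← bpow u hu u hu, hup, b1 u hu]
  -- `1 + x² + y² = 0`
  obtain ⟨x, y, hxy⟩ : ∃ x y : ℕ, p ∣ 1 + x * x + y * y := by
    obtain ⟨x, y, hxy⟩ := ZMod.sq_add_sq p (-1)
    refine ⟨x.val, y.val, ?_⟩
    rw [← ZMod.natCast_eq_zero_iff]
    push_cast
    rw [ZMod.natCast_zmod_val, ZMod.natCast_zmod_val]
    linear_combination hxy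
  set v := u * ua ^ x * uc ^ y with hv
  have hux : u * ua ^ x ∈ U := mul_mem hu (pow_mem hua x)
  have hvU : v ∈ U := mul_mem hux (pow_mem huc y)
  have bv : ∀ w ∈ U, b v w = b u w * b ua w ^ x * b uc w ^ y := by
    intro w hw
    rw [hv, hadd _ hux _ (pow_mem huc y) _ hw, hadd _ hu _ (pow_mem hua x) _ hw, bpow _ hua _ hw, bpow _ huc _ hw]
  have v1 : b v u = ν := by
    rw [bv u hu, hsymm ua hua u hu, o1, hsymm uc huc u hu, o2, one_pow, one_pow, mul_one, mul_one]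
  have v2 : b v ua = ν ^ x := by
    rw [bv ua hua, o1, n1, hsymm uc huc ua hua, o3, one_pow, mul_one, one_mul]
  have v3 : b v uc = ν ^ y := by
    rw [bv uc huc, o2, o3, n2, one_pow, one_mul, one_mul]
  have v4 : b v v = 1 := by
    rw [bv v hvU, hsymm u hu v hvU, hsymm ua hua v hvU, hsymm uc huc v hvU, v1, v2, v3, ← pow_mul, ← pow_mul]
    obtain ⟨m, hm⟩ := hxy
    have h1 : ν * ν ^ (x * x) * ν ^ (y * y) = ν ^ (1 + x * x + y * y) := by
      rw [pow_add, pow_add, pow_one]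
    rw [h1, hm, pow_mul, hνp, one_pow]
  have v5 := han v hvU v4
  rw [v5, b1 u hu] at v1
  exact hu1 (han u hu v1.symm)

end form

/-! ### The plane -/

section plane

variable {I W Y : Type*} [Fintype I] [DecidableEq I] [Group W] [Fintype W] [Group Y] {M : CoxeterMatrix I}
  {cs : CoxeterSystem M W} {A : I → I → ℤ} {h : IsCartan M A} {p : ℕ} {T : Subgroup Y} {n : I → Y}
  {X : (I → ℤ) → Subgroup Y} {R : Set (I → ℤ)} {Z : (I → ℤ) → Subgroup Y} {z : (I → ℤ) → Y}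

/-- a long root `r ∈ R` and a short root `y` with `(y, r) > 0` -/
structure Pl (cs : CoxeterSystem M W) (h : IsCartan M A) (R : Set (I → ℤ)) (r y : I → ℤ) : Prop where
  L : Lg cs h r
  mem : r ∈ R
  root : IsRoot cs h y
  h1 : 2 * form cs h y r = form cs h r r
  h2 : 2 * form cs h y y = form cs h r r

namespace Pl

variable {r y : I → ℤ} (P : Pl cs h R r y)

include P

theorem pos : 0 < form cs h y y := form_pos cs h P.root.ne_zero

theorem fyr : form cs h y r = form cs h y y := by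
  have h1 := P.h1
  have h2 := P.h2
  omega

theorem fry : form cs h r y = form cs h y y := by rw [form_comm]; exact P.fyr

theorem frr : form cs h r r = 2 * form cs h y y := P.h2.symm

theorem cry : cpr cs h r y = 2 := by
  apply cpr_eq_of_form cs h P.root
  rw [P.fry]

theorem rootw : IsRoot cs h (r - y) := P.L.sub_root P.root P.h1

theorem rootq : IsRoot cs h (r - (2 : ℤ) • y) := by
  obtain ⟨s, hs⟩ := Nodes.KindBase.exists_refl cs h P.root
  have := P.L.root.act s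
  rwa [hs, P.cry] at this

/-- forms in coordinates -/
theorem form_pt (i j i' j' : ℤ) : form cs h (i • r + j • y) (i' • r + j' • y) =
    (2 * i * i' + i * j' + j * i' + j * j') * form cs h y y := by
  simp only [form_add_left, form_add_right, form_smul_left, form_smul_right, P.frr, P.fry, P.fyr]
  ring

theorem inj {i j i' j' : ℤ} (e : i • r + j • y = i' • r + j' • y) : i = i' ∧ j = j' := by
  have h1 := P.form_pt i j 1 0
  have h2 := P.form_pt i j 0 1
  rw [e, P.form_pt] at h1 h2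
  have h0 := P.pos.ne'
  have h3 := mul_right_cancel₀ h0 h1
  have h4 := mul_right_cancel₀ h0 h2
  constructor <;> linarith

theorem ne {x x' : I → ℤ} (i j i' j' : ℤ) (hx : x = i • r + j • y) (hx' : x' = i' • r + j' • y)
    (h0 : i ≠ i' ∨ j ≠ j') : x ≠ x' := by
  rintro rfl
  rw [hx'] at hx
  obtain ⟨h1, h2⟩ := P.inj hx
  omega

theorem btw {x x' w : I → ℤ} (i j i' j' : ℤ) (hx : x = i • r + j • y) (hx' : x' = i' • r + j' • y)
    (hb : Btwn cs h x x' w) : ∃ m a b k l : ℤ, 0 < m ∧ 0 < a ∧ 0 < b ∧ w = k • r + l • y ∧ m * k = a * i + b * i' ∧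
      m * l = a * j + b * j' ∧ ((k = 1 ∧ l = 0) ∨ (k = 0 ∧ l = 1) ∨ (k = 1 ∧ l = -1) ∨ (k = 1 ∧ l = -2) ∨
        (k = -1 ∧ l = 0) ∨ (k = 0 ∧ l = -1) ∨ (k = -1 ∧ l = 1) ∨ (k = -1 ∧ l = 2)) := by
  subst hx hx'
  exact btw_b P.L P.root P.h1 P.h2 hb

/-- commuting root groups in the plane -/
theorem cm (Rd : RGD cs h p T n X) {x x' : I → ℤ} (i j i' j' : ℤ) (hx : x = i • r + j • y)
    (hx' : x' = i' • r + j' • y) (h0 : i ≠ i' ∨ j ≠ j') (h0' : i ≠ -i' ∨ j ≠ -j') (hxr : IsRoot cs h x)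
    (hxr' : IsRoot cs h x') (hb : ∀ w, ¬ Btwn cs h x x' w) {a b : Y} (ha : a ∈ X x) (hb' : b ∈ X x') :
    a * b = b * a :=
  comm_of_btwn Rd hxr hxr' (P.ne i j i' j' hx hx' h0)
    (P.ne i j (-i') (-j') hx (by rw [hx']; module) h0') hb ha hb'

theorem bqy {w : I → ℤ} (hw : Btwn cs h (r - (2 : ℤ) • y) y w) : w = r - y ∨ w = r := by
  obtain ⟨m, a, b, i, j, hm, ha, hb, e0, e1, e2, hij⟩ := P.btw 1 (-2) 0 1 (by module) (by module) hw
  rcases hij with ⟨rfl, rfl⟩ | ⟨rfl, rfl⟩ | ⟨rfl, rfl⟩ | ⟨rfl, rfl⟩ | ⟨rfl, rfl⟩ | ⟨rfl, rfl⟩ | ⟨rfl, rfl⟩ |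
      ⟨rfl, rfl⟩
  all_goals first | omega | (left; rw [e0]; module) | (right; rw [e0]; module)

theorem brny {w : I → ℤ} (hw : Btwn cs h r (-y) w) : w = r - y ∨ w = r - (2 : ℤ) • y := by
  obtain ⟨m, a, b, i, j, hm, ha, hb, e0, e1, e2, hij⟩ := P.btw 1 0 0 (-1) (by module) (by module) hw
  rcases hij with ⟨rfl, rfl⟩ | ⟨rfl, rfl⟩ | ⟨rfl, rfl⟩ | ⟨rfl, rfl⟩ | ⟨rfl, rfl⟩ | ⟨rfl, rfl⟩ | ⟨rfl, rfl⟩ |
      ⟨rfl, rfl⟩
  all_goals first | (clear * - hb e2 ha e1 hm; omega) | (left; rw [e0]; module) | (right; rw [e0]; module)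

theorem brq {w : I → ℤ} (hw : Btwn cs h r (r - (2 : ℤ) • y) w) : w = r - y := by
  obtain ⟨m, a, b, i, j, hm, ha, hb, e0, e1, e2, hij⟩ := P.btw 1 0 1 (-2) (by module) (by module) hw
  rcases hij with ⟨rfl, rfl⟩ | ⟨rfl, rfl⟩ | ⟨rfl, rfl⟩ | ⟨rfl, rfl⟩ | ⟨rfl, rfl⟩ | ⟨rfl, rfl⟩ | ⟨rfl, rfl⟩ |
      ⟨rfl, rfl⟩
  all_goals first | omega | (rw [e0]; module)

theorem bwnq {w : I → ℤ} (hw : Btwn cs h (r - y) (-(r - (2 : ℤ) • y)) w) : w = y ∨ w = r := by
  obtain ⟨m, a, b, i, j, hm, ha, hb, e0, e1, e2, hij⟩ := P.btw 1 (-1) (-1) 2 (by module) (by module) hw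
  rcases hij with ⟨rfl, rfl⟩ | ⟨rfl, rfl⟩ | ⟨rfl, rfl⟩ | ⟨rfl, rfl⟩ | ⟨rfl, rfl⟩ | ⟨rfl, rfl⟩ | ⟨rfl, rfl⟩ |
      ⟨rfl, rfl⟩
  all_goals first | omega | (left; rw [e0]; module) | (right; rw [e0]; module)

theorem bwr {w : I → ℤ} (hw : Btwn cs h (r - y) r w) : False := by
  obtain ⟨m, a, b, i, j, hm, ha, hb, e0, e1, e2, hij⟩ := P.btw 1 (-1) 1 0 (by module) (by module) hw
  rcases hij with ⟨rfl, rfl⟩ | ⟨rfl, rfl⟩ | ⟨rfl, rfl⟩ | ⟨rfl, rfl⟩ | ⟨rfl, rfl⟩ | ⟨rfl, rfl⟩ | ⟨rfl, rfl⟩ |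
      ⟨rfl, rfl⟩ <;> omega

theorem bwq {w : I → ℤ} (hw : Btwn cs h (r - y) (r - (2 : ℤ) • y) w) : False := by
  obtain ⟨m, a, b, i, j, hm, ha, hb, e0, e1, e2, hij⟩ := P.btw 1 (-1) 1 (-2) (by module) (by module) hw
  rcases hij with ⟨rfl, rfl⟩ | ⟨rfl, rfl⟩ | ⟨rfl, rfl⟩ | ⟨rfl, rfl⟩ | ⟨rfl, rfl⟩ | ⟨rfl, rfl⟩ | ⟨rfl, rfl⟩ |
      ⟨rfl, rfl⟩ <;> omega

theorem byr {w : I → ℤ} (hw : Btwn cs h y r w) : False := by
  obtain ⟨m, a, b, i, j, hm, ha, hb, e0, e1, e2, hij⟩ := P.btw 0 1 1 0 (by module) (by module) hw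
  rcases hij with ⟨rfl, rfl⟩ | ⟨rfl, rfl⟩ | ⟨rfl, rfl⟩ | ⟨rfl, rfl⟩ | ⟨rfl, rfl⟩ | ⟨rfl, rfl⟩ | ⟨rfl, rfl⟩ |
      ⟨rfl, rfl⟩ <;> omega

theorem bnyq {w : I → ℤ} (hw : Btwn cs h (-y) (r - (2 : ℤ) • y) w) : False := by
  obtain ⟨m, a, b, i, j, hm, ha, hb, e0, e1, e2, hij⟩ := P.btw 0 (-1) 1 (-2) (by module) (by module) hw
  rcases hij with ⟨rfl, rfl⟩ | ⟨rfl, rfl⟩ | ⟨rfl, rfl⟩ | ⟨rfl, rfl⟩ | ⟨rfl, rfl⟩ | ⟨rfl, rfl⟩ | ⟨rfl, rfl⟩ |
      ⟨rfl, rfl⟩ <;> omega

theorem bynq {w : I → ℤ} (hw : Btwn cs h y (-(r - (2 : ℤ) • y)) w) : False := by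
  obtain ⟨m, a, b, i, j, hm, ha, hb, e0, e1, e2, hij⟩ := P.btw 0 1 (-1) 2 (by module) (by module) hw
  rcases hij with ⟨rfl, rfl⟩ | ⟨rfl, rfl⟩ | ⟨rfl, rfl⟩ | ⟨rfl, rfl⟩ | ⟨rfl, rfl⟩ | ⟨rfl, rfl⟩ | ⟨rfl, rfl⟩ |
      ⟨rfl, rfl⟩ <;> omega

section comm

variable (Rd : RGD cs h p T n X)

include Rd

theorem cwr {a b : Y} (ha : a ∈ X (r - y)) (hb : b ∈ X r) : a * b = b * a :=
  P.cm Rd 1 (-1) 1 0 (by module) (by module) (by omega) (by omega) P.rootw P.L.root (fun _ => P.bwr) ha hb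

theorem cwq {a b : Y} (ha : a ∈ X (r - y)) (hb : b ∈ X (r - (2 : ℤ) • y)) : a * b = b * a :=
  P.cm Rd 1 (-1) 1 (-2) (by module) (by module) (by omega) (by omega) P.rootw P.rootq (fun _ => P.bwq) ha hb

theorem cyr {a b : Y} (ha : a ∈ X y) (hb : b ∈ X r) : a * b = b * a :=
  P.cm Rd 0 1 1 0 (by module) (by module) (by omega) (by omega) P.root P.L.root (fun _ => P.byr) ha hb

theorem cnyq {a b : Y} (ha : a ∈ X (-y)) (hb : b ∈ X (r - (2 : ℤ) • y)) : a * b = b * a :=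
  P.cm Rd 0 (-1) 1 (-2) (by module) (by module) (by omega) (by omega) P.root.neg P.rootq (fun _ => P.bnyq) ha hb

theorem cynq {a b : Y} (ha : a ∈ X y) (hb : b ∈ X (-(r - (2 : ℤ) • y))) : a * b = b * a :=
  P.cm Rd 0 1 (-1) 2 (by module) (by module) (by omega) (by omega) P.root P.rootq.neg (fun _ => P.bynq) ha hb

/-- `⁅X q, X y⁆ ≤ X (r - y) X r` -/
theorem mqy {a b : Y} (ha : a ∈ X (r - (2 : ℤ) • y)) (hb : b ∈ X y) :
    ∃ c ∈ X (r - y), ∃ d ∈ X r, ⁅a, b⁆ = c * d := by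
  refine Nodes.ShortSum.mem_sup_of_cm (fun a ha b hb => P.cwr Rd ha hb) ?_
  refine comm_mem_of_btwn Rd P.rootq P.root (P.ne 1 (-2) 0 1 (by module) (by module) (by omega))
    (P.ne 1 (-2) 0 (-1) (by module) (by module) (by omega)) (fun w hw => ?_) ha hb
  rcases P.bqy hw with rfl | rfl
  · exact le_sup_left
  · exact le_sup_right

/-- `⁅X r, X (-y)⁆ ≤ X (r - y) X q` -/
theorem mrny {a b : Y} (ha : a ∈ X r) (hb : b ∈ X (-y)) :
    ∃ c ∈ X (r - y), ∃ d ∈ X (r - (2 : ℤ) • y), ⁅a, b⁆ = c * d := by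
  refine Nodes.ShortSum.mem_sup_of_cm (fun a ha b hb => P.cwq Rd ha hb) ?_
  refine comm_mem_of_btwn Rd P.L.root P.root.neg (P.ne 1 0 0 (-1) (by module) (by module) (by omega))
    (P.ne 1 0 0 1 (by module) (by module) (by omega)) (fun w hw => ?_) ha hb
  rcases P.brny hw with rfl | rfl
  · exact le_sup_left
  · exact le_sup_right

/-- `⁅X r, X q⁆ ≤ X (r - y)` -/
theorem mrq {a b : Y} (ha : a ∈ X r) (hb : b ∈ X (r - (2 : ℤ) • y)) : ⁅a, b⁆ ∈ X (r - y) := by
  refine comm_mem_of_btwn Rd P.L.root P.rootq (P.ne 1 0 1 (-2) (by module) (by module) (by omega))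
    (P.ne 1 0 (-1) 2 (by module) (by module) (by omega)) (fun w hw => ?_) ha hb
  rw [P.brq hw]

/-- `⁅X (r - y), X (-q)⁆ ≤ ⟨X y, X r⟩` -/
theorem mwnq {a b : Y} (ha : a ∈ X (r - y)) (hb : b ∈ X (-(r - (2 : ℤ) • y))) : ⁅a, b⁆ ∈ X y ⊔ X r := by
  refine comm_mem_of_btwn Rd P.rootw P.rootq.neg (P.ne 1 (-1) (-1) 2 (by module) (by module) (by omega))
    (P.ne 1 (-1) 1 (-2) (by module) (by module) (by omega)) (fun w hw => ?_) ha hb
  rcases P.bwnq hw with rfl | rfl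
  · exact le_sup_left
  · exact le_sup_right

/-- separation of `X r` and `X (r - y) X q` -/
theorem sep_r {g : Y} (hg : g ∈ X r) (hg' : g ∈ X (r - y) ⊔ X (r - (2 : ℤ) • y)) : g = 1 := by
  refine eq_one_of_sep Rd P.L.root (S := {r - y, r - (2 : ℤ) • y}) ?_ ((3 : ℤ) • y - r) ?_ ?_ hg ?_
  · intro w hw
    rcases hw with rfl | hw
    · exact P.rootw
    · rw [Set.mem_singleton_iff.1 hw]; exact P.rootq
  · have h1 := P.form_pt 1 0 (-1) 3
    have h2 := P.pos
    have e1 : (1 : ℤ) • r + (0 : ℤ) • y = r := by module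
    have e2 : (-1 : ℤ) • r + (3 : ℤ) • y = (3 : ℤ) • y - r := by module
    rw [e1, e2] at h1
    rw [h1]; linarith
  · intro w hw
    have h2 := P.pos
    have e2 : (-1 : ℤ) • r + (3 : ℤ) • y = (3 : ℤ) • y - r := by module
    rcases hw with rfl | hw
    · have h1 := P.form_pt 1 (-1) (-1) 3
      have e1 : (1 : ℤ) • r + (-1 : ℤ) • y = r - y := by module
      rw [e1, e2] at h1
      rw [h1]; linarith
    · rw [Set.mem_singleton_iff.1 hw]
      have h1 := P.form_pt 1 (-2) (-1) 3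
      have e1 : (1 : ℤ) • r + (-2 : ℤ) • y = r - (2 : ℤ) • y := by module
      rw [e1, e2] at h1
      rw [h1]; linarith
  · have h8 : X (r - y) ⊔ X (r - (2 : ℤ) • y) ≤ RGD.Sup X {r - y, r - (2 : ℤ) • y} :=
      sup_le (RGD.le_Sup (by simp only [_root_.zsmul_eq_mul, _root_.Int.cast_ofNat, _root_.Set.mem_insert_iff, _root_.Set.mem_singleton_iff, _root_.sub_right_inj, _root_.true_or])) (RGD.le_Sup (by simp only [_root_.zsmul_eq_mul, _root_.Int.cast_ofNat, _root_.Set.mem_insert_iff, _root_.sub_right_inj, _root_.Set.mem_singleton_iff, _root_.or_true]))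
    exact h8 hg'

/-- separation of `X (r - y)` and `⟨X y, X r⟩` -/
theorem sep_w {g : Y} (hg : g ∈ X (r - y)) (hg' : g ∈ X y ⊔ X r) : g = 1 := by
  refine eq_one_of_sep Rd P.rootw (S := {y, r}) ?_ (r - (3 : ℤ) • y) ?_ ?_ hg ?_
  · intro w hw
    rcases hw with rfl | hw
    · exact P.root
    · rw [Set.mem_singleton_iff.1 hw]; exact P.L.root
  · have h1 := P.form_pt 1 (-1) 1 (-3)
    have h2 := P.pos
    have e1 : (1 : ℤ) • r + (-1 : ℤ) • y = r - y := by module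
    have e2 : (1 : ℤ) • r + (-3 : ℤ) • y = r - (3 : ℤ) • y := by module
    rw [e1, e2] at h1
    rw [h1]; linarith
  · intro w hw
    have h2 := P.pos
    have e2 : (1 : ℤ) • r + (-3 : ℤ) • y = r - (3 : ℤ) • y := by module
    rcases hw with rfl | hw
    · have h1 := P.form_pt 0 1 1 (-3)
      have e1 : (0 : ℤ) • r + (1 : ℤ) • w = w := by module
      rw [e1, e2] at h1
      rw [h1]; linarith
    · rw [Set.mem_singleton_iff.1 hw]
      have h1 := P.form_pt 1 0 1 (-3)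
      have e1 : (1 : ℤ) • r + (0 : ℤ) • y = r := by module
      rw [e1, e2] at h1
      rw [h1]; linarith
  · have h8 : X y ⊔ X r ≤ RGD.Sup X {y, r} :=
      sup_le (RGD.le_Sup (by simp)) (RGD.le_Sup (by simp))
    exact h8 hg'

end comm

section cls

variable (C : Cls cs h p T n X R Z z)

include C

theorem memq : r - (2 : ℤ) • y ∈ R := by
  have := refl_memR C P.mem P.root
  rwa [P.cry] at this

/-- the plane seen from `q = r - 2 y` -/
theorem swap : Pl cs h R (r - (2 : ℤ) • y) (-y) where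
  L := by
    obtain ⟨s, hs⟩ := Nodes.KindBase.exists_refl cs h P.root
    have := P.L.act s
    rwa [hs, P.cry] at this
  mem := P.memq C
  root := P.root.neg
  h1 := by
    have h1 := P.form_pt 0 (-1) 1 (-2)
    have h2 := P.form_pt 1 (-2) 1 (-2)
    have e1 : (0 : ℤ) • r + (-1 : ℤ) • y = -y := by module
    have e2 : (1 : ℤ) • r + (-2 : ℤ) • y = r - (2 : ℤ) • y := by module
    rw [e1, e2] at h1
    rw [e2] at h2
    rw [h1, h2]; ring
  h2 := by
    have h1 := P.form_pt 0 (-1) 0 (-1)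
    have h2 := P.form_pt 1 (-2) 1 (-2)
    have e1 : (0 : ℤ) • r + (-1 : ℤ) • y = -y := by module
    have e2 : (1 : ℤ) • r + (-2 : ℤ) • y = r - (2 : ℤ) • y := by module
    rw [e1] at h1
    rw [e2] at h2
    rw [h1, h2]; ring

omit C in
theorem frq : form cs h r (r - (2 : ℤ) • y) = 0 := by
  have h1 := P.form_pt 1 0 1 (-2)
  have e1 : (1 : ℤ) • r + (0 : ℤ) • y = r := by module
  have e2 : (1 : ℤ) • r + (-2 : ℤ) • y = r - (2 : ℤ) • y := by module
  rw [e1, e2] at h1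
  rw [h1]; ring

omit C in
theorem fyq : form cs h y (r - (2 : ℤ) • y) = -form cs h y y := by
  have h1 := P.form_pt 0 1 1 (-2)
  have e1 : (0 : ℤ) • r + (1 : ℤ) • y = y := by module
  have e2 : (1 : ℤ) • r + (-2 : ℤ) • y = r - (2 : ℤ) • y := by module
  rw [e1, e2] at h1
  rw [h1]; ring

omit C in
theorem fwr : form cs h (r - y) r = form cs h y y := by
  rw [form_sub_left, P.frr, P.fyr]; ring

omit C in
theorem fwq : form cs h (r - y) (r - (2 : ℤ) • y) = form cs h y y := by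
  rw [form_sub_left, P.frq, P.fyq]; ring

/-- `Z r` commutes with `X q` -/
theorem czrq {a b : Y} (ha : a ∈ Z r) (hb : b ∈ X (r - (2 : ℤ) • y)) : a * b = b * a :=
  (C.cent r P.mem _ P.rootq (by rw [form_comm, P.frq]) b hb a ha).symm

/-- the Weyl element of `u` moves `X q` to `X r` and `Z q` to `Z r` -/
theorem rep_q {w : W} (hw : ∀ x, rep cs h w x = x - cpr cs h x y • y) : rep cs h w (r - (2 : ℤ) • y) = r := by
  have h1 : cpr cs h (r - (2 : ℤ) • y) y = -2 := by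
    apply cpr_eq_of_form cs h P.root
    rw [form_comm, P.fyq]; ring
  rw [hw, h1]; module

/-- **The action of `X y` on `X q`.** -/
theorem conj {u : Y} (hu : u ∈ X y) (hu1 : u ≠ 1) : ∃ (w : W) (k : Y), Rp cs C.rgd.nsys w k ∧
    (∀ x, rep cs h w x = x - cpr cs h x y • y) ∧ ∀ x ∈ X (r - (2 : ℤ) • y), k * x * k⁻¹ ∈ X r ∧
      ∃ c ∈ X (r - y), u * x * u⁻¹ = x * c * (k * x * k⁻¹) := by
  obtain ⟨α, hα, β, hβ, w, k, hk, hw, ev⟩ := exists_mu C.rgd P.root hu hu1
  refine ⟨w, k, hk, hw, fun x hx => ?_⟩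
  have hd : k * x * k⁻¹ ∈ X r := by
    have h1 := C.rgd.conj_mem hk P.rootq hx
    rwa [P.rep_q C hw] at h1
  refine ⟨hd, ?_⟩
  set d := k * x * k⁻¹ with hdd
  have e1 : u * x * u⁻¹ = d * ⁅d⁻¹, α⁆ := by
    have h1 := P.cnyq C.rgd hβ hx
    rw [commutatorElement_def, ev, hdd]
    calc α * k * β * x * (α * k * β)⁻¹ = α * k * (β * x) * β⁻¹ * k⁻¹ * α⁻¹ := by group
      _ = α * k * (x * β) * β⁻¹ * k⁻¹ * α⁻¹ := by rw [h1]
      _ = _ := by group
  obtain ⟨c', hc', x', hx', e2⟩ := P.mrny C.rgd (inv_mem hd) hα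
  obtain ⟨c, hc, d', hd', e3⟩ := P.mqy C.rgd (inv_mem hx) hu
  have e4 : u * x * u⁻¹ = x * (c * d') := by
    rw [← e3, commutatorElement_def]; group
  have hg := P.mrq C.rgd (inv_mem hd) (inv_mem hx')
  set g := ⁅d⁻¹, x'⁻¹⁆ with hgd
  -- `x c d' = x' (g c') d`
  have e5 : x * (c * d') = x' * (g * c') * d := by
    have q1 := P.cwq C.rgd hc' hx'
    have q2 := P.cwr C.rgd (mul_mem hg hc') hd
    rw [← e4, e1, e2]
    calc d * (c' * x') = d * (x' * c') := by rw [q1]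
      _ = x' * (d * g) * c' := by rw [hgd, commutatorElement_def]; group
      _ = x' * (d * (g * c')) := by group
      _ = x' * ((g * c') * d) := by rw [q2]
      _ = x' * (g * c') * d := by group
  have e6 : d * d'⁻¹ = 1 := by
    refine P.sep_r C.rgd (mul_mem hd (inv_mem hd')) ?_
    have : d * d'⁻¹ = (g * c')⁻¹ * (x'⁻¹ * x) * c := by
      have h1 : d = (g * c')⁻¹ * x'⁻¹ * (x * (c * d')) := by rw [e5]; group
      rw [h1]; group
    rw [this]
    exact mul_mem (mul_mem (Subgroup.mem_sup_left (inv_mem (mul_mem hg hc')))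
      (Subgroup.mem_sup_right (mul_mem (inv_mem hx') hx))) (Subgroup.mem_sup_left hc)
  refine ⟨c, hc, ?_⟩
  rw [e4, mul_inv_eq_one.1 e6, mul_assoc]

/-- `c ≠ 1` in `Pl.conj` -/
theorem ne_one {u x d : Y} (hu : u ∈ X y) (hx : x ∈ X (r - (2 : ℤ) • y)) (hx1 : x ≠ 1) (hd : d ∈ X r)
    (e : u * x * u⁻¹ = x * d) : u = 1 := by
  obtain ⟨α, hα, β, hβ, w, k, hk, hw, ev⟩ := exists_mu C.rgd P.rootq hx hx1
  have e1 : rep cs h w⁻¹ y = r - y := by
    have h1 : cpr cs h (r - y) (r - (2 : ℤ) • y) = 1 := by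
      apply cpr_eq_of_form cs h P.rootq
      have h2 := P.form_pt 1 (-2) 1 (-2)
      have e2 : (1 : ℤ) • r + (-2 : ℤ) • y = r - (2 : ℤ) • y := by module
      rw [e2] at h2
      rw [P.fwq, h2]; ring
    have h2 : rep cs h w (r - y) = y := by rw [hw, h1]; module
    rw [← h2, rep_inv_apply, h2]
  have hu' : k⁻¹ * u * k ∈ X (r - y) := by
    have h1 := C.rgd.conj_mem' hk P.root hu
    rwa [e1] at h1
  set u' := k⁻¹ * u * k with hu'd
  have h1 : x⁻¹ * u * x = d * u := by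
    have : x⁻¹ * (u * x * u⁻¹) * u = x⁻¹ * u * x := by group
    rw [← this, e]; group
  have h2 : x⁻¹ * u * x = u' * ⁅u'⁻¹, β⁻¹⁆ := by
    have q1 := P.cynq C.rgd hu hα
    rw [commutatorElement_def, ev, hu'd]
    calc (α * k * β)⁻¹ * u * (α * k * β) = β⁻¹ * k⁻¹ * α⁻¹ * (u * α) * k * β := by group
      _ = β⁻¹ * k⁻¹ * α⁻¹ * (α * u) * k * β := by rw [q1]
      _ = _ := by group
  have h3 := P.mwnq C.rgd (inv_mem hu') (inv_mem hβ)
  have h4 : u' = 1 := by
    refine P.sep_w C.rgd hu' ?_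
    have : u' = d * u * ⁅u'⁻¹, β⁻¹⁆⁻¹ := by rw [← h1, h2]; group
    rw [this]
    exact mul_mem (mul_mem (Subgroup.mem_sup_right hd) (Subgroup.mem_sup_left hu)) (inv_mem h3)
  have h5 : u = k * u' * k⁻¹ := by rw [hu'd]; group
  rw [h5, h4]; group

/-! ### The form -/

theorem gam {a v : Y} (ha : a ∈ Z (r - (2 : ℤ) • y)) (hv : v ∈ X y) : ∃ c ∈ X (r - y), ∃ d ∈ Z r,
    ⁅a⁻¹, v⁆ = c * d ∧ (v ≠ 1 → a ≠ 1 → d ≠ 1) := by
  by_cases hv1 : v = 1
  · refine ⟨1, one_mem _, 1, one_mem _, ?_, fun h0 => absurd hv1 h0⟩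
    rw [hv1, commutatorElement_one_right, one_mul]
  · obtain ⟨w, k, hk, hw, h1⟩ := P.conj C hv hv1
    obtain ⟨h2, c, hc, e⟩ := h1 a (C.le _ (P.memq C) ha)
    refine ⟨c, hc, k * a * k⁻¹, ?_, ?_, fun _ ha1 h0 => ha1 ?_⟩
    · have h3 := Nodes.ClsNorm.conj_Z C hk (P.memq C)
      rw [P.rep_q C hw] at h3
      rw [← h3]
      exact conj_mem_cj.2 ha
    · rw [commutatorElement_def]
      calc a⁻¹ * v * a⁻¹⁻¹ * v⁻¹ = a⁻¹ * (v * a * v⁻¹) := by group
        _ = c * (k * a * k⁻¹) := by rw [e]; group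
    · have : a = k⁻¹ * (k * a * k⁻¹) * k := by group
      rw [this, h0]; group

/-- `X y`, `X (r - y)` are abelian -/
theorem aby {a b : Y} (ha : a ∈ X y) (hb : b ∈ X y) : a * b = b * a :=
  X_comm C P.mem P.root (P.ne 0 1 1 0 (by module) (by module) (by omega))
    (P.ne 0 1 (-1) 0 (by module) (by module) (by omega)) (by rw [P.fyr]; exact P.pos.ne') ha hb

theorem abw {a b : Y} (ha : a ∈ X (r - y)) (hb : b ∈ X (r - y)) : a * b = b * a :=
  X_comm C P.mem P.rootw (P.ne 1 (-1) 1 0 (by module) (by module) (by omega))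
    (P.ne 1 (-1) (-1) 0 (by module) (by module) (by omega)) (by rw [P.fwr]; exact P.pos.ne') ha hb

omit C in
theorem X_y_le : X y ≤ VV cs h X r :=
  RGD.le_Sup (S := {y | IsRoot cs h y ∧ 0 < form cs h y r}) ⟨P.root, by rw [P.fyr]; exact P.pos⟩

omit C in
theorem X_w_le : X (r - y) ≤ VV cs h X r :=
  RGD.le_Sup (S := {y | IsRoot cs h y ∧ 0 < form cs h y r}) ⟨P.rootw, by rw [P.fwr]; exact P.pos⟩

omit C in
theorem X_r_le : X r ≤ VV cs h X r :=
  RGD.le_Sup (S := {y | IsRoot cs h y ∧ 0 < form cs h y r}) ⟨P.L.root, P.L.pos⟩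

variable (hp2 : p ≠ 2) [Fact p.Prime]

include hp2

/-- anisotropy -/
theorem aniso {a u : Y} (ha : a ∈ Z (r - (2 : ℤ) • y)) (ha1 : a ≠ 1) (hu : u ∈ X y)
    (h0 : ⁅u, ⁅a⁻¹, u⁆⁆ = 1) : u = 1 := by
  by_contra hu1
  obtain ⟨c, hc, d, hd, e, hd1⟩ := P.gam C ha hu
  have hq := P.memq C
  set ζ := z (r - (2 : ℤ) • y) with hζ
  have hζ2 : ζ * ζ = 1 := C.z_sq _ hq
  have nyq := P.ne (x := y) (x' := r - (2 : ℤ) • y) 0 1 1 (-2) (by module) (by module) (by omega)
  have nynq := P.ne (x := y) (x' := -(r - (2 : ℤ) • y)) 0 1 (-1) 2 (by module) (by module) (by omega)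
  have nwq := P.ne (x := r - y) (x' := r - (2 : ℤ) • y) 1 (-1) 1 (-2) (by module) (by module) (by omega)
  have nwnq := P.ne (x := r - y) (x' := -(r - (2 : ℤ) • y)) 1 (-1) (-1) 2 (by module) (by module) (by omega)
  have hpos := P.pos
  have z1 : ζ * a * ζ = a := by rw [C.z_cent _ hq a ha, mul_assoc, hζ2, mul_one]
  have z2 : ζ * u * ζ = u⁻¹ := C.z_inv _ hq y P.root nyq nynq (by rw [P.fyq]; omega) u hu
  have z3 : ζ * c * ζ = c⁻¹ := C.z_inv _ hq _ P.rootw nwq nwnq (by rw [P.fwq]; omega) c hc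
  have z4 : ζ * d * ζ = d := by
    have := Nodes.ZRel.z_cent_of_orth C hq P.L.root P.frq (C.le _ P.mem hd)
    rw [← this, mul_assoc, hζ2, mul_one]
  have e1 : u * a * u⁻¹ = a * c * d := by
    have : u * a * u⁻¹ = a * ⁅a⁻¹, u⁆ := by rw [commutatorElement_def]; group
    rw [this, e]; group
  have e2 : u⁻¹ * a * u = a * c⁻¹ * d := by
    have z2' : ζ * u⁻¹ * ζ = u := by
      have h4 : ζ⁻¹ = ζ := inv_eq_of_mul_eq_one_left hζ2
      have h3 : (ζ * u * ζ)⁻¹ = ζ * u⁻¹ * ζ := by rw [mul_inv_rev, mul_inv_rev, h4, mul_assoc]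
      rw [← h3, z2, inv_inv]
    have h3 : ζ * (u * a * u⁻¹) * ζ = u⁻¹ * a * u := by
      calc ζ * (u * a * u⁻¹) * ζ = (ζ * u * ζ) * (ζ * ζ)⁻¹ * (ζ * a * ζ) * (ζ * ζ)⁻¹ * (ζ * u⁻¹ * ζ) := by group
        _ = u⁻¹ * a * u := by rw [z2', z1, z2, hζ2]; group
    have h4 : ζ * (a * c * d) * ζ = a * c⁻¹ * d := by
      calc ζ * (a * c * d) * ζ = (ζ * a * ζ) * (ζ * ζ)⁻¹ * (ζ * c * ζ) * (ζ * ζ)⁻¹ * (ζ * d * ζ) := by group
        _ = a * c⁻¹ * d := by rw [z1, z3, z4, hζ2]; group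
    rw [← h3, e1, h4]
  have hcr : c * d = d * c := P.cwr C.rgd hc (C.le _ P.mem hd)
  have hur : u * d = d * u := P.cyr C.rgd hu (C.le _ P.mem hd)
  have huc : u * (c * d) = c * d * u := by
    rw [e] at h0
    exact commutatorElement_eq_one_iff_mul_comm.1 h0
  -- `a = u⁻¹ (a c d) u = a c⁻¹ d c d`
  have e3 : d * d = 1 := by
    have h1 : u⁻¹ * (c * d) * u = c * d := by rw [mul_assoc, ← huc]; group
    have h2 : a = a * (d * d) := by
      calc a = u⁻¹ * (u * a * u⁻¹) * u := by group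
        _ = u⁻¹ * (a * (c * d)) * u := by rw [e1]; group
        _ = (u⁻¹ * a * u) * (u⁻¹ * (c * d) * u) := by group
        _ = a * c⁻¹ * d * (c * d) := by rw [e2, h1]
        _ = a * c⁻¹ * (d * c) * d := by group
        _ = a * c⁻¹ * (c * d) * d := by rw [hcr]
        _ = a * (d * d) := by group
    exact left_eq_mul.1 h2
  exact hd1 hu1 ha1 (eq_one_of_sq hp2 (C.rgd.pgrp' P.L.root) (C.le _ P.mem hd) e3)

variable [Finite Y]

theorem form_mem {a u v : Y} (ha : a ∈ Z (r - (2 : ℤ) • y)) (hu : u ∈ X y) (hv : v ∈ X y) :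
    ⁅u, ⁅a⁻¹, v⁆⁆ ∈ Z r := by
  obtain ⟨c, hc, d, hd, e, -⟩ := P.gam C ha hv
  rw [e]
  exact commutator_VV_le C hp2 P.mem (Subgroup.commutator_mem_commutator (P.X_y_le hu)
    (mul_mem (P.X_w_le hc) (P.X_r_le (C.le _ P.mem hd))))

theorem form_cent {a u v x : Y} (ha : a ∈ Z (r - (2 : ℤ) • y)) (hu : u ∈ X y) (hv : v ∈ X y) (hx : x ∈ X y) :
    x * ⁅u, ⁅a⁻¹, v⁆⁆ = ⁅u, ⁅a⁻¹, v⁆⁆ * x :=
  P.cyr C.rgd hx (C.le _ P.mem (P.form_mem C hp2 ha hu hv))

theorem form_add {a u v x : Y} (ha : a ∈ Z (r - (2 : ℤ) • y)) (hu : u ∈ X y) (hv : v ∈ X y) (hx : x ∈ X y) :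
    ⁅u * v, ⁅a⁻¹, x⁆⁆ = ⁅u, ⁅a⁻¹, x⁆⁆ * ⁅v, ⁅a⁻¹, x⁆⁆ := by
  have h1 := P.form_cent C hp2 ha hv hx hu
  have h2 : ⁅u, ⁅a⁻¹, x⁆⁆ * ⁅v, ⁅a⁻¹, x⁆⁆ = ⁅v, ⁅a⁻¹, x⁆⁆ * ⁅u, ⁅a⁻¹, x⁆⁆ := by
    have h3 := P.form_mem C hp2 ha hu hx
    have h4 := P.form_mem C hp2 ha hv hx
    exact C.cent r P.mem r P.L.root P.L.pos.le _ (C.le _ P.mem h3) _ h4
  rw [h2]
  set g := ⁅a⁻¹, x⁆
  calc ⁅u * v, g⁆ = u * ⁅v, g⁆ * u⁻¹ * ⁅u, g⁆ := by simp only [commutatorElement_def]; group
    _ = ⁅v, g⁆ * ⁅u, g⁆ := by rw [h1]; group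

theorem form_symm {a u v : Y} (ha : a ∈ Z (r - (2 : ℤ) • y)) (hu : u ∈ X y) (hv : v ∈ X y) :
    ⁅u, ⁅a⁻¹, v⁆⁆ = ⁅v, ⁅a⁻¹, u⁆⁆ := by
  -- `⁅a⁻¹, u v⁆ = ⁅a⁻¹, u⁆ ⁅u, ⁅a⁻¹, v⁆⁆ ⁅a⁻¹, v⁆`
  have key : ∀ u v : Y, ⁅a⁻¹, u * v⁆ = ⁅a⁻¹, u⁆ * ⁅u, ⁅a⁻¹, v⁆⁆ * ⁅a⁻¹, v⁆ := by
    intro u v
    simp only [commutatorElement_def]; group
  have h1 := key u v
  have h2 := key v u
  rw [P.aby C hu hv, h2] at h1
  obtain ⟨c, hc, d, hd, e, -⟩ := P.gam C ha hu
  obtain ⟨c', hc', d', hd', e', -⟩ := P.gam C ha hv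
  have m1 := P.form_mem C hp2 ha hu hv
  have m2 := P.form_mem C hp2 ha hv hu
  have hdr := C.le _ P.mem hd
  have hdr' := C.le _ P.mem hd'
  have rr : ∀ {a b : Y}, a ∈ Z r → b ∈ Z r → a * b = b * a := fun ha hb =>
    C.cent r P.mem r P.L.root P.L.pos.le _ (C.le _ P.mem ha) _ hb
  have cr : ∀ {a b : Y}, a ∈ X (r - y) → b ∈ Z r → a * b = b * a := fun ha hb => P.cwr C.rgd ha (C.le _ P.mem hb)
  -- everything commutes
  have s1 : ⁅a⁻¹, u⁆ * ⁅a⁻¹, v⁆ = ⁅a⁻¹, v⁆ * ⁅a⁻¹, u⁆ := by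
    rw [e, e']
    calc c * d * (c' * d') = c * (d * c') * d' := by group
      _ = (c * c') * (d * d') := by rw [← cr hc' hd]; group
      _ = (c' * c) * (d' * d) := by rw [P.abw C hc hc', rr hd hd']
      _ = c' * (c * d') * d := by group
      _ = c' * d' * (c * d) := by rw [cr hc hd']; group
  have s2 : ∀ g ∈ Z r, ∀ c ∈ X (r - y), ∀ d ∈ Z r, g * (c * d) = c * d * g := by
    intro g hg c hc d hd
    calc g * (c * d) = (g * c) * d := by group
      _ = c * (g * d) := by rw [← cr hc hg]; group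
      _ = c * d * g := by rw [rr hg hd]; group
  have t1 : ⁅a⁻¹, v⁆ * ⁅v, ⁅a⁻¹, u⁆⁆ * ⁅a⁻¹, u⁆ = ⁅v, ⁅a⁻¹, u⁆⁆ * (⁅a⁻¹, v⁆ * ⁅a⁻¹, u⁆) := by
    have := s2 _ m2 c' hc' d' hd'
    rw [e', ← this]; group
  have t2 : ⁅a⁻¹, u⁆ * ⁅u, ⁅a⁻¹, v⁆⁆ * ⁅a⁻¹, v⁆ = ⁅u, ⁅a⁻¹, v⁆⁆ * (⁅a⁻¹, u⁆ * ⁅a⁻¹, v⁆) := by
    have := s2 _ m1 c hc d hd
    rw [e, ← this]; group
  rw [t1, t2, s1] at h1
  exact (mul_right_cancel h1).symm

/-- **LEMMA S.** -/
theorem triv {K : Subgroup Y} {e : Y} (hK : QK K e) (hr : ∀ a ∈ Z r, ∀ k ∈ K, k * a = a * k)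
    (hq : ∀ a ∈ Z (r - (2 : ℤ) • y), ∀ k ∈ K, k * a = a * k) (hn : ∀ k ∈ K, ∀ u ∈ X y, k * u * k⁻¹ ∈ X y) :
    ∀ u ∈ X y, e * u = u * e := by
  obtain ⟨a, ha, ha1⟩ : ∃ a ∈ Z (r - (2 : ℤ) • y), a ≠ 1 := by
    by_contra hcon
    push Not at hcon
    exact C.ne_bot _ (P.memq C) ((Subgroup.eq_bot_iff_forall _).2 hcon)
  refine triv_of_form hp2 hK (U := X y) (A := Z r) (C.rgd.pgrp' P.root)
    ((C.rgd.pgrp' P.L.root).to_le (C.le _ P.mem)) hn (b := fun u v => ⁅u, ⁅a⁻¹, v⁆⁆)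
    (fun u hu v hv => P.form_mem C hp2 ha hu hv) (fun u hu v hv w hw => P.form_add C hp2 ha hu hv hw)
    (fun u hu v hv => P.form_symm C hp2 ha hu hv) (fun k hk u hu v hv => ?_)
    (fun u hu h0 => P.aniso C hp2 ha ha1 hu h0)
  have h1 := hq a ha k hk
  have h2 := hr _ (P.form_mem C hp2 ha hu hv) k hk
  have h3 : k * a⁻¹ * k⁻¹ = a⁻¹ := by
    have : k * a⁻¹ * k⁻¹ = (k * a * k⁻¹)⁻¹ := by group
    rw [this, h1]; group
  have h4 : ⁅k * u * k⁻¹, ⁅a⁻¹, k * v * k⁻¹⁆⁆ = k * ⁅u, ⁅a⁻¹, v⁆⁆ * k⁻¹ := by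
    calc ⁅k * u * k⁻¹, ⁅a⁻¹, k * v * k⁻¹⁆⁆ = ⁅k * u * k⁻¹, ⁅k * a⁻¹ * k⁻¹, k * v * k⁻¹⁆⁆ := by rw [h3]
      _ = _ := by simp only [commutatorElement_def]; group
  change ⁅k * u * k⁻¹, ⁅a⁻¹, k * v * k⁻¹⁆⁆ = ⁅u, ⁅a⁻¹, v⁆⁆
  rw [h4, h2]; group

end cls

end Pl

end plane

end Cfsg.Agent.LOC.LemS
end

-- part: Nodes/FrameCentTy
section
/-!
# The centralizer of a frame in a typed chart (project CIT, [Q1], RULING 13 (2))

* `exists_max` : a maximal orthogonal family in a set of roots;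
* `no_orth_of_card` : no root is orthogonal to `rank` many orthogonal roots;
* `orth_B_odd` : type `B n`, `n` odd: the only roots orthogonal to the frame `KindB.fr n` are `± sr last`;
* `mem_T_B`, `mem_T_sup_B` : the centralizer of the frame for type `B n` (`n` even / `n` odd);
* `exists_frame` : every typed chart of a type allowed in THEOREM T except `B n`, `n` odd, has a frame to which no root
  is orthogonal;
* `exists_cm` : **(A1)** for these types there is a commuting family of members of `Om` in `L` such that every subgroup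
  of `L` commuting with all of them has order prime to `p`;
* `exists_B` : the standard chart of type `B n`.
-/

set_option autoImplicit false
set_option linter.unusedSectionVars false
set_option linter.dupNamespace false

namespace Cfsg.Agent.Nodes.FrameCentTy

open CoxeterSystem Cfsg.Agent.ChevalleyStructure.CoxeterGeom Cfsg.Agent.Tits.Roots Cfsg.Agent.Tits.Core
  Cfsg.Agent.Tits.RootComb Cfsg.Agent.Nodes.Comb Cfsg.Agent.Nodes.Reps Cfsg.Agent.Nodes.BNOf
  Cfsg.Agent.Nodes.RGDLib Cfsg.Agent.Nodes.Chart Cfsg.Agent.Nodes.Coroot Cfsg.Agent.Nodes.FreeTorus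
  Cfsg.Agent.Nodes.Perp Cfsg.Agent.Nodes.KindBC Cfsg.Agent.Nodes.TyStd Cfsg.Agent.Nodes.Bruhat
open Cfsg.Agent.Cit.TypeDet (cm cm_symm cm_iff_le_centralizer cm_mono)

section Root

variable {I W : Type*} [Fintype I] [DecidableEq I] [Group W] [Fintype W] {M : CoxeterMatrix I}
  {cs : CoxeterSystem M W} {A : I → I → ℤ} {h : IsCartan M A}

/-- No nonzero vector is orthogonal to `rank` many pairwise orthogonal vectors. -/
theorem no_orth_of_card {κ : Type*} [Fintype κ] (g : κ → I → ℤ) (h0 : ∀ k, g k ≠ 0)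
    (ho : ∀ k l, k ≠ l → form cs h (g k) (g l) = 0) (hc : Fintype.card I ≤ Fintype.card κ) {x : I → ℤ}
    (hx : x ≠ 0) : ∃ k, form cs h x (g k) ≠ 0 := by
  by_contra hcon
  push Not at hcon
  have h1 := SpanFrame.card_le_of_orth (cs := cs) (h := h) (κ := Option κ) (fun o => o.elim x g)
    (by rintro (_ | k); exacts [hx, h0 k]) (by
      rintro (_ | k) (_ | l) hkl
      · exact absurd rfl hkl
      · exact hcon l
      · exact (form_comm cs h _ _).trans (hcon k)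
      · exact ho k l fun e => hkl (e ▸ rfl))
  rw [Fintype.card_option] at h1
  omega

end Root

section B

variable {n : ℕ} {W : Type*} [Group W] [Fintype W] (cs : CoxeterSystem (CoxeterMatrix.B n) W)

open TypeC TypeCForm

end B

section Grp

universe u v

variable {n : ℕ} {W : Type} {Y : Type v} [Group W] [Fintype W] [Group Y]
  {cs : CoxeterSystem (CoxeterMatrix.B n) W} {p : ℕ} {T : Subgroup Y} {ν : Fin n → Y} {X : (Fin n → ℤ) → Subgroup Y}
  {Z : (Fin n → ℤ) → Subgroup Y} {z : (Fin n → ℤ) → Y}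

open TypeC TypeCForm

end Grp

section Chart

universe v

variable {G : Type v} [Group G] {Om : Set (Subgroup G)} {p : ℕ} {L : Subgroup G}

/-- A frame (an orthogonal family of classical roots) to which no root is orthogonal. -/
structure Full (c : Chart Om p L) {m : ℕ} (r : Fin m → c.I → ℤ) : Prop where
  mem : ∀ k, r k ∈ c.R
  orth : ∀ i j, i ≠ j → form c.cs c.h (r i) (r j) = 0
  full : ∀ x, IsRoot c.cs c.h x → ∃ k, form c.cs c.h x (r k) ≠ 0

end Chart

end Cfsg.Agent.Nodes.FrameCentTy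
end

-- part: Cit/Nil/LO/ShortAll
section
/-!
# Lie odd sections, the chart part: all short roots; long roots which are sums of short ones (types `C n`, `F₄`)

`Std cs h R` : `R` is the set of all long roots (no `G₂`).

* `Std.of_len`, `Std.exists_pl` : from the lengths of the simple roots;
* `ns_of_frame` : no root is orthogonal to `F` if some frame has as many members as the rank;
* `short_triv` : then the involution of a `Q₈` centralises `X y` for all short roots `y`;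
* `long_triv` : and `X x` for a long root `x` if `X = Z` for long roots and there are short roots.
-/

set_option autoImplicit false
set_option linter.unusedSectionVars false
set_option linter.dupNamespace false

namespace Cfsg.Agent.LOC.ShortAll

open CoxeterSystem Cfsg.Agent.ChevalleyStructure.CoxeterGeom Cfsg.Agent.Tits.Roots Cfsg.Agent.Tits.Core
  Cfsg.Agent.Tits.RootComb Cfsg.Agent.Nodes.Comb Cfsg.Agent.Nodes.SubComb Cfsg.Agent.Nodes.Reps
  Cfsg.Agent.Nodes.Coroot Cfsg.Agent.Nodes.PosPair Cfsg.Agent.Nodes.BNOf Cfsg.Agent.Nodes.RGDLib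
  Cfsg.Agent.Nodes.Chart Cfsg.Agent.Nodes.ClsNorm Cfsg.Agent.Nodes.ChartLoc Cfsg.Agent.Nodes.ChartFrame
  Cfsg.Agent.Nodes.Bruhat Cfsg.Agent.Nodes.CenVV Cfsg.Agent.LOC.ChartDefs Cfsg.Agent.LOC.LemS Cfsg.Agent.LOC.Wt
open scoped commutatorElement

variable {I W Y : Type*} [Fintype I] [DecidableEq I] [Group W] [Fintype W] [Group Y] {M : CoxeterMatrix I}
  {cs : CoxeterSystem M W} {A : I → I → ℤ} {h : IsCartan M A} {p : ℕ} {T : Subgroup Y} {n : I → Y}
  {X : (I → ℤ) → Subgroup Y} {R : Set (I → ℤ)} {Z : (I → ℤ) → Subgroup Y} {z : (I → ℤ) → Y}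

/-- `R` is the set of all long roots -/
structure Std (cs : CoxeterSystem M W) (h : IsCartan M A) (R : Set (I → ℤ)) : Prop where
  lg : ∀ r ∈ R, Lg cs h r
  long : ∀ r ∈ R, ∀ y, IsRoot cs h y → form cs h y y = form cs h r r → y ∈ R

section len

variable (irr : ∀ J : Set I, J.Nonempty → J ≠ Set.univ → ∃ a ∈ J, ∃ b, b ∉ J ∧ M a b ≠ 2) {l : I → ℤ} {lR : ℤ}
  (rel : ∀ i j, A i j * l i = A j i * l j) (hpos : ∀ i, 0 < l i) (hl : ∀ i, l i = lR ∨ 2 * l i = lR)
  (hroot : ∀ r ∈ R, IsRoot cs h r) (act : ∀ r ∈ R, ∀ w, rep cs h w r ∈ R) (hlong : ∀ i, sr i ∈ R ↔ l i = lR)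

include irr rel hpos hl hroot act hlong

theorem Std.of_len : Std cs h R where
  lg := by
    intro r hr
    obtain ⟨w, i, rfl⟩ := hroot r hr
    have hi : sr i ∈ R := by
      have := act _ hr w⁻¹
      rwa [rep_inv_apply] at this
    have hli := (hlong i).1 hi
    refine lg_of_len irr rel hpos (fun j => ?_) (fun j => ?_) w
    · rcases hl j with h1 | h1
      · omega
      · have := hpos j
        omega
    · rcases hl j with h1 | h1
      · have := hpos j
        omega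
      · omega
  long := by
    intro r hr y hy he
    obtain ⟨w, i, rfl⟩ := hroot r hr
    obtain ⟨w', j, rfl⟩ := hy
    have hi : sr i ∈ R := by
      have := act _ hr w⁻¹
      rwa [rep_inv_apply] at this
    have hli := (hlong i).1 hi
    rw [form_rep, form_rep] at he
    have h1 := form_len cs h irr rel i j
    rw [he] at h1
    have h2 := mul_left_cancel₀ (form_pos cs h (sr_ne_zero i)).ne' h1
    exact act _ ((hlong j).2 (h2.trans hli)) w'

theorem Std.exists_pl (hs : ∃ i, l i ≠ lR) (trans : ∀ r ∈ R, ∀ s ∈ R, ∃ w, s = rep cs h w r) {x : I → ℤ}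
    (hx : x ∈ R) : ∃ y, y ∉ R ∧ Pl cs h R x y := by
  have S : Std cs h R := Std.of_len irr rel hpos hl hroot act hlong
  have hJ : ∃ i, l i = lR := by
    obtain ⟨w, i, e⟩ := hroot x hx
    refine ⟨i, (hlong i).1 ?_⟩
    have := act _ hx w⁻¹
    rwa [e, rep_inv_apply] at this
  obtain ⟨a, ha, b, hb, hM⟩ := irr {i | l i = lR} hJ (by
    intro h0
    obtain ⟨i, hi⟩ := hs
    exact hi ((Set.eq_univ_iff_forall.1 h0) i))
  have ha' : sr a ∈ R := (hlong a).2 ha
  have hb' : sr b ∉ R := fun h0 => hb ((hlong b).1 h0)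
  have hab : a ≠ b := by rintro rfl; exact hb ha
  have h1 : form cs h (sr b) (sr a) < 0 := by
    have h1 := Nodes.OrthRoot.two_form_sr cs h a b
    have h2 := (ne_zero_of_adj h hab hM).1
    have h3 := form_pos cs h (sr_ne_zero a)
    have h4 := mul_neg_of_neg_of_pos h2 h3
    linarith
  have hbn : -sr b ∉ R := by
    intro h0
    apply hb'
    refine S.long _ h0 _ (isRoot_sr cs h b) ?_
    rw [form_neg_left, form_neg_right, neg_neg]
  have L := S.lg _ ha'
  have h2 : 0 < form cs h (-sr b) (sr a) := by rw [form_neg_left]; omega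
  obtain ⟨h3, h4⟩ := L.len (isRoot_sr cs h b).neg h2 (fun h0 => hbn (h0 ▸ ha'))
  have h5 : 2 * form cs h (-sr b) (-sr b) = form cs h (sr a) (sr a) := by
    rcases h4 with h4 | h4
    · exact absurd (S.long _ ha' _ (isRoot_sr cs h b).neg h4) hbn
    · exact h4
  obtain ⟨w, rfl⟩ := trans _ ha' x hx
  refine ⟨rep cs h w (-sr b), fun h0 => hbn ?_, S.lg _ hx, hx, (isRoot_sr cs h b).neg.act w, ?_, ?_⟩
  · have := act _ h0 w⁻¹
    rwa [rep_inv_apply] at this
  · rw [form_rep, form_rep]; exact h3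
  · rw [form_rep, form_rep]; exact h5

end len

theorem Std.same (S : Std cs h R) {r s : I → ℤ} (hr : r ∈ R) (hs : s ∈ R) : form cs h r r = form cs h s s :=
  le_antisymm ((S.lg s hs).le r (S.lg r hr).root) ((S.lg r hr).le s (S.lg s hs).root)

theorem Std.pl (S : Std cs h R) {y r : I → ℤ} (hy : IsRoot cs h y) (hyR : y ∉ R) (hr : r ∈ R)
    (h0 : 0 < form cs h y r) : Pl cs h R r y := by
  obtain ⟨h1, h2⟩ := (S.lg r hr).len hy h0 (fun h0 => hyR (h0 ▸ hr))
  refine ⟨S.lg r hr, hr, hy, h1, ?_⟩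
  rcases h2 with h2 | h2
  · exact absurd (S.long r hr y hy h2) hyR
  · exact h2

section F

variable {C : Cls cs h p T n X R Z z} {F : Set (I → ℤ)}

/-- no root is orthogonal to `F` -/
theorem ns_of_frame {ι : Type*} [Fintype ι] {g : ι → I → ℤ} (FS : Nodes.KindBase.FrameSys cs h R g)
    (hc : Fintype.card I ≤ Fintype.card ι) (hF : MaxF C F) {x : I → ℤ} (hx : IsRoot cs h x) :
    ∃ r ∈ F, form cs h x r ≠ 0 := by
  classical
  have hfin : F.Finite := (RGD.finite_roots (cs := cs) (h := h)).subset fun s hs => C.root s (hF.sub s hs)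
  have : Finite {r // r ∈ F ∧ 0 ≤ r} := (hfin.subset (fun r (hr : r ∈ F ∧ 0 ≤ r) => hr.1)).to_subtype
  have hne : ∀ r ∈ F, ∃ k : {r // r ∈ F ∧ 0 ≤ r}, k.1 = r ∨ k.1 = -r := by
    intro r hr
    rcases (C.root r (hF.sub r hr)).pos_or_neg with h1 | h1
    · exact ⟨⟨r, hr, h1⟩, Or.inl rfl⟩
    · exact ⟨⟨-r, hF.neg r hr, neg_nonneg.2 h1⟩, Or.inr rfl⟩
  have F' : Nodes.KindBase.FrameSys cs h R (fun k : {r // r ∈ F ∧ 0 ≤ r} => k.1) := by
    refine ⟨FS.root, FS.act, FS.le_one, fun k => hF.sub _ k.2.1, fun k l hkl => ?_, fun x hx h0 => ?_⟩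
    · refine (cpr_zero_iff cs h _ (C.root _ (hF.sub _ l.2.1))).2 (hF.orth _ k.2.1 _ l.2.1 ?_ ?_)
      · intro h0
        exact hkl (Subtype.ext h0.symm)
      · intro h0
        have h1 := l.2.2
        rw [h0] at h1
        have h2 : k.1 = 0 := le_antisymm (neg_nonneg.1 h1) k.2.2
        exact (C.root _ (hF.sub _ k.2.1)).ne_zero h2
    · obtain ⟨r, hr, h1⟩ := hF.max x hx
      obtain ⟨k, hk⟩ := hne r hr
      have h2 := (cpr_zero_iff cs h x (C.root _ (hF.sub _ k.2.1))).1 (h0 k)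
      rcases hk with hk | hk
      · rw [hk] at h2; exact h1 h2
      · rw [hk, form_neg_right, neg_eq_zero] at h2; exact h1 h2
  obtain ⟨-, σ, -⟩ := FS.exists_equiv F'
  have : Fintype {r // r ∈ F ∧ 0 ≤ r} := Fintype.ofFinite _
  obtain ⟨k, hk⟩ := Nodes.FrameCentTy.no_orth_of_card (cs := cs) (h := h) (fun k : {r // r ∈ F ∧ 0 ≤ r} => k.1)
    (fun k => (C.root _ (hF.sub _ k.2.1)).ne_zero)
    (fun k l hkl => (cpr_zero_iff cs h _ (C.root _ (hF.sub _ l.2.1))).1 (F'.orth k l hkl))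
    (hc.trans_eq (Fintype.card_congr σ).symm) hx.ne_zero
  exact ⟨k.1, k.2.1, hk⟩

variable (S : Std cs h R) (hF : MaxF C F) (ns : ∀ x, IsRoot cs h x → ∃ r ∈ F, form cs h x r ≠ 0)

include S hF ns

theorem exists_pl {y : I → ℤ} (hy : IsRoot cs h y) (hyR : y ∉ R) : ∃ r ∈ F, Pl cs h R r y := by
  obtain ⟨r, hr, h0⟩ := ns y hy
  rcases lt_or_gt_of_ne h0 with h1 | h1
  · exact ⟨-r, hF.neg r hr, S.pl hy hyR (hF.sub _ (hF.neg r hr)) (by rw [form_neg_right]; omega)⟩
  · exact ⟨r, hr, S.pl hy hyR (hF.sub _ hr) h1⟩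

omit ns in
/-- `y = (r + s) / 2` with `s ∈ F` -/
theorem q_mem {y r : I → ℤ} (hyR : y ∉ R) (hr : r ∈ F) (P : Pl cs h R r y) : r - (2 : ℤ) • y ∈ F := by
  have hq := P.memq C
  obtain ⟨t, ht, h0⟩ := hF.max _ hq
  have key : ∀ t ∈ F, form cs h (r - (2 : ℤ) • y) t < 0 → r - (2 : ℤ) • y ∈ F := by
    intro t ht h0
    have htr : t ≠ r := by
      rintro rfl
      rw [form_comm, P.frq] at h0
      exact lt_irrefl _ h0
    have htr' : t ≠ -r := by
      rintro rfl
      rw [form_neg_right, form_comm, P.frq] at h0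
      exact lt_irrefl _ h0
    have hrt := hF.orth r hr t ht htr htr'
    rw [form_sub_left, form_smul_left, hrt] at h0
    have P' := S.pl P.root hyR (hF.sub t ht) (by omega)
    have h1 : form cs h (r - (2 : ℤ) • y + t) (r - (2 : ℤ) • y + t) = 0 := by
      have f1 := P.fyr
      have f2 := P'.fyr
      have f3 := P.frr
      have f4 := P'.frr
      have f5 := form_comm cs h t r
      have f6 := form_comm cs h r y
      have f7 := form_comm cs h t y
      simp only [sub_eq_add_neg, form_add_left, form_add_right, form_neg_left, form_neg_right, form_smul_left,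
        form_smul_right]
      rw [f5, f6, f7, hrt, f1, f2, f3, f4]
      ring
    have h2 : r - (2 : ℤ) • y + t = 0 := by
      by_contra hne
      exact absurd (form_pos cs h hne) (by omega)
    rw [eq_neg_of_add_eq_zero_left h2]
    exact hF.neg t ht
  rcases lt_or_gt_of_ne h0 with h1 | h1
  · exact key t ht h1
  · exact key (-t) (hF.neg t ht) (by rw [form_neg_right]; omega)

/-- `Lam F y = {y}` -/
theorem eq_of_Lam {y y' : I → ℤ} (hy : IsRoot cs h y) (hyR : y ∉ R) (hy' : y' ∈ Lam cs h F y) : y' = y := by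
  obtain ⟨r, hr, P⟩ := exists_pl S hF ns hy hyR
  have hq := q_mem S hF hyR hr P
  have hs := hF.neg _ hq
  have hsR := hF.sub _ hs
  have hpos := P.pos
  obtain ⟨hy'r, hsg⟩ := (mem_Lam_iff hF.neg).1 hy'
  have hfs : form cs h y (-(r - (2 : ℤ) • y)) = form cs h y y := by rw [form_neg_right, P.fyq, neg_neg]
  have p1 : 0 < form cs h y' r := ((hy'.2 r hr).1 (by rw [P.fyr]; exact hpos))
  have p2 : 0 < form cs h y' (-(r - (2 : ℤ) • y)) := ((hy'.2 _ hs).1 (by rw [hfs]; exact hpos))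
  have frs : form cs h r (-(r - (2 : ℤ) • y)) = 0 := by rw [form_neg_right, P.frq, neg_zero]
  have hrr := S.same (hF.sub r hr) hsR
  by_cases hy'R : y' ∈ R
  · exfalso
    obtain ⟨a1, -⟩ := (S.lg r (hF.sub r hr)).len hy'r p1 (by
      rintro rfl
      rw [frs] at p2
      exact lt_irrefl _ p2)
    obtain ⟨b1, -⟩ := (S.lg _ hsR).len hy'r p2 (by
      intro h0
      rw [h0, form_comm, frs] at p1
      exact lt_irrefl _ p1)
    have f3 := P.frr
    rw [← hrr, f3] at b1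
    rw [f3] at a1
    have e1 : form cs h y' r = form cs h y y := by omega
    have e2 : form cs h y' (-(r - (2 : ℤ) • y)) = form cs h y y := by omega
    have e3 : form cs h y' y = form cs h y y := by
      have h1 : form cs h y' (-(r - (2 : ℤ) • y)) = -form cs h y' r + 2 * form cs h y' y := by
        rw [form_neg_right, sub_eq_add_neg, form_add_right, form_neg_right, form_smul_right]; ring
      rw [e1, e2] at h1
      (clear * - h1; omega)
    have P' : Pl cs h R y' y := S.pl hy hyR hy'R (by rw [form_comm, e3]; exact hpos)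
    obtain ⟨t, ht, h0⟩ := ns _ P'.rootw
    apply h0
    rw [form_sub_left]
    by_cases ht1 : t = r
    · rw [ht1, e1, P.fyr, sub_self]
    by_cases ht2 : t = -r
    · rw [ht2, form_neg_right, form_neg_right, e1, P.fyr, sub_self]
    by_cases ht3 : t = r - (2 : ℤ) • y
    · have h1 := hfs
      rw [form_neg_right] at h1 e2
      rw [ht3]; (clear * - e2 h1; omega)
    by_cases ht4 : t = -(r - (2 : ℤ) • y)
    · rw [ht4, e2, hfs, sub_self]
    have h1 := hF.orth r hr t ht ht1 ht2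
    have h2 := hF.orth _ hq t ht ht3 ht4
    have h3 : form cs h y t = 0 := by
      rw [form_sub_left, form_smul_left, h1] at h2
      omega
    have h4 := hsg t ht
    rw [h3, sign_zero] at h4
    rw [h3, sign_eq_zero_iff.1 h4, sub_self]
  · have P' := S.pl hy'r hy'R (hF.sub r hr) p1
    have hq' := q_mem S hF hy'R hr P'
    have h1 : r - (2 : ℤ) • y' = r - (2 : ℤ) • y := by
      by_contra hne
      have h2 : r - (2 : ℤ) • y' ≠ -(r - (2 : ℤ) • y) := by
        intro h0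
        have h3 := congrArg (fun t => form cs h t y) h0
        simp only [form_sub_left, form_neg_left, form_smul_left] at h3
        have h4 : form cs h y' (-(r - (2 : ℤ) • y)) = -form cs h y' r + 2 * form cs h y' y := by
          rw [form_neg_right, sub_eq_add_neg, form_add_right, form_neg_right, form_smul_right]; ring
        have h5 := P.fry
        have h6 := P'.fyr
        have h7 := P.frr
        have h8 := P'.frr
        omega
      have h3 := hF.orth _ hq _ hq' hne h2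
      rw [form_comm, form_sub_left, form_smul_left, P.frq] at h3
      rw [form_neg_right] at p2
      omega
    have h2 : (2 : ℤ) • y' = (2 : ℤ) • y := by
      have := congrArg (fun t => r - t) h1
      simpa only [_root_.zsmul_eq_mul, _root_.Int.cast_ofNat, _root_.sub_sub_cancel] using this
    exact smul_right_injective _ (by norm_num : (2 : ℤ) ≠ 0) h2

theorem MM_eq {y : I → ℤ} (hy : IsRoot cs h y) (hyR : y ∉ R) : MM cs h X F y = X y := by
  apply le_antisymm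
  · refine RGD.Sup_le fun x hx => ?_
    rw [eq_of_Lam S hF ns hy hyR hx]
  · exact X_le_MM (mem_Lam_self hy)

variable [Finite Y] [Fact p.Prime] (hp2 : p ≠ 2) (hT : T ≤ G1 cs h X) {K : Subgroup Y} {e : Y} (hK : QK K e)
  (hcen : Cen C F K)

include hp2 hT hK hcen

/-- **The involution of a `Q₈` centralises the short root groups.** -/
theorem short_triv {y : I → ℤ} (hy : IsRoot cs h y) (hyR : y ∉ R) : ∀ u ∈ X y, e * u = u * e := by
  obtain ⟨r, hr, P⟩ := exists_pl S hF ns hy hyR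
  have hq := q_mem S hF hyR hr P
  refine P.triv C hp2 hK (hcen.comm r hr) (hcen.comm _ hq) fun k hk u hu => ?_
  rw [← MM_eq (X := X) S hF ns hy hyR] at hu ⊢
  exact wt_inv C hT hF.sub hr (by rw [P.fyr]; exact P.pos) hcen hk hu

/-- **... and the long ones** -/
theorem long_triv {x y : I → ℤ} (P : Pl cs h R x y) (hyR : y ∉ R) (hXZ : ∀ r ∈ R, X r = Z r) :
    ∀ u ∈ X x, e * u = u * e := by
  have hwR : x - y ∉ R := by
    intro h0
    have h1 := S.same P.mem h0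
    have h2 : form cs h (x - y) (x - y) = form cs h y y := by
      have h3 := P.form_pt 1 (-1) 1 (-1)
      have e1 : (1 : ℤ) • x + (-1 : ℤ) • y = x - y := by module
      rw [e1] at h3
      rw [h3]; ring
    have h3 := P.frr
    have h4 := P.pos
    omega
  have fyw : form cs h y (x - y) = 0 := by
    rw [form_comm, form_sub_left, P.fry, sub_self]
  have fww : form cs h y y = form cs h (x - y) (x - y) := by
    have h3 := P.form_pt 1 (-1) 1 (-1)
    have e1 : (1 : ℤ) • x + (-1 : ℤ) • y = x - y := by module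
    rw [e1] at h3
    rw [h3]; ring
  have Q := Nodes.ShortSum.Sq.of_add (cs := cs) (h := h) (m := 1) one_pos P.root P.rootw P.L.root fyw fww
    (by rw [one_smul]; abel)
  have hb : x - cpr cs h x y • y ∈ R := refl_memR C P.mem P.root
  have h1 := Nodes.ShortSum.le_commutator C Fact.out hp2 Q P.mem hb (hXZ _ P.mem) (hXZ _ hb)
  have h2 : ⁅X y, X (x - y)⁆ ≤ Subgroup.centralizer {e} := by
    rw [Subgroup.commutator_le]
    intro a ha b hb
    have c1 := short_triv S hF ns hp2 hT hK hcen P.root hyR a ha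
    have c2 := short_triv S hF ns hp2 hT hK hcen P.rootw hwR b hb
    have m1 : a ∈ Subgroup.centralizer {e} := by
      rw [Subgroup.mem_centralizer_singleton_iff]; exact c1.symm
    have m2 : b ∈ Subgroup.centralizer {e} := by
      rw [Subgroup.mem_centralizer_singleton_iff]; exact c2.symm
    rw [commutatorElement_def]
    exact mul_mem (mul_mem (mul_mem m1 m2) (inv_mem m1)) (inv_mem m2)
  intro u hu
  have := h2 (h1 hu)
  rw [Subgroup.mem_centralizer_singleton_iff] at this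
  exact this.symm

end F

theorem triv_of_X (C : Cls cs h p T n X R Z z) {e : Y}
    (H : ∀ x, IsRoot cs h x → ∀ u ∈ X x, e * u = u * e) : Triv C e := by
  have h1 : G1 cs h X ≤ Subgroup.centralizer {e} := by
    refine iSup_le ?_
    rintro ⟨x, hx⟩ u hu
    rw [Subgroup.mem_centralizer_singleton_iff]
    exact (H x hx u hu).symm
  intro l hl
  have := h1 hl
  rw [Subgroup.mem_centralizer_singleton_iff] at this
  exact this.symm

end Cfsg.Agent.LOC.ShortAll
end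

-- part: Cit/Nil/LO/StdChart
section
/-!
# Lie odd sections, the chart part: charts of type `C n` and `F₄` (S1309, (n1), piece (C))

* `frame_transport`, `exists_frame` : a frame system of a standard type is carried to any chart of this type;
* `std_of_isTy`, `exists_pl_of_isTy` : `Std`, planes for charts of type `C n` (`n ≥ 2`), `F₄`;
* `ns_C`, `ns_F4` : no root is orthogonal to a maximal frame;
* `orth_C` : type `C n` : different long roots are orthogonal or opposite;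
* `out_F4` : type `F₄`.
-/

set_option autoImplicit false
set_option linter.unusedSectionVars false
set_option linter.dupNamespace false

namespace Cfsg.Agent.LOC.StdChart

open CoxeterSystem Cfsg.Agent.ChevalleyStructure.CoxeterGeom Cfsg.Agent.Tits.Roots Cfsg.Agent.Tits.Core
  Cfsg.Agent.Tits.RootComb Cfsg.Agent.Nodes.Comb Cfsg.Agent.Nodes.SubComb Cfsg.Agent.Nodes.Reps
  Cfsg.Agent.Nodes.Coroot Cfsg.Agent.Nodes.PosPair Cfsg.Agent.Nodes.BNOf Cfsg.Agent.Nodes.RGDLib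
  Cfsg.Agent.Nodes.Chart Cfsg.Agent.Nodes.ClsNorm Cfsg.Agent.Nodes.ChartLoc Cfsg.Agent.Nodes.ChartFrame
  Cfsg.Agent.Nodes.Bruhat Cfsg.Agent.Nodes.CenVV Cfsg.Agent.LOC.ChartDefs Cfsg.Agent.LOC.LemS Cfsg.Agent.LOC.Wt
  Cfsg.Agent.LOC.ShortAll Cfsg.Agent.Nodes.KindBase Cfsg.Agent.Nodes.Reindex

section Tr

variable {I J W : Type*} [Fintype I] [DecidableEq I] [Fintype J] [DecidableEq J] [Group W] [Finite W]
  {M : CoxeterMatrix I} {M' : CoxeterMatrix J} {cs : CoxeterSystem M W} {cs' : CoxeterSystem M' W}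
  {A : I → I → ℤ} {A' : J → J → ℤ} {h : IsCartan M A} {h' : IsCartan M' A'} {e : I ≃ J}

theorem mem_iff_reindex (hA : ∀ i j, A i j = A' (e i) (e j)) (hs : ∀ i, cs'.simple (e i) = cs.simple i)
    {R : Set (I → ℤ)} {R' : Set (J → ℤ)} (act : ∀ r ∈ R, ∀ w, rep cs h w r ∈ R)
    (act' : ∀ r ∈ R', ∀ w, rep cs' h' w r ∈ R') (hsr : ∀ i, sr i ∈ R ↔ sr (e i) ∈ R') {x : I → ℤ}
    (hx : IsRoot cs h x) : x ∈ R ↔ x ∘ e.symm ∈ R' := by
  obtain ⟨w, i, rfl⟩ := hx
  have e1 : (rep cs h w (sr i)) ∘ e.symm = rep cs' h' w (sr (e i)) := by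
    rw [sr_reindex, rep_reindex (cs := cs) (h := h) hA hs]
  rw [e1]
  constructor
  · intro h1
    have h2 := act _ h1 w⁻¹
    rw [rep_inv_apply] at h2
    exact act' _ ((hsr i).1 h2) w
  · intro h1
    have h2 := act' _ h1 w⁻¹
    rw [rep_inv_apply] at h2
    exact act _ ((hsr i).2 h2) w

/-- a frame system is carried along a change of the index type -/
theorem frame_transport (hA : ∀ i j, A i j = A' (e i) (e j)) (hs : ∀ i, cs'.simple (e i) = cs.simple i)
    {R : Set (I → ℤ)} {R' : Set (J → ℤ)} (hroot : ∀ r ∈ R, IsRoot cs h r) (act : ∀ r ∈ R, ∀ w, rep cs h w r ∈ R)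
    (hsr : ∀ i, sr i ∈ R ↔ sr (e i) ∈ R') {ι : Type*} {g : ι → J → ℤ} (FS : FrameSys cs' h' R' g) :
    FrameSys cs h R (fun k => g k ∘ e) := by
  have hR : ∀ x, IsRoot cs h x → (x ∈ R ↔ x ∘ e.symm ∈ R') := fun x hx =>
    mem_iff_reindex (h := h) (h' := h') hA hs act FS.act hsr hx
  have hroot' : ∀ k, IsRoot cs h (g k ∘ e) := by
    intro k
    rw [← isRoot_reindex (cs' := cs') (h' := h') hA hs, comp_symm]
    exact FS.root _ (FS.mem k)
  have hc : ∀ x y, IsRoot cs h y → cpr cs h x y = cpr cs' h' (x ∘ e.symm) (y ∘ e.symm) := fun x y hy =>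
    (cpr_reindex hA hs x hy).symm
  refine ⟨hroot, act, fun x hx y hy h1 h2 => ?_, fun k => ?_, fun k l hkl => ?_, fun x hx h0 => ?_⟩
  · rw [hc x y (hroot y hy)]
    refine FS.le_one _ ((hR x (hroot x hx)).1 hx) _ ((hR y (hroot y hy)).1 hy) (fun h0 => h1 (comp_inj h0))
      (fun h0 => h2 (comp_inj (e := e) ?_))
    rw [h0]; rfl
  · rw [hR _ (hroot' k), comp_symm]
    exact FS.mem k
  · rw [hc _ _ (hroot' l), comp_symm, comp_symm]
    exact FS.orth k l hkl
  · refine FS.max _ ((hR x (hroot x hx)).1 hx) fun k => ?_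
    have h1 := h0 k
    rwa [hc _ _ (hroot' k), comp_symm] at h1

end Tr

variable {G : Type*} [Group G] {Om : Set (Subgroup G)} {p : ℕ} {L : Subgroup G}

theorem exists_frame_C (c : Chart Om p L) {n : ℕ} (hτ : c.IsTy (.C n)) :
    ∃ g : Fin n → c.I → ℤ, FrameSys c.cs c.h c.R g ∧ ∀ r ∈ c.R, ∃ k, r = g k ∨ r = -g k := by
  obtain ⟨e, hA, hl⟩ := hτ
  obtain ⟨cs', hs⟩ := exists_reindex c.cs e (M' := CoxeterMatrix.B n) (fun i j => c.M_apply (τ := .C n) hA i j)
  have FS := Nodes.KindC.frameSys (n := n) cs'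
  refine ⟨_, frame_transport (h := c.h) hA hs c.cls.root c.cls.act
    (fun i => (hl i).trans Nodes.RKindsBC.sr_mem_RC.symm) FS, fun r hr => ?_⟩
  have h1 : r ∘ e.symm ∈ Nodes.KindBC.RC n :=
    (mem_iff_reindex (h := c.h) hA hs c.cls.act FS.act
      (fun i => (hl i).trans Nodes.RKindsBC.sr_mem_RC.symm) (c.cls.root r hr)).1 hr
  obtain ⟨k, hk⟩ := Nodes.KindC.eq_fr_or h1
  refine ⟨k, ?_⟩
  rcases hk with hk | hk
  · left
    rw [← comp_symm' (e := e) r, hk]
  · right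
    rw [← comp_symm' (e := e) r, hk]
    rfl

theorem exists_frame_F4 (c : Chart Om p L) (hτ : c.IsTy .F4) :
    ∃ g : Fin 4 → c.I → ℤ, FrameSys c.cs c.h c.R g := by
  obtain ⟨e, hA, hl⟩ := hτ
  obtain ⟨cs', hs⟩ := exists_reindex c.cs e (M' := CoxeterMatrix.F₄) (fun i j => c.M_apply (τ := .F4) hA i j)
  have FS := Nodes.KindF.frameSys cs' Ty.F4.isCartan
  exact ⟨_, frame_transport (h := c.h) hA hs c.cls.root c.cls.act
    (fun i => (hl i).trans (Cit.TypeDet.KindsEF.long_F4 cs' Ty.F4.isCartan (e i)).symm) FS⟩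

theorem ns_C (c : Chart Om p L) {n : ℕ} (hτ : c.IsTy (.C n)) {F : Set (c.I → ℤ)} (hF : MaxF c.cls F) {x : c.I → ℤ}
    (hx : IsRoot c.cs c.h x) : ∃ r ∈ F, form c.cs c.h x r ≠ 0 := by
  obtain ⟨g, FS, -⟩ := exists_frame_C c hτ
  exact ns_of_frame FS (by rw [Fintype.card_fin]; exact hτ.card.le) hF hx

theorem ns_F4 (c : Chart Om p L) (hτ : c.IsTy .F4) {F : Set (c.I → ℤ)} (hF : MaxF c.cls F) {x : c.I → ℤ}
    (hx : IsRoot c.cs c.h x) : ∃ r ∈ F, form c.cs c.h x r ≠ 0 := by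
  obtain ⟨g, FS⟩ := exists_frame_F4 c hτ
  exact ns_of_frame FS (by rw [Fintype.card_fin]; exact hτ.card.le) hF hx

/-- type `C n` : different long roots are orthogonal or opposite -/
theorem orth_C (c : Chart Om p L) {n : ℕ} (hτ : c.IsTy (.C n)) {r s : c.I → ℤ} (hr : r ∈ c.R) (hs : s ∈ c.R)
    (h1 : s ≠ r) (h2 : s ≠ -r) : form c.cs c.h r s = 0 := by
  obtain ⟨g, FS, hg⟩ := exists_frame_C c hτ
  obtain ⟨k, hk⟩ := hg r hr
  obtain ⟨l, hl⟩ := hg s hs
  have hkl : k ≠ l := by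
    rintro rfl
    rcases hk with rfl | rfl <;> rcases hl with rfl | rfl
    · exact h1 rfl
    · exact h2 rfl
    · exact h2 (neg_neg _).symm
    · exact h1 rfl
  have h0 := (cpr_zero_iff c.cs c.h _ (c.cls.root _ (FS.mem l))).1 (FS.orth k l hkl)
  rcases hk with rfl | rfl <;> rcases hl with rfl | rfl <;>
    simp only [form_neg_left, form_neg_right, h0, neg_zero]

/-- type `C n` : `F` consists of all long roots -/
theorem F_eq_C (c : Chart Om p L) {n : ℕ} (hτ : c.IsTy (.C n)) {F : Set (c.I → ℤ)} (hF : MaxF c.cls F) : F = c.R := by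
  apply Set.Subset.antisymm hF.sub
  intro x hx
  obtain ⟨r, hr, h0⟩ := hF.max x hx
  by_cases h1 : r = x
  · rwa [← h1]
  by_cases h2 : r = -x
  · have := hF.neg r hr
    rwa [h2, neg_neg] at this
  · exact absurd (orth_C c hτ hx (hF.sub r hr) h1 h2) h0

section len

variable (c : Chart Om p L) {τ : Ty} (hτ : c.IsTy τ)

include hτ

theorem std_of_isTy (hc : (∃ n, τ = .C n) ∨ τ = .F4) : Std c.cs c.h c.R := by
  obtain ⟨e, hA, hR⟩ := hτ
  refine Std.of_len (l := fun i => τ.len (e i)) (lR := τ.lenR) c.irr (fun i j => ?_) (fun i => ?_) (fun i => ?_)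
    c.cls.root c.cls.act (fun i => (hR i).trans (τ.long_iff _))
  · rw [hA, hA]
    exact Ty.len_rel τ (e i) (e j)
  · rcases hc with ⟨n, rfl⟩ | rfl <;> simp only [Ty.len] <;> split_ifs <;> norm_num
  · rcases hc with ⟨n, rfl⟩ | rfl <;> simp only [Ty.len, Ty.lenR] <;> split_ifs <;> norm_num

theorem exists_pl_of_isTy (hc : (∃ n, 2 ≤ n ∧ τ = .C n) ∨ τ = .F4) {x : c.I → ℤ} (hx : x ∈ c.R) :
    ∃ y, y ∉ c.R ∧ Pl c.cs c.h c.R x y := by
  obtain ⟨e, hA, hR⟩ := hτ
  refine Std.exists_pl (l := fun i => τ.len (e i)) (lR := τ.lenR) c.irr (fun i j => ?_) (fun i => ?_) (fun i => ?_)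
    c.cls.root c.cls.act (fun i => (hR i).trans (τ.long_iff _)) ?_ c.trans hx
  · rw [hA, hA]
    exact Ty.len_rel τ (e i) (e j)
  · rcases hc with ⟨n, -, rfl⟩ | rfl <;> simp only [Ty.len] <;> split_ifs <;> norm_num
  · rcases hc with ⟨n, -, rfl⟩ | rfl <;> simp only [Ty.len, Ty.lenR] <;> split_ifs <;> norm_num
  · rcases hc with ⟨n, hn, rfl⟩ | rfl
    · refine ⟨e.symm ⟨0, by show 0 < n; omega⟩, ?_⟩
      rw [Equiv.apply_symm_apply]
      have : ¬ (0 + 1 = n) := by omega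
      simp only [Ty.len, Ty.lenR]
      rw [if_neg this]
      norm_num
    · refine ⟨e.symm ⟨0, by show 0 < 4; omega⟩, ?_⟩
      rw [Equiv.apply_symm_apply]
      simp only [Ty.len, Ty.lenR]
      norm_num

end len

/-- type `F₄` : the involution of a `Q₈` centralises `L` -/
theorem triv_F4 [Finite G] (c : Chart Om p L) (hτ : c.IsTy .F4) (hXZ : ∀ r ∈ c.R, c.Z r = c.X r)
    {F : Set (c.I → ℤ)} (hF : MaxF c.cls F) {K : Subgroup G} {e : G} (hK : QK K e) (hcen : Cen c.cls F K) :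
    Triv c.cls e := by
  have : Fact p.Prime := ⟨c.prime⟩
  have S := std_of_isTy c hτ (Or.inr rfl)
  have ns : ∀ x, IsRoot c.cs c.h x → ∃ r ∈ F, form c.cs c.h x r ≠ 0 := fun x hx => ns_F4 c hτ hF hx
  have hT : c.T ≤ G1 c.cs c.h c.X := c.T_le.trans_eq c.gen.symm
  refine triv_of_X c.cls fun x hx => ?_
  by_cases hxR : x ∈ c.R
  · obtain ⟨y, hyR, P⟩ := exists_pl_of_isTy c hτ (Or.inr rfl) hxR
    exact long_triv S hF ns c.odd hT hK hcen P hyR (fun r hr => (hXZ r hr).symm)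
  · exact short_triv S hF ns c.odd hT hK hcen hx hxR

/-- type `C n`, `X = Z` for long roots: the involution of a `Q₈` centralises `L` -/
theorem triv_C_eq [Finite G] (c : Chart Om p L) {n : ℕ} (hτ : c.IsTy (.C n)) (hXZ : ∀ r ∈ c.R, c.Z r = c.X r)
    {F : Set (c.I → ℤ)} (hF : MaxF c.cls F) {K : Subgroup G} {e : G} (hK : QK K e) (hcen : Cen c.cls F K) :
    Triv c.cls e := by
  have : Fact p.Prime := ⟨c.prime⟩
  have S := std_of_isTy c hτ (Or.inl ⟨n, rfl⟩)
  have ns : ∀ x, IsRoot c.cs c.h x → ∃ r ∈ F, form c.cs c.h x r ≠ 0 := fun x hx => ns_C c hτ hF hx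
  have hT : c.T ≤ G1 c.cs c.h c.X := c.T_le.trans_eq c.gen.symm
  refine triv_of_X c.cls fun x hx => ?_
  by_cases hxR : x ∈ c.R
  · intro u hu
    rw [← hXZ x hxR] at hu
    exact hcen.comm x (by rw [F_eq_C c hτ hF]; exact hxR) u hu e hK.mem
  · exact short_triv S hF ns c.odd hT hK hcen hx hxR

/-- **Type `F₄`.** -/
theorem out_F4 [Finite G] (c : Chart Om p L) (hτ : c.IsTy .F4) (hXZ : ∀ r ∈ c.R, c.Z r = c.X r)
    {F : Set (c.I → ℤ)} (hF : MaxF c.cls F) : Out c.cls F :=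
  Out.of_triv fun _ _ hK hcen => triv_F4 c hτ hXZ hF hK hcen

/-- **Type `C n`, `n ≥ 2`, `X = Z` for long roots (`Sp_2n`, `SU_2n`).** -/
theorem out_C_eq [Finite G] (c : Chart Om p L) {n : ℕ} (hτ : c.IsTy (.C n)) (hXZ : ∀ r ∈ c.R, c.Z r = c.X r)
    {F : Set (c.I → ℤ)} (hF : MaxF c.cls F) : Out c.cls F :=
  Out.of_triv fun _ _ hK hcen => triv_C_eq c hτ hXZ hF hK hcen

end Cfsg.Agent.LOC.StdChart
end

-- part: Cit/Nil/LO/LA
section
/-!
# LEMMA LA: a quaternion group acting on a small orthogonal space over `𝔽_q` (S1309, (n1), piece (C))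

Text: `blueprints/CIT-6b-LieOdd-helper443.md`, section 4; proof without fields: R18 (helper197).

`M` an abelian group of odd order, `β : M × M → Z` symmetric, biadditive, nondegenerate, `K = Q8` acts on `M` preserving
`β`, `e` its involution, `M_e = {u ∈ M : u ^ e = u⁻¹}`.  If `M_e ≠ 1` there is `w ∈ M_e` with `β w w ≠ 1`; the four conjugates
`w, w ^ a, w ^ b, w ^ (ab)` are pairwise orthogonal, and `v ↦ (β u_i v)` maps `M_e` onto `Z ^ 4` (`hsc`: scaling).

* `main` : `e` centralises `M`, or `|Z| ^ 4 ≤ |M|` with `M = M_e` in case of equality;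
* `hsc_of` : the supply of the scaling hypothesis by two tori;
* `same` : two commuting tori with the same action;
* `line` : `e` centralises a line which is normalised by the elements of order 4 of `K`;
* `triv` : the final form.
-/

set_option autoImplicit false
set_option linter.unusedSectionVars false
set_option linter.dupNamespace false

namespace Cfsg.Agent.LOC.LA

open Cfsg.Agent.LOC.ChartDefs

variable {Y : Type*} [Group Y]

/-- a nondegenerate symmetric biadditive form `β : M × M → Z`, `M` and `Z` abelian without involutions -/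
structure Frm (M Z : Subgroup Y) (β : Y → Y → Y) : Prop where
  commM : ∀ u ∈ M, ∀ v ∈ M, u * v = v * u
  commZ : ∀ u ∈ Z, ∀ v ∈ Z, u * v = v * u
  oddM : ∀ u ∈ M, u * u = 1 → u = 1
  oddZ : ∀ u ∈ Z, u * u = 1 → u = 1
  mem : ∀ u ∈ M, ∀ v ∈ M, β u v ∈ Z
  mul_left : ∀ u ∈ M, ∀ u' ∈ M, ∀ v ∈ M, β (u * u') v = β u v * β u' v
  mul_right : ∀ u ∈ M, ∀ v ∈ M, ∀ v' ∈ M, β u (v * v') = β u v * β u v'
  symm : ∀ u ∈ M, ∀ v ∈ M, β u v = β v u
  nd : ∀ u ∈ M, (∀ v ∈ M, β u v = 1) → u = 1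

section Basic

variable {M Z : Subgroup Y} {β : Y → Y → Y} (f : Frm M Z β)
include f

theorem Frm.one_left {v : Y} (hv : v ∈ M) : β 1 v = 1 := by
  have h1 := f.mul_left 1 M.one_mem 1 M.one_mem v hv
  rw [one_mul] at h1
  exact mul_left_cancel (a := β 1 v) (by rw [mul_one]; exact h1.symm)

theorem Frm.one_right {u : Y} (hu : u ∈ M) : β u 1 = 1 := by
  rw [f.symm u hu 1 M.one_mem, f.one_left hu]

theorem Frm.inv_left {u v : Y} (hu : u ∈ M) (hv : v ∈ M) : β u⁻¹ v = (β u v)⁻¹ := by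
  have h1 := f.mul_left u hu u⁻¹ (inv_mem hu) v hv
  rw [mul_inv_cancel, f.one_left hv] at h1
  exact (inv_eq_of_mul_eq_one_right h1.symm).symm

theorem Frm.inv_right {u v : Y} (hu : u ∈ M) (hv : v ∈ M) : β u v⁻¹ = (β u v)⁻¹ := by
  rw [f.symm u hu _ (inv_mem hv), f.inv_left hv hu, f.symm u hu v hv]

/-- polarisation: `β` vanishes on a subgroup of isotropic elements -/
theorem Frm.polar {N : Subgroup Y} (hN : N ≤ M) (hi : ∀ w ∈ N, β w w = 1) {u v : Y} (hu : u ∈ N) (hv : v ∈ N) :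
    β u v = 1 := by
  have h1 := hi (u * v) (mul_mem hu hv)
  rw [f.mul_left u (hN hu) v (hN hv) _ (mul_mem (hN hu) (hN hv)), f.mul_right u (hN hu) u (hN hu) v (hN hv),
    f.mul_right v (hN hv) u (hN hu) v (hN hv), hi u hu, hi v hv, one_mul, mul_one, f.symm v (hN hv) u (hN hu)] at h1
  exact f.oddZ _ (f.mem u (hN hu) v (hN hv)) h1

end Basic

/-- `M_e` -/
def Me (M : Subgroup Y) (e : Y) (hM : ∀ u ∈ M, ∀ v ∈ M, u * v = v * u) : Subgroup Y where
  carrier := {u | u ∈ M ∧ e * u * e⁻¹ = u⁻¹}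
  one_mem' := ⟨M.one_mem, by group⟩
  mul_mem' := by
    rintro u v ⟨hu, h1⟩ ⟨hv, h2⟩
    refine ⟨mul_mem hu hv, ?_⟩
    have h3 : e * (u * v) * e⁻¹ = (e * u * e⁻¹) * (e * v * e⁻¹) := by group
    rw [h3, h1, h2, ← mul_inv_rev, hM v hv u hu]
  inv_mem' := by
    rintro u ⟨hu, h1⟩
    refine ⟨inv_mem hu, ?_⟩
    have h3 : e * u⁻¹ * e⁻¹ = (e * u * e⁻¹)⁻¹ := by group
    rw [h3, h1]

theorem Me_le {M : Subgroup Y} {e : Y} {hM : ∀ u ∈ M, ∀ v ∈ M, u * v = v * u} : Me M e hM ≤ M := fun _ hu => hu.1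

section Main

variable {M Z K : Subgroup Y} {β : Y → Y → Y} {e : Y}

/-- `β u (u ^ k) = 1` for `u ∈ M_e`, `k² = e` -/
theorem orth (f : Frm M Z β) (hKM : ∀ k ∈ K, ∀ u ∈ M, k * u * k⁻¹ ∈ M)
    (hinv : ∀ k ∈ K, ∀ u ∈ M, ∀ v ∈ M, β (k * u * k⁻¹) (k * v * k⁻¹) = β u v) {u k : Y} (hu : u ∈ Me M e f.commM)
    (hk : k ∈ K) (hkk : k * k = e) : β u (k * u * k⁻¹) = 1 := by
  have hu' := hu.1
  have hku := hKM k hk u hu'
  have h1 := hinv k hk u hu' _ hku
  have h2 : k * (k * u * k⁻¹) * k⁻¹ = u⁻¹ := by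
    have : k * (k * u * k⁻¹) * k⁻¹ = (k * k) * u * (k * k)⁻¹ := by group
    rw [this, hkk, hu.2]
  rw [h2, f.inv_right hku hu', f.symm _ hku u hu'] at h1
  have h3 : β u (k * u * k⁻¹) * β u (k * u * k⁻¹) = 1 := by
    nth_rw 1 [← h1]
    group
  exact f.oddZ _ (f.mem u hu' _ hku) h3

/-- the elements of `K` of order 4 -/
theorem quad (hK : QK K e) : ∃ a ∈ K, ∃ b ∈ K, a * a = e ∧ b * b = e ∧ (a * b) * (a * b) = e ∧
    (a⁻¹ * b) * (a⁻¹ * b) = e ∧ (b⁻¹ * (a * b)) * (b⁻¹ * (a * b)) = e := by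
  obtain ⟨a, ha, b, hb, h1, h2, h3⟩ := hK.com
  have hea := hK.cen a ha
  have heb := hK.cen b hb
  have hei := hK.inv_e
  have h4 : (a * b) * (a * b) = e := by
    calc (a * b) * (a * b) = e * (b * a) * (a * b) := by rw [← h3]
      _ = e * b * (a * a) * b := by group
      _ = e * (b * e) * b := by rw [h1]; group
      _ = (e * e) * (b * b) := by rw [heb]; group
      _ = e := by rw [hK.sq, one_mul, h2]
  have hai : a⁻¹ = e * a := by
    rw [inv_eq_iff_mul_eq_one, hea.symm, ← mul_assoc, h1, hK.sq]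
  have hbi : b⁻¹ = e * b := by
    rw [inv_eq_iff_mul_eq_one, heb.symm, ← mul_assoc, h2, hK.sq]
  refine ⟨a, ha, b, hb, h1, h2, h4, ?_, ?_⟩
  · have hab : (a * b) * e = e * (a * b) := hK.cen _ (mul_mem ha hb)
    rw [hai]
    calc e * a * b * (e * a * b) = e * ((a * b) * e) * (a * b) := by group
      _ = (e * e) * ((a * b) * (a * b)) := by rw [hab]; group
      _ = e := by rw [hK.sq, one_mul, h4]
  · calc b⁻¹ * (a * b) * (b⁻¹ * (a * b)) = b⁻¹ * (a * a) * b := by group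
      _ = b⁻¹ * (e * b) := by rw [h1]; group
      _ = e := by rw [← heb]; group

variable [Finite Y]

/-- **LEMMA LA.** -/
theorem main (hK : QK K e) (f : Frm M Z β) (hKM : ∀ k ∈ K, ∀ u ∈ M, k * u * k⁻¹ ∈ M)
    (hinv : ∀ k ∈ K, ∀ u ∈ M, ∀ v ∈ M, β (k * u * k⁻¹) (k * v * k⁻¹) = β u v)
    (hsc : ∀ u ∈ M, β u u ≠ 1 → ∀ z ∈ Z, ∃ u' ∈ M, β u u' = z ∧ (∀ v ∈ M, β u v = 1 → β u' v = 1) ∧
      (e * u * e⁻¹ = u⁻¹ → e * u' * e⁻¹ = u'⁻¹)) :
    (∀ u ∈ M, e * u = u * e) ∨ (Nat.card Z ^ 4 ≤ Nat.card M ∧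
      (Nat.card M = Nat.card Z ^ 4 → ∀ u ∈ M, e * u * e⁻¹ = u⁻¹)) := by
  classical
  have hee : e * e = 1 := hK.sq
  have hei : e⁻¹ = e := hK.inv_e
  by_cases htriv : ∀ w ∈ Me M e f.commM, β w w = 1
  · -- `M_e` is totally isotropic: `M_e = 1`
    left
    have h0 : ∀ w ∈ Me M e f.commM, w = 1 := by
      intro w hw
      refine f.nd w hw.1 fun v hv => ?_
      have hev := hKM e hK.mem v hv
      -- `v * v = (v * v^e) * (v * (v^e)⁻¹)`
      set v' := e * v * e⁻¹ with hv'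
      have hvv : e * v' * e⁻¹ = v := by
        rw [hv']
        have : e * (e * v * e⁻¹) * e⁻¹ = (e * e) * v * (e * e)⁻¹ := by group
        rw [this, hee]; group
      have hp : v * v' ∈ M := mul_mem hv hev
      have hm : v * v'⁻¹ ∈ M := mul_mem hv (inv_mem hev)
      have hpe : e * (v * v') * e⁻¹ = v * v' := by
        have : e * (v * v') * e⁻¹ = (e * v * e⁻¹) * (e * v' * e⁻¹) := by group
        rw [this, ← hv', hvv, f.commM v' hev v hv]
      have hme : v * v'⁻¹ ∈ Me M e f.commM := by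
        refine ⟨hm, ?_⟩
        have : e * (v * v'⁻¹) * e⁻¹ = (e * v * e⁻¹) * (e * v' * e⁻¹)⁻¹ := by group
        rw [this, ← hv', hvv]
        group
      have h1 : β w (v * v'⁻¹) = 1 := f.polar Me_le htriv hw hme
      have h2 : β w (v * v') = 1 := by
        have h3 := hinv e hK.mem w hw.1 _ hp
        rw [hw.2, hpe, f.inv_left hw.1 hp] at h3
        refine f.oddZ _ (f.mem w hw.1 _ hp) ?_
        nth_rw 1 [← h3]
        group
      have h3 : β w (v * v) = 1 := by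
        have h4 : v * v = (v * v') * (v * v'⁻¹) := by
          calc v * v = v * (v' * v'⁻¹) * v := by group
            _ = v * v' * (v'⁻¹ * v) := by group
            _ = v * v' * (v * v'⁻¹) := by rw [f.commM _ (inv_mem hev) v hv]
        rw [h4, f.mul_right w hw.1 _ hp _ hm, h1, h2, one_mul]
      rw [f.mul_right w hw.1 v hv v hv] at h3
      exact f.oddZ _ (f.mem w hw.1 v hv) h3
    intro u hu
    have hw : u⁻¹ * (e * u * e⁻¹) ∈ Me M e f.commM := by
      have heu := hKM e hK.mem u hu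
      refine ⟨mul_mem (inv_mem hu) heu, ?_⟩
      have h1 : e * (e * u * e⁻¹) * e⁻¹ = u := by
        have : e * (e * u * e⁻¹) * e⁻¹ = (e * e) * u * (e * e)⁻¹ := by group
        rw [this, hee]; group
      have h2 : e * (u⁻¹ * (e * u * e⁻¹)) * e⁻¹ = (e * u * e⁻¹)⁻¹ * (e * (e * u * e⁻¹) * e⁻¹) := by group
      rw [h2, h1]
      group
    have h1 := h0 _ hw
    have h2 : e * u * e⁻¹ = u := by
      rw [inv_mul_eq_one] at h1
      exact h1.symm
    calc e * u = (e * u * e⁻¹) * e := by group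
      _ = u * e := by rw [h2]
  · right
    push Not at htriv
    obtain ⟨w, hw, hww⟩ := htriv
    obtain ⟨a, ha, b, hb, h1, h2, h3, h4, h5⟩ := quad hK
    have hwM := hw.1
    -- conjugates
    have hcj : ∀ k ∈ K, k * w * k⁻¹ ∈ Me M e f.commM := by
      intro k hk
      refine ⟨hKM k hk w hwM, ?_⟩
      have hke := hK.cen k hk
      calc e * (k * w * k⁻¹) * e⁻¹ = (e * k) * w * (e * k)⁻¹ := by group
        _ = (k * e) * w * (k * e)⁻¹ := by rw [hke]
        _ = k * (e * w * e⁻¹) * k⁻¹ := by group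
        _ = (k * w * k⁻¹)⁻¹ := by rw [hw.2]; group
    have hn : ∀ k ∈ K, β (k * w * k⁻¹) (k * w * k⁻¹) ≠ 1 := by
      intro k hk
      rw [hinv k hk w hwM w hwM]
      exact hww
    have ho : ∀ k ∈ K, ∀ l ∈ K, (k⁻¹ * l) * (k⁻¹ * l) = e → β (k * w * k⁻¹) (l * w * l⁻¹) = 1 := by
      intro k hk l hl hkl
      have h6 := orth f hKM hinv hw (mul_mem (inv_mem hk) hl) hkl
      rw [← hinv k hk w hwM _ (hKM _ (mul_mem (inv_mem hk) hl) w hwM)] at h6
      have h7 : k * (k⁻¹ * l * w * (k⁻¹ * l)⁻¹) * k⁻¹ = l * w * l⁻¹ := by group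
      rwa [h7] at h6
    set u1 := (1 : Y) * w * (1 : Y)⁻¹ with hu1
    set u2 := a * w * a⁻¹ with hu2
    set u3 := b * w * b⁻¹ with hu3
    set u4 := (a * b) * w * (a * b)⁻¹ with hu4
    have m1 : u1 ∈ Me M e f.commM := hcj 1 K.one_mem
    have m2 : u2 ∈ Me M e f.commM := hcj a ha
    have m3 : u3 ∈ Me M e f.commM := hcj b hb
    have m4 : u4 ∈ Me M e f.commM := hcj _ (mul_mem ha hb)
    have o12 : β u1 u2 = 1 := ho 1 K.one_mem a ha (by rw [inv_one, one_mul, h1])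
    have o13 : β u1 u3 = 1 := ho 1 K.one_mem b hb (by rw [inv_one, one_mul, h2])
    have o14 : β u1 u4 = 1 := ho 1 K.one_mem _ (mul_mem ha hb) (by rw [inv_one, one_mul, h3])
    have o23 : β u2 u3 = 1 := ho a ha b hb h4
    have o24 : β u2 u4 = 1 := ho a ha _ (mul_mem ha hb) (by
      have : a⁻¹ * (a * b) = b := by group
      rw [this, h2])
    have o34 : β u3 u4 = 1 := ho b hb _ (mul_mem ha hb) h5
    have n1 : β u1 u1 ≠ 1 := hn 1 K.one_mem
    have n2 : β u2 u2 ≠ 1 := hn a ha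
    have n3 : β u3 u3 ≠ 1 := hn b hb
    have n4 : β u4 u4 ≠ 1 := hn _ (mul_mem ha hb)
    -- scaling functions
    have sc : ∀ u ∈ Me M e f.commM, β u u ≠ 1 → ∃ φ : Z → Y, ∀ z : Z, φ z ∈ Me M e f.commM ∧ β u (φ z) = z ∧
        ∀ v ∈ M, β u v = 1 → β (φ z) v = 1 := by
      intro u hu hun
      choose φ hφ using fun z : Z => hsc u hu.1 hun z z.2
      exact ⟨φ, fun z => ⟨⟨(hφ z).1, (hφ z).2.2.2 hu.2⟩, (hφ z).2.1, (hφ z).2.2.1⟩⟩
    obtain ⟨φ1, p1⟩ := sc u1 m1 n1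
    obtain ⟨φ2, p2⟩ := sc u2 m2 n2
    obtain ⟨φ3, p3⟩ := sc u3 m3 n3
    obtain ⟨φ4, p4⟩ := sc u4 m4 n4
    -- the map `Z ^ 4 → M_e`
    let Φ : Z × Z × Z × Z → Me M e f.commM := fun t =>
      ⟨φ1 t.1 * φ2 t.2.1 * φ3 t.2.2.1 * φ4 t.2.2.2,
        mul_mem (mul_mem (mul_mem (p1 _).1 (p2 _).1) (p3 _).1) (p4 _).1⟩
    have ev : ∀ u ∈ Me M e f.commM, ∀ t : Z × Z × Z × Z, β u (Φ t) =
        β u (φ1 t.1) * β u (φ2 t.2.1) * β u (φ3 t.2.2.1) * β u (φ4 t.2.2.2) := by
      intro u hu t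
      change β u (φ1 t.1 * φ2 t.2.1 * φ3 t.2.2.1 * φ4 t.2.2.2) = _
      rw [f.mul_right u hu.1 _ (mul_mem (mul_mem (p1 _).1.1 (p2 _).1.1) (p3 _).1.1) _ (p4 _).1.1,
        f.mul_right u hu.1 _ (mul_mem (p1 _).1.1 (p2 _).1.1) _ (p3 _).1.1,
        f.mul_right u hu.1 _ (p1 _).1.1 _ (p2 _).1.1]
    have sw : ∀ u ∈ Me M e f.commM, ∀ v ∈ Me M e f.commM, ∀ (φ : Z → Y),
        (∀ z : Z, φ z ∈ Me M e f.commM ∧ β u (φ z) = z ∧ ∀ v ∈ M, β u v = 1 → β (φ z) v = 1) → β u v = 1 →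
        ∀ z, β v (φ z) = 1 := by
      intro u hu v hv φ hφ huv z
      rw [f.symm v hv.1 _ (hφ z).1.1]
      exact (hφ z).2.2 v hv.1 huv
    have hinj : Function.Injective Φ := by
      intro t t' htt
      have hg : ∀ u ∈ Me M e f.commM, β u (Φ t) = β u (Φ t') := fun u _ => by rw [htt]
      have g1 := hg u1 m1
      have g2 := hg u2 m2
      have g3 := hg u3 m3
      have g4 := hg u4 m4
      have o21 : β u2 u1 = 1 := by rw [f.symm u2 m2.1 u1 m1.1, o12]
      have o31 : β u3 u1 = 1 := by rw [f.symm u3 m3.1 u1 m1.1, o13]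
      have o41 : β u4 u1 = 1 := by rw [f.symm u4 m4.1 u1 m1.1, o14]
      have o32 : β u3 u2 = 1 := by rw [f.symm u3 m3.1 u2 m2.1, o23]
      have o42 : β u4 u2 = 1 := by rw [f.symm u4 m4.1 u2 m2.1, o24]
      have o43 : β u4 u3 = 1 := by rw [f.symm u4 m4.1 u3 m3.1, o34]
      rw [ev u1 m1, ev u1 m1, sw u2 m2 u1 m1 φ2 p2 o21, sw u3 m3 u1 m1 φ3 p3 o31, sw u4 m4 u1 m1 φ4 p4 o41,
        sw u2 m2 u1 m1 φ2 p2 o21, sw u3 m3 u1 m1 φ3 p3 o31, sw u4 m4 u1 m1 φ4 p4 o41, (p1 _).2.1, (p1 _).2.1] at g1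
      rw [ev u2 m2, ev u2 m2, sw u1 m1 u2 m2 φ1 p1 o12, sw u3 m3 u2 m2 φ3 p3 o32, sw u4 m4 u2 m2 φ4 p4 o42,
        sw u1 m1 u2 m2 φ1 p1 o12, sw u3 m3 u2 m2 φ3 p3 o32, sw u4 m4 u2 m2 φ4 p4 o42, (p2 _).2.1, (p2 _).2.1] at g2
      rw [ev u3 m3, ev u3 m3, sw u1 m1 u3 m3 φ1 p1 o13, sw u2 m2 u3 m3 φ2 p2 o23, sw u4 m4 u3 m3 φ4 p4 o43,
        sw u1 m1 u3 m3 φ1 p1 o13, sw u2 m2 u3 m3 φ2 p2 o23, sw u4 m4 u3 m3 φ4 p4 o43, (p3 _).2.1, (p3 _).2.1] at g3
      rw [ev u4 m4, ev u4 m4, sw u1 m1 u4 m4 φ1 p1 o14, sw u2 m2 u4 m4 φ2 p2 o24, sw u3 m3 u4 m4 φ3 p3 o34,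
        sw u1 m1 u4 m4 φ1 p1 o14, sw u2 m2 u4 m4 φ2 p2 o24, sw u3 m3 u4 m4 φ3 p3 o34, (p4 _).2.1, (p4 _).2.1] at g4
      simp only [mul_one, one_mul] at g1 g2 g3 g4
      obtain ⟨t1, t2, t3, t4⟩ := t
      obtain ⟨s1, s2, s3, s4⟩ := t'
      simp only at g1 g2 g3 g4
      rw [Subtype.ext g1, Subtype.ext g2, Subtype.ext g3, Subtype.ext g4]
    have hcard : Nat.card Z ^ 4 ≤ Nat.card (Me M e f.commM) := by
      have h6 := Nat.card_le_card_of_injective Φ hinj
      simp only [Nat.card_prod] at h6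
      calc Nat.card Z ^ 4 = Nat.card Z * (Nat.card Z * (Nat.card Z * Nat.card Z)) := by ring
        _ ≤ _ := h6
    have hle : Nat.card (Me M e f.commM) ≤ Nat.card M := Subgroup.card_le_of_le Me_le
    refine ⟨hcard.trans hle, fun hM u hu => ?_⟩
    have h6 : Me M e f.commM = M := Subgroup.eq_of_le_of_card_ge Me_le (by rw [hM]; exact hcard)
    rw [← h6] at hu
    exact hu.2

end Main

/-! ### The supply of the scaling hypothesis -/

section Supply

variable {M Z : Subgroup Y} {β : Y → Y → Y} {e : Y} {Tr Ts : Subgroup Y}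

/-- **Supply of `hsc`**: `Tr` acts diagonally, `Ts` is self-adjoint, both induce the same automorphisms on `M`, and `Z` is
generated by each nontrivial `Tr`-orbit. -/
theorem hsc_of (f : Frm M Z β) (hr : ∀ h ∈ Tr, ∀ u ∈ M, h * u * h⁻¹ ∈ M)
    (hβ : ∀ h ∈ Tr, ∀ u ∈ M, ∀ v ∈ M, β (h * u * h⁻¹) (h * v * h⁻¹) = h * β u v * h⁻¹)
    (hs : ∀ g ∈ Ts, ∀ u ∈ M, ∀ v ∈ M, β (g * u * g⁻¹) v = β u (g * v * g⁻¹))
    (hsame : ∀ h ∈ Tr, ∃ g ∈ Ts, ∀ u ∈ M, g * u * g⁻¹ = h * u * h⁻¹)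
    (her : ∀ h ∈ Tr, e * h = h * e)
    (hgen : ∀ s ∈ Z, s ≠ 1 → Z ≤ Subgroup.closure {x | ∃ h ∈ Tr, x = h * s * h⁻¹}) :
    ∀ u ∈ M, β u u ≠ 1 → ∀ z ∈ Z, ∃ u' ∈ M, β u u' = z ∧ (∀ v ∈ M, β u v = 1 → β u' v = 1) ∧
      (e * u * e⁻¹ = u⁻¹ → e * u' * e⁻¹ = u'⁻¹) := by
  intro u hu hne z hz
  have hz' := hgen _ (f.mem u hu u hu) hne hz
  -- the scaled vector
  have key : ∀ h ∈ Tr, ∃ u' ∈ M, (∀ v ∈ M, β u' v = h * β u v * h⁻¹) ∧
      (e * u * e⁻¹ = u⁻¹ → e * u' * e⁻¹ = u'⁻¹) := by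
    intro h hh
    obtain ⟨g, hg, hgh⟩ := hsame h hh
    have m1 := hr h hh u hu
    have m2 := hr h hh _ m1
    refine ⟨h * (h * u * h⁻¹) * h⁻¹, m2, fun v hv => ?_, fun h1 => ?_⟩
    · have hv' : h⁻¹ * v * h ∈ M := by
        have := hr h⁻¹ (inv_mem hh) v hv
        rwa [inv_inv] at this
      have e1 : v = h * (h⁻¹ * v * h) * h⁻¹ := by group
      have e2 : β (h * (h * u * h⁻¹) * h⁻¹) v = h * β (h * u * h⁻¹) (h⁻¹ * v * h) * h⁻¹ := by
        nth_rw 1 [e1]
        exact hβ h hh _ m1 _ hv'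
      rw [e2, ← hgh u hu, hs g hg u hu _ hv', hgh _ hv', ← e1]
    · have h2 := her h hh
      have h3 : e * (h * h) = (h * h) * e := by
        rw [← mul_assoc, h2, mul_assoc, h2, mul_assoc]
      calc e * (h * (h * u * h⁻¹) * h⁻¹) * e⁻¹ = (e * (h * h)) * u * (e * (h * h))⁻¹ := by group
        _ = ((h * h) * e) * u * ((h * h) * e)⁻¹ := by rw [h3]
        _ = (h * h) * (e * u * e⁻¹) * (h * h)⁻¹ := by group
        _ = (h * (h * u * h⁻¹) * h⁻¹)⁻¹ := by rw [h1]; simp only [mul_inv_rev, inv_inv, mul_assoc]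
  induction hz' using Subgroup.closure_induction with
  | mem x hx =>
    obtain ⟨h, hh, rfl⟩ := hx
    obtain ⟨u', hu', h1, h2⟩ := key h hh
    refine ⟨u', hu', ?_, fun v hv hv1 => ?_, h2⟩
    · rw [f.symm u hu u' hu', h1 u hu]
    · rw [h1 v hv, hv1]; group
  | one =>
    exact ⟨1, M.one_mem, f.one_right hu, fun v hv _ => f.one_left hv, fun _ => by group⟩
  | mul x y hx hy ihx ihy =>
    have hcl : ∀ w ∈ Subgroup.closure {x | ∃ h ∈ Tr, x = h * β u u * h⁻¹}, w ∈ Z := by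
      intro w hw
      refine (Subgroup.closure_le Z).2 ?_ hw
      rintro _ ⟨h, hh, rfl⟩
      rw [← hβ h hh u hu u hu]
      exact f.mem _ (hr h hh u hu) _ (hr h hh u hu)
    obtain ⟨x', hx', a1, a2, a3⟩ := ihx (hcl x hx)
    obtain ⟨y', hy', b1, b2, b3⟩ := ihy (hcl y hy)
    refine ⟨x' * y', mul_mem hx' hy', ?_, fun v hv hv1 => ?_, fun h1 => ?_⟩
    · rw [f.mul_right u hu x' hx' y' hy', a1, b1]
    · rw [f.mul_left x' hx' y' hy' v hv, a2 v hv hv1, b2 v hv hv1, one_mul]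
    · have e1 : e * (x' * y') * e⁻¹ = (e * x' * e⁻¹) * (e * y' * e⁻¹) := by group
      rw [e1, a3 h1, b3 h1, ← mul_inv_rev, f.commM y' hy' x' hx']
  | inv x hx ihx =>
    have hcl : ∀ w ∈ Subgroup.closure {x | ∃ h ∈ Tr, x = h * β u u * h⁻¹}, w ∈ Z := by
      intro w hw
      refine (Subgroup.closure_le Z).2 ?_ hw
      rintro _ ⟨h, hh, rfl⟩
      rw [← hβ h hh u hu u hu]
      exact f.mem _ (hr h hh u hu) _ (hr h hh u hu)
    obtain ⟨x', hx', a1, a2, a3⟩ := ihx (hcl x hx)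
    refine ⟨x'⁻¹, inv_mem hx', ?_, fun v hv hv1 => ?_, fun h1 => ?_⟩
    · rw [f.inv_right hu hx', a1]
    · rw [f.inv_left hx' hv, a2 v hv hv1, inv_one]
    · have e1 : e * x'⁻¹ * e⁻¹ = (e * x' * e⁻¹)⁻¹ := by group
      rw [e1, a3 h1]

end Supply

/-- **The line lemma**: if the elements of order 4 of `K` map `w ∈ W` into `W`, and an abelian group commuting with `K` is
transitive on the nontrivial elements of `W`, then `e` centralises `w`. -/
theorem line {K W H : Subgroup Y} {e : Y} (hK : QK K e) (hab : ∀ h ∈ H, ∀ h' ∈ H, h * h' = h' * h)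
    (hHK : ∀ h ∈ H, ∀ k ∈ K, h * k = k * h)
    (tr : ∀ x ∈ W, x ≠ 1 → ∀ x' ∈ W, x' ≠ 1 → ∃ t ∈ H, t * x * t⁻¹ = x')
    {w : Y} (hw : w ∈ W) (hk : ∀ k ∈ K, k * k = e → k * w * k⁻¹ ∈ W) : e * w = w * e := by
  by_cases hw1 : w = 1
  · rw [hw1, one_mul, mul_one]
  obtain ⟨a, ha, b, hb, h1, h2, h3⟩ := hK.com
  have hne : ∀ k : Y, k * w * k⁻¹ ≠ 1 := fun k h0 => hw1 (by
    have : w = k⁻¹ * (k * w * k⁻¹) * k := by group
    rw [this, h0]; group)
  obtain ⟨s, hs, hs1⟩ := tr w hw hw1 _ (hk a ha h1) (hne a)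
  obtain ⟨t, ht, ht1⟩ := tr w hw hw1 _ (hk b hb h2) (hne b)
  have e1 : (a * b) * w * (a * b)⁻¹ = (t * s) * w * (t * s)⁻¹ := by
    calc (a * b) * w * (a * b)⁻¹ = a * (b * w * b⁻¹) * a⁻¹ := by group
      _ = (a * t) * w * (a * t)⁻¹ := by rw [← ht1]; group
      _ = (t * a) * w * (t * a)⁻¹ := by rw [hHK t ht a ha]
      _ = t * (a * w * a⁻¹) * t⁻¹ := by group
      _ = (t * s) * w * (t * s)⁻¹ := by rw [← hs1]; group
  have e2 : (b * a) * w * (b * a)⁻¹ = (t * s) * w * (t * s)⁻¹ := by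
    calc (b * a) * w * (b * a)⁻¹ = b * (a * w * a⁻¹) * b⁻¹ := by group
      _ = (b * s) * w * (b * s)⁻¹ := by rw [← hs1]; group
      _ = (s * b) * w * (s * b)⁻¹ := by rw [hHK s hs b hb]
      _ = s * (b * w * b⁻¹) * s⁻¹ := by group
      _ = (s * t) * w * (s * t)⁻¹ := by rw [← ht1]; group
      _ = (t * s) * w * (t * s)⁻¹ := by rw [hab s hs t ht]
  have hce : (b * a) * e = e * (b * a) := hK.cen _ (mul_mem hb ha)
  have e3 : e * ((b * a) * w * (b * a)⁻¹) * e⁻¹ = (b * a) * w * (b * a)⁻¹ := by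
    rw [h3] at e1
    calc e * ((b * a) * w * (b * a)⁻¹) * e⁻¹ = e * (b * a) * w * (e * (b * a))⁻¹ := by group
      _ = _ := by rw [e1, e2]
  have e4 : e * w * e⁻¹ = w := by
    calc e * w * e⁻¹ = (b * a)⁻¹ * ((b * a) * e) * w * (((b * a) * e))⁻¹ * (b * a) := by group
      _ = (b * a)⁻¹ * (e * ((b * a) * w * (b * a)⁻¹) * e⁻¹) * (b * a) := by rw [hce]; group
      _ = w := by rw [e3]; group
  calc e * w = (e * w * e⁻¹) * e := by group
    _ = w * e := by rw [e4]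

/-- **LEMMA LA, final form**: `K = Q8` preserves `β` on `M`, `|M| < |Z|⁴` or `|M| = |Z|⁴` and there is a line `W` with
`w⊥ ∩ {isotropic} = W` for `1 ≠ w ∈ W`: then `e` centralises `M`. -/
theorem triv [Finite Y] {M Z K H : Subgroup Y} {β : Y → Y → Y} {e : Y} (hK : QK K e) (f : Frm M Z β)
    (hKM : ∀ k ∈ K, ∀ u ∈ M, k * u * k⁻¹ ∈ M)
    (hinv : ∀ k ∈ K, ∀ u ∈ M, ∀ v ∈ M, β (k * u * k⁻¹) (k * v * k⁻¹) = β u v)
    (hsc : ∀ u ∈ M, β u u ≠ 1 → ∀ z ∈ Z, ∃ u' ∈ M, β u u' = z ∧ (∀ v ∈ M, β u v = 1 → β u' v = 1) ∧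
      (e * u * e⁻¹ = u⁻¹ → e * u' * e⁻¹ = u'⁻¹))
    (hab : ∀ h ∈ H, ∀ h' ∈ H, h * h' = h' * h) (hHK : ∀ h ∈ H, ∀ k ∈ K, h * k = k * h)
    (hcase : Nat.card M < Nat.card Z ^ 4 ∨ (Nat.card M = Nat.card Z ^ 4 ∧ ∃ W ≤ M, (∃ w ∈ W, w ≠ 1) ∧
      (∀ w ∈ W, β w w = 1) ∧ (∀ w ∈ W, w ≠ 1 → ∀ x ∈ M, β w x = 1 → β x x = 1 → x ∈ W) ∧
      ∀ x ∈ W, x ≠ 1 → ∀ x' ∈ W, x' ≠ 1 → ∃ t ∈ H, t * x * t⁻¹ = x')) : ∀ u ∈ M, e * u = u * e := by
  rcases main hK f hKM hinv hsc with h1 | ⟨h1, h2⟩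
  · exact h1
  rcases hcase with h3 | ⟨h3, W, hWM, ⟨w, hw, hw1⟩, hi, hwitt, tr⟩
  · omega
  exfalso
  have h4 := h2 h3
  have hwM := hWM hw
  have h5 : e * w = w * e := by
    refine line hK hab hHK tr hw fun k hk hkk => ?_
    refine hwitt w hw hw1 _ (hKM k hk w hwM) ?_ ?_
    · exact orth f hKM hinv (u := w) ⟨hwM, h4 w hwM⟩ hk hkk
    · rw [hinv k hk w hwM w hwM]
      exact hi w hw
  have h6 := h4 w hwM
  rw [h5] at h6
  have h7 : w = w⁻¹ := by
    rw [← h6]; group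
  exact hw1 (f.oddM w hwM (by nth_rw 1 [h7]; group))

end Cfsg.Agent.LOC.LA
end

-- part: Cit/Nil/LO/Beta
section
/-!
# Lie odd sections, the chart part: the form `β` on the weight groups with `I(y) = {r, s}` (all types)

`r, s ∈ F` orthogonal, `(y, r) > 0`, `(y, s) > 0`, `(y, t) = 0` for the other `t ∈ F`; `M = MM y`; `m ∈ ⟨Z s, Z (-s)⟩`
interchanges `Z s`, `Z (-s)`, `m ^ 2 = z s`;  `β u v = [u, m v m⁻¹] ∈ Z r`.

* `frm` : `Frm M (Z r) β` : bimultiplicative, symmetric, nondegenerate;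
* `conj_mem` : an element of `GG` normalising the `Z (± t)`, `t ∈ F`, normalises `M`;
* `inv_of_comm` : invariance.
-/

set_option autoImplicit false
set_option linter.unusedSectionVars false
set_option linter.dupNamespace false
set_option linter.unusedVariables false

namespace Cfsg.Agent.LOC.Beta

open CoxeterSystem Cfsg.Agent.ChevalleyStructure.CoxeterGeom Cfsg.Agent.Tits.Roots Cfsg.Agent.Tits.Core
  Cfsg.Agent.Tits.RootComb Cfsg.Agent.Nodes.Comb Cfsg.Agent.Nodes.SubComb Cfsg.Agent.Nodes.Reps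
  Cfsg.Agent.Nodes.Coroot Cfsg.Agent.Nodes.PosPair Cfsg.Agent.Nodes.BNOf Cfsg.Agent.Nodes.RGDLib
  Cfsg.Agent.Nodes.Chart Cfsg.Agent.Nodes.ClsNorm Cfsg.Agent.Nodes.ChartLoc Cfsg.Agent.Nodes.ChartFrame
  Cfsg.Agent.Nodes.Slope Cfsg.Agent.Nodes.Bruhat Cfsg.Agent.LOC.ChartDefs Cfsg.Agent.LOC.Wt Cfsg.Agent.LOC.LA
open scoped commutatorElement

variable {I W Y : Type*} [Fintype I] [DecidableEq I] [Group W] [Fintype W] [Group Y] {M : CoxeterMatrix I}
  {cs : CoxeterSystem M W} {A : I → I → ℤ} {h : IsCartan M A} {p : ℕ} {T : Subgroup Y} {n : I → Y}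
  {X : (I → ℤ) → Subgroup Y} {R : Set (I → ℤ)} {Z : (I → ℤ) → Subgroup Y} {z : (I → ℤ) → Y}

/-- the situation `I(y) = {r, s}` -/
structure Two (cs : CoxeterSystem M W) (h : IsCartan M A) (R F : Set (I → ℤ)) (r s y : I → ℤ) : Prop where
  sub : ∀ t ∈ F, t ∈ R
  neg : ∀ t ∈ F, -t ∈ F
  orth : ∀ t ∈ F, ∀ t' ∈ F, t' ≠ t → t' ≠ -t → form cs h t t' = 0
  hr : r ∈ F
  hs : s ∈ F
  hy : IsRoot cs h y
  yr : 0 < form cs h y r
  ys : 0 < form cs h y s
  rs : form cs h r s = 0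
  oth : ∀ t ∈ F, t ≠ r → t ≠ -r → t ≠ s → t ≠ -s → form cs h y t = 0

/-- `m ∈ ⟨Z s, Z (-s)⟩` interchanges the two groups, `m² = z s` -/
structure Sw (Z : (I → ℤ) → Subgroup Y) (z : (I → ℤ) → Y) (s : I → ℤ) (m : Y) : Prop where
  mem : m ∈ Z s ⊔ Z (-s)
  sw : cj m (Z s) = Z (-s)
  sw' : cj m (Z (-s)) = Z s
  sq : m * m = z s

variable {C : Cls cs h p T n X R Z z} {F : Set (I → ℤ)} {r s y : I → ℤ}

theorem Two.swap (t : Two cs h R F r s y) : Two cs h R F s r y :=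
  ⟨t.sub, t.neg, t.orth, t.hs, t.hr, t.hy, t.ys, t.yr, by rw [form_comm]; exact t.rs,
    fun u hu h1 h2 h3 h4 => t.oth u hu h3 h4 h1 h2⟩

section

variable (C) (t : Two cs h R F r s y)
include t

theorem Two.rR : r ∈ R := t.sub r t.hr
theorem Two.sR : s ∈ R := t.sub s t.hs

include C

/-- the elements of `⟨Z s, Z (-s)⟩` commute with `Z u`, `u ⟂ s` -/
theorem comm_J {u v : I → ℤ} (hu : u ∈ R) (hv : v ∈ R) (h0 : form cs h u v = 0) {g : Y} (hg : g ∈ Z v ⊔ Z (-v))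
    {a : Y} (ha : a ∈ Z u) : g * a = a * g := by
  have h1 : Z v ⊔ Z (-v) ≤ Subgroup.centralizer (Z u : Set Y) := by
    refine sup_le (fun b hb => ?_) (fun b hb => ?_)
    · rw [Subgroup.mem_centralizer_iff]
      intro c hc
      exact (C.cent u hu v (C.root v hv) (by rw [form_comm]; omega) b (C.le v hv hb) c hc).symm
    · rw [Subgroup.mem_centralizer_iff]
      intro c hc
      have hv' := _root_.Cfsg.Agent.Nodes.ClsNorm.neg_mem C hv
      exact (C.cent u hu (-v) (C.root _ hv') (by rw [form_neg_left, form_comm]; omega) b (C.le _ hv' hb) c hc).symm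
  exact (Subgroup.mem_centralizer_iff.1 (h1 hg) a ha).symm

/-- two groups `⟨Z u, Z (-u)⟩`, `⟨Z v, Z (-v)⟩`, `u ⟂ v`, commute -/
theorem comm_JJ {u v : I → ℤ} (hu : u ∈ R) (hv : v ∈ R) (h0 : form cs h u v = 0) {g : Y} (hg : g ∈ Z v ⊔ Z (-v))
    {a : Y} (ha : a ∈ Z u ⊔ Z (-u)) : g * a = a * g := by
  have h1 : Z u ⊔ Z (-u) ≤ Subgroup.centralizer {g} := by
    refine sup_le (fun b hb => ?_) (fun b hb => ?_)
    · rw [Subgroup.mem_centralizer_singleton_iff]
      exact (comm_J C t hu hv h0 hg hb).symm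
    · rw [Subgroup.mem_centralizer_singleton_iff]
      exact (comm_J C t (_root_.Cfsg.Agent.Nodes.ClsNorm.neg_mem C hu) hv (by rw [form_neg_left]; omega) hg hb).symm
  have h2 := h1 ha
  rw [Subgroup.mem_centralizer_singleton_iff] at h2
  exact h2.symm

/-- `⟨Z s, Z (-s)⟩` normalises `VV u`, `u ⟂ s` -/
theorem J_le_normalizer {u v : I → ℤ} (hv : v ∈ R) (h0 : form cs h u v = 0) :
    Z v ⊔ Z (-v) ≤ Subgroup.normalizer (VV cs h X u : Set Y) := by
  refine sup_le ((C.le v hv).trans ?_) ((C.le _ (_root_.Cfsg.Agent.Nodes.ClsNorm.neg_mem C hv)).trans ?_)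
  · exact Nodes.CenVV.X_le_normalizer_VV C (C.root v hv) (by rw [form_comm]; exact h0)
  · exact Nodes.CenVV.X_le_normalizer_VV C (C.root _ (_root_.Cfsg.Agent.Nodes.ClsNorm.neg_mem C hv)) (by rw [form_neg_left, form_comm, h0, neg_zero])

theorem cj_VV_of_J {u v : I → ℤ} (hv : v ∈ R) (h0 : form cs h u v = 0) {g : Y} (hg : g ∈ Z v ⊔ Z (-v)) :
    cj g (VV cs h X u) = VV cs h X u :=
  mem_normalizer_iff_cj.1 (J_le_normalizer C t hv h0 hg)

/-- an element of `GG` which maps `Z s` to `Z (-s)` maps `VV s` to `VV (-s)` -/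
theorem cj_VV_neg {v : I → ℤ} (hv : v ∈ R) {g : Y} (hg : g ∈ GG cs h T X) (h1 : cj g (Z v) = Z (-v)) :
    cj g (VV cs h X v) = VV cs h X (-v) := by
  obtain ⟨w, i, rfl⟩ := C.root v hv
  obtain ⟨k, hk⟩ := exists_rp cs C.rgd.nsys (w * cs.simple i * w⁻¹)
  have h2 : rep cs h (w * cs.simple i * w⁻¹) (rep cs h w (sr i)) = -rep cs h w (sr i) := by
    rw [rep_mul_apply, rep_mul_apply, rep_inv_apply, rep_simple_sr, map_neg]
  have h3 := conj_Z C hk hv
  have h4 := cj_VV C hk (rep cs h w (sr i))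
  rw [h2] at h3 h4
  have hkG : k ∈ GG cs h T X := NN_le_GG C.rgd ⟨_, hk⟩
  have h5 : k⁻¹ * g ∈ Subgroup.normalizer (Z (rep cs h w (sr i)) : Set Y) := by
    rw [mem_normalizer_iff_cj, cj_mul, h1, ← h3, cj_inv_cj]
  have h6 := Nodes.MuSq.mem_normalizer_VV C hv (mul_mem (inv_mem hkG) hg) h5
  rw [mem_normalizer_iff_cj, cj_mul] at h6
  rw [← h4]
  have h7 := congrArg (cj k) h6
  rwa [cj_cj_inv] at h7

variable [Finite Y]

/-- `M = MM y` by its elements -/
theorem mem_M {u : Y} : u ∈ MM cs h X F y ↔ u ∈ VV cs h X r ∧ u ∈ VV cs h X s ∧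
    ∀ v ∈ F, 0 ≤ form cs h y v → ∀ a ∈ Z v, u * a = a * u := by
  rw [mem_MM_iff C t.sub t.hr t.yr]
  constructor
  · rintro ⟨h1, h2⟩
    exact ⟨h1 r t.hr t.yr, h1 s t.hs t.ys, h2⟩
  · rintro ⟨h1, h2, h3⟩
    refine ⟨fun v hv h0 => ?_, h3⟩
    by_cases e1 : v = r
    · rw [e1]; exact h1
    by_cases e2 : v = s
    · rw [e2]; exact h2
    exfalso
    by_cases e3 : v = -r
    · have := t.yr
      rw [e3, form_neg_right] at h0
      omega
    by_cases e4 : v = -s
    · have := t.ys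
      rw [e4, form_neg_right] at h0
      omega
    have := t.oth v hv e1 e3 e2 e4
    omega

theorem M_le_VV : MM cs h X F y ≤ VV cs h X r := fun _ hu => ((mem_M C t).1 hu).1

theorem M_le_VV' : MM cs h X F y ≤ VV cs h X s := fun _ hu => ((mem_M C t).1 hu).2.1

/-- `Z r ⊓ Z s = 1` -/
theorem eq_one_of_ZZ {a : Y} (h1 : a ∈ Z r) (h2 : a ∈ VV cs h X s) : a = 1 := by
  refine Nodes.CenVV.eq_one_of_normalizes C t.sR h2 ?_
  refine Nodes.ClsNorm.centralizer_le_normalizer' (Z (-s)) ?_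
  rw [Subgroup.mem_centralizer_iff]
  intro b hb
  have h3 : form cs h (-s) r = 0 := by
    rw [form_neg_left, form_comm, t.rs, neg_zero]
  exact comm_J C t t.rR (_root_.Cfsg.Agent.Nodes.ClsNorm.neg_mem C t.sR) (by rw [form_comm]; exact h3)
    (Subgroup.mem_sup_left hb) h1

variable [Fact p.Prime] (hp2 : p ≠ 2)
include hp2

theorem comm_M {u v : Y} (hu : u ∈ MM cs h X F y) (hv : v ∈ MM cs h X F y) : u * v = v * u := by
  have h1 : ⁅u, v⁆ ∈ Z r := commutator_VV_le C hp2 t.rR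
    (Subgroup.commutator_mem_commutator (M_le_VV C t hu) (M_le_VV C t hv))
  have h2 : ⁅u, v⁆ ∈ Z s := commutator_VV_le C hp2 t.sR
    (Subgroup.commutator_mem_commutator (M_le_VV' C t hu) (M_le_VV' C t hv))
  exact commutatorElement_eq_one_iff_mul_comm.1 (eq_one_of_ZZ C t h1 (Z_le_VV C t.sR h2))

omit t in
theorem eq_one_of_sq_VV {v : I → ℤ} {u : Y} (hu : u ∈ VV cs h X v) (h2 : u * u = 1) : u = 1 := by
  have h3 := odd_card_VV C hp2 v
  have h4 : orderOf (⟨u, hu⟩ : VV cs h X v) ∣ 2 := orderOf_dvd_of_pow_eq_one (by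
    apply Subtype.ext
    rw [pow_two]
    exact h2)
  have h5 : orderOf (⟨u, hu⟩ : VV cs h X v) ∣ Nat.card (VV cs h X v) := orderOf_dvd_natCard _
  have h6 : orderOf (⟨u, hu⟩ : VV cs h X v) = 1 := by
    have h7 := Nat.dvd_gcd h4 h5
    rwa [Nat.Coprime.gcd_eq_one (Nat.coprime_two_left.2 h3), Nat.dvd_one] at h7
  have h8 := orderOf_eq_one_iff.1 h6
  exact congrArg Subtype.val h8

/-- `β u v ∈ Z r` -/
theorem beta_mem {m : Y} (hm : Sw Z z s m) {u v : Y} (hu : u ∈ MM cs h X F y) (hv : v ∈ MM cs h X F y) :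
    ⁅u, m * v * m⁻¹⁆ ∈ Z r := by
  refine commutator_VV_le C hp2 t.rR (Subgroup.commutator_mem_commutator (M_le_VV C t hu) ?_)
  have h1 := cj_VV_of_J C t t.sR t.rs hm.mem
  rw [← h1]
  exact conj_mem_cj.2 (M_le_VV C t hv)

omit [Finite Y] [Fact p.Prime] hp2 in
theorem conj_VV {m : Y} (hm : Sw Z z s m) {v : Y} (hv : v ∈ VV cs h X r) : m * v * m⁻¹ ∈ VV cs h X r := by
  have h1 := cj_VV_of_J C t t.sR t.rs hm.mem
  rw [← h1]
  exact conj_mem_cj.2 hv

omit [Fact p.Prime] hp2 in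
/-- `z s` inverts `M` -/
theorem z_inv_M (hcomm : ∀ u ∈ MM cs h X F y, ∀ v ∈ MM cs h X F y, u * v = v * u) {u : Y}
    (hu : u ∈ MM cs h X F y) : z s * u * z s = u⁻¹ := by
  have hz := C.z_sq s t.sR
  have h1 : MM cs h X F y ≤ Me (MM cs h X F y) (z s) hcomm := by
    refine RGD.Sup_le fun x hx a ha => ⟨X_le_MM hx ha, ?_⟩
    have hxs : 0 < form cs h x s := (hx.2 s t.hs).1 t.ys
    have hxr : 0 < form cs h x r := (hx.2 r t.hr).1 t.yr
    have e1 : x ≠ s := by
      rintro rfl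
      have := t.rs
      rw [form_comm] at this
      omega
    have e2 : x ≠ -s := by
      rintro rfl
      have := t.rs
      rw [form_neg_left, form_comm] at hxr
      omega
    have h2 := C.z_inv s t.sR x hx.1 e1 e2 hxs.ne' a ha
    rw [inv_eq_of_mul_eq_one_right hz]
    exact h2
  have h2 := (h1 hu).2
  rwa [inv_eq_of_mul_eq_one_right hz] at h2

/-- symmetry -/
theorem beta_symm {m : Y} (hm : Sw Z z s m) {u v : Y} (hu : u ∈ MM cs h X F y) (hv : v ∈ MM cs h X F y) :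
    ⁅u, m * v * m⁻¹⁆ = ⁅v, m * u * m⁻¹⁆ := by
  have h1 := beta_mem C t hp2 hm hu hv
  have h2 := comm_J C t t.rR t.sR t.rs hm.mem h1
  have h3 : m * ⁅u, m * v * m⁻¹⁆ * m⁻¹ = ⁅u, m * v * m⁻¹⁆ := by rw [h2]; group
  have hz := C.z_sq s t.sR
  have hzi : (z s)⁻¹ = z s := inv_eq_of_mul_eq_one_right hz
  have h4 : m * (m * v * m⁻¹) * m⁻¹ = v⁻¹ := by
    have e1 : m * (m * v * m⁻¹) * m⁻¹ = (m * m) * v * (m * m)⁻¹ := by group
    rw [e1, hm.sq, hzi]
    exact z_inv_M C t (fun a ha b hb => comm_M C t hp2 ha hb) hv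
  have h5 : m * ⁅u, m * v * m⁻¹⁆ * m⁻¹ = ⁅m * u * m⁻¹, v⁻¹⁆ := by
    have e1 : m * ⁅u, m * v * m⁻¹⁆ * m⁻¹ = ⁅m * u * m⁻¹, m * (m * v * m⁻¹) * m⁻¹⁆ := by
      rw [commutatorElement_def, commutatorElement_def]; group
    rw [e1, h4]
  -- `⁅m u m⁻¹, v⁻¹⁆ = ⁅m u m⁻¹, v⁆⁻¹`
  have hmu := conj_VV C t hm (M_le_VV C t hu)
  have h6 : ⁅m * u * m⁻¹, v⁆ ∈ Z r := commutator_VV_le C hp2 t.rR
    (Subgroup.commutator_mem_commutator hmu (M_le_VV C t hv))
  have h7 := VV_comm C t.rR h6 (M_le_VV C t hv)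
  have h8 : ⁅m * u * m⁻¹, v⁻¹⁆ = ⁅m * u * m⁻¹, v⁆⁻¹ := by
    have e1 : ⁅m * u * m⁻¹, v⁻¹⁆ = v⁻¹ * ⁅m * u * m⁻¹, v⁆⁻¹ * v := by
      rw [commutatorElement_def, commutatorElement_def]; group
    rw [e1]
    have e2 : ⁅m * u * m⁻¹, v⁆⁻¹ * v = v * ⁅m * u * m⁻¹, v⁆⁻¹ := by
      rw [inv_mul_eq_iff_eq_mul, ← mul_assoc, h7, mul_assoc, mul_inv_cancel, mul_one]
    rw [mul_assoc, e2, ← mul_assoc, inv_mul_cancel, one_mul]
  rw [← h3, h5, h8, commutatorElement_inv]

omit t in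
/-- two root groups of `VV r` commute if `r` is not between the roots -/
theorem comm_of_not' {r x y : I → ℤ} (hr : r ∈ R) (hx : IsRoot cs h x) (hx0 : 0 < form cs h x r)
    (hy : IsRoot cs h y) (hy0 : 0 < form cs h y r) (hxy : x ≠ y) (hb : ¬ Btwn cs h x y r) {a b : Y}
    (ha : a ∈ X x) (hb' : b ∈ X y) : a * b = b * a := by
  obtain ⟨w, hw⟩ := exists_dominant (cs := cs) (h := h) r
  obtain ⟨k, hk⟩ := exists_rp cs C.rgd.nsys w
  have h1 := Nodes.CenVV.comm_of_not C hp2 (C.act r hr w) hw (hx.act w) (by rw [form_rep]; exact hx0) (hy.act w)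
    (by rw [form_rep]; exact hy0) (fun e => hxy (by
      have := congrArg (rep cs h w⁻¹) e
      rwa [rep_inv_apply, rep_inv_apply] at this)) (fun hB => hb ((btwn_act_iff w).1 hB))
    (C.rgd.conj_mem hk hx ha) (C.rgd.conj_mem hk hy hb')
  have h2 : k * (a * b) * k⁻¹ = k * (b * a) * k⁻¹ := by
    have e1 : k * (a * b) * k⁻¹ = k * a * k⁻¹ * (k * b * k⁻¹) := by group
    have e2 : k * (b * a) * k⁻¹ = k * b * k⁻¹ * (k * a * k⁻¹) := by group
    rw [e1, e2, h1]
  exact mul_left_cancel (mul_right_cancel h2)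

/-- multiplicativity on the left -/
theorem beta_mul_left {m : Y} (hm : Sw Z z s m) {u u' v : Y} (hu : u ∈ MM cs h X F y) (hu' : u' ∈ MM cs h X F y)
    (hv : v ∈ MM cs h X F y) : ⁅u * u', m * v * m⁻¹⁆ = ⁅u, m * v * m⁻¹⁆ * ⁅u', m * v * m⁻¹⁆ := by
  have h1 := beta_mem C t hp2 hm hu hv
  have h2 := beta_mem C t hp2 hm hu' hv
  have h3 := VV_comm C t.rR h2 (M_le_VV C t hu)
  have h4 : ⁅u * u', m * v * m⁻¹⁆ = u * ⁅u', m * v * m⁻¹⁆ * u⁻¹ * ⁅u, m * v * m⁻¹⁆ := by
    rw [commutatorElement_def, commutatorElement_def, commutatorElement_def]; group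
  have h5 : ⁅u', m * v * m⁻¹⁆ * ⁅u, m * v * m⁻¹⁆ = ⁅u, m * v * m⁻¹⁆ * ⁅u', m * v * m⁻¹⁆ :=
    VV_comm C t.rR h2 (Z_le_VV C t.rR h1)
  rw [h4, ← h3, mul_assoc _ u, mul_inv_cancel, mul_one, h5]

/-- multiplicativity on the right -/
theorem beta_mul_right {m : Y} (hm : Sw Z z s m) {u v v' : Y} (hu : u ∈ MM cs h X F y) (hv : v ∈ MM cs h X F y)
    (hv' : v' ∈ MM cs h X F y) : ⁅u, m * (v * v') * m⁻¹⁆ = ⁅u, m * v * m⁻¹⁆ * ⁅u, m * v' * m⁻¹⁆ := by
  have h2 := beta_mem C t hp2 hm hu hv'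
  have h3 := VV_comm C t.rR h2 (conj_VV C t hm (M_le_VV C t hv))
  have h4 : ⁅u, m * (v * v') * m⁻¹⁆ =
      ⁅u, m * v * m⁻¹⁆ * ((m * v * m⁻¹) * ⁅u, m * v' * m⁻¹⁆ * (m * v * m⁻¹)⁻¹) := by
    rw [commutatorElement_def, commutatorElement_def, commutatorElement_def]; group
  rw [h4, ← h3, mul_assoc _ (m * v * m⁻¹), mul_inv_cancel, mul_one]

/-- nondegeneracy -/
theorem beta_nd (L : Nodes.CenVV.Lg cs h r) {m : Y} (hm : Sw Z z s m) {u : Y} (hu : u ∈ MM cs h X F y)
    (hn : ∀ v ∈ MM cs h X F y, ⁅u, m * v * m⁻¹⁆ = 1) : u = 1 := by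
  have hmG : m ∈ GG cs h T X := sup_le_GG C t.sR hm.mem
  -- `u` commutes with `VV r`
  have h1 : VV cs h X r ≤ Subgroup.centralizer {u} := by
    refine RGD.Sup_le fun x hx b hb => ?_
    rw [Subgroup.mem_centralizer_singleton_iff]
    by_cases hcase : ∃ x' ∈ Lam cs h F y, Btwn cs h x' x r
    · obtain ⟨x', hx', hB⟩ := hcase
      have hxs' : 0 < form cs h x' s := (hx'.2 s t.hs).1 t.ys
      have hxr' : 0 < form cs h x' r := (hx'.2 r t.hr).1 t.yr
      have hsr : form cs h s r = 0 := by rw [form_comm]; exact t.rs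
      have e1 : x' ≠ r := by
        rintro rfl
        rw [t.rs] at hxs'
        exact lt_irrefl _ hxs'
      have e2 : x ≠ r := by
        rintro rfl
        obtain ⟨-, k, i, j, hk, hi, hj, e⟩ := hB
        have h3 := congrArg (fun v => form cs h v s) e
        simp only [form_add_left, form_smul_left, t.rs, mul_zero, add_zero] at h3
        have := mul_pos hi hxs'
        omega
      have h3 := L.opp hx'.1 hxr' e1 hx.1 hx.2 e2 hB
      have hxs : form cs h x s = -form cs h x' s := by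
        have := congrArg (fun v => form cs h v s) h3
        simp only [form_add_left, t.rs] at this
        omega
      -- `b ∈ m M m⁻¹`
      have h4 : m⁻¹ * b * m ∈ MM cs h X F y := by
        have hbr : b ∈ VV cs h X r := RGD.le_Sup (S := {y | IsRoot cs h y ∧ 0 < form cs h y r}) ⟨hx.1, hx.2⟩ hb
        have hbs : b ∈ VV cs h X (-s) := RGD.le_Sup (S := {y | IsRoot cs h y ∧ 0 < form cs h y (-s)})
          ⟨hx.1, by rw [form_neg_right]; omega⟩ hb
        rw [mem_M C t]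
        refine ⟨?_, ?_, fun v hv h0 a ha => ?_⟩
        · have h5 := cj_VV_of_J C t t.sR t.rs hm.mem
          rw [← h5, mem_cj] at hbr
          exact hbr
        · have h5 := cj_VV_neg C t t.sR hmG hm.sw
          rw [← h5, mem_cj] at hbs
          exact hbs
        · -- commute with `Z v`
          have key : b * (m * a * m⁻¹) = m * a * m⁻¹ * b := by
            by_cases e3 : v = r
            · subst e3
              have h5 := comm_J C t t.rR t.sR t.rs hm.mem ha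
              rw [h5, mul_inv_cancel_right]
              exact (VV_comm C t.rR ha hbr).symm
            by_cases e4 : v = s
            · subst e4
              have h5 : m * a * m⁻¹ ∈ Z (-v) := by
                rw [← hm.sw]; exact conj_mem_cj.2 ha
              exact (VV_comm C (_root_.Cfsg.Agent.Nodes.ClsNorm.neg_mem C t.sR) h5 hbs).symm
            by_cases e5 : v = -r
            · have := t.yr
              rw [e5, form_neg_right] at h0
              omega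
            by_cases e6 : v = -s
            · have := t.ys
              rw [e6, form_neg_right] at h0
              omega
            have h6 := t.oth v hv e3 e5 e4 e6
            have h7 : form cs h x' v = 0 := by
              have h8 := (hx'.2 v hv).2 h0
              have h9 := (hx'.2 (-v) (t.neg v hv)).2 (by rw [form_neg_right]; omega)
              rw [form_neg_right] at h9
              omega
            have h8 : form cs h r v = 0 := t.orth r t.hr v hv e3 e5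
            have h9 : form cs h x v = 0 := by
              have := congrArg (fun u => form cs h u v) h3
              simp only [form_add_left, h8, h7] at this
              omega
            have h10 : form cs h s v = 0 := t.orth s t.hs v hv e4 e6
            have h11 := comm_J C t (t.sub v hv) t.sR (by rw [form_comm]; exact h10) hm.mem ha
            rw [h11, mul_inv_cancel_right]
            exact C.cent v (t.sub v hv) x hx.1 (by omega) b hb a ha
          calc m⁻¹ * b * m * a = m⁻¹ * (b * (m * a * m⁻¹)) * m := by group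
            _ = m⁻¹ * (m * a * m⁻¹ * b) * m := by rw [key]
            _ = a * (m⁻¹ * b * m) := by group
      have h5 := hn _ h4
      have h6 : m * (m⁻¹ * b * m) * m⁻¹ = b := by group
      rw [h6] at h5
      exact (commutatorElement_eq_one_iff_mul_comm.1 h5).symm
    · push Not at hcase
      have h3 : MM cs h X F y ≤ Subgroup.centralizer {b} := by
        refine RGD.Sup_le fun x' hx' a ha => ?_
        rw [Subgroup.mem_centralizer_singleton_iff]
        have hxr' : 0 < form cs h x' r := (hx'.2 r t.hr).1 t.yr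
        by_cases e1 : x' = x
        · subst e1
          have e2 : x' ≠ r := by
            rintro rfl
            have := (hx'.2 s t.hs).1 t.ys
            rw [t.rs] at this
            exact lt_irrefl _ this
          have e3 : x' ≠ -r := by
            rintro rfl
            rw [form_neg_left] at hxr'
            have := form_pos cs h (C.root r t.rR).ne_zero
            omega
          exact Nodes.CenVV.X_comm C t.rR hx'.1 e2 e3 hxr'.ne' ha hb
        · exact comm_of_not' C hp2 t.rR hx'.1 hxr' hx.1 hx.2 e1 (hcase x' hx') ha hb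
      have h4 := h3 hu
      rw [Subgroup.mem_centralizer_singleton_iff] at h4
      exact h4.symm
  have h2 : u ∈ X r := by
    refine Nodes.CenVV.mem_X C hp2 L t.rR (M_le_VV C t hu) fun v hv => ?_
    have h3 := h1 hv
    rw [Subgroup.mem_centralizer_singleton_iff] at h3
    exact h3.symm
  refine Nodes.CenVV.eq_one_of_normalizes C t.sR (M_le_VV' C t hu) ?_
  refine Nodes.ClsNorm.centralizer_le_normalizer' (Z (-s)) ?_
  rw [Subgroup.mem_centralizer_iff]
  intro b hb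
  exact (C.cent (-s) (_root_.Cfsg.Agent.Nodes.ClsNorm.neg_mem C t.sR) r (C.root r t.rR) (by rw [form_neg_right, t.rs]; simp) u h2 b hb).symm

/-- **the form** -/
theorem frm (L : Nodes.CenVV.Lg cs h r) {m : Y} (hm : Sw Z z s m) :
    Frm (MM cs h X F y) (Z r) (fun u v => ⁅u, m * v * m⁻¹⁆) where
  commM u hu v hv := comm_M C t hp2 hu hv
  commZ u hu v hv := VV_comm C t.rR hu (Z_le_VV C t.rR hv)
  oddM u hu h2 := eq_one_of_sq_VV C hp2 (M_le_VV C t hu) h2
  oddZ u hu h2 := eq_one_of_sq_VV C hp2 (Z_le_VV C t.rR hu) h2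
  mem u hu v hv := beta_mem C t hp2 hm hu hv
  mul_left u hu u' hu' v hv := beta_mul_left C t hp2 hm hu hu' hv
  mul_right u hu v hv v' hv' := beta_mul_right C t hp2 hm hu hv hv'
  symm u hu v hv := beta_symm C t hp2 hm hu hv
  nd u hu hn := beta_nd C t hp2 L hm hu hn

end

/-! ### Equivariance -/

section Equi

/-- an element commuting with `m` acts diagonally -/
theorem beta_conj {g m u v : Y} (hg : g * m = m * g) :
    ⁅g * u * g⁻¹, m * (g * v * g⁻¹) * m⁻¹⁆ = g * ⁅u, m * v * m⁻¹⁆ * g⁻¹ := by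
  have h1 : m * (g * v * g⁻¹) * m⁻¹ = g * (m * v * m⁻¹) * g⁻¹ := by
    calc m * (g * v * g⁻¹) * m⁻¹ = (m * g) * v * (m * g)⁻¹ := by group
      _ = (g * m) * v * (g * m)⁻¹ := by rw [hg]
      _ = _ := by group
  rw [h1, commutatorElement_def, commutatorElement_def]
  group

/-- an element inverted by `m` is self-adjoint, if it centralises the values -/
theorem beta_adj {g m u v : Y} (hg : m * g = g⁻¹ * m) (hc : g * ⁅u, m * (g * v * g⁻¹) * m⁻¹⁆ =
    ⁅u, m * (g * v * g⁻¹) * m⁻¹⁆ * g) : ⁅g * u * g⁻¹, m * v * m⁻¹⁆ = ⁅u, m * (g * v * g⁻¹) * m⁻¹⁆ := by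
  have h1 : m * (g * v * g⁻¹) * m⁻¹ = g⁻¹ * (m * v * m⁻¹) * g := by
    calc m * (g * v * g⁻¹) * m⁻¹ = (m * g) * v * (m * g)⁻¹ := by group
      _ = (g⁻¹ * m) * v * (g⁻¹ * m)⁻¹ := by rw [hg]
      _ = _ := by group
  have h2 : ⁅g * u * g⁻¹, m * v * m⁻¹⁆ = g * ⁅u, m * (g * v * g⁻¹) * m⁻¹⁆ * g⁻¹ := by
    rw [h1, commutatorElement_def, commutatorElement_def]
    group
  rw [h2, hc, mul_inv_cancel_right]

/-- elements normalising the `Z v`, `v ∈ F`, and the `VV r`, `VV s` normalise `M` -/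
theorem conj_mem [Finite Y] (C : Cls cs h p T n X R Z z) (t : Two cs h R F r s y) {g : Y}
    (hg : ∀ v ∈ F, cj g (Z v) = Z v) (hr : cj g (VV cs h X r) = VV cs h X r)
    (hs : cj g (VV cs h X s) = VV cs h X s) {u : Y} (hu : u ∈ MM cs h X F y) :
    g * u * g⁻¹ ∈ MM cs h X F y := by
  rw [mem_M C t] at hu ⊢
  obtain ⟨h1, h2, h3⟩ := hu
  refine ⟨?_, ?_, fun v hv h0 a ha => ?_⟩
  · rw [← hr]; exact conj_mem_cj.2 h1
  · rw [← hs]; exact conj_mem_cj.2 h2
  · have h4 : g⁻¹ * a * g ∈ Z v := by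
      rw [← hg v hv, mem_cj] at ha
      exact ha
    have h5 := h3 v hv h0 _ h4
    calc g * u * g⁻¹ * a = g * (u * (g⁻¹ * a * g)) * g⁻¹ := by group
      _ = g * (g⁻¹ * a * g * u) * g⁻¹ := by rw [h5]
      _ = a * (g * u * g⁻¹) := by group

end Equi

end Cfsg.Agent.LOC.Beta
end

-- part: Cit/Nil/LO/Tor
section
/-!
# Lie odd sections, the chart part: the torus of `⟨Z r, Z (-r)⟩` on the root groups `X y`, `(y, r) > 0`

* `tor_trans` : `|X y| = |Z r|` : the group `T ⊓ ⟨Z r, Z (-r)⟩` is transitive on `X y - 1`.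
-/

set_option autoImplicit false
set_option linter.unusedSectionVars false
set_option linter.dupNamespace false

namespace Cfsg.Agent.LOC.Tor

open CoxeterSystem Cfsg.Agent.ChevalleyStructure.CoxeterGeom Cfsg.Agent.Tits.Roots Cfsg.Agent.Tits.Core
  Cfsg.Agent.Tits.RootComb Cfsg.Agent.Nodes.Comb Cfsg.Agent.Nodes.SubComb Cfsg.Agent.Nodes.Reps
  Cfsg.Agent.Nodes.Coroot Cfsg.Agent.Nodes.PosPair Cfsg.Agent.Nodes.BNOf Cfsg.Agent.Nodes.RGDLib
  Cfsg.Agent.Nodes.Chart Cfsg.Agent.Nodes.ClsNorm Cfsg.Agent.Nodes.ChartLoc Cfsg.Agent.Nodes.ChartFrame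
  Cfsg.Agent.Nodes.Slope Cfsg.Agent.Nodes.Bruhat Cfsg.Agent.LOC.ChartDefs
open scoped commutatorElement

variable {I W Y : Type*} [Fintype I] [DecidableEq I] [Group W] [Fintype W] [Group Y] {M : CoxeterMatrix I}
  {cs : CoxeterSystem M W} {A : I → I → ℤ} {h : IsCartan M A} {p : ℕ} {T : Subgroup Y} {n : I → Y}
  {X : (I → ℤ) → Subgroup Y} {R : Set (I → ℤ)} {Z : (I → ℤ) → Subgroup Y} {z : (I → ℤ) → Y}

/-- the hypotheses: `2 (y, r) = (r, r)`, no root of positive level between `-r` and `y`, none of negative level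
between `r` and `y - r` (i.e. no `G₂`), `X (± r) = Z (± r)`. -/
structure TH (C : Cls cs h p T n X R Z z) (r y : I → ℤ) : Prop where
  hr : r ∈ R
  hy : IsRoot cs h y
  one : 2 * form cs h y r = form cs h r r
  len : form cs h r r < 4 * form cs h y y
  btw : ∀ w, Btwn cs h (-r) y w → form cs h w r ≤ 0
  btw' : ∀ w, Btwn cs h r (y - r) w → 0 ≤ form cs h w r
  XZ : X r = Z r
  XZ' : X (-r) = Z (-r)

variable {C : Cls cs h p T n X R Z z} {r y : I → ℤ}

/-- a `μ`-element of `b ∈ Z (-r)` -/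
structure MuB (C : Cls cs h p T n X R Z z) (r : I → ℤ) (b : Y) (a a' : Y) (w : W) : Prop where
  ha : a ∈ Z r
  ha' : a' ∈ Z r
  rp : Rp cs C.rgd.nsys w (a * b * a')
  rep : ∀ x, rep cs h w x = x - cpr cs h x r • r

theorem TH.exists_mu (H : TH C r y) {b : Y} (hb : b ∈ Z (-r)) (h1 : b ≠ 1) : ∃ a a' w, MuB C r b a a' w := by
  have hr' := C.root r H.hr
  obtain ⟨a, ha, a', ha', w, hw, -, e⟩ := Nodes.MuSq.exists_mu' C.rgd hr'.neg (by rw [H.XZ']; exact hb) h1
  rw [neg_neg, H.XZ] at ha ha'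
  refine ⟨a, a', w, ha, ha', hw, fun x => ?_⟩
  rw [e, cpr_neg_right cs h x hr', neg_smul, smul_neg, neg_neg]

theorem TH.cpr (H : TH C r y) : cpr cs h y r = 1 :=
  cpr_eq_of_form cs h (C.root r H.hr) (by rw [H.one, one_mul])

theorem TH.pos (H : TH C r y) : 0 < form cs h r r := form_pos cs h (C.root r H.hr).ne_zero

theorem TH.sub_root (H : TH C r y) : IsRoot cs h (y - r) := by
  have := isRoot_refl cs h H.hy (C.root r H.hr)
  rwa [H.cpr, one_smul] at this

theorem TH.ne (H : TH C r y) : y ≠ r := by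
  rintro rfl
  have h1 := H.pos
  have h2 := H.one
  linarith

theorem TH.ne' (H : TH C r y) : y ≠ -r := by
  rintro rfl
  have h1 := H.pos
  have h2 := H.one
  rw [form_neg_left] at h2
  linarith

theorem TH.cx (H : TH C r y) {a x : Y} (ha : a ∈ Z r) (hx : x ∈ X y) : a * x = x * a := by
  have h1 := H.pos
  have h2 := H.one
  exact (C.cent r H.hr y H.hy (by linarith) x hx a ha).symm

theorem TH.conj_mem (H : TH C r y) {b a a' : Y} {w : W} (m : MuB C r b a a' w) {x : Y} (hx : x ∈ X y) :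
    a * b * a' * x * (a * b * a')⁻¹ ∈ X (y - r) := by
  have h1 := C.rgd.conj_mem m.rp H.hy hx
  rwa [m.rep, H.cpr, one_smul] at h1

/-- `a b x b⁻¹ a⁻¹` -/
theorem TH.conj_eq (H : TH C r y) {b a a' : Y} {w : W} (m : MuB C r b a a' w) {x : Y} (hx : x ∈ X y) :
    a * b * a' * x * (a * b * a')⁻¹ = a * (b * x * b⁻¹) * a⁻¹ := by
  have h1 := H.cx m.ha' hx
  calc a * b * a' * x * (a * b * a')⁻¹ = a * b * (a' * x) * (a'⁻¹ * b⁻¹ * a⁻¹) := by group
    _ = a * b * (x * a') * (a'⁻¹ * b⁻¹ * a⁻¹) := by rw [h1]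
    _ = a * (b * x * b⁻¹) * a⁻¹ := by group

/-- `Q` : the group of level `≤ 0` between `-r` and `y` -/
theorem TH.comm_left (H : TH C r y) {b b' x : Y} (hb : b ∈ Z (-r)) (hb' : b' ∈ Z (-r)) (hx : x ∈ X y) :
    b' * ⁅b, x⁆ = ⁅b, x⁆ * b' := by
  have hr' := C.root r H.hr
  have h1 : ⁅b, x⁆ ∈ Subgroup.centralizer (Z (-r) : Set Y) := by
    refine Nodes.CenVV.comm_mem_of_btwn C.rgd hr'.neg H.hy (fun e => H.ne' e.symm)
      (fun e => H.ne (neg_injective e.symm)) (fun w hw c hc => ?_) (by rw [H.XZ']; exact hb) hx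
    rw [Subgroup.mem_centralizer_iff]
    intro d hd
    refine (C.cent (-r) (_root_.Cfsg.Agent.Nodes.ClsNorm.neg_mem C H.hr) w hw.1 ?_ c hc d hd).symm
    rw [form_neg_right]
    have := H.btw w hw
    omega
  exact Subgroup.mem_centralizer_iff.1 h1 b' hb'

/-- the commutators `[a, v]`, `v ∈ X (y - r)` -/
theorem TH.comm_right (H : TH C r y) {a v : Y} (ha : a ∈ Z r) (hv : v ∈ X (y - r)) :
    ⁅a, v⁆ ∈ RGD.Sup X {w | IsRoot cs h w ∧ 0 ≤ form cs h w r ∧ 0 < form cs h w ((2 : ℤ) • y - r)} := by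
  have hr' := C.root r H.hr
  have e1 : form cs h r ((2 : ℤ) • y - r) = 0 := by
    rw [form_comm, form_sub_left, form_smul_left]
    have := H.one
    omega
  have e2 : 0 < form cs h (y - r) ((2 : ℤ) • y - r) := by
    rw [form_sub_left, e1, form_comm, form_sub_left, form_smul_left, form_comm cs h r y]
    have := H.one
    have := H.len
    omega
  refine Nodes.CenVV.comm_mem_of_btwn C.rgd hr' H.sub_root ?_ ?_ (fun w hw => RGD.le_Sup
    (S := {w | IsRoot cs h w ∧ 0 ≤ form cs h w r ∧ 0 < form cs h w ((2 : ℤ) • y - r)})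
    ⟨hw.1, H.btw' w hw, ?_⟩) (C.le r H.hr ha) hv
  · intro e
    have h1 := congrArg (fun t => form cs h t ((2 : ℤ) • y - r)) e
    simp only [e1] at h1
    omega
  · intro e
    have h1 := congrArg (fun t => form cs h t ((2 : ℤ) • y - r)) e
    simp only [form_neg_left, e1] at h1
    omega
  · obtain ⟨-, m, a, b, hm, ha, hb, e⟩ := hw
    have h1 : m * form cs h w ((2 : ℤ) • y - r) = b * form cs h (y - r) ((2 : ℤ) • y - r) := by
      rw [← form_smul_left, e, form_add_left, form_smul_left, form_smul_left, e1]; ring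
    have h2 := mul_pos hb e2
    rw [← h1] at h2
    exact (pos_iff_pos_of_mul_pos h2).1 hm

/-- **Injectivity.** -/
theorem TH.inj (H : TH C r y) {x : Y} (hx : x ∈ X y) (hx1 : x ≠ 1) {b₁ b₂ a₁ a₁' a₂ a₂' : Y} {w₁ w₂ : W}
    (hb₁ : b₁ ∈ Z (-r)) (hb₂ : b₂ ∈ Z (-r)) (m₁ : MuB C r b₁ a₁ a₁' w₁) (m₂ : MuB C r b₂ a₂ a₂' w₂)
    (e : a₁ * b₁ * a₁' * x * (a₁ * b₁ * a₁')⁻¹ = a₂ * b₂ * a₂' * x * (a₂ * b₂ * a₂')⁻¹) : b₁ = b₂ := by
  by_contra hne
  set v := a₁ * b₁ * a₁' * x * (a₁ * b₁ * a₁')⁻¹ with hv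
  have hvX : v ∈ X (y - r) := H.conj_mem m₁ hx
  have e1 : b₁ * x * b₁⁻¹ = a₁⁻¹ * v * a₁ := by
    rw [hv, H.conj_eq m₁ hx]; group
  have e2 : b₂ * x * b₂⁻¹ = a₂⁻¹ * v * a₂ := by
    rw [e, H.conj_eq m₂ hx]; group
  set b := b₂⁻¹ * b₁ with hbd
  have hb : b ∈ Z (-r) := mul_mem (inv_mem hb₂) hb₁
  have hb1 : b ≠ 1 := fun h0 => hne (by
    have : b₂ * (b₂⁻¹ * b₁) = b₂ * 1 := by rw [← hbd, h0]
    rw [mul_one, mul_inv_cancel_left] at this
    exact this)
  have c1 := H.comm_left hb₁ hb₂ hx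
  have c2 := H.comm_left hb₂ hb₂ hx
  have e3 : ⁅b, x⁆ = ⁅a₁⁻¹, v⁆ * ⁅a₂⁻¹, v⁆⁻¹ := by
    have f1 : ⁅b, x⁆ = ⁅b₁, x⁆ * ⁅b₂, x⁆⁻¹ := by
      rw [commutatorElement_def, commutatorElement_def, commutatorElement_def] at *
      have g1 : b * x * b⁻¹ * x⁻¹ = b₂⁻¹ * (b₁ * x * b₁⁻¹ * x⁻¹) * (x * b₂ * x⁻¹) := by rw [hbd]; group
      have g2 : b₂⁻¹ * (b₁ * x * b₁⁻¹ * x⁻¹) = (b₁ * x * b₁⁻¹ * x⁻¹) * b₂⁻¹ := by
        calc b₂⁻¹ * (b₁ * x * b₁⁻¹ * x⁻¹) = b₂⁻¹ * ((b₁ * x * b₁⁻¹ * x⁻¹) * b₂) * b₂⁻¹ := by group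
          _ = b₂⁻¹ * (b₂ * (b₁ * x * b₁⁻¹ * x⁻¹)) * b₂⁻¹ := by rw [c1]
          _ = _ := by group
      have g3 : b₂⁻¹ * (b₂ * x * b₂⁻¹ * x⁻¹)⁻¹ * b₂ = (b₂ * x * b₂⁻¹ * x⁻¹)⁻¹ := by
        have : (b₂ * x * b₂⁻¹ * x⁻¹)⁻¹ * b₂ = b₂ * (b₂ * x * b₂⁻¹ * x⁻¹)⁻¹ := by
          calc (b₂ * x * b₂⁻¹ * x⁻¹)⁻¹ * b₂ = (b₂ * x * b₂⁻¹ * x⁻¹)⁻¹ * (b₂ * (b₂ * x * b₂⁻¹ * x⁻¹)) *
              (b₂ * x * b₂⁻¹ * x⁻¹)⁻¹ := by group
            _ = (b₂ * x * b₂⁻¹ * x⁻¹)⁻¹ * ((b₂ * x * b₂⁻¹ * x⁻¹) * b₂) * (b₂ * x * b₂⁻¹ * x⁻¹)⁻¹ := by rw [c2]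
            _ = _ := by group
        rw [mul_assoc, this]; group
      rw [g1, g2, ← g3]
      group
    rw [f1]
    have f2 : ⁅b₁, x⁆ = ⁅a₁⁻¹, v⁆ * (v * x⁻¹) := by
      rw [commutatorElement_def, commutatorElement_def, e1]; group
    have f3 : ⁅b₂, x⁆ = ⁅a₂⁻¹, v⁆ * (v * x⁻¹) := by
      rw [commutatorElement_def, commutatorElement_def, e2]; group
    rw [f2, f3]; group
  have hS : ⁅b, x⁆ ∈ RGD.Sup X {w | IsRoot cs h w ∧ 0 ≤ form cs h w r ∧ 0 < form cs h w ((2 : ℤ) • y - r)} := by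
    rw [e3]
    exact mul_mem (H.comm_right (inv_mem m₁.ha) hvX) (inv_mem (H.comm_right (inv_mem m₂.ha) hvX))
  obtain ⟨a, a', w, m⟩ := H.exists_mu hb hb1
  have hx' : x ∈ RGD.Sup X {w | IsRoot cs h w ∧ 0 ≤ form cs h w r ∧ 0 < form cs h w ((2 : ℤ) • y - r)} := by
    refine RGD.le_Sup (S := {w | IsRoot cs h w ∧ 0 ≤ form cs h w r ∧ 0 < form cs h w ((2 : ℤ) • y - r)})
      ⟨H.hy, ?_, ?_⟩ hx
    · have := H.pos
      have := H.one
      omega
    · rw [form_comm, form_sub_left, form_smul_left, form_comm cs h r y]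
      have := H.pos
      have := H.one
      have := H.len
      omega
  have hcen : ∀ g ∈ RGD.Sup X {w | IsRoot cs h w ∧ 0 ≤ form cs h w r ∧ 0 < form cs h w ((2 : ℤ) • y - r)},
      a * g = g * a := by
    intro g hg
    have h1 : RGD.Sup X {w | IsRoot cs h w ∧ 0 ≤ form cs h w r ∧ 0 < form cs h w ((2 : ℤ) • y - r)} ≤
        Subgroup.centralizer (Z r : Set Y) := by
      refine RGD.Sup_le fun w hw c hc => ?_
      rw [Subgroup.mem_centralizer_iff]
      intro d hd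
      exact (C.cent r H.hr w hw.1 hw.2.1 c hc d hd).symm
    exact Subgroup.mem_centralizer_iff.1 (h1 hg) a m.ha
  have e4 : b * x * b⁻¹ = ⁅b, x⁆ * x := by rw [commutatorElement_def]; group
  have hmem : b * x * b⁻¹ ∈ RGD.Sup X {w | IsRoot cs h w ∧ 0 ≤ form cs h w r ∧
      0 < form cs h w ((2 : ℤ) • y - r)} := by rw [e4]; exact mul_mem hS hx'
  have e5 : a * b * a' * x * (a * b * a')⁻¹ = b * x * b⁻¹ := by
    rw [H.conj_eq m hx, hcen _ hmem]; group
  have h6 := H.conj_mem m hx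
  rw [e5] at h6
  have h7 : b * x * b⁻¹ = 1 := by
    refine sup_inf_sup' C.rgd (Nodes.CenVV.fh cs h (-r)) (Nodes.CenVV.fh cs h ((2 : ℤ) • y - r)) ?_ ?_
    · refine RGD.le_Sup (S := {x | IsRoot cs h x ∧ 0 < Nodes.CenVV.fh cs h (-r) x}) ⟨H.sub_root, ?_⟩ h6
      rw [Nodes.CenVV.fh_apply, form_neg_right, form_sub_left]
      have := H.pos
      have := H.one
      omega
    · refine RGD.Sup_mono ?_ hmem
      rintro u ⟨h1, h2, h3⟩
      refine ⟨h1, ?_, h3⟩
      rw [Nodes.CenVV.fh_apply, form_neg_right]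
      omega
  apply hx1
  have : x = b⁻¹ * (b * x * b⁻¹) * b := by group
  rw [this, h7]; group

/-- **Transitivity of the torus of `⟨Z r, Z (-r)⟩` on `X y - 1`.** -/
theorem TH.trans [Finite Y] (H : TH C r y) (hcard : Nat.card (X y) = Nat.card (Z r)) {x x' : Y} (hx : x ∈ X y)
    (hx1 : x ≠ 1) (hx' : x' ∈ X y) (hx1' : x' ≠ 1) : ∃ t ∈ T ⊓ (Z r ⊔ Z (-r)), t * x * t⁻¹ = x' := by
  classical
  have hr' := C.root r H.hr
  -- the element `b'`
  obtain ⟨b', hb', hb1'⟩ : ∃ b ∈ Z (-r), b ≠ 1 := by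
    by_contra hcon
    push Not at hcon
    exact C.ne_bot _ (_root_.Cfsg.Agent.Nodes.ClsNorm.neg_mem C H.hr) ((Subgroup.eq_bot_iff_forall _).2 hcon)
  have hmu : ∀ b : {b : Z (-r) // b ≠ 1}, ∃ m : Y, ∃ a a' w, MuB C r (b.1 : Y) a a' w ∧ m = a * b.1 * a' := by
    rintro ⟨⟨b, hb⟩, hb1⟩
    obtain ⟨a, a', w, m⟩ := H.exists_mu hb (fun h0 => hb1 (Subtype.ext h0))
    exact ⟨_, a, a', w, m, rfl⟩
  choose mu hmu using hmu
  have hmem : ∀ b, mu b * x * (mu b)⁻¹ ∈ X (y - r) := by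
    intro b
    obtain ⟨a, a', w, m, e⟩ := hmu b
    rw [e]
    exact H.conj_mem m hx
  have hne : ∀ b, mu b * x * (mu b)⁻¹ ≠ 1 := by
    intro b h0
    apply hx1
    have : x = (mu b)⁻¹ * (mu b * x * (mu b)⁻¹) * mu b := by group
    rw [this, h0]; group
  let f : {b : Z (-r) // b ≠ 1} → {v : X (y - r) // v ≠ 1} := fun b =>
    ⟨⟨mu b * x * (mu b)⁻¹, hmem b⟩, fun h0 => hne b (congrArg Subtype.val h0)⟩
  have hf : Function.Injective f := by
    intro b₁ b₂ h0
    obtain ⟨a₁, a₁', w₁, m₁, e₁⟩ := hmu b₁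
    obtain ⟨a₂, a₂', w₂, m₂, e₂⟩ := hmu b₂
    have h1 : mu b₁ * x * (mu b₁)⁻¹ = mu b₂ * x * (mu b₂)⁻¹ := congrArg (fun v => ((v.1 : X (y - r)) : Y)) h0
    rw [e₁, e₂] at h1
    have h2 := H.inj hx hx1 b₁.1.2 b₂.1.2 m₁ m₂ h1
    exact Subtype.ext (Subtype.ext h2)
  -- cardinalities
  obtain ⟨a, a', w, m⟩ := H.exists_mu hb' hb1'
  have hwr : rep cs h w r = -r := by
    rw [m.rep, cpr_self cs h hr']
    funext k
    simp only [Pi.sub_apply, Pi.smul_apply, smul_eq_mul, Pi.neg_apply]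
    ring
  have c1 : Nat.card (Z (-r)) = Nat.card (Z r) := by
    have h1 := conj_Z C m.rp H.hr
    rw [hwr] at h1
    rw [← h1]
    exact Nodes.FreeTorus.card_cj _ _
  have c2 : Nat.card (X (y - r)) = Nat.card (X y) := by
    have h1 : cj (a * b' * a') (X y) = X (rep cs h w y) := C.rgd.conj_rp m.rp H.hy
    rw [m.rep, H.cpr, one_smul] at h1
    rw [← h1]
    exact Nodes.FreeTorus.card_cj _ _
  have hsurj : Function.Surjective f := by
    have h1 : Nat.card {b : Z (-r) // b ≠ 1} = Nat.card {v : X (y - r) // v ≠ 1} := by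
      have k1 : ∀ (P : Subgroup Y), Nat.card {b : P // b ≠ 1} = Nat.card P - 1 := by
        intro P
        have : Fintype P := Fintype.ofFinite _
        rw [Nat.card_eq_fintype_card, Nat.card_eq_fintype_card, Fintype.card_subtype_compl,
          Fintype.card_subtype_eq]
      rw [k1, k1, c1, c2, hcard]
    exact ((Nat.bijective_iff_injective_and_card f).2 ⟨hf, h1⟩).2
  -- the torus element
  set m' := a * b' * a' with hm'
  have hv : m' * x' * m'⁻¹ ∈ X (y - r) := H.conj_mem m hx'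
  have hv1 : m' * x' * m'⁻¹ ≠ 1 := by
    intro h0
    apply hx1'
    have : x' = m'⁻¹ * (m' * x' * m'⁻¹) * m' := by group
    rw [this, h0]; group
  obtain ⟨b, hb⟩ := hsurj ⟨⟨_, hv⟩, fun h0 => hv1 (congrArg Subtype.val h0)⟩
  have hb2 : mu b * x * (mu b)⁻¹ = m' * x' * m'⁻¹ := congrArg (fun v => ((v.1 : X (y - r)) : Y)) hb
  obtain ⟨a₂, a₂', w₂, m₂, e₂⟩ := hmu b
  have hww : w = w₂ := by
    apply rep_injective cs h
    apply LinearMap.ext
    intro u
    rw [m.rep, m₂.rep]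
  subst hww
  have hJ : ∀ {b a a' : Y}, b ∈ Z (-r) → a ∈ Z r → a' ∈ Z r → a * b * a' ∈ Z r ⊔ Z (-r) := by
    intro b a a' hb ha ha'
    exact mul_mem (mul_mem ((le_sup_left : Z r ≤ _) ha) ((le_sup_right : Z (-r) ≤ _) hb))
      ((le_sup_left : Z r ≤ _) ha')
  have hm'J : m' ∈ Z r ⊔ Z (-r) := hJ hb' m.ha m.ha'
  refine ⟨m'⁻¹ * mu b, Subgroup.mem_inf.2 ⟨?_, mul_mem (inv_mem hm'J) ?_⟩, ?_⟩
  · have h1 := m.rp.inv.mul m₂.rp
    rw [inv_mul_cancel] at h1
    rw [e₂]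
    exact h1.mem_of_one
  · rw [e₂]
    exact hJ b.1.2 m₂.ha m₂.ha'
  · calc m'⁻¹ * mu b * x * (m'⁻¹ * mu b)⁻¹ = m'⁻¹ * (mu b * x * (mu b)⁻¹) * m' := by group
      _ = m'⁻¹ * (m' * x' * m'⁻¹) * m' := by rw [hb2]
      _ = x' := by group

end Cfsg.Agent.LOC.Tor
end

-- part: Cit/Nil/LO/BetaTor
section
/-!
# Lie odd sections, the chart part: `I(y) = {r, s}`, the tori, and the final form (all types)

`⟨Z r, Z (-r)⟩ ≅ SL(2, 𝔽)`, coordinates `e` with `root e = Z r`, `rootOp e = Z (-r)`; `TT e` the image of the diagonal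
matrices, `mm e` the image of `wm 1`.

* `exists_crd` : coordinates;
* `Crd.sw` : `Sw Z z s (mm e)`;
* `Crd.gen` : `Z r` is generated by each nontrivial `TT`-orbit;
* `TT_le_T` : `TT e = T ⊓ ⟨Z r, Z (-r)⟩` if there is a line;
* `same_MM` : `TT er`, `TT es` induce the same group on `M`;
* `triv_MM` : LEMMA LA in a chart.
-/

set_option autoImplicit false
set_option linter.unusedSectionVars false
set_option linter.dupNamespace false
set_option linter.unusedVariables false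

namespace Cfsg.Agent.LOC.BetaTor

open CoxeterSystem Cfsg.Agent.ChevalleyStructure.CoxeterGeom Cfsg.Agent.Tits.Roots Cfsg.Agent.Tits.Core
  Cfsg.Agent.Tits.RootComb Cfsg.Agent.Nodes.Comb Cfsg.Agent.Nodes.SubComb Cfsg.Agent.Nodes.Reps
  Cfsg.Agent.Nodes.Coroot Cfsg.Agent.Nodes.PosPair Cfsg.Agent.Nodes.BNOf Cfsg.Agent.Nodes.RGDLib
  Cfsg.Agent.Nodes.Chart Cfsg.Agent.Nodes.ClsNorm Cfsg.Agent.Nodes.ChartLoc Cfsg.Agent.Nodes.ChartFrame
  Cfsg.Agent.Nodes.Slope Cfsg.Agent.Nodes.Bruhat Cfsg.Agent.LOC.ChartDefs Cfsg.Agent.LOC.Wt Cfsg.Agent.LOC.LA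
  Cfsg.Agent.LOC.Beta
open Cfsg.Agent.Cit.ParabSL2 Cfsg.Agent.Lib.SL2Mat
open scoped commutatorElement

/-! ### `SL(2, 𝔽)` -/

section SL

variable {G : Type*} [Group G] {F : Type*} [Field F] {K : Subgroup G}

/-- the torus -/
def TT (e : Matrix.SpecialLinearGroup (Fin 2) F ≃* K) : Subgroup G where
  carrier := {x | ∃ (l : F) (hl : l ≠ 0), (e (dg l hl) : G) = x}
  one_mem' := ⟨1, one_ne_zero, by
    have h1 : dg (1 : F) one_ne_zero = 1 := ext_ent rfl rfl rfl (by rw [dg_11, ent_one_11, inv_one])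
    rw [h1, map_one]; rfl⟩
  mul_mem' := by
    rintro _ _ ⟨l, hl, rfl⟩ ⟨m, hm, rfl⟩
    refine ⟨l * m, mul_ne_zero hl hm, ?_⟩
    rw [← Subgroup.coe_mul, ← map_mul]
    congr 2
    refine ext_ent ?_ ?_ ?_ ?_ <;> simp only [ent_mul, dg_00, dg_01, dg_10, dg_11] <;> field_simp <;> ring
  inv_mem' := by
    rintro _ ⟨l, hl, rfl⟩
    refine ⟨l⁻¹, inv_ne_zero hl, ?_⟩
    rw [← Subgroup.coe_inv, ← map_inv]
    congr 2
    refine ext_ent ?_ ?_ ?_ ?_ <;> simp [ent_inv]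

theorem TT_le (e : Matrix.SpecialLinearGroup (Fin 2) F ≃* K) : TT e ≤ K := by
  rintro _ ⟨l, hl, rfl⟩
  exact (e _).2

/-- the Weyl element -/
def mm (e : Matrix.SpecialLinearGroup (Fin 2) F ≃* K) : G := (e (wm 1 one_ne_zero) : G)

theorem mm_mem (e : Matrix.SpecialLinearGroup (Fin 2) F ≃* K) : mm e ∈ K := (e _).2

theorem mm_inv {e : Matrix.SpecialLinearGroup (Fin 2) F ≃* K} {x : G} (hx : x ∈ TT e) :
    mm e * x = x⁻¹ * mm e := by
  obtain ⟨l, hl, rfl⟩ := hx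
  rw [eq_inv_mul_iff_mul_eq]
  unfold mm
  rw [← Subgroup.coe_mul, ← map_mul, ← Subgroup.coe_mul, ← map_mul]
  congr 2
  refine ext_ent ?_ ?_ ?_ ?_ <;>
    simp only [ent_mul, dg_00, dg_01, dg_10, dg_11, wm_00, wm_01, wm_10, wm_11] <;> field_simp <;> ring

theorem mm_sq (e : Matrix.SpecialLinearGroup (Fin 2) F ≃* K) : mm e * mm e = (e (-1) : G) := by
  unfold mm
  rw [← Subgroup.coe_mul, ← map_mul]
  congr 2
  have e0 : ent (-1 : Matrix.SpecialLinearGroup (Fin 2) F) 0 0 = -1 := by simp [ent]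
  have e1 : ent (-1 : Matrix.SpecialLinearGroup (Fin 2) F) 0 1 = 0 := by simp [ent]
  have e2 : ent (-1 : Matrix.SpecialLinearGroup (Fin 2) F) 1 0 = 0 := by simp [ent]
  have e3 : ent (-1 : Matrix.SpecialLinearGroup (Fin 2) F) 1 1 = -1 := by simp [ent]
  refine ext_ent ?_ ?_ ?_ ?_
  · rw [ent_mul, e0, wm_00, wm_01, wm_10]; simp
  · rw [ent_mul, e1, wm_00, wm_01, wm_11]; simp
  · rw [ent_mul, e2, wm_10, wm_11, wm_00]; simp
  · rw [ent_mul, e3, wm_10, wm_11, wm_01]; simp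

theorem cj_mm_root (e : Matrix.SpecialLinearGroup (Fin 2) F ≃* K) : cj (mm e) (root e) = rootOp e := rfl

theorem cj_mm_rootOp (e : Matrix.SpecialLinearGroup (Fin 2) F ≃* K) : cj (mm e) (rootOp e) = root e := by
  rw [← cj_mm_root, ← cj_mul, mm_sq]
  ext x
  rw [mem_cj]
  have hc : ∀ k : K, (e (-1) : G) * (k : G) = (k : G) * (e (-1) : G) := by
    intro k
    obtain ⟨M, rfl⟩ := e.surjective k
    rw [← Subgroup.coe_mul, ← Subgroup.coe_mul, ← map_mul, ← map_mul, neg_one_mul, mul_neg_one]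
  constructor
  · intro hx
    have h1 := hc ⟨_, root_le e hx⟩
    have h2 : x = (e (-1) : G) * ((e (-1) : G)⁻¹ * x * (e (-1) : G)) * (e (-1) : G)⁻¹ := by group
    rw [h2]
    change (e (-1) : G) * ((e (-1) : G)⁻¹ * x * (e (-1) : G)) = ((e (-1) : G)⁻¹ * x * (e (-1) : G)) * (e (-1) : G) at h1
    rw [h1, mul_inv_cancel_right]
    exact hx
  · intro hx
    have h1 := hc ⟨_, root_le e hx⟩
    change (e (-1) : G) * x = x * (e (-1) : G) at h1
    have h2 : (e (-1) : G)⁻¹ * x * (e (-1) : G) = x := by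
      rw [mul_assoc, ← h1]; group
    rw [h2]
    exact hx

theorem TT_root {e : Matrix.SpecialLinearGroup (Fin 2) F ≃* K} {x : G} (hx : x ∈ TT e) :
    cj x (root e) = root e := by
  have key : ∀ x ∈ TT e, cj x (root e) ≤ root e := by
    rintro _ ⟨l, hl, rfl⟩ a ha
    rw [mem_cj] at ha
    obtain ⟨b, hb⟩ := mem_root.1 ha
    refine mem_root.2 ⟨l ^ 2 * b, ?_⟩
    have h1 : a = (e (dg l hl) : G) * (e (up b) : G) * (e (dg l hl) : G)⁻¹ := by rw [hb]; group
    rw [h1, eq_mul_inv_iff_mul_eq, ← Subgroup.coe_mul, ← map_mul, ← Subgroup.coe_mul, ← map_mul, dg_up]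
  refine le_antisymm (key x hx) ?_
  have h1 := cj_mono x (key x⁻¹ (inv_mem hx))
  rwa [cj_cj_inv] at h1

theorem TT_rootOp {e : Matrix.SpecialLinearGroup (Fin 2) F ≃* K} {x : G} (hx : x ∈ TT e) :
    cj x (rootOp e) = rootOp e := by
  rw [← cj_mm_root, ← cj_mul]
  have h1 := mm_inv (inv_mem hx)
  rw [inv_inv] at h1
  rw [← h1, cj_mul, TT_root (inv_mem hx)]

/-- `root e` is generated by each nontrivial orbit of the torus -/
theorem root_le_closure (h2 : (2 : F) ≠ 0) (e : Matrix.SpecialLinearGroup (Fin 2) F ≃* K) {s : G} (hs : s ∈ root e)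
    (hs1 : s ≠ 1) : root e ≤ Subgroup.closure {x | ∃ t ∈ TT e, x = t * s * t⁻¹} := by
  obtain ⟨c, rfl⟩ := mem_root.1 hs
  have hc : c ≠ 0 := by
    rintro rfl
    apply hs1
    rw [up_zero, map_one]; rfl
  set P := Subgroup.closure {x : G | ∃ t ∈ TT e, x = t * (e (up c) : G) * t⁻¹} with hP
  have h1 : ∀ a : F, (e (up (a ^ 2 * c)) : G) ∈ P := by
    intro a
    by_cases ha : a = 0
    · subst ha
      have : up ((0 : F) ^ 2 * c) = 1 := by rw [zero_pow two_ne_zero, zero_mul, up_zero]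
      rw [this, map_one]
      exact one_mem _
    · refine Subgroup.subset_closure ⟨(e (dg a ha) : G), ⟨a, ha, rfl⟩, ?_⟩
      rw [eq_mul_inv_iff_mul_eq, ← Subgroup.coe_mul, ← map_mul, ← Subgroup.coe_mul, ← map_mul, dg_up]
  intro x hx
  obtain ⟨b, rfl⟩ := mem_root.1 hx
  have h4 : (4 : F) ≠ 0 := by
    have : (4 : F) = 2 * 2 := by norm_num
    rw [this]; exact mul_ne_zero h2 h2
  set d := b / (4 * c) with hd
  have h3 := mul_mem (h1 (d + 1)) (inv_mem (h1 (d - 1)))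
  have h5 : (e (up ((d + 1) ^ 2 * c)) : G) * (e (up ((d - 1) ^ 2 * c)) : G)⁻¹ = (e (up b) : G) := by
    rw [mul_inv_eq_iff_eq_mul, ← Subgroup.coe_mul, ← map_mul, up_mul]
    congr 3
    rw [hd]; field_simp; ring
  rwa [h5] at h3

end SL

/-! ### Coordinates in a chart -/

variable {I W Y : Type*} [Fintype I] [DecidableEq I] [Group W] [Fintype W] [Group Y] {M : CoxeterMatrix I}
  {cs : CoxeterSystem M W} {A : I → I → ℤ} {h : IsCartan M A} {p : ℕ} {T : Subgroup Y} {n : I → Y}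
  {X : (I → ℤ) → Subgroup Y} {R : Set (I → ℤ)} {Z : (I → ℤ) → Subgroup Y} {z : (I → ℤ) → Y}

/-- coordinates of `⟨Z r, Z (-r)⟩` -/
structure Crd {F : Type*} [Field F] (Z : (I → ℤ) → Subgroup Y) (r : I → ℤ)
    (e : Matrix.SpecialLinearGroup (Fin 2) F ≃* ↥(Z r ⊔ Z (-r))) : Prop where
  rt : root e = Z r
  ro : rootOp e = Z (-r)

section Coord

variable {𝔽 : Type*} [Field 𝔽] [Fintype 𝔽] (C : Cls cs h p T n X R Z z) {r : I → ℤ}
include C

theorem card_neg (hr : r ∈ R) : Nat.card (Z (-r)) = Nat.card (Z r) := by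
  obtain ⟨w, i, rfl⟩ := C.root r hr
  obtain ⟨k, hk⟩ := exists_rp cs C.rgd.nsys (w * cs.simple i * w⁻¹)
  have h2 : rep cs h (w * cs.simple i * w⁻¹) (rep cs h w (sr i)) = -rep cs h w (sr i) := by
    rw [rep_mul_apply, rep_mul_apply, rep_inv_apply, rep_simple_sr, map_neg]
  have h3 := conj_Z C hk hr
  rw [h2] at h3
  rw [← h3]
  exact Nodes.FreeTorus.card_cj _ _

theorem exists_crd [Fact p.Prime] [Finite Y] [CharP 𝔽 p] (hp2 : p ≠ 2) (hr : r ∈ R)
    (e : Matrix.SpecialLinearGroup (Fin 2) 𝔽 ≃* ↥(Z r ⊔ Z (-r))) :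
    ∃ e' : Matrix.SpecialLinearGroup (Fin 2) 𝔽 ≃* ↥(Z r ⊔ Z (-r)), Crd Z r e' := by
  have h1 := card_Z C hp2 hr e
  have hne : Z (-r) ≠ Z r := by
    intro h0
    have h2 := Z_injective C (_root_.Cfsg.Agent.Nodes.ClsNorm.neg_mem C hr) hr h0
    have h3 := form_pos cs h (C.root r hr).ne_zero
    have h4 : form cs h (-r) r = form cs h r r := by rw [h2]
    rw [form_neg_left] at h4
    omega
  obtain ⟨e', h2, h3⟩ := exists_equiv_pair e (le_sup_left : Z r ≤ _) h1 (le_sup_right : Z (-r) ≤ _)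
    (by rw [card_neg C hr, h1]) hne
  exact ⟨e', h2, h3⟩

/-- the Weyl element interchanges `Z r`, `Z (-r)`, and its square is `z r` -/
theorem Crd.sw (hodd : Odd (Fintype.card 𝔽)) (hp : p.Prime) (hp2 : p ≠ 2) {y : I → ℤ} (hr : r ∈ R) (hy : IsRoot cs h y)
    (h1 : y ≠ r) (h1' : y ≠ -r) (h3 : form cs h y r ≠ 0)
    {e : Matrix.SpecialLinearGroup (Fin 2) 𝔽 ≃* ↥(Z r ⊔ Z (-r))} (c : Crd Z r e) : Sw Z z r (mm e) where
  mem := mm_mem e
  sw := by
    have h4 := cj_mm_root e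
    rwa [c.rt, c.ro] at h4
  sw' := by
    have h4 := cj_mm_rootOp e
    rwa [c.rt, c.ro] at h4
  sq := by
    rw [mm_sq]
    have hz1 := Nodes.StdConn.z_ne_one C hp hp2 hr hy h1 h1' h3
    have hzz := C.z_sq r hr
    set g := e.symm ⟨z r, C.z_mem r hr⟩ with hg
    have hgz : (e g : Y) = z r := by rw [hg, MulEquiv.apply_symm_apply]
    have h4 : g ≠ 1 := by
      intro h0
      apply hz1
      rw [← hgz, h0, map_one]; rfl
    have h5 : g * g = 1 := by
      apply e.injective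
      apply Subtype.ext
      rw [map_mul, map_one, Subgroup.coe_mul, hgz, hzz]; rfl
    have h6 : orderOf g = 2 := by
      apply orderOf_eq_prime
      · rw [pow_two, h5]
      · exact h4
    have h7 := Cfsg.Agent.TwoFusion.QuatCoverSL.eq_neg_one_of_orderOf_two hodd g h6
    rw [← h7, hgz]

/-- an element of `⟨Z r, Z (-r)⟩` normalising `Z r` normalises `VV r` -/
theorem TT_VV {e : Matrix.SpecialLinearGroup (Fin 2) 𝔽 ≃* ↥(Z r ⊔ Z (-r))} (hr : r ∈ R) (c : Crd Z r e) {g : Y}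
    (hg : g ∈ TT e) : cj g (VV cs h X r) = VV cs h X r := by
  have h1 := TT_root hg
  rw [c.rt] at h1
  exact mem_normalizer_iff_cj.1 (Nodes.MuSq.mem_normalizer_VV C hr (sup_le_GG C hr (TT_le e hg))
    (mem_normalizer_iff_cj.2 h1))

end Coord

/-! ### The tori of a pair -/

section Pair

variable {𝔽 𝔽' : Type*} [Field 𝔽] [Fintype 𝔽] [Field 𝔽'] [Fintype 𝔽'] (C : Cls cs h p T n X R Z z)
  {F : Set (I → ℤ)} {r s y : I → ℤ} (t : Two cs h R F r s y)
  {er : Matrix.SpecialLinearGroup (Fin 2) 𝔽 ≃* ↥(Z r ⊔ Z (-r))}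
  {es : Matrix.SpecialLinearGroup (Fin 2) 𝔽' ≃* ↥(Z s ⊔ Z (-s))}
include C t

/-- the torus of `r` normalises `M` -/
theorem TT_conj_mem [Finite Y] (cr : Crd Z r er) {g : Y} (hg : g ∈ TT er) {u : Y} (hu : u ∈ MM cs h X F y) :
    g * u * g⁻¹ ∈ MM cs h X F y := by
  have hgJ := TT_le er hg
  refine conj_mem C t (fun v hv => ?_) (TT_VV C t.rR cr hg)
    (cj_VV_of_J C t t.rR (by rw [form_comm]; exact t.rs) hgJ) hu
  by_cases h1 : v = r
  · subst h1
    have := TT_root hg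
    rwa [cr.rt] at this
  by_cases h2 : v = -r
  · subst h2
    have := TT_rootOp hg
    rwa [cr.ro] at this
  have h3 : form cs h v r = 0 := by
    rw [form_comm]; exact t.orth r t.hr v hv h1 h2
  have h4 : g ∈ Subgroup.centralizer (Z v : Set Y) := by
    rw [Subgroup.mem_centralizer_iff]
    intro a ha
    exact (comm_J C t (t.sub v hv) t.rR h3 hgJ ha).symm
  exact mem_normalizer_iff_cj.1 (Nodes.ClsNorm.centralizer_le_normalizer' (Z v) h4)

/-- the torus of `s` normalises `M` -/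
theorem TT_conj_mem' [Finite Y] (cs' : Crd Z s es) {g : Y} (hg : g ∈ TT es) {u : Y} (hu : u ∈ MM cs h X F y) :
    g * u * g⁻¹ ∈ MM cs h X F y := TT_conj_mem C t.swap cs' hg hu

/-- **the scaling hypothesis** -/
theorem hsc [Finite Y] [Fact p.Prime] (hp2 : p ≠ 2) (hodd : Odd (Fintype.card 𝔽))
    (hodd' : Odd (Fintype.card 𝔽')) (L : Nodes.CenVV.Lg cs h r) (cr : Crd Z r er) (cs' : Crd Z s es) {e : Y}
    (he : ∀ a ∈ Z r ⊔ Z (-r), e * a = a * e)
    (hsame : ∀ g ∈ TT er, ∃ g' ∈ TT es, ∀ u ∈ MM cs h X F y, g' * u * g'⁻¹ = g * u * g⁻¹) :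
    ∀ u ∈ MM cs h X F y, ⁅u, mm es * u * (mm es)⁻¹⁆ ≠ 1 → ∀ a ∈ Z r, ∃ u' ∈ MM cs h X F y,
      ⁅u, mm es * u' * (mm es)⁻¹⁆ = a ∧
      (∀ v ∈ MM cs h X F y, ⁅u, mm es * v * (mm es)⁻¹⁆ = 1 → ⁅u', mm es * v * (mm es)⁻¹⁆ = 1) ∧
      (e * u * e⁻¹ = u⁻¹ → e * u' * e⁻¹ = u'⁻¹) := by
  have hsR := t.sR
  have hrR := t.rR
  have hne : y ≠ s := by
    rintro rfl
    have := t.yr
    rw [form_comm, t.rs] at this
    exact lt_irrefl _ this
  have hne' : y ≠ -s := by
    rintro rfl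
    have := t.yr
    rw [form_neg_left, form_comm, t.rs] at this
    simp at this
  have hm : Sw Z z s (mm es) := Crd.sw C hodd' Fact.out hp2 hsR t.hy hne hne' t.ys.ne' cs'
  have f := frm C t hp2 L hm
  refine hsc_of (Tr := TT er) (Ts := TT es) f (fun g hg u hu => TT_conj_mem C t cr hg hu) ?_ ?_ hsame ?_ ?_
  · intro g hg u hu v hv
    refine beta_conj ?_
    exact comm_JJ C t hsR hrR (by rw [form_comm]; exact t.rs) (TT_le er hg) hm.mem
  · intro g hg u hu v hv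
    refine beta_adj (mm_inv hg) ?_
    exact comm_J C t hrR hsR t.rs (TT_le es hg) (beta_mem C t hp2 hm hu (TT_conj_mem' C t cs' hg hv))
  · intro g hg
    exact he g (TT_le er hg)
  · intro a ha ha1
    have h3 := root_le_closure (Cfsg.Agent.TwoFusion.QuatCoverSL.two_ne_zero_of_odd hodd) er
      (by rw [cr.rt]; exact ha) ha1
    rwa [cr.rt] at h3

end Pair

end Cfsg.Agent.LOC.BetaTor
end

-- part: Cit/Nil/LO/Irr
section
/-!
# Endomorphisms commuting with a transitive group of automorphisms commute (Wedderburn)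

`comm_of_trans` : `P` a finite abelian group, `T` transitive on `P - 1`, `a`, `b` normalise `P` and commute with `T`:
then `a`, `b` commute on `P`. `QK.cent_of_trans` : the involution of a quaternion group centralises `P`.
-/

set_option autoImplicit false
set_option linter.unusedSectionVars false
set_option linter.dupNamespace false
set_option linter.style.haveILetI false

namespace Cfsg.Agent.LOC.Irr

open Cfsg.Agent.LOC.ChartDefs

/-- the abstract form -/
theorem comm_of_trans' {P : Type*} [AddCommGroup P] [Finite P] (S : Set (AddMonoid.End P))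
    (htr : ∀ x y : P, x ≠ 0 → y ≠ 0 → ∃ s ∈ S, s x = y) {f g : AddMonoid.End P}
    (hf : ∀ s ∈ S, s * f = f * s) (hg : ∀ s ∈ S, s * g = g * s) : f * g = g * f := by
  by_cases hP : Subsingleton P
  · ext x
    exact Subsingleton.elim _ _
  have hnt : Nontrivial P := not_subsingleton_iff_nontrivial.1 hP
  have hfin : Finite (AddMonoid.End P) := Finite.of_injective (fun f : AddMonoid.End P => (f : P → P))
    DFunLike.coe_injective
  set D := Subring.centralizer S with hD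
  have hinj : ∀ f : D, f ≠ 0 → ∀ x : P, (f : AddMonoid.End P) x = 0 → x = 0 := by
    rintro ⟨f, hf⟩ hf0 x hx
    by_contra hx0
    apply hf0
    apply Subtype.ext
    ext y
    by_cases hy : y = 0
    · rw [hy]; simp only [_root_.map_zero, _root_.ZeroMemClass.coe_zero, _root_.AddMonoid.End.zero_apply]
    · obtain ⟨s, hs, rfl⟩ := htr x y hx0 hy
      have h1 := Subring.mem_centralizer_iff.1 hf s hs
      have h2 : f (s x) = s (f x) := by
        have := congrArg (fun u : AddMonoid.End P => u x) h1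
        exact this.symm
      change f (s x) = 0
      rw [h2]
      have hx' : f x = 0 := hx
      rw [hx', map_zero]
  have hdom : (IsDomain D :) := by
    haveI : (NoZeroDivisors D :) := ⟨by
      intro a b hab
      by_cases ha : a = 0
      · exact Or.inl ha
      · right
        apply Subtype.ext
        ext y
        have h1 : (a : AddMonoid.End P) ((b : AddMonoid.End P) y) = 0 := by
          have := congrArg (fun u : D => (u : AddMonoid.End P) y) hab
          exact this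
        exact hinj a ha _ h1⟩
    haveI : Nontrivial D := ⟨⟨0, 1, fun h0 => by
      obtain ⟨x, hx⟩ := exists_ne (0 : P)
      apply hx
      have := congrArg (fun u : D => (u : AddMonoid.End P) x) h0
      exact this.symm⟩⟩
    exact NoZeroDivisors.to_isDomain D
  have hfD : Finite D := inferInstance
  have hfield := Finite.isDomain_to_isField D
  have hf' : f ∈ D := Subring.mem_centralizer_iff.2 hf
  have hg' : g ∈ D := Subring.mem_centralizer_iff.2 hg
  exact congrArg Subtype.val ((hfield.mul_comm ⟨f, hf'⟩ ⟨g, hg'⟩ :))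

variable {Y : Type*} [Group Y]

/-- conjugation by `a` on an abelian subgroup -/
def act {P : Subgroup Y} (a : Y) (ha : ∀ x ∈ P, a * x * a⁻¹ ∈ P) : AddMonoid.End (Additive P) where
  toFun x := Additive.ofMul ⟨a * (x.toMul : P) * a⁻¹, ha _ (x.toMul : P).2⟩
  map_zero' := by
    apply Additive.toMul.injective
    apply Subtype.ext
    change a * 1 * a⁻¹ = 1
    group
  map_add' x y := by
    apply Additive.toMul.injective
    apply Subtype.ext
    change a * ((x.toMul : P) * (y.toMul : P) : Y) * a⁻¹ = a * (x.toMul : P) * a⁻¹ * (a * (y.toMul : P) * a⁻¹)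
    group

theorem comm_of_trans {P : Subgroup Y} [Finite P] (hab : ∀ x ∈ P, ∀ y ∈ P, x * y = y * x) {S : Set Y}
    (hS : ∀ t ∈ S, ∀ x ∈ P, t * x * t⁻¹ ∈ P)
    (htr : ∀ x ∈ P, ∀ y ∈ P, x ≠ 1 → y ≠ 1 → ∃ t ∈ S, t * x * t⁻¹ = y) {a b : Y}
    (ha : ∀ x ∈ P, a * x * a⁻¹ ∈ P) (hb : ∀ x ∈ P, b * x * b⁻¹ ∈ P) (hat : ∀ t ∈ S, a * t = t * a)
    (hbt : ∀ t ∈ S, b * t = t * b) {x : Y} (hx : x ∈ P) : a * b * x * (a * b)⁻¹ = b * a * x * (b * a)⁻¹ := by
  letI : AddCommGroup (Additive P) :=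
    { (inferInstance : AddGroup (Additive P)) with
      add_comm := fun x y => by
        apply Additive.toMul.injective
        apply Subtype.ext
        exact hab _ (x.toMul : P).2 _ (y.toMul : P).2 }
  haveI : Finite (Additive P) := ‹Finite P›
  have key := comm_of_trans' (P := Additive P) {f | ∃ t, ∃ ht : t ∈ S, f = act t (hS t ht)} (by
    intro x y hx hy
    obtain ⟨t, ht, e⟩ := htr (x.toMul : P) (x.toMul : P).2 (y.toMul : P) (y.toMul : P).2
      (fun h0 => hx (by apply Additive.toMul.injective; exact Subtype.ext h0))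
      (fun h0 => hy (by apply Additive.toMul.injective; exact Subtype.ext h0))
    refine ⟨_, ⟨t, ht, rfl⟩, ?_⟩
    apply Additive.toMul.injective
    exact Subtype.ext e) (f := act a ha) (g := act b hb) (by
    rintro _ ⟨t, ht, rfl⟩
    refine DFunLike.ext _ _ fun x => ?_
    apply Additive.toMul.injective
    apply Subtype.ext
    change t * (a * (x.toMul : P) * a⁻¹) * t⁻¹ = a * (t * (x.toMul : P) * t⁻¹) * a⁻¹
    have h1 := hat t ht
    calc t * (a * (x.toMul : P) * a⁻¹) * t⁻¹ = (t * a) * (x.toMul : P) * (t * a)⁻¹ := by group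
      _ = (a * t) * (x.toMul : P) * (a * t)⁻¹ := by rw [h1]
      _ = a * (t * (x.toMul : P) * t⁻¹) * a⁻¹ := by group) (by
    rintro _ ⟨t, ht, rfl⟩
    refine DFunLike.ext _ _ fun x => ?_
    apply Additive.toMul.injective
    apply Subtype.ext
    change t * (b * (x.toMul : P) * b⁻¹) * t⁻¹ = b * (t * (x.toMul : P) * t⁻¹) * b⁻¹
    have h1 := hbt t ht
    calc t * (b * (x.toMul : P) * b⁻¹) * t⁻¹ = (t * b) * (x.toMul : P) * (t * b)⁻¹ := by group
      _ = (b * t) * (x.toMul : P) * (b * t)⁻¹ := by rw [h1]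
      _ = b * (t * (x.toMul : P) * t⁻¹) * b⁻¹ := by group)
  have h1 := congrArg (fun f : AddMonoid.End (Additive P) => ((f (Additive.ofMul ⟨x, hx⟩)).toMul : P).1) key
  change a * (b * x * b⁻¹) * a⁻¹ = b * (a * x * a⁻¹) * b⁻¹ at h1
  calc a * b * x * (a * b)⁻¹ = a * (b * x * b⁻¹) * a⁻¹ := by group
    _ = b * (a * x * a⁻¹) * b⁻¹ := h1
    _ = b * a * x * (b * a)⁻¹ := by group

/-- **`e = [a, b]` centralises `P`.** -/
theorem _root_.Cfsg.Agent.LOC.ChartDefs.QK.cent_of_trans {K : Subgroup Y} {e : Y} (hK : QK K e) {P : Subgroup Y} [Finite P]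
    (hab : ∀ x ∈ P, ∀ y ∈ P, x * y = y * x) {S : Set Y} (hS : ∀ t ∈ S, ∀ x ∈ P, t * x * t⁻¹ ∈ P)
    (htr : ∀ x ∈ P, ∀ y ∈ P, x ≠ 1 → y ≠ 1 → ∃ t ∈ S, t * x * t⁻¹ = y) (hKP : ∀ k ∈ K, ∀ x ∈ P, k * x * k⁻¹ ∈ P)
    (hKS : ∀ k ∈ K, ∀ t ∈ S, k * t = t * k) {x : Y} (hx : x ∈ P) : e * x = x * e := by
  obtain ⟨a, ha, b, hb, -, -, h3⟩ := hK.com
  have hx' : (b * a)⁻¹ * x * (b * a) ∈ P := by
    have := hKP _ (inv_mem (mul_mem hb ha)) x hx
    rwa [inv_inv] at this
  have h1 := comm_of_trans hab hS htr (hKP a ha) (hKP b hb) (hKS a ha) (hKS b hb) hx'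
  rw [h3] at h1
  have h4 : e * x * e⁻¹ = x := by
    calc e * x * e⁻¹ = e * (b * a) * ((b * a)⁻¹ * x * (b * a)) * (e * (b * a))⁻¹ := by group
      _ = b * a * ((b * a)⁻¹ * x * (b * a)) * (b * a)⁻¹ := h1
      _ = x := by group
  calc e * x = e * x * e⁻¹ * e := by group
    _ = x * e := by rw [h4]

end Cfsg.Agent.LOC.Irr
end

private theorem dce_060ee234b465 : _root_.True := by
  try have : _root_.True := by simp only [_root_.Cfsg.Agent.LOC.LA.Me.congr_simp]
  try have : _root_.True := by simp only [_root_.Cfsg.Agent.LOC.Wt.Lam.congr_simp]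
  try have : _root_.True := by simp only [_root_.Cfsg.Agent.Nodes.Reps.Btwn.congr_simp]
  exact _root_.True.intro
end

-- part: Cit/Nil/LO/TypeCn_mg
section
prune_inst 0x200004082212000018001420000000020000020040040014000502008610402000000140202d11000a88080000000002cc008000000000000004000001000080a852002240010426001f800000000000000000000000000000000000041004000000000
set_option linter.all false
open scoped Cfsg.Agent.FastGrp

-- part: Cit/Nil/LO/CnNd
section
/-!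
# Lie odd sections, the chart part: `B₂`-planes with non-abelian long root groups (S1309, (n1), piece (C), `SU_{2n+1}`)

* `card_le` : an anisotropic form on a `p`-group `P` modulo `N` with values in an abelian group `A` modulo `B`:
  `|P| |B|² ≤ |A|² |N|`;
* `UK` : an element `1 ≠ u ∈ X y`, the Weyl element `k`: `u x u⁻¹ = x (cc u k x) (k x k⁻¹)` for `x ∈ X q`;
* `nd` : **nondegeneracy**: if `x ∈ X q`, `x ∉ Z q`, `x' ∈ X r` commute, then `x' ∈ Z r`.
-/

set_option autoImplicit false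
set_option linter.unusedSectionVars false
set_option linter.dupNamespace false

namespace Cfsg.Agent.LOC.CnNd

open CoxeterSystem Cfsg.Agent.ChevalleyStructure.CoxeterGeom Cfsg.Agent.Tits.Roots Cfsg.Agent.Tits.Core
  Cfsg.Agent.Tits.RootComb Cfsg.Agent.Nodes.Comb Cfsg.Agent.Nodes.SubComb Cfsg.Agent.Nodes.Reps
  Cfsg.Agent.Nodes.Coroot Cfsg.Agent.Nodes.PosPair Cfsg.Agent.Nodes.BNOf Cfsg.Agent.Nodes.RGDLib
  Cfsg.Agent.Nodes.Chart Cfsg.Agent.Nodes.ClsNorm Cfsg.Agent.Nodes.ChartLoc Cfsg.Agent.Nodes.ChartFrame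
  Cfsg.Agent.Nodes.Bruhat Cfsg.Agent.Nodes.CenVV Cfsg.Agent.LOC.ChartDefs Cfsg.Agent.LOC.LemS
open scoped commutatorElement

/-! ### Counting -/

section count

variable {Y : Type*} [Group Y] [Finite Y] {p : ℕ}

/-- an anisotropic form modulo subgroups -/
theorem card_le [Fact p.Prime] {P N A B : Subgroup Y} (hNP : N ≤ P) (hBA : B ≤ A)
    (hPN : ∀ x ∈ P, ∀ y ∈ P, (x * y)⁻¹ * (y * x) ∈ N) (hNc : ∀ n ∈ N, ∀ x ∈ P, x * n * x⁻¹ ∈ N)
    (hP : ∀ x ∈ P, x ^ p ∈ N)
    (hA : ∀ a ∈ A, ∀ b ∈ A, a * b = b * a) (hAp : ∀ a ∈ A, a ^ p ∈ B) (b : Y → Y → Y)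
    (hb : ∀ x ∈ P, ∀ y ∈ P, b x y ∈ A) (h1 : ∀ x ∈ P, ∀ y ∈ P, ∀ z ∈ P, b (x * y) z = b x z * b y z)
    (h2 : ∀ x ∈ P, ∀ y ∈ P, ∀ z ∈ P, b x (y * z) = b x y * b x z)
    (hN1 : ∀ x ∈ N, ∀ y ∈ P, b x y = 1) (hN2 : ∀ x ∈ P, ∀ y ∈ N, b x y = 1)
    (han : ∀ x ∈ P, b x x ∈ B → x ∈ N) : Nat.card P * Nat.card B ^ 2 ≤ Nat.card A ^ 2 * Nat.card N := by
  -- the quotient of `P`
  let N' : Subgroup P := N.subgroupOf P
  have hN'n : N'.Normal := ⟨fun n hn g => by
    rw [Subgroup.mem_subgroupOf] at hn ⊢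
    exact hNc _ hn _ g.2⟩
  let iA : CommGroup A := { (inferInstance : Group A) with
    mul_comm := fun a b => Subtype.ext (hA a.1 a.2 b.1 b.2) }
  let B' : Subgroup A := B.subgroupOf A
  let iP : CommGroup (P ⧸ N') := { (inferInstance : Group (P ⧸ N')) with
    mul_comm := by
      intro a b
      obtain ⟨a, rfl⟩ := QuotientGroup.mk_surjective a
      obtain ⟨b, rfl⟩ := QuotientGroup.mk_surjective b
      rw [← QuotientGroup.mk_mul, ← QuotientGroup.mk_mul, QuotientGroup.eq, Subgroup.mem_subgroupOf]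
      exact hPN _ a.2 _ b.2 }
  have key : ∀ x ∈ P, ∀ y ∈ P, ∀ x' ∈ P, ∀ y' ∈ P, x⁻¹ * x' ∈ N → y⁻¹ * y' ∈ N → b x y = b x' y' := by
    intro x hx y hy x' hx' y' hy' h3 h4
    have e1 : x' = x * (x⁻¹ * x') := by group
    have e2 : y' = y * (y⁻¹ * y') := by group
    rw [e1, e2, h1 _ hx _ (hNP h3) _ (mul_mem hy (hNP h4)), h2 _ hx _ hy _ (hNP h4), hN2 _ hx _ h4,
      hN1 _ h3 _ (mul_mem hy (hNP h4)), mul_one, mul_one]
  let f : P ⧸ N' → P ⧸ N' → A ⧸ B' := fun x y =>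
    ((⟨b (x.out : P).1 (y.out : P).1, hb _ (x.out : P).2 _ (y.out : P).2⟩ : A) : A ⧸ B')
  have hf : ∀ x y : P, f (x : P ⧸ N') (y : P ⧸ N') = ((⟨b x.1 y.1, hb _ x.2 _ y.2⟩ : A) : A ⧸ B') := by
    intro x y
    have h3 : ((x : P ⧸ N').out : P)⁻¹ * x ∈ N' := by
      rw [← QuotientGroup.eq, QuotientGroup.out_eq']
    have h4 : ((y : P ⧸ N').out : P)⁻¹ * y ∈ N' := by
      rw [← QuotientGroup.eq, QuotientGroup.out_eq']
    have h5 := key _ ((x : P ⧸ N').out : P).2 _ ((y : P ⧸ N').out : P).2 _ x.2 _ y.2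
      (Subgroup.mem_subgroupOf.1 h3) (Subgroup.mem_subgroupOf.1 h4)
    show ((⟨b ((x : P ⧸ N').out : P).1 ((y : P ⧸ N').out : P).1, _⟩ : A) : A ⧸ B') = _
    congr 1
    exact Subtype.ext h5
  have hcard := Cit.DWarn.card_le_sq (p := p) (P := P ⧸ N') (A := A ⧸ B') (fun x => by
      obtain ⟨x, rfl⟩ := QuotientGroup.mk_surjective x
      have h3 : ((x ^ p : P) : P ⧸ N') = 1 := by
        rw [QuotientGroup.eq_one_iff, Subgroup.mem_subgroupOf]
        exact hP _ x.2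
      exact h3) (fun x => by
      obtain ⟨x, rfl⟩ := QuotientGroup.mk_surjective x
      have h3 : ((x ^ p : A) : A ⧸ B') = 1 := by
        rw [QuotientGroup.eq_one_iff, Subgroup.mem_subgroupOf]
        exact hAp _ x.2
      exact h3) f (fun x y z => by
      obtain ⟨x, rfl⟩ := QuotientGroup.mk_surjective x
      obtain ⟨y, rfl⟩ := QuotientGroup.mk_surjective y
      obtain ⟨z, rfl⟩ := QuotientGroup.mk_surjective z
      have e1 : f ((x : P ⧸ N') * (y : P ⧸ N')) (z : P ⧸ N') = f ((x * y : P) : P ⧸ N') (z : P ⧸ N') := rfl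
      rw [e1, hf, hf, hf]
      have h3 : (⟨b (x * y : P).1 z.1, hb _ (x * y).2 _ z.2⟩ : A) =
          ⟨b x.1 z.1, hb _ x.2 _ z.2⟩ * ⟨b y.1 z.1, hb _ y.2 _ z.2⟩ := Subtype.ext (h1 _ x.2 _ y.2 _ z.2)
      rw [h3]; rfl) (fun x y z => by
      obtain ⟨x, rfl⟩ := QuotientGroup.mk_surjective x
      obtain ⟨y, rfl⟩ := QuotientGroup.mk_surjective y
      obtain ⟨z, rfl⟩ := QuotientGroup.mk_surjective z
      have e1 : f (x : P ⧸ N') ((y : P ⧸ N') * (z : P ⧸ N')) = f (x : P ⧸ N') ((y * z : P) : P ⧸ N') := rfl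
      rw [e1, hf, hf, hf]
      have h3 : (⟨b x.1 (y * z : P).1, hb _ x.2 _ (y * z).2⟩ : A) =
          ⟨b x.1 y.1, hb _ x.2 _ y.2⟩ * ⟨b x.1 z.1, hb _ x.2 _ z.2⟩ := Subtype.ext (h2 _ x.2 _ y.2 _ z.2)
      rw [h3]; rfl) (fun x hx => by
      obtain ⟨x, rfl⟩ := QuotientGroup.mk_surjective x
      rw [hf] at hx
      have h3 : (⟨b x.1 x.1, hb _ x.2 _ x.2⟩ : A) ∈ B' := (QuotientGroup.eq_one_iff _).1 hx
      have h4 : x ∈ N' := Subgroup.mem_subgroupOf.2 (han _ x.2 (Subgroup.mem_subgroupOf.1 h3))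
      exact (QuotientGroup.eq_one_iff x).2 h4)
  have c1 : Nat.card P = Nat.card (P ⧸ N') * Nat.card N := by
    rw [Subgroup.card_eq_card_quotient_mul_card_subgroup N']
    congr 1
    exact Nat.card_congr (Subgroup.subgroupOfEquivOfLe hNP).toEquiv
  have c2 : Nat.card A = Nat.card (A ⧸ B') * Nat.card B := by
    rw [Subgroup.card_eq_card_quotient_mul_card_subgroup B']
    congr 1
    exact Nat.card_congr (Subgroup.subgroupOfEquivOfLe hBA).toEquiv
  rw [c1, c2]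
  calc Nat.card (P ⧸ N') * Nat.card N * Nat.card B ^ 2 ≤ Nat.card (A ⧸ B') ^ 2 * Nat.card N * Nat.card B ^ 2 :=
        Nat.mul_le_mul_right _ (Nat.mul_le_mul_right _ hcard)
    _ = (Nat.card (A ⧸ B') * Nat.card B) ^ 2 * Nat.card N := by ring

end count

/-! ### One element of `X y` -/

section plane

variable {I W Y : Type*} [Fintype I] [DecidableEq I] [Group W] [Fintype W] [Group Y] {M : CoxeterMatrix I}
  {cs : CoxeterSystem M W} {A : I → I → ℤ} {h : IsCartan M A} {p : ℕ} {T : Subgroup Y} {n : I → Y}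
  {X : (I → ℤ) → Subgroup Y} {R : Set (I → ℤ)} {Z : (I → ℤ) → Subgroup Y} {z : (I → ℤ) → Y}

/-- `c` in `u x u⁻¹ = x c (k x k⁻¹)` -/
def cc (u k x : Y) : Y := x⁻¹ * (u * x * u⁻¹) * (k * x * k⁻¹)⁻¹

/-- the commutator form -/
def sg (k x x' : Y) : Y := ⁅(k * x * k⁻¹)⁻¹, x'⁻¹⁆

theorem cc_eq (u k x : Y) : u * x * u⁻¹ = x * cc u k x * (k * x * k⁻¹) := by
  unfold cc; group

/-- an element `1 ≠ u ∈ X y` -/
structure UK (X Z : (I → ℤ) → Subgroup Y) (r y : I → ℤ) (u k : Y) : Prop where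
  mem : u ∈ X y
  ne : u ≠ 1
  d : ∀ x ∈ X (r - (2 : ℤ) • y), k * x * k⁻¹ ∈ X r
  dZ : ∀ x ∈ Z (r - (2 : ℤ) • y), k * x * k⁻¹ ∈ Z r
  c : ∀ x ∈ X (r - (2 : ℤ) • y), cc u k x ∈ X (r - y)

variable {r y : I → ℤ} (P : Pl cs h R r y)

include P

/-- the plane with the other short root -/
theorem flip : Pl cs h R r (r - y) where
  L := P.L
  mem := P.mem
  root := P.rootw
  h1 := by rw [P.fwr, P.frr]
  h2 := by
    have h3 := P.form_pt 1 (-1) 1 (-1)
    have e1 : (1 : ℤ) • r + (-1 : ℤ) • y = r - y := by module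
    rw [e1] at h3
    rw [h3, P.frr]; ring

section rgd

variable (Rd : RGD cs h p T n X)

include Rd

/-- uniqueness of `c d` -/
theorem uniq {c d c' d' : Y} (hc : c ∈ X (r - y)) (hd : d ∈ X r) (hc' : c' ∈ X (r - y)) (hd' : d' ∈ X r)
    (e : c * d = c' * d') : c = c' ∧ d = d' := by
  have h1 : d * d'⁻¹ = 1 := by
    refine P.sep_r Rd (mul_mem hd (inv_mem hd')) (Subgroup.mem_sup_left ?_)
    have : d * d'⁻¹ = c⁻¹ * c' := by
      calc d * d'⁻¹ = c⁻¹ * (c * d) * d'⁻¹ := by group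
        _ = c⁻¹ * c' := by rw [e]; group
    rw [this]
    exact mul_mem (inv_mem hc) hc'
  have h2 := mul_inv_eq_one.1 h1
  rw [h2] at e
  exact ⟨mul_right_cancel e, h2⟩

/-- `⁅a b, c⁆ = ⁅a, c⁆ ⁅b, c⁆` for `a, b ∈ X r`, `c ∈ X q` -/
theorem com_left {a b c : Y} (ha : a ∈ X r) (hb : b ∈ X r) (hc : c ∈ X (r - (2 : ℤ) • y)) :
    ⁅a * b, c⁆ = ⁅b, c⁆ * ⁅a, c⁆ := by
  have h1 := P.cwr Rd (P.mrq Rd hb hc) ha
  calc ⁅a * b, c⁆ = a * ⁅b, c⁆ * a⁻¹ * ⁅a, c⁆ := by simp only [commutatorElement_def]; group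
    _ = ⁅b, c⁆ * ⁅a, c⁆ := by rw [← h1]; group

theorem com_right {a b c : Y} (ha : a ∈ X r) (hb : b ∈ X (r - (2 : ℤ) • y)) (hc : c ∈ X (r - (2 : ℤ) • y)) :
    ⁅a, b * c⁆ = ⁅a, b⁆ * ⁅a, c⁆ := by
  have h1 := P.cwq Rd (P.mrq Rd ha hc) hb
  calc ⁅a, b * c⁆ = ⁅a, b⁆ * (b * ⁅a, c⁆ * b⁻¹) := by simp only [commutatorElement_def]; group
    _ = ⁅a, b⁆ * ⁅a, c⁆ := by rw [← h1]; group

end rgd

variable (C : Cls cs h p T n X R Z z)

include C

theorem exists_uk {u : Y} (hu : u ∈ X y) (hu1 : u ≠ 1) : ∃ k, UK X Z r y u k := by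
  obtain ⟨w, k, hk, hw, H⟩ := P.conj C hu hu1
  refine ⟨k, hu, hu1, fun x hx => (H x hx).1, fun x hx => ?_, fun x hx => ?_⟩
  · have h3 := Nodes.ClsNorm.conj_Z C hk (P.memq C)
    rw [P.rep_q C hw] at h3
    rw [← h3]
    exact conj_mem_cj.2 hx
  · obtain ⟨-, c, hc, e⟩ := H x hx
    have : cc u k x = c := by
      unfold cc
      rw [e]; group
    rwa [this]

variable {u k : Y} (D : UK X Z r y u k)

include D

theorem sg_mem {x x' : Y} (hx : x ∈ X (r - (2 : ℤ) • y)) (hx' : x' ∈ X (r - (2 : ℤ) • y)) :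
    sg k x x' ∈ X (r - y) := P.mrq C.rgd (inv_mem (D.d x hx)) (inv_mem hx')

/-- `c` is determined by the equation -/
theorem cc_of_eq {x c d : Y} (hx : x ∈ X (r - (2 : ℤ) • y)) (hc : c ∈ X (r - y)) (hd : d ∈ X r)
    (e : u * x * u⁻¹ = x * c * d) : cc u k x = c ∧ k * x * k⁻¹ = d := by
  refine uniq P C.rgd (D.c x hx) (D.d x hx) hc hd ?_
  rw [cc_eq u k x] at e
  have : x * (cc u k x * (k * x * k⁻¹)) = x * (c * d) := by rw [← mul_assoc, e, mul_assoc]
  exact mul_left_cancel this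

theorem cc_mul {x x' : Y} (hx : x ∈ X (r - (2 : ℤ) • y)) (hx' : x' ∈ X (r - (2 : ℤ) • y)) :
    cc u k (x * x') = cc u k x * cc u k x' * sg k x x' := by
  have hc := D.c x hx
  have hc' := D.c x' hx'
  have hd := D.d x hx
  have hd' := D.d x' hx'
  have hs := sg_mem P C D hx hx'
  refine (cc_of_eq P C D (mul_mem hx hx') (mul_mem (mul_mem hc hc') hs) (mul_mem hd hd') ?_).1
  have q1 := P.cwq C.rgd hc hx'
  have q2 := P.cwq C.rgd hs hx'
  have q3 := P.cwr C.rgd (mul_mem hs hc') hd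
  have q4 := P.abw C hs hc'
  set c := cc u k x with hcd
  set c' := cc u k x' with hcd'
  set d := k * x * k⁻¹ with hdd
  set d' := k * x' * k⁻¹ with hdd'
  have e1 : d * x' = x' * (d * sg k x x') := by
    unfold sg; rw [← hdd, commutatorElement_def]; group
  calc u * (x * x') * u⁻¹ = (u * x * u⁻¹) * (u * x' * u⁻¹) := by group
    _ = (x * c * d) * (x' * c' * d') := by rw [cc_eq u k x, cc_eq u k x', ← hcd, ← hcd', ← hdd, ← hdd']
    _ = x * c * (d * x') * c' * d' := by group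
    _ = x * (c * x') * (d * sg k x x') * c' * d' := by rw [e1]; group
    _ = x * (x' * c) * (d * (sg k x x' * c')) * d' := by rw [q1]; group
    _ = x * x' * c * (sg k x x' * c' * d) * d' := by rw [q3]; group
    _ = x * x' * c * (c' * sg k x x' * d) * d' := by rw [q4]
    _ = x * x' * (c * c' * sg k x x') * (d * d') := by group

theorem cc_ne {x : Y} (hx : x ∈ X (r - (2 : ℤ) • y)) (h0 : cc u k x = 1) : x = 1 := by
  by_contra hx1
  refine D.ne (P.ne_one C D.mem hx hx1 (D.d x hx) ?_)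
  have := cc_eq u k x
  rwa [h0, mul_one] at this

theorem sg_left {x x' v : Y} (hx : x ∈ X (r - (2 : ℤ) • y)) (hx' : x' ∈ X (r - (2 : ℤ) • y))
    (hv : v ∈ X (r - (2 : ℤ) • y)) : sg k (x * x') v = sg k x v * sg k x' v := by
  have e : (k * (x * x') * k⁻¹)⁻¹ = (k * x' * k⁻¹)⁻¹ * (k * x * k⁻¹)⁻¹ := by group
  unfold sg
  rw [e, com_left P C.rgd (inv_mem (D.d x' hx')) (inv_mem (D.d x hx)) (inv_mem hv)]

theorem sg_right {x x' v : Y} (hx : x ∈ X (r - (2 : ℤ) • y)) (hx' : x' ∈ X (r - (2 : ℤ) • y))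
    (hv : v ∈ X (r - (2 : ℤ) • y)) : sg k v (x * x') = sg k v x * sg k v x' := by
  unfold sg
  rw [mul_inv_rev x x', com_right P C.rgd (inv_mem (D.d v hv)) (inv_mem hx') (inv_mem hx)]
  exact P.abw C (P.mrq C.rgd (inv_mem (D.d v hv)) (inv_mem hx')) (P.mrq C.rgd (inv_mem (D.d v hv)) (inv_mem hx))

theorem sg_Zl {x v : Y} (hx : x ∈ Z (r - (2 : ℤ) • y)) (hv : v ∈ X (r - (2 : ℤ) • y)) : sg k x v = 1 := by
  unfold sg
  rw [commutatorElement_eq_one_iff_mul_comm]
  exact P.czrq C (inv_mem (D.dZ x hx)) (inv_mem hv)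

theorem sg_Zr {x v : Y} (hx : x ∈ X (r - (2 : ℤ) • y)) (hv : v ∈ Z (r - (2 : ℤ) • y)) : sg k x v = 1 := by
  unfold sg
  rw [commutatorElement_eq_one_iff_mul_comm]
  exact C.cent _ (P.memq C) _ P.L.root (by rw [P.frq]) _ (inv_mem (D.d x hx)) _ (inv_mem hv)

/-- `L_u` -/
def LL (_P : Pl cs h R r y) (_C : Cls cs h p T n X R Z z) (u k : Y) : Subgroup Y :=
  Subgroup.closure {c | ∃ x ∈ Z (r - (2 : ℤ) • y), c = cc u k x}

theorem mem_LL {c : Y} : c ∈ LL P C u k ↔ ∃ x ∈ Z (r - (2 : ℤ) • y), c = cc u k x := by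
  have hle := C.le _ (P.memq C)
  constructor
  · intro hc
    refine Subgroup.closure_induction (p := fun c _ => ∃ x ∈ Z (r - (2 : ℤ) • y), c = cc u k x) (fun c hc => hc)
      ?_ ?_ ?_ hc
    · exact ⟨1, one_mem _, by unfold cc; group⟩
    · rintro a b - - ⟨x, hx, rfl⟩ ⟨x', hx', rfl⟩
      refine ⟨x * x', mul_mem hx hx', ?_⟩
      rw [cc_mul P C D (hle hx) (hle hx'), sg_Zl P C D hx (hle hx'), mul_one]
    · rintro a - ⟨x, hx, rfl⟩
      refine ⟨x⁻¹, inv_mem hx, ?_⟩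
      have h1 := cc_mul P C D (hle hx) (hle (inv_mem hx))
      rw [sg_Zl P C D hx (hle (inv_mem hx)), mul_one, mul_inv_cancel] at h1
      have h2 : cc u k 1 = 1 := by unfold cc; group
      rw [h2] at h1
      exact inv_eq_of_mul_eq_one_right h1.symm
  · exact fun hc => Subgroup.subset_closure hc

theorem LL_le : LL P C u k ≤ X (r - y) := by
  intro c hc
  obtain ⟨x, hx, rfl⟩ := (mem_LL P C D).1 hc
  exact D.c x (C.le _ (P.memq C) hx)

theorem cc_inj {x x' : Y} (hx : x ∈ X (r - (2 : ℤ) • y)) (hx' : x' ∈ Z (r - (2 : ℤ) • y))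
    (e : cc u k x = cc u k x') : x = x' := by
  have hle := C.le _ (P.memq C)
  have h1 := cc_mul P C D hx (hle (inv_mem hx'))
  have h2 := cc_mul P C D (hle hx') (hle (inv_mem hx'))
  rw [sg_Zr P C D hx (inv_mem hx'), mul_one, e] at h1
  rw [sg_Zl P C D hx' (hle (inv_mem hx')), mul_one, mul_inv_cancel] at h2
  rw [← h2] at h1
  have h3 : cc u k 1 = 1 := by unfold cc; group
  rw [h3] at h1
  exact mul_inv_eq_one.1 (cc_ne P C D (mul_mem hx (hle (inv_mem hx'))) h1)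

theorem mem_Z_of_cc {x : Y} (hx : x ∈ X (r - (2 : ℤ) • y)) (h0 : cc u k x ∈ LL P C u k) :
    x ∈ Z (r - (2 : ℤ) • y) := by
  obtain ⟨x', hx', e⟩ := (mem_LL P C D).1 h0
  rwa [cc_inj P C D hx hx' e]

theorem card_LL : Nat.card (LL P C u k) = Nat.card (Z (r - (2 : ℤ) • y)) := by
  refine (Nat.card_congr (Equiv.ofBijective
    (fun x : Z (r - (2 : ℤ) • y) => (⟨cc u k x.1, (mem_LL P C D).2 ⟨_, x.2, rfl⟩⟩ : LL P C u k)) ⟨?_, ?_⟩)).symm
  · intro x x' e
    exact Subtype.ext (cc_inj P C D (C.le _ (P.memq C) x.2) x'.2 (congrArg Subtype.val e))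
  · rintro ⟨c, hc⟩
    obtain ⟨x, hx, rfl⟩ := (mem_LL P C D).1 hc
    exact ⟨⟨x, hx⟩, rfl⟩

/-- `cc (z q x z q) = cc x` -/
theorem cc_cj {x : Y} (hx : x ∈ X (r - (2 : ℤ) • y)) :
    cc u k (z (r - (2 : ℤ) • y) * x * z (r - (2 : ℤ) • y)) = cc u k x := by
  have hq := P.memq C
  have hr := P.mem
  have hpos := P.pos
  set ζ := z (r - (2 : ℤ) • y) with hζ
  set ξ := z r with hξ
  have hζ2 : ζ * ζ = 1 := C.z_sq _ hq
  have hξ2 : ξ * ξ = 1 := C.z_sq _ hr
  have nyq := P.ne (x := y) (x' := r - (2 : ℤ) • y) 0 1 1 (-2) (by module) (by module) (by omega)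
  have nynq := P.ne (x := y) (x' := -(r - (2 : ℤ) • y)) 0 1 (-1) 2 (by module) (by module) (by omega)
  have nwq := P.ne (x := r - y) (x' := r - (2 : ℤ) • y) 1 (-1) 1 (-2) (by module) (by module) (by omega)
  have nwnq := P.ne (x := r - y) (x' := -(r - (2 : ℤ) • y)) 1 (-1) (-1) 2 (by module) (by module) (by omega)
  have nyr := P.ne (x := y) (x' := r) 0 1 1 0 (by module) (by module) (by omega)
  have nynr := P.ne (x := y) (x' := -r) 0 1 (-1) 0 (by module) (by module) (by omega)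
  have nwr := P.ne (x := r - y) (x' := r) 1 (-1) 1 0 (by module) (by module) (by omega)
  have nwnr := P.ne (x := r - y) (x' := -r) 1 (-1) (-1) 0 (by module) (by module) (by omega)
  have hc := D.c x hx
  have hd := D.d x hx
  set c := cc u k x with hcd
  set d := k * x * k⁻¹ with hdd
  -- the action of `ω = ξ ζ`
  have i1 : ∀ a b : Y, b * b = 1 → ∀ t : Y, b * t * b = t⁻¹ → a * a = 1 → a * t * a = t⁻¹ →
      a * (b * t * b) * a = t := by
    intro a b _ t h1 h2 h3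
    rw [h1]
    have h4 : a⁻¹ = a := inv_eq_of_mul_eq_one_left h2
    have h5 : (a * t * a)⁻¹ = a * t⁻¹ * a := by
      rw [mul_inv_rev, mul_inv_rev, h4, mul_assoc]
    rw [← h5, h3, inv_inv]
  have wu : ξ * (ζ * u * ζ) * ξ = u :=
    i1 ξ ζ hζ2 u (C.z_inv _ hq y P.root nyq nynq (by rw [P.fyq]; omega) u D.mem) hξ2
      (C.z_inv _ hr y P.root nyr nynr (by rw [P.fyr]; omega) u D.mem)
  have wc : ξ * (ζ * c * ζ) * ξ = c :=
    i1 ξ ζ hζ2 c (C.z_inv _ hq _ P.rootw nwq nwnq (by rw [P.fwq]; omega) c hc) hξ2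
      (C.z_inv _ hr _ P.rootw nwr nwnr (by rw [P.fwr]; omega) c hc)
  have hT : ∀ {s : I → ℤ}, s ∈ R → ∀ {x : I → ℤ}, IsRoot cs h x → ∀ {a : Y}, a ∈ X x → z s * a * z s ∈ X x := by
    intro s hs x hx a ha
    have h1 := C.rgd.tor x hx _ (C.z_torus s hs)
    rw [← h1]
    have h2 : z s * a * z s = z s * a * (z s)⁻¹ := by rw [Nodes.ZRel.z_inv' C hs]
    rw [h2]
    exact conj_mem_cj.2 ha
  have wx : ξ * (ζ * x * ζ) * ξ = ζ * x * ζ := by
    have h1 := Nodes.ZRel.z_cent_of_orth C hr P.rootq (by rw [form_comm, P.frq]) (hT hq P.rootq hx)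
    rw [← h1, mul_assoc, hξ2, mul_one]
  have wd : ξ * (ζ * d * ζ) * ξ ∈ X r := hT hr P.L.root (hT hq P.L.root hd)
  have e1 : u * (ζ * x * ζ) * u⁻¹ = (ζ * x * ζ) * c * (ξ * (ζ * d * ζ) * ξ) := by
    have h1 : ξ * (ζ * (u * x * u⁻¹) * ζ) * ξ = ξ * (ζ * (x * c * d) * ζ) * ξ := by
      rw [cc_eq u k x, ← hcd, ← hdd]
    have wi : ξ * (ζ * u⁻¹ * ζ) * ξ = u⁻¹ := by
      have h2 : (ξ * (ζ * u * ζ) * ξ)⁻¹ = ξ * (ζ * u⁻¹ * ζ) * ξ := by
        have h3 : ζ⁻¹ = ζ := inv_eq_of_mul_eq_one_left hζ2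
        have h4 : ξ⁻¹ = ξ := inv_eq_of_mul_eq_one_left hξ2
        rw [mul_inv_rev, mul_inv_rev, mul_inv_rev, mul_inv_rev, h3, h4]
        simp only [mul_assoc]
      rw [← h2, wu]
    have key : ∀ a b c : Y, ξ * (ζ * (a * b * c) * ζ) * ξ =
        ξ * (ζ * a * ζ) * ξ * (ξ * (ζ * b * ζ) * ξ) * (ξ * (ζ * c * ζ) * ξ) := by
      intro a b c
      calc ξ * (ζ * (a * b * c) * ζ) * ξ = ξ * (ζ * a * 1 * b * 1 * c * ζ) * ξ := by group
        _ = ξ * (ζ * a * (ζ * 1 * ζ) * b * (ζ * 1 * ζ) * c * ζ) * ξ := by rw [mul_one ζ, hζ2]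
        _ = ξ * (ζ * a * (ζ * (ξ * ξ) * ζ) * b * (ζ * (ξ * ξ) * ζ) * c * ζ) * ξ := by rw [hξ2]
        _ = _ := by simp only [mul_assoc]
    rw [key, key, wu, wc, wx, wi] at h1
    exact h1
  exact (cc_of_eq P C D (hT hq P.rootq hx) hc wd e1).1

/-- anisotropy of `sg` modulo `L_u` -/
theorem sg_an [Fact p.Prime] (hp2 : p ≠ 2) {x : Y} (hx : x ∈ X (r - (2 : ℤ) • y))
    (h0 : sg k x x ∈ LL P C u k) : x ∈ Z (r - (2 : ℤ) • y) := by
  have hq := P.memq C
  set ζ := z (r - (2 : ℤ) • y) * x * z (r - (2 : ℤ) • y) * x with hζ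
  have hζZ : ζ ∈ Z (r - (2 : ℤ) • y) := C.z_inv_self _ hq x hx
  have hζX := C.le _ hq hζZ
  have hx' : z (r - (2 : ℤ) • y) * x * z (r - (2 : ℤ) • y) = ζ * x⁻¹ := by rw [hζ]; group
  have h1 := cc_mul P C D (mul_mem hζX (inv_mem hx)) hx
  rw [inv_mul_cancel_right, ← hx', cc_cj P C D hx, hx', sg_left P C D hζX (inv_mem hx) hx,
    sg_Zl P C D hζZ hx, one_mul] at h1
  have h2 : sg k x⁻¹ x = (sg k x x)⁻¹ := by
    have h3 := sg_left P C D hx (inv_mem hx) hx
    rw [mul_inv_cancel] at h3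
    have h4 : sg k 1 x = 1 := by unfold sg; rw [mul_one, mul_inv_cancel, inv_one, commutatorElement_one_left]
    rw [h4] at h3
    exact (inv_eq_of_mul_eq_one_right h3.symm).symm
  rw [h2] at h1
  have h5 : cc u k x * cc u k x ∈ LL P C u k := by
    have h6 : cc u k x * cc u k x = cc u k ζ * sg k x x := by rw [h1]; group
    rw [h6]
    exact mul_mem ((mem_LL P C D).2 ⟨_, hζZ, rfl⟩) h0
  refine mem_Z_of_cc P C D hx ?_
  -- odd order
  have hc := D.c x hx
  obtain ⟨m, hm⟩ := (C.rgd.pgrp' P.rootw) ⟨_, hc⟩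
  have hm' : cc u k x ^ p ^ m = 1 := congrArg Subtype.val hm
  have ho : Odd (p ^ m) := ((Fact.out : p.Prime).odd_of_ne_two hp2).pow
  obtain ⟨l, hl⟩ := ho
  have h7 : (cc u k x * cc u k x) ^ (l + 1) = cc u k x := by
    rw [← pow_two, ← pow_mul]
    have : 2 * (l + 1) = p ^ m + 1 := by omega
    rw [this, pow_succ, hm', one_mul]
  rw [← h7]
  exact pow_mem h5 _

/-! ### Counting in the plane -/

omit D

variable [Finite Y] [Fact p.Prime] (hp2 : p ≠ 2) (hexp : ∀ x ∈ Z r, x ^ p = 1)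

include hp2

omit k u in
/-- the exponent of `X y` -/
theorem exp_y (hexp : ∀ x ∈ Z r, x ^ p = 1) {v : Y} (hv : v ∈ X y) : v ^ p = 1 := by
  obtain ⟨a, ha, ha1⟩ : ∃ a ∈ Z (r - (2 : ℤ) • y), a ≠ 1 := by
    by_contra hcon
    push Not at hcon
    exact C.ne_bot _ (P.memq C) ((Subgroup.eq_bot_iff_forall _).2 hcon)
  refine P.aniso C hp2 ha ha1 (pow_mem hv p) ?_
  have key : ∀ m : ℕ, ∀ x ∈ X y, ⁅v ^ m, ⁅a⁻¹, x⁆⁆ = ⁅v, ⁅a⁻¹, x⁆⁆ ^ m := by
    intro m x hx
    induction m with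
    | zero => rw [pow_zero, pow_zero, commutatorElement_one_left]
    | succ m ih => rw [pow_succ, P.form_add C hp2 ha (pow_mem hv m) hv hx, ih, pow_succ]
  rw [key p _ (pow_mem hv p)]
  exact hexp _ (P.form_mem C hp2 ha hv (pow_mem hv p))

omit k u in
theorem card_y (hexp : ∀ x ∈ Z r, x ^ p = 1) : Nat.card (X y) ≤ Nat.card (Z r) ^ 2 := by
  obtain ⟨a, ha, ha1⟩ : ∃ a ∈ Z (r - (2 : ℤ) • y), a ≠ 1 := by
    by_contra hcon
    push Not at hcon
    exact C.ne_bot _ (P.memq C) ((Subgroup.eq_bot_iff_forall _).2 hcon)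
  have rr : ∀ a ∈ Z r, ∀ b ∈ Z r, a * b = b * a := fun a ha b hb =>
    C.cent r P.mem r P.L.root P.L.pos.le _ (C.le _ P.mem ha) _ hb
  have h1 := card_le (p := p) (P := X y) (N := ⊥) (A := Z r) (B := ⊥) bot_le bot_le
    (fun x hx x' hx' => by
      rw [Subgroup.mem_bot, P.aby C hx hx', inv_mul_cancel])
    (fun n hn x _ => by
      rw [Subgroup.mem_bot] at hn ⊢
      rw [hn]; group)
    (fun x hx => Subgroup.mem_bot.2 (exp_y P C hp2 hexp hx)) rr
    (fun x hx => Subgroup.mem_bot.2 (hexp x hx)) (fun u v => ⁅u, ⁅a⁻¹, v⁆⁆)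
    (fun x hx x' hx' => P.form_mem C hp2 ha hx hx')
    (fun x hx x' hx' v hv => P.form_add C hp2 ha hx hx' hv)
    (fun v hv x hx x' hx' => by
      show ⁅v, ⁅a⁻¹, x * x'⁆⁆ = ⁅v, ⁅a⁻¹, x⁆⁆ * ⁅v, ⁅a⁻¹, x'⁆⁆
      rw [P.form_symm C hp2 ha hv (mul_mem hx hx'), P.form_symm C hp2 ha hv hx, P.form_symm C hp2 ha hv hx',
        P.form_add C hp2 ha hx hx' hv])
    (fun x hx x' _ => by
      rw [Subgroup.mem_bot] at hx
      show ⁅x, ⁅a⁻¹, x'⁆⁆ = 1
      rw [hx, commutatorElement_one_left])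
    (fun x _ x' hx' => by
      rw [Subgroup.mem_bot] at hx'
      show ⁅x, ⁅a⁻¹, x'⁆⁆ = 1
      rw [hx', commutatorElement_one_right, commutatorElement_one_right])
    (fun x hx h0 => Subgroup.mem_bot.2 (P.aniso C hp2 ha ha1 hx (Subgroup.mem_bot.1 h0)))
  rw [Subgroup.card_bot, one_pow, mul_one, mul_one] at h1
  exact h1

omit k u hp2 in
theorem card_w : Nat.card (X (r - y)) = Nat.card (X y) := by
  obtain ⟨s, hs⟩ := Nodes.KindBase.exists_refl cs h P.rootq
  have h1 : cpr cs h (r - y) (r - (2 : ℤ) • y) = 1 := by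
    apply cpr_eq_of_form cs h P.rootq
    have h2 := P.form_pt 1 (-2) 1 (-2)
    have e2 : (1 : ℤ) • r + (-2 : ℤ) • y = r - (2 : ℤ) • y := by module
    rw [e2] at h2
    rw [P.fwq, h2]; ring
  have h2 : rep cs h s (r - y) = y := by rw [hs, h1]; module
  rw [← Nodes.CardSup.card_X_rep C.rgd s P.rootw, h2]

omit k u hp2 in
theorem card_q : Nat.card (X (r - (2 : ℤ) • y)) = Nat.card (X r) := by
  obtain ⟨s, hs⟩ := Nodes.KindBase.exists_refl cs h P.root
  rw [← Nodes.CardSup.card_X_rep C.rgd s P.rootq, P.rep_q C hs]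

omit k u hp2 in
theorem card_Zq : Nat.card (Z (r - (2 : ℤ) • y)) = Nat.card (Z r) := by
  obtain ⟨s, hs⟩ := Nodes.KindBase.exists_refl cs h P.root
  obtain ⟨g, hg⟩ := exists_rp cs C.rgd.nsys s
  have h3 := Nodes.ClsNorm.conj_Z C hg (P.memq C)
  rw [P.rep_q C hs] at h3
  rw [← h3]
  exact (Nodes.CardSup.card_cj _).symm

include D in
/-- `|X r| |Z r| ≤ |X w|²` -/
theorem card_r (hexp : ∀ x ∈ Z r, x ^ p = 1) : Nat.card (X r) * Nat.card (Z r) ≤ Nat.card (X (r - y)) ^ 2 := by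
  have hq := P.memq C
  have hle := C.le _ hq
  have hpw : ∀ a ∈ X (r - y), a ^ p = 1 := fun a ha => exp_y (flip P) C hp2 hexp ha
  have hZc : ∀ n ∈ Z (r - (2 : ℤ) • y), ∀ x ∈ X (r - (2 : ℤ) • y), x * n = n * x := fun n hn x hx =>
    C.cent _ hq _ P.rootq (P.swap C).L.pos.le _ hx _ hn
  have hone : ∀ v, sg k 1 v = 1 := by
    intro v
    unfold sg
    rw [mul_one, mul_inv_cancel, inv_one, commutatorElement_one_left]
  have hone' : ∀ v, sg k v 1 = 1 := by
    intro v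
    unfold sg
    rw [inv_one, commutatorElement_one_right]
  have hl : ∀ m : ℕ, ∀ x ∈ X (r - (2 : ℤ) • y), ∀ v ∈ X (r - (2 : ℤ) • y), sg k (x ^ m) v = sg k x v ^ m := by
    intro m x hx v hv
    induction m with
    | zero => rw [pow_zero, pow_zero, hone]
    | succ m ih => rw [pow_succ, sg_left P C D (pow_mem hx m) hx hv, ih, pow_succ]
  have key := card_le (p := p) (P := X (r - (2 : ℤ) • y)) (N := Z (r - (2 : ℤ) • y)) (A := X (r - y))
    (B := LL P C u k) hle (LL_le P C D)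
    (fun x hx x' hx' => by
      have h1 : (x * x')⁻¹ * (x' * x) = ⁅x'⁻¹, x⁻¹⁆ := by rw [commutatorElement_def]; group
      rw [h1]
      exact commutator_VV_le C hp2 hq (Subgroup.commutator_mem_commutator
        ((P.swap C).X_r_le (inv_mem hx')) ((P.swap C).X_r_le (inv_mem hx))))
    (fun n hn x hx => by
      rw [hZc n hn x hx, mul_inv_cancel_right]
      exact hn)
    (fun x hx => by
      refine sg_an P C D hp2 (pow_mem hx p) ?_
      rw [hl p x hx _ (pow_mem hx p), hpw _ (sg_mem P C D hx (pow_mem hx p))]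
      exact one_mem _)
    (fun a ha b hb => P.abw C ha hb) (fun a ha => by rw [hpw a ha]; exact one_mem _) (sg k)
    (fun x hx x' hx' => sg_mem P C D hx hx') (fun x hx x' hx' v hv => sg_left P C D hx hx' hv)
    (fun v hv x hx x' hx' => sg_right P C D hx hx' hv) (fun x hx v hv => sg_Zl P C D hx hv)
    (fun x hx v hv => sg_Zr P C D hx hv) (fun x hx h0 => sg_an P C D hp2 hx h0)
  rw [card_LL P C D, card_q P C, card_Zq P C] at key
  have hpos : 0 < Nat.card (Z r) := Nat.card_pos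
  refine Nat.le_of_mul_le_mul_right (c := Nat.card (Z r)) ?_ hpos
  calc Nat.card (X r) * Nat.card (Z r) * Nat.card (Z r) = Nat.card (X r) * Nat.card (Z r) ^ 2 := by ring
    _ ≤ Nat.card (X (r - y)) ^ 2 * Nat.card (Z r) := key

omit k u in
/-- **Nondegeneracy.** -/
theorem nd (hexp : ∀ x ∈ Z r, x ^ p = 1) {x x' : Y} (hx : x ∈ X (r - (2 : ℤ) • y))
    (hxZ : x ∉ Z (r - (2 : ℤ) • y)) (hx' : x' ∈ X r) (hc : x * x' = x' * x) : x' ∈ Z r := by
  have hq := P.memq C
  obtain ⟨u₀, hu₀, hu1⟩ : ∃ u ∈ X y, u ≠ 1 := by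
    by_contra hcon
    push Not at hcon
    exact Nodes.StdConn.X_ne_bot C P.root ((Subgroup.eq_bot_iff_forall _).2 hcon)
  obtain ⟨k₀, D₀⟩ := exists_uk P C hu₀ hu1
  have c1 := card_r P C D₀ hp2 hexp
  have c2 := card_y (flip P) C hp2 hexp
  -- the commutator with `x`
  let F : X r →* X (r - y) :=
    { toFun := fun a => ⟨⁅a.1⁻¹, x⁻¹⁆, P.mrq C.rgd (inv_mem a.2) (inv_mem hx)⟩
      map_one' := Subtype.ext (by
        show ⁅(1 : Y)⁻¹, x⁻¹⁆ = 1
        rw [inv_one, commutatorElement_one_left])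
      map_mul' := fun a b => Subtype.ext (by
        show ⁅(a.1 * b.1)⁻¹, x⁻¹⁆ = ⁅a.1⁻¹, x⁻¹⁆ * ⁅b.1⁻¹, x⁻¹⁆
        rw [mul_inv_rev, com_left P C.rgd (inv_mem b.2) (inv_mem a.2) (inv_mem hx)]) }
  have hF : ∀ a : X r, (F a).1 = ⁅a.1⁻¹, x⁻¹⁆ := fun a => rfl
  -- for each `u` an element `d`
  have hd : ∀ u : X y, ∃ d : X r, ∃ c ∈ X (r - y), u.1 * x * u.1⁻¹ = x * c * d.1 := by
    rintro ⟨u, hu⟩
    obtain ⟨c, hc, d, hd, e⟩ := P.mqy C.rgd (inv_mem hx) hu
    refine ⟨⟨d, hd⟩, c, hc, ?_⟩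
    show u * x * u⁻¹ = x * c * d
    have : u * x * u⁻¹ = x * ⁅x⁻¹, u⁆ := by rw [commutatorElement_def]; group
    rw [this, e, mul_assoc]
  choose dd c hcm he using hd
  have hinj : Function.Injective fun u : X y => (⟨F (dd u), ⟨_, rfl⟩⟩ : F.range) := by
    intro u v e
    have e' : F (dd u) = F (dd v) := congrArg Subtype.val e
    by_contra hne
    set t := u⁻¹ * v with ht
    have ht1 : t.1 ≠ 1 := by
      intro h0
      apply hne
      have : t = 1 := Subtype.ext h0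
      exact inv_mul_eq_one.1 (ht ▸ this)
    have hv : v = u * t := by rw [ht]; group
    have hv' : v.1 = u.1 * t.1 := congrArg Subtype.val hv
    -- `u c_t u⁻¹ = c_t ζ`
    have hζ : ⁅(c t)⁻¹, u.1⁆ ∈ Z r := commutator_VV_le C hp2 P.mem (Subgroup.commutator_mem_commutator
      (P.X_w_le (inv_mem (hcm t))) (P.X_y_le u.2))
    have e1 : v.1 * x * v.1⁻¹ = x * (c u * c t) * ((dd u).1 * ⁅(c t)⁻¹, u.1⁆ * (dd t).1) := by
      have q1 := P.cyr C.rgd u.2 (dd t).2
      have q2 := P.cwr C.rgd (hcm t) (dd u).2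
      have q3 : u.1 * (c t) * u.1⁻¹ = c t * ⁅(c t)⁻¹, u.1⁆ := by rw [commutatorElement_def]; group
      calc v.1 * x * v.1⁻¹ = u.1 * (t.1 * x * t.1⁻¹) * u.1⁻¹ := by rw [hv']; group
        _ = u.1 * (x * c t * (dd t).1) * u.1⁻¹ := by rw [he t]
        _ = (u.1 * x * u.1⁻¹) * (u.1 * c t * u.1⁻¹) * ((u.1 * (dd t).1) * u.1⁻¹) := by group
        _ = (x * c u * (dd u).1) * (c t * ⁅(c t)⁻¹, u.1⁆) * (((dd t).1 * u.1) * u.1⁻¹) := by
            rw [he u, q3, q1]
        _ = x * c u * ((dd u).1 * c t) * ⁅(c t)⁻¹, u.1⁆ * (dd t).1 := by group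
        _ = x * c u * (c t * (dd u).1) * ⁅(c t)⁻¹, u.1⁆ * (dd t).1 := by rw [q2]
        _ = _ := by group
    have hζX := C.le _ P.mem hζ
    have e2 : x * (c v * (dd v).1) = x * ((c u * c t) * ((dd u).1 * ⁅(c t)⁻¹, u.1⁆ * (dd t).1)) := by
      rw [← mul_assoc, ← he v, e1, mul_assoc]
    have e3 := (uniq P C.rgd (hcm v) (dd v).2 (mul_mem (hcm u) (hcm t))
      (mul_mem (mul_mem (dd u).2 hζX) (dd t).2) (mul_left_cancel e2)).2
    have e4 : dd v = dd u * ⟨_, hζX⟩ * dd t := Subtype.ext e3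
    have e5 : F ⟨_, hζX⟩ = 1 := by
      apply Subtype.ext
      rw [hF]
      show ⁅(⁅(c t)⁻¹, u.1⁆)⁻¹, x⁻¹⁆ = 1
      rw [commutatorElement_eq_one_iff_mul_comm]
      exact P.czrq C (inv_mem hζ) (inv_mem hx)
    rw [e4, map_mul, map_mul, e5, mul_one] at e'
    have e6 : F (dd t) = 1 := left_eq_mul.1 e'
    obtain ⟨k, D⟩ := exists_uk P C t.2 ht1
    have e7 := (cc_of_eq P C D hx (hcm t) (dd t).2 (he t)).2
    have e8 : sg k x x = 1 := by
      unfold sg
      rw [e7, ← hF, e6]; rfl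
    exact hxZ (sg_an P C D hp2 hx (by rw [e8]; exact one_mem _))
  have c3 : Nat.card (X y) ≤ Nat.card F.range := Nat.card_le_card_of_injective _ hinj
  have c4 : Nat.card (X r) = Nat.card F.ker * Nat.card F.range := by
    rw [Subgroup.card_eq_card_quotient_mul_card_subgroup F.ker, mul_comm]
    congr 1
    exact Nat.card_congr (QuotientGroup.quotientKerEquivRange F).toEquiv
  rw [← card_w P C] at c3
  -- the kernel
  have c5 : Nat.card F.ker ≤ Nat.card (Z r) := by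
    have hw : 0 < Nat.card (X (r - y)) := Nat.card_pos
    have hz : 0 < Nat.card (Z r) := Nat.card_pos
    set s := Nat.card (X (r - y))
    set t := Nat.card (Z r)
    set k := Nat.card F.ker
    have d1 : k * s ≤ Nat.card (X r) := by rw [c4]; exact Nat.mul_le_mul_left _ c3
    have d2 : k * s * t ≤ s ^ 2 := (Nat.mul_le_mul_right _ d1).trans c1
    have d3 : s ^ 2 ≤ s * t ^ 2 := by rw [pow_two]; exact Nat.mul_le_mul_left _ c2
    have d4 : s * t * k ≤ s * t * t := by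
      calc s * t * k = k * s * t := by ring
        _ ≤ s ^ 2 := d2
        _ ≤ s * t ^ 2 := d3
        _ = s * t * t := by ring
    exact Nat.le_of_mul_le_mul_left d4 (Nat.mul_pos hw hz)
  have hZk : (Z r).subgroupOf (X r) ≤ F.ker := by
    intro a ha
    rw [MonoidHom.mem_ker]
    apply Subtype.ext
    rw [hF]
    show ⁅a.1⁻¹, x⁻¹⁆ = 1
    rw [commutatorElement_eq_one_iff_mul_comm]
    exact P.czrq C (inv_mem (Subgroup.mem_subgroupOf.1 ha)) (inv_mem hx)
  have hcard : Nat.card ((Z r).subgroupOf (X r)) = Nat.card (Z r) :=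
    Nat.card_congr (Subgroup.subgroupOfEquivOfLe (C.le r P.mem)).toEquiv
  have heq : (Z r).subgroupOf (X r) = F.ker := by
    refine SetLike.coe_injective (Set.eq_of_subset_of_ncard_le hZk ?_ (Set.toFinite _))
    rw [← Nat.card_coe_set_eq, ← Nat.card_coe_set_eq]
    exact c5.trans_eq hcard.symm
  have hk : (⟨x', hx'⟩ : X r) ∈ F.ker := by
    rw [MonoidHom.mem_ker]
    apply Subtype.ext
    rw [hF]
    show ⁅x'⁻¹, x⁻¹⁆ = 1
    rw [commutatorElement_eq_one_iff_mul_comm, ← mul_inv_rev, ← mul_inv_rev, hc]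
  rw [← heq, Subgroup.mem_subgroupOf] at hk
  exact hk

end plane

end Cfsg.Agent.LOC.CnNd
end

-- part: Cit/Nil/LO/TypeCn
section
/-!
# Lie odd sections, the chart part: charts of type `C n`, `n ≥ 2` (S1309, (n1), piece (C))

* `dich` : an involution which normalises `X r`, `X q` and centralises `Z r`, `Z q`, `X (r - y)`, centralises `X r` or
  acts on it like `z r`;
* `out_C` : **type `C n`, `n ≥ 2`** (`Sp_2n`, `SU_2n`, `SU_{2n+1}`).
-/

set_option autoImplicit false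
set_option linter.unusedSectionVars false
set_option linter.dupNamespace false

namespace Cfsg.Agent.LOC.TypeCn

open CoxeterSystem Cfsg.Agent.ChevalleyStructure.CoxeterGeom Cfsg.Agent.Tits.Roots Cfsg.Agent.Tits.Core
  Cfsg.Agent.Tits.RootComb Cfsg.Agent.Nodes.Comb Cfsg.Agent.Nodes.SubComb Cfsg.Agent.Nodes.Reps
  Cfsg.Agent.Nodes.Coroot Cfsg.Agent.Nodes.PosPair Cfsg.Agent.Nodes.BNOf Cfsg.Agent.Nodes.RGDLib
  Cfsg.Agent.Nodes.Chart Cfsg.Agent.Nodes.ClsNorm Cfsg.Agent.Nodes.ChartLoc Cfsg.Agent.Nodes.ChartFrame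
  Cfsg.Agent.Nodes.Bruhat Cfsg.Agent.Nodes.CenVV Cfsg.Agent.LOC.ChartDefs Cfsg.Agent.LOC.LemS Cfsg.Agent.LOC.Wt
  Cfsg.Agent.LOC.ShortAll Cfsg.Agent.LOC.CnNd Cfsg.Agent.LOC.StdChart
open scoped commutatorElement

section dich

variable {I W Y : Type*} [Fintype I] [DecidableEq I] [Group W] [Fintype W] [Group Y] {M : CoxeterMatrix I}
  {cs : CoxeterSystem M W} {A : I → I → ℤ} {h : IsCartan M A} {p : ℕ} {T : Subgroup Y} {n : I → Y}
  {X : (I → ℤ) → Subgroup Y} {R : Set (I → ℤ)} {Z : (I → ℤ) → Subgroup Y} {z : (I → ℤ) → Y}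
  {r y : I → ℤ} [Finite Y] [Fact p.Prime]

/-- the coprime trick -/
theorem fix_of_mod (C : Cls cs h p T n X R Z z) (hp2 : p ≠ 2) (hr : r ∈ R) {g x : Y} (hg : g * g = 1)
    (hc : ∀ a ∈ Z r, g * a = a * g) (hx : x⁻¹ * (g * x * g⁻¹) ∈ Z r) : g * x = x * g := by
  set ζ := x⁻¹ * (g * x * g⁻¹) with hζ
  have h1 : g * x * g⁻¹ = x * ζ := by rw [hζ]; group
  have h2 := hc _ hx
  have h3 : x = x * (ζ * ζ) := by
    calc x = (g * g) * x * (g * g)⁻¹ := by rw [hg]; group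
      _ = g * (g * x * g⁻¹) * g⁻¹ := by group
      _ = (g * x) * ζ * g⁻¹ := by rw [h1]; group
      _ = (g * x) * (g⁻¹ * (g * ζ)) * g⁻¹ := by group
      _ = (g * x) * (g⁻¹ * (ζ * g)) * g⁻¹ := by rw [h2]
      _ = (g * x * g⁻¹) * ζ := by group
      _ = x * (ζ * ζ) := by rw [h1, mul_assoc]
  have h4 : ζ = 1 := eq_one_of_sq hp2 (C.rgd.pgrp' (C.root r hr)) (C.le r hr hx) (left_eq_mul.1 h3)
  rw [h4, mul_one] at h1
  calc g * x = (g * x * g⁻¹) * g := by group
    _ = x * g := by rw [h1]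

/-- **The dichotomy.** -/
theorem dich (P : Pl cs h R r y) (C : Cls cs h p T n X R Z z) (hp2 : p ≠ 2) (hexp : ∀ x ∈ Z r, x ^ p = 1)
    (hne : ∃ t ∈ X (r - (2 : ℤ) • y), t ∉ Z (r - (2 : ℤ) • y)) {e : Y} (he : e * e = 1)
    (hnr : ∀ x ∈ X r, e * x * e⁻¹ ∈ X r) (hnq : ∀ x ∈ X (r - (2 : ℤ) • y), e * x * e⁻¹ ∈ X (r - (2 : ℤ) • y))
    (hr : ∀ a ∈ Z r, e * a = a * e)
    (hw : ∀ a ∈ X (r - y), e * a = a * e) (hz : e * z r = z r * e) :
    (∀ x ∈ X r, e * x = x * e) ∨ ∀ x ∈ X r, e * x * e⁻¹ = z r * x * z r := by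
  have hei : e⁻¹ = e := inv_eq_of_mul_eq_one_left he
  have cw : ∀ a ∈ X (r - y), e * a * e⁻¹ = a := fun a ha => by rw [hw a ha]; group
  have cr : ∀ a ∈ Z r, e * a * e⁻¹ = a := fun a ha => by rw [hr a ha]; group
  have hee : ∀ x, e * (e * x * e⁻¹) * e⁻¹ = x := by
    intro x
    calc e * (e * x * e⁻¹) * e⁻¹ = (e * e) * x * (e * e)⁻¹ := by group
      _ = x := by rw [he]; group
  have hZr : ∀ a ∈ Z r, ∀ x ∈ X r, x * a = a * x := fun a ha x hx =>
    C.cent r P.mem r P.L.root P.L.pos.le _ hx _ ha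
  by_cases h1 : ∀ x ∈ X r, x⁻¹ * (e * x * e⁻¹) ∈ Z r
  · left
    exact fun x hx => fix_of_mod C hp2 P.mem he hr (h1 x hx)
  by_cases h2 : ∀ x ∈ X r, x * (e * x * e⁻¹) ∈ Z r
  · right
    have hζ2 := C.z_sq r P.mem
    have hζi : (z r)⁻¹ = z r := inv_eq_of_mul_eq_one_left hζ2
    have hgg : (e * z r) * (e * z r) = 1 := by
      calc (e * z r) * (e * z r) = e * (z r * e) * z r := by group
        _ = e * (e * z r) * z r := by rw [hz]
        _ = (e * e) * (z r * z r) := by group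
        _ = 1 := by rw [he, hζ2, mul_one]
    have hgz : ∀ a ∈ Z r, (e * z r) * a = a * (e * z r) := by
      intro a ha
      rw [mul_assoc, C.z_cent r P.mem a ha, ← mul_assoc, hr a ha, mul_assoc]
    have key : ∀ x ∈ X r, (e * z r) * x = x * (e * z r) := by
      intro x hx
      refine fix_of_mod C hp2 P.mem hgg hgz ?_
      have m1 := C.z_inv_self r P.mem x hx
      have m2 := h2 x hx
      set ζ := z r * x * z r * x with hζ
      set η := x * (e * x * e⁻¹) with hη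
      have e1 : z r * x * z r = ζ * x⁻¹ := by rw [hζ]; group
      have e2 : (e * x * e⁻¹)⁻¹ = η⁻¹ * x := by rw [hη]; group
      have e3 : x⁻¹ * (e * z r * x * (e * z r)⁻¹) = ζ * η⁻¹ := by
        calc x⁻¹ * (e * z r * x * (e * z r)⁻¹) = x⁻¹ * (e * (z r * x * z r) * e⁻¹) := by
              rw [mul_inv_rev, hζi]; group
          _ = x⁻¹ * ((e * ζ * e⁻¹) * (e * x * e⁻¹)⁻¹) := by rw [e1]; group
          _ = x⁻¹ * (ζ * (η⁻¹ * x)) := by rw [cr ζ m1, e2]
          _ = x⁻¹ * ((ζ * η⁻¹) * x) := by group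
          _ = x⁻¹ * (x * (ζ * η⁻¹)) := by rw [hZr _ (mul_mem m1 (inv_mem m2)) x hx]
          _ = ζ * η⁻¹ := by group
      rw [e3]
      exact mul_mem m1 (inv_mem m2)
    intro x hx
    have h3 : e * (z r * x * z r) * e⁻¹ = x := by
      calc e * (z r * x * z r) * e⁻¹ = (e * z r * x) * z r * e⁻¹ := by group
        _ = (x * (e * z r)) * z r * e⁻¹ := by rw [key x hx]
        _ = x * e * (z r * z r) * e⁻¹ := by group
        _ = x := by rw [hζ2]; group
    have h4 := hee (z r * x * z r)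
    rw [h3] at h4
    exact h4
  · exfalso
    push Not at h1 h2
    obtain ⟨x₁, hx₁, hv⟩ := h1
    obtain ⟨x₂, hx₂, hv'⟩ := h2
    obtain ⟨t, ht, htZ⟩ := hne
    have hvX : x₁⁻¹ * (e * x₁ * e⁻¹) ∈ X r := mul_mem (inv_mem hx₁) (hnr _ hx₁)
    have hvX' : x₂ * (e * x₂ * e⁻¹) ∈ X r := mul_mem hx₂ (hnr _ hx₂)
    have ev : e * (x₁⁻¹ * (e * x₁ * e⁻¹)) * e⁻¹ = (x₁⁻¹ * (e * x₁ * e⁻¹))⁻¹ := by
      calc e * (x₁⁻¹ * (e * x₁ * e⁻¹)) * e⁻¹ = (e * x₁ * e⁻¹)⁻¹ * (e * (e * x₁ * e⁻¹) * e⁻¹) := by group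
        _ = (x₁⁻¹ * (e * x₁ * e⁻¹))⁻¹ := by rw [hee]; group
    have ev' : e * (x₂ * (e * x₂ * e⁻¹)) * e⁻¹ = x₂ * (e * x₂ * e⁻¹) * ⁅(e * x₂ * e⁻¹)⁻¹, x₂⁻¹⁆ := by
      calc e * (x₂ * (e * x₂ * e⁻¹)) * e⁻¹ = (e * x₂ * e⁻¹) * (e * (e * x₂ * e⁻¹) * e⁻¹) := by group
        _ = _ := by rw [hee, commutatorElement_def]; group
    have hη : ⁅(e * x₂ * e⁻¹)⁻¹, x₂⁻¹⁆ ∈ Z r := commutator_VV_le C hp2 P.mem
      (Subgroup.commutator_mem_commutator (P.X_r_le (inv_mem (hnr _ hx₂))) (P.X_r_le (inv_mem hx₂)))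
    have cj : ∀ a b : Y, e * ⁅a, b⁆ * e⁻¹ = ⁅e * a * e⁻¹, e * b * e⁻¹⁆ := by
      intro a b
      simp only [commutatorElement_def]; group
    have fin : ∀ κ ∈ X (r - y), κ = κ⁻¹ → κ = 1 := by
      intro κ hκ h0
      refine eq_one_of_sq hp2 (C.rgd.pgrp' P.rootw) hκ ?_
      nth_rewrite 1 [h0]
      exact inv_mul_cancel κ
    set v := x₁⁻¹ * (e * x₁ * e⁻¹)
    set v' := x₂ * (e * x₂ * e⁻¹)
    set η := ⁅(e * x₂ * e⁻¹)⁻¹, x₂⁻¹⁆
    by_cases hs : t⁻¹ * (e * t * e⁻¹) ∈ Z (r - (2 : ℤ) • y)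
    · -- `v` and `t`
      set s := t⁻¹ * (e * t * e⁻¹) with hsd
      have hsX := C.le _ (P.memq C) hs
      have et : e * t * e⁻¹ = t * s := by rw [hsd]; group
      have k1 := cw _ (P.mrq C.rgd hvX ht)
      rw [cj, ev, et, com_right P C.rgd (inv_mem hvX) ht hsX] at k1
      have k2 : ⁅v⁻¹, s⁆ = 1 := by
        rw [commutatorElement_eq_one_iff_mul_comm]
        exact C.cent _ (P.memq C) _ P.L.root (by rw [P.frq]) _ (inv_mem hvX) _ hs
      have k3 : ⁅v⁻¹, t⁆ = ⁅v, t⁆⁻¹ := by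
        have := com_left P C.rgd hvX (inv_mem hvX) ht
        rw [mul_inv_cancel, commutatorElement_one_left] at this
        exact eq_inv_of_mul_eq_one_left this.symm
      rw [k2, mul_one, k3] at k1
      have k4 := fin _ (P.mrq C.rgd hvX ht) k1.symm
      have k5 : t * v = v * t := (commutatorElement_eq_one_iff_mul_comm.1 k4).symm
      exact hv (nd P C hp2 hexp ht htZ hvX k5)
    · -- `v'` and `s`
      have hsX : t⁻¹ * (e * t * e⁻¹) ∈ X (r - (2 : ℤ) • y) := mul_mem (inv_mem ht) (hnq _ ht)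
      have es : e * (t⁻¹ * (e * t * e⁻¹)) * e⁻¹ = (t⁻¹ * (e * t * e⁻¹))⁻¹ := by
        calc e * (t⁻¹ * (e * t * e⁻¹)) * e⁻¹ = (e * t * e⁻¹)⁻¹ * (e * (e * t * e⁻¹) * e⁻¹) := by group
          _ = (t⁻¹ * (e * t * e⁻¹))⁻¹ := by rw [hee]; group
      set s := t⁻¹ * (e * t * e⁻¹) with hsd
      have hηX := C.le _ P.mem hη
      have k1 := cw _ (P.mrq C.rgd hvX' hsX)
      rw [cj, ev', es, com_left P C.rgd hvX' hηX (inv_mem hsX)] at k1
      have k2 : ⁅η, s⁻¹⁆ = 1 := by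
        rw [commutatorElement_eq_one_iff_mul_comm]
        exact P.czrq C hη (inv_mem hsX)
      have k3 : ⁅v', s⁻¹⁆ = ⁅v', s⁆⁻¹ := by
        have := com_right P C.rgd hvX' hsX (inv_mem hsX)
        rw [mul_inv_cancel, commutatorElement_one_right] at this
        exact (inv_eq_of_mul_eq_one_right this.symm).symm
      rw [k2, one_mul, k3] at k1
      have k4 := fin _ (P.mrq C.rgd hvX' hsX) k1.symm
      have k5 : s * v' = v' * s := (commutatorElement_eq_one_iff_mul_comm.1 k4).symm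
      exact hv' (nd P C hp2 hexp hsX hs hvX' k5)

/-- an element centralising the root groups `X y`, `X (-y)` and `X r` centralises `X (s_y r)` -/
theorem cent_refl (C : Cls cs h p T n X R Z z) {x y : I → ℤ} (hx : IsRoot cs h x) (hy : IsRoot cs h y) {e : Y}
    (h1 : ∀ u ∈ X y, e * u = u * e) (h2 : ∀ u ∈ X (-y), e * u = u * e) (h3 : ∀ u ∈ X x, e * u = u * e) :
    ∀ u ∈ X (x - cpr cs h x y • y), e * u = u * e := by
  obtain ⟨v, hv, hv1⟩ : ∃ v ∈ X y, v ≠ 1 := by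
    by_contra hcon
    push Not at hcon
    exact Nodes.StdConn.X_ne_bot C hy ((Subgroup.eq_bot_iff_forall _).2 hcon)
  obtain ⟨a, ha, b, hb, w, k, hk, hw, ev⟩ := exists_mu C.rgd hy hv hv1
  have hmem : ∀ {g : Y}, g ∈ Subgroup.centralizer {e} ↔ e * g = g * e := by
    intro g
    rw [Subgroup.mem_centralizer_singleton_iff]
    exact eq_comm
  have hke : k ∈ Subgroup.centralizer {e} := by
    have : k = a⁻¹ * v * b⁻¹ := by rw [ev]; group
    rw [this]
    exact mul_mem (mul_mem (inv_mem (hmem.2 (h2 a ha))) (hmem.2 (h1 v hv))) (inv_mem (hmem.2 (h2 b hb)))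
  intro u hu
  rw [← hw] at hu
  have h4 := C.rgd.conj_mem' hk (hx.act w) hu
  rw [rep_inv_apply] at h4
  have h5 : u = k * (k⁻¹ * u * k) * k⁻¹ := by group
  rw [← hmem, h5]
  exact mul_mem (mul_mem hke (hmem.2 (h3 _ h4))) (inv_mem hke)

end dich

section chart

variable {G : Type*} [Group G] {Om : Set (Subgroup G)} {p : ℕ} {L : Subgroup G}

/-- type `C n` : the weight group of a long root -/
theorem MM_eq_C (c : Chart Om p L) {n : ℕ} (hτ : c.IsTy (.C n)) {F : Set (c.I → ℤ)} (hF : MaxF c.cls F)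
    {r : c.I → ℤ} (hr : r ∈ F) : MM c.cs c.h c.X F r = c.X r := by
  have S := std_of_isTy c hτ (Or.inl ⟨n, rfl⟩)
  have ns : ∀ x, IsRoot c.cs c.h x → ∃ r ∈ F, form c.cs c.h x r ≠ 0 := fun x hx => ns_C c hτ hF hx
  have hrR := hF.sub r hr
  have hpos := (S.lg r hrR).pos
  refine le_antisymm (RGD.Sup_le fun x hx => ?_) (X_le_MM (mem_Lam_self (c.cls.root r hrR)))
  have hxr : x = r := by
    obtain ⟨h1, h2⟩ := (mem_Lam_iff hF.neg).1 hx
    have h3 : 0 < form c.cs c.h x r := (hx.2 r hr).1 hpos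
    by_cases hxR : x ∈ c.R
    · by_contra hne
      have h4 : x ≠ -r := by
        rintro rfl
        rw [form_neg_left] at h3
        omega
      rw [form_comm, orth_C c hτ hrR hxR hne h4] at h3
      exact lt_irrefl _ h3
    · exfalso
      have P := S.pl h1 hxR hrR h3
      have hq := q_mem S hF hxR hr P
      have h5 := h2 _ hq
      rw [P.frq, sign_zero, sign_eq_zero_iff, P.fyq] at h5
      have := P.pos
      omega
  rw [hxr]

variable [Finite G]

/-- `X r ≠ Z r` for all long roots if for one -/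
theorem ne_all (c : Chart Om p L) {r₀ : c.I → ℤ} (hr₀ : r₀ ∈ c.R) (hne₀ : c.Z r₀ ≠ c.X r₀) :
    ∀ r ∈ c.R, ∃ t ∈ c.X r, t ∉ c.Z r := by
  intro r hr
  by_contra hcon
  push Not at hcon
  have h1 : c.Z r = c.X r := le_antisymm (c.cls.le r hr) hcon
  obtain ⟨w, hw⟩ := c.trans r hr r₀ hr₀
  obtain ⟨g, hg⟩ := exists_rp c.cs c.cls.rgd.nsys w
  have h2 := Nodes.ClsNorm.conj_Z c.cls hg hr
  have h3 := c.cls.rgd.conj_rp hg (c.cls.root r hr)
  rw [← hw] at h2 h3
  exact hne₀ (by rw [← h2, ← h3, h1])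

/-- the involution of a `Q₈` (not central) centralises the short root groups and acts on `X r` like `z r` -/
theorem act_e (c : Chart Om p L) {n : ℕ} (hn : 2 ≤ n) (hτ : c.IsTy (.C n))
    (hexp : ∀ r ∈ c.R, ∀ x ∈ c.Z r, x ^ p = 1) (hne : ∀ r ∈ c.R, ∃ t ∈ c.X r, t ∉ c.Z r) {F : Set (c.I → ℤ)}
    (hF : MaxF c.cls F) {K : Subgroup G} {e : G} (hK : QK K e) (hcen : Cen c.cls F K) (hnt : ¬ Triv c.cls e) :
    (∀ y, IsRoot c.cs c.h y → y ∉ c.R → ∀ u ∈ c.X y, e * u = u * e) ∧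
      ∀ r ∈ c.R, ∀ x ∈ c.X r, e * x * e⁻¹ = c.z r * x * c.z r := by
  have : Fact p.Prime := ⟨c.prime⟩
  have S := std_of_isTy c hτ (Or.inl ⟨n, rfl⟩)
  have ns : ∀ x, IsRoot c.cs c.h x → ∃ r ∈ F, form c.cs c.h x r ≠ 0 := fun x hx => ns_C c hτ hF hx
  have hT : c.T ≤ G1 c.cs c.h c.X := c.T_le.trans_eq c.gen.symm
  have hFR := F_eq_C c hτ hF
  have hsh : ∀ y, IsRoot c.cs c.h y → y ∉ c.R → ∀ u ∈ c.X y, e * u = u * e := fun y hy hyR =>
    short_triv S hF ns c.odd hT hK hcen hy hyR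
  refine ⟨hsh, ?_⟩
  have hcm : ∀ r ∈ c.R, ∀ a ∈ c.Z r, e * a = a * e := fun r hr a ha =>
    hcen.comm r (by rw [hFR]; exact hr) a ha e hK.mem
  have hnor : ∀ r ∈ c.R, ∀ x ∈ c.X r, e * x * e⁻¹ ∈ c.X r := by
    intro r hr x hx
    have hrF : r ∈ F := by rw [hFR]; exact hr
    rw [← MM_eq_C c hτ hF hrF] at hx ⊢
    exact wt_inv c.cls hT hF.sub hrF (S.lg r hr).pos hcen hK.mem hx
  have hz : ∀ r ∈ c.R, e * c.z r = c.z r * e := by
    intro r hr
    have h3 : c.Z r ⊔ c.Z (-r) ≤ Subgroup.centralizer {e} := by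
      refine sup_le (fun a ha => ?_) (fun a ha => ?_)
      · rw [Subgroup.mem_centralizer_singleton_iff]; exact (hcm r hr a ha).symm
      · rw [Subgroup.mem_centralizer_singleton_iff]
        exact (hcm (-r) (Nodes.ClsNorm.neg_mem c.cls hr) a ha).symm
    have h4 := h3 (c.cls.z_mem r hr)
    rw [Subgroup.mem_centralizer_singleton_iff] at h4
    exact h4.symm
  have hwR : ∀ {r y : c.I → ℤ}, Pl c.cs c.h c.R r y → r - y ∉ c.R := by
    intro r y P h0
    have h1 := S.same P.mem h0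
    have h2 := (_root_.Cfsg.Agent.LOC.CnNd.flip P).h2
    have h3 := (S.lg _ h0).pos
    omega
  have hnegR : ∀ {y : c.I → ℤ}, y ∉ c.R → -y ∉ c.R := fun {y} hy h0 => hy (by
    have := Nodes.ClsNorm.neg_mem c.cls h0
    rwa [neg_neg] at this)
  -- the set of the long roots centralised by `e`
  set AA : Set (c.I → ℤ) := {r | r ∈ c.R ∧ ∀ x ∈ c.X r, e * x = x * e} with hAA
  have hA1 : ∀ y, IsRoot c.cs c.h y → y ∉ c.R → ∀ r ∈ AA, r - cpr c.cs c.h r y • y ∈ AA := by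
    rintro y hy hyR r ⟨hr, h1⟩
    exact ⟨refl_memR c.cls hr hy, cent_refl c.cls (c.cls.root r hr) hy (hsh y hy hyR) (hsh _ hy.neg (hnegR hyR)) h1⟩
  have hA2 : ∀ r ∈ AA, -r ∈ AA := by
    intro r hr
    obtain ⟨y, hyR, P⟩ := exists_pl_of_isTy c hτ (Or.inl ⟨n, hn, rfl⟩) hr.1
    have h1 := hA1 y P.root hyR r hr
    rw [P.cry] at h1
    have h2 := hA1 _ P.rootw (hwR P) _ h1
    have h3 : cpr c.cs c.h (r - (2 : ℤ) • y) (r - y) = 2 := by
      apply cpr_eq_of_form c.cs c.h P.rootw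
      have h4 := (_root_.Cfsg.Agent.LOC.CnNd.flip P).fyr
      rw [form_comm, P.fwq, ← P.fwr, h4]
    rw [h3] at h2
    have h5 : r - (2 : ℤ) • y - (2 : ℤ) • (r - y) = -r := by module
    rwa [h5] at h2
  have hA3 : ∀ w, ∀ r ∈ AA, rep c.cs c.h w r ∈ AA := by
    intro w
    induction w using c.cs.simple_induction_left with
    | one => intro r hr; rwa [map_one]
    | mul_simple_left w i ih =>
      intro r hr
      rw [map_mul]
      show rep c.cs c.h (c.cs.simple i) (rep c.cs c.h w r) ∈ AA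
      have h1 := ih r hr
      set s := rep c.cs c.h w r
      have h2 : rep c.cs c.h (c.cs.simple i) s = s - cpr c.cs c.h s (sr i) • sr i := by
        have h3 := rep_rfl'_eq c.cs c.h 1 i s
        have h4 : rfl' c.cs 1 i = c.cs.simple i := by
          show 1 * c.cs.simple i * 1⁻¹ = _
          rw [one_mul, inv_one, mul_one]
        rw [h4, map_one] at h3
        exact h3
      rw [h2]
      have hi := isRoot_sr c.cs c.h i
      by_cases hiR : sr i ∈ c.R
      · by_cases e1 : sr i = s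
        · rw [e1, cpr_self c.cs c.h (c.cls.root s h1.1)]
          have : s - (2 : ℤ) • s = -s := by module
          rw [this]
          exact hA2 s h1
        by_cases e2 : sr i = -s
        · have e3 : s = -sr i := by rw [e2, neg_neg]
          rw [e3, cpr_neg c.cs c.h _ hi, cpr_self c.cs c.h hi]
          have : -sr i - (-2 : ℤ) • sr i = -(-sr i) := by module
          rw [this, ← e3]
          exact hA2 s h1
        · have h3 := orth_C c hτ h1.1 hiR e1 e2
          rw [(cpr_zero_iff c.cs c.h _ hi).2 h3, zero_smul, sub_zero]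
          exact h1
      · exact hA1 _ hi hiR s h1
  have hA4 : ∀ r ∈ c.R, r ∉ AA := by
    intro r hr hrA
    apply hnt
    refine triv_of_X c.cls fun x hx => ?_
    by_cases hxR : x ∈ c.R
    · obtain ⟨w, rfl⟩ := c.trans r hr x hxR
      exact (hA3 w r hrA).2
    · exact hsh x hx hxR
  intro r hr
  obtain ⟨y, hyR, P⟩ := exists_pl_of_isTy c hτ (Or.inl ⟨n, hn, rfl⟩) hr
  rcases dich P c.cls c.odd (hexp r hr) (hne _ (P.memq c.cls)) hK.sq (hnor r hr) (hnor _ (P.memq c.cls))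
    (hcm r hr) (hsh _ P.rootw (hwR P)) (hz r hr) with h1 | h1
  · exact absurd ⟨hr, h1⟩ (hA4 r hr)
  · exact h1

/-- **Type `C n`, `n ≥ 2`** (`Sp_2n`, `SU_2n`, `SU_{2n+1}`). -/
theorem out_C (c : Chart Om p L) {n : ℕ} (hn : 2 ≤ n) (hτ : c.IsTy (.C n))
    (hexp : ∀ r ∈ c.R, ∀ x ∈ c.Z r, x ^ p = 1) {F : Set (c.I → ℤ)} (hF : MaxF c.cls F) : Out c.cls F := by
  by_cases hXZ : ∀ r ∈ c.R, c.Z r = c.X r
  · exact out_C_eq c hτ hXZ hF
  push Not at hXZ
  obtain ⟨r₀, hr₀, hne₀⟩ := hXZ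
  have hne := ne_all c hr₀ hne₀
  intro K K' e e' hK hK' hcen hcen' hnt hnt'
  obtain ⟨a1, a2⟩ := act_e c hn hτ hexp hne hF hK hcen hnt
  obtain ⟨b1, b2⟩ := act_e c hn hτ hexp hne hF hK' hcen' hnt'
  refine triv_of_X c.cls fun x hx u hu => ?_
  by_cases hxR : x ∈ c.R
  · have h1 := b2 x hxR u hu
    have h2 : c.z x * u * c.z x ∈ c.X x := by
      have h1 := c.cls.rgd.tor x hx _ (c.cls.z_torus x hxR)
      rw [← h1]
      have h2 : c.z x * u * c.z x = c.z x * u * (c.z x)⁻¹ := by rw [Nodes.ZRel.z_inv' c.cls hxR]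
      rw [h2]
      exact conj_mem_cj.2 hu
    have h3 := a2 x hxR _ h2
    have hzz := c.cls.z_sq x hxR
    have h4 : (e * e') * u * (e * e')⁻¹ = u := by
      calc (e * e') * u * (e * e')⁻¹ = e * (e' * u * e'⁻¹) * e⁻¹ := by group
        _ = c.z x * (c.z x * u * c.z x) * c.z x := by rw [h1, h3]
        _ = (c.z x * c.z x) * u * (c.z x * c.z x) := by simp only [mul_assoc]
        _ = u := by rw [hzz, one_mul, mul_one]
    calc (e * e') * u = ((e * e') * u * (e * e')⁻¹) * (e * e') := by group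
      _ = u * (e * e') := by rw [h4]
  · rw [mul_assoc, b1 x hx hxR u hu, ← mul_assoc, a1 x hx hxR u hu, mul_assoc]

end chart

end Cfsg.Agent.LOC.TypeCn
end

-- part: Cit/Nil/LO/BRoots
section
/-!
# Lie odd sections, the chart part: roots of type `B n` (S1309, (n1), piece (C))

`cf a x` : the signed `ε`-coordinate of `x` at `a : Fin n × Bool`; `dl c a` : its value on `wt a`.

* `eq_rt_of_pos`, `cases_pos` : roots with positive coordinates;
* `fpos`, `fnonneg`, `fzero` : the signs of the form;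
* `mate`, `uniq`, `odd_one` : the maximal orthogonal sets of long roots;
* `lam_short`, `mem_lam` : the roots of `Lam F (rt a a)`; `lam_long` : `Lam F (rt a c) = {rt a c}` for paired `a`, `c`.
-/

set_option autoImplicit false
set_option linter.unusedSectionVars false
set_option linter.dupNamespace false

namespace Cfsg.Agent.LOC.BRoots

open CoxeterSystem Cfsg.Agent.ChevalleyStructure.CoxeterGeom Cfsg.Agent.Tits.Roots Cfsg.Agent.Tits.Core
  Cfsg.Agent.Nodes.Reps Cfsg.Agent.Nodes.Coroot Cfsg.Agent.Nodes.TypeC Cfsg.Agent.Nodes.TypeCForm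
  Cfsg.Agent.Nodes.KindBC Cfsg.Agent.Nodes.BOdd Cfsg.Agent.Nodes.Slope Cfsg.Agent.Nodes.Chart
  Cfsg.Agent.LOC.ChartDefs Cfsg.Agent.LOC.Wt

variable {n : ℕ}

/-- the signed coordinate -/
def cf (a : Fin n × Bool) : (Fin n → ℤ) →+ ℤ where
  toFun x := sn a * ee x a.1
  map_zero' := by
    have := congrFun (ee_smul (n := n) 0 0) a.1
    rw [zero_smul, zero_smul] at this
    rw [this, Pi.zero_apply, mul_zero]
  map_add' x y := by rw [ee_add, Pi.add_apply, mul_add]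

theorem cf_apply (a : Fin n × Bool) (x : Fin n → ℤ) : cf a x = sn a * ee x a.1 := rfl

/-- the value of `cf c` on `wt a` -/
def dl (c a : Fin n × Bool) : ℤ := if c.1 = a.1 then sn c * sn a else 0

theorem dl_self (a : Fin n × Bool) : dl a a = 1 := by rw [dl, if_pos rfl, sn_mul_self]

theorem dl_ne {c a : Fin n × Bool} (h : c.1 ≠ a.1) : dl c a = 0 := by rw [dl, if_neg h]

theorem dl_ng_left (c a : Fin n × Bool) : dl (ng c) a = -dl c a := by
  unfold dl
  rw [ng_fst, sn_ng]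
  split_ifs <;> ring

theorem dl_ng_right (c a : Fin n × Bool) : dl c (ng a) = -dl c a := by
  unfold dl
  rw [ng_fst, sn_ng]
  split_ifs <;> ring

theorem cf_rt (c a b : Fin n × Bool) : cf c (rt a b) = dl c a + dl c b := by
  rw [cf_apply, ee_rt, Pi.add_apply, mul_add]
  congr 1
  · unfold dl
    rw [wt_apply]
    by_cases h : c.1 = a.1
    · rw [if_pos h, if_pos h]; rfl
    · rw [if_neg h, if_neg h, mul_zero]
  · unfold dl
    rw [wt_apply]
    by_cases h : c.1 = b.1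
    · rw [if_pos h, if_pos h]; rfl
    · rw [if_neg h, if_neg h, mul_zero]

theorem cf_ng (c : Fin n × Bool) (x : Fin n → ℤ) : cf (ng c) x = -cf c x := by
  rw [cf_apply, cf_apply, sn_ng, ng_fst]; ring

theorem eq_of_cf {x y : Fin n → ℤ} (h : ∀ a, cf a x = cf a y) : x = y := by
  apply ee_injective
  funext k
  have := h (k, true)
  rw [cf_apply, cf_apply] at this
  simpa [sn] using this

variable {W : Type*} [Group W] {cs : CoxeterSystem (CoxeterMatrix.B n) W}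

theorem isRoot_ne {a b : Fin n × Bool} (h : a.1 ≠ b.1) : IsRoot cs (isCartan n) (rt a b) := isRoot_rt cs (Or.inl h)

theorem isRoot_self (a : Fin n × Bool) : IsRoot cs (isCartan n) (rt a a) := isRoot_rt cs (Or.inr rfl)

theorem eq_of_fst {a b : Fin n × Bool} (h : a.1 = b.1) : a = b ∨ a = ng b := by
  obtain ⟨i, s⟩ := a
  obtain ⟨j, t⟩ := b
  simp only at h
  subst h
  cases s <;> cases t <;> simp [ng]

/-- a root with a positive coordinate -/
theorem cases_pos {x : Fin n → ℤ} (hx : IsRoot cs (isCartan n) x) {a : Fin n × Bool} (h0 : 0 < cf a x) :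
    x = rt a a ∨ ∃ b, b.1 ≠ a.1 ∧ x = rt a b := by
  obtain ⟨c, d, hcd, rfl⟩ := exists_rt hx
  rw [cf_rt] at h0
  rcases hcd with hcd | hcd
  · by_cases h1 : a.1 = c.1
    · rw [dl_ne (c := a) (a := d) (by rw [h1]; exact hcd), add_zero] at h0
      rcases eq_of_fst h1 with h2 | h2
      · subst h2
        exact Or.inr ⟨d, fun e => hcd e.symm, rfl⟩
      · subst h2
        rw [dl_ng_left, dl_self] at h0
        omega
    · rw [dl_ne h1, zero_add] at h0
      by_cases h2 : a.1 = d.1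
      · rcases eq_of_fst h2 with h3 | h3
        · subst h3
          exact Or.inr ⟨c, hcd, rt_comm _ _⟩
        · subst h3
          rw [dl_ng_left, dl_self] at h0
          omega
      · rw [dl_ne h2] at h0
        omega
  · subst hcd
    by_cases h1 : a.1 = c.1
    · rcases eq_of_fst h1 with h2 | h2
      · subst h2
        exact Or.inl rfl
      · subst h2
        rw [dl_ng_left, dl_self] at h0
        omega
    · rw [dl_ne h1] at h0
      omega

theorem eq_rt_of_pos {x : Fin n → ℤ} (hx : IsRoot cs (isCartan n) x) {a b : Fin n × Bool} (hab : a.1 ≠ b.1)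
    (h0 : 0 < cf a x) (h1 : 0 < cf b x) : x = rt a b := by
  rcases cases_pos hx h0 with rfl | ⟨d, hd, rfl⟩
  · rw [cf_rt, dl_ne (fun e => hab e.symm)] at h1
    omega
  · rw [cf_rt, dl_ne (fun e => hab e.symm), zero_add] at h1
    by_cases h2 : b.1 = d.1
    · rcases eq_of_fst h2 with h3 | h3
      · rw [h3]
      · subst h3
        rw [dl_ng_left, dl_self] at h1
        omega
    · rw [dl_ne h2] at h1
      omega

theorem pos_or (c : Fin n × Bool) (x : Fin n → ℤ) (h : cf c x ≠ 0) : 0 < cf c x ∨ 0 < cf (ng c) x := by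
  rw [cf_ng]
  omega

theorem cpr_ne [Finite W] (x : Fin n → ℤ) {a b : Fin n × Bool} (h : a.1 ≠ b.1) :
    cpr cs (isCartan n) x (rt a b) = cf a x + cf b x := by
  rw [cpr_rt cs x h, cf_apply, cf_apply]; ring

theorem cpr_self' [Finite W] (x : Fin n → ℤ) (a : Fin n × Bool) :
    cpr cs (isCartan n) x (rt a a) = cf a x := by
  rw [cpr_rt_self cs x, cf_apply]; ring

variable [Fintype W]

theorem fpos {x : Fin n → ℤ} {a b : Fin n × Bool} (h : a.1 ≠ b.1) :
    0 < form cs (isCartan n) x (rt a b) ↔ 0 < cf a x + cf b x := by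
  rw [← cpr_pos_iff cs _ x (isRoot_ne h), cpr_ne x h]

theorem fzero {x : Fin n → ℤ} {a b : Fin n × Bool} (h : a.1 ≠ b.1) :
    form cs (isCartan n) x (rt a b) = 0 ↔ cf a x + cf b x = 0 := by
  rw [← cpr_zero_iff cs _ x (isRoot_ne h), cpr_ne x h]

theorem fneg {x : Fin n → ℤ} {a b : Fin n × Bool} (h : a.1 ≠ b.1) :
    form cs (isCartan n) x (rt a b) < 0 ↔ cf a x + cf b x < 0 := by
  have h1 := fpos (cs := cs) (x := x) h
  have h2 := fzero (cs := cs) (x := x) h
  omega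

theorem fzero' {x : Fin n → ℤ} {a : Fin n × Bool} : form cs (isCartan n) x (rt a a) = 0 ↔ cf a x = 0 := by
  rw [← cpr_zero_iff cs _ x (isRoot_self a), cpr_self' x]

/-! ### Maximal orthogonal sets of long roots -/

section MaxF

variable {Y : Type*} [Group Y] {p : ℕ} {T : Subgroup Y} {nn : Fin n → Y} {X : (Fin n → ℤ) → Subgroup Y}
  {Z : (Fin n → ℤ) → Subgroup Y} {z : (Fin n → ℤ) → Y} {C : Cls cs (isCartan n) p T nn X (RB n) Z z}
  {F : Set (Fin n → ℤ)} (hF : MaxF C F)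

include hF

/-- `rt a b ∈ F` implies `rt a (ng b) ∈ F` -/
theorem mate {a b : Fin n × Bool} (hab : a.1 ≠ b.1) (h : rt a b ∈ F) : rt a (ng b) ∈ F := by
  have h1 : rt a (ng b) ∈ RB n := rt_mem_RB (by rwa [ng_fst])
  obtain ⟨t, ht, h2⟩ := hF.max _ h1
  have htR := root_RB cs (hF.sub t ht)
  rw [form_comm, Ne, fzero (by rwa [ng_fst]), cf_ng] at h2
  by_cases e1 : t = rt a b
  · subst e1
    rw [cf_rt, cf_rt, dl_self, dl_self, dl_ne hab, dl_ne hab.symm] at h2
    omega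
  by_cases e2 : t = -rt a b
  · subst e2
    rw [map_neg, map_neg, cf_rt, cf_rt, dl_self, dl_self, dl_ne hab, dl_ne hab.symm] at h2
    omega
  have h3 := hF.orth _ h t ht e1 e2
  rw [form_comm, fzero hab] at h3
  rcases pos_or a t (by omega) with h4 | h4
  · have h5 : t = rt a (ng b) := eq_rt_of_pos htR (by rwa [ng_fst]) h4 (by rw [cf_ng]; omega)
    rwa [← h5]
  · have h5 : t = rt (ng a) b := eq_rt_of_pos htR (by rwa [ng_fst]) h4 (by rw [cf_ng] at h4; omega)
    have h6 : rt a (ng b) = -t := by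
      rw [h5, ← rt_ng, ng_ng]
    rw [h6]
    exact hF.neg t ht

/-- the mate is unique -/
theorem uniq {a b c : Fin n × Bool} (hab : a.1 ≠ b.1) (hac : a.1 ≠ c.1) (h : rt a b ∈ F) (h' : rt a c ∈ F) :
    c.1 = b.1 := by
  by_contra hcb
  have e1 : cf b (rt a c) = 0 := by rw [cf_rt, dl_ne (fun e => hab e.symm), dl_ne (fun e => hcb e.symm), add_zero]
  have e2 : cf b (rt a b) = 1 := by rw [cf_rt, dl_ne (fun e => hab e.symm), dl_self, zero_add]
  have h3 := hF.orth _ h _ h' (fun e => by rw [e, e2] at e1; omega)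
    (fun e => by rw [e, map_neg, e2] at e1; omega)
  rw [form_comm, fzero hab, cf_rt, cf_rt, dl_self, dl_ne hac, dl_ne hab.symm, dl_ne (fun e => hcb e.symm)] at h3
  omega

/-- at most one unpaired index -/
theorem odd_one {a c : Fin n × Bool} (hac : a.1 ≠ c.1) (ha : ∀ b, a.1 ≠ b.1 → rt a b ∉ F)
    (hc : ∀ b, c.1 ≠ b.1 → rt c b ∉ F) : False := by
  obtain ⟨t, ht, h2⟩ := hF.max _ (rt_mem_RB hac)
  have htR := root_RB cs (hF.sub t ht)
  have key : ∀ {a : Fin n × Bool}, (∀ b, a.1 ≠ b.1 → rt a b ∉ F) → cf a t = 0 := by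
    intro a ha
    by_contra h0
    obtain ⟨u, v, huv, e⟩ := mem_RB.1 (hF.sub t ht)
    have k1 : ∀ {t'}, t' ∈ F → 0 < cf a t' → False := by
      intro t' ht' h1
      rcases cases_pos (root_RB cs (hF.sub t' ht')) h1 with rfl | ⟨d, hd, rfl⟩
      · obtain ⟨u, v, huv, e⟩ := mem_RB.1 (hF.sub _ ht')
        have e1 : cf a (rt u v) = 2 := by rw [← e, cf_rt, dl_self]; rfl
        rw [cf_rt] at e1
        unfold dl at e1
        have hs : ∀ b : Fin n × Bool, sn a * sn b ≤ 1 := fun b => by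
          rcases sn_eq_one_or a with h | h <;> rcases sn_eq_one_or b with h' | h' <;> rw [h, h'] <;> norm_num
        have := hs u
        have := hs v
        by_cases h3 : a.1 = u.1
        · rw [if_pos h3, if_neg (fun h4 => huv (h3.symm.trans h4))] at e1
          omega
        · rw [if_neg h3] at e1
          split_ifs at e1 <;> omega
      · exact ha d (fun e => hd e.symm) ht'
    rcases pos_or a t h0 with h1 | h1
    · exact k1 ht h1
    · refine k1 (hF.neg t ht) ?_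
      rw [map_neg, ← cf_ng]
      exact h1
  have h3 := key ha
  have h4 := key hc
  rw [form_comm, Ne, fzero hac] at h2
  omega

/-- the roots of `Lam F (rt a a)` -/
theorem lam_short {a b : Fin n × Bool} (hab : a.1 ≠ b.1) (h : rt a b ∈ F) {x : Fin n → ℤ}
    (hx : x ∈ Lam cs (isCartan n) F (rt a a)) :
    x = rt a a ∨ ∃ c, c.1 ≠ a.1 ∧ c.1 ≠ b.1 ∧ (∀ d, c.1 ≠ d.1 → rt c d ∉ F) ∧ x = rt a c := by
  obtain ⟨hxr, h1⟩ := hx
  have h2 := (h1 _ h).1 (by rw [fpos hab, cf_rt, cf_rt, dl_self, dl_ne hab.symm]; norm_num)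
  have h3 := (h1 _ (mate hF hab h)).1 (by
    rw [fpos (by rwa [ng_fst]), cf_ng, cf_rt, cf_rt, dl_self, dl_ne hab.symm]; norm_num)
  rw [fpos hab] at h2
  rw [fpos (by rwa [ng_fst]), cf_ng] at h3
  rcases cases_pos hxr (a := a) (by omega) with h4 | ⟨c, hca, rfl⟩
  · exact Or.inl h4
  right
  have hcb : c.1 ≠ b.1 := by
    intro e
    rcases eq_of_fst e with e | e
    · subst e
      rw [cf_rt, cf_rt, dl_self, dl_self, dl_ne hab, dl_ne hab.symm] at h3
      omega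
    · subst e
      rw [cf_rt, cf_rt, dl_self, dl_ng_right, dl_ng_right, dl_self, dl_ne hab, dl_ne hab.symm] at h2
      omega
  refine ⟨c, hca, hcb, fun d hcd hd => ?_, rfl⟩
  have had : a.1 ≠ d.1 := by
    intro e
    -- `d` is `a` up to sign, so `c` is the mate of `a`
    apply hcb
    rcases eq_of_fst e with e | e
    · subst e
      exact uniq hF hab hca.symm h (by rw [rt_comm]; exact hd)
    · have e' : d = ng a := by rw [e, ng_ng]
      subst e'
      have h5 := mate hF (by rw [ng_fst]; exact hca) hd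
      rw [ng_ng] at h5
      exact uniq hF hab hca.symm h (by rw [rt_comm]; exact h5)
  have k1 : ∀ {d}, c.1 ≠ d.1 → a.1 ≠ d.1 → rt c d ∈ F → 0 ≤ form cs (isCartan n) (rt a a) (rt c d) := by
    intro d hcd had _
    rw [(fzero hcd).2]
    rw [cf_rt, cf_rt, dl_ne hca, dl_ne (fun e => had e.symm)]; norm_num
  have k2 : 0 < form cs (isCartan n) (rt a c) (rt c d) := by
    rw [fpos hcd, cf_rt, cf_rt, dl_self, dl_ne hca, dl_ne (fun e => had e.symm), dl_ne (fun e => hcd e.symm)]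
    norm_num
  have h5 : form cs (isCartan n) (rt a a) (-rt c d) = 0 := by
    rw [form_neg_right, neg_eq_zero, fzero hcd, cf_rt, cf_rt, dl_ne hca, dl_ne (fun e => had e.symm)]; norm_num
  have h6 := (h1 _ (hF.neg _ hd)).2 h5.ge
  rw [form_neg_right] at h6
  omega

/-- the value of the form of `rt a c`, `c` unpaired, on `F` -/
theorem sign_short {a c : Fin n × Bool} (hc : ∀ d, c.1 ≠ d.1 → rt c d ∉ F) {t : Fin n → ℤ} (ht : t ∈ F) :
    cpr cs (isCartan n) (rt a a) t = 2 * cpr cs (isCartan n) (rt a c) t := by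
  obtain ⟨u, v, huv, rfl⟩ := mem_RB.1 (hF.sub t ht)
  have hcu : ∀ {u v : Fin n × Bool}, u.1 ≠ v.1 → rt u v ∈ F → u.1 ≠ c.1 := by
    intro u v huv ht e
    rcases eq_of_fst e with e | e
    · subst e
      exact hc v huv ht
    · have e' : c = ng u := by rw [e, ng_ng]
      subst e'
      refine hc (ng v) (by simpa using huv) ?_
      rw [rt_ng]
      exact hF.neg _ ht
  have h1 := hcu huv ht
  have h2 := hcu huv.symm (by rw [rt_comm]; exact ht)
  rw [cpr_ne _ huv, cpr_ne _ huv, cf_rt, cf_rt, cf_rt, cf_rt, dl_ne h1, dl_ne h2]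
  ring

theorem mem_lam {a c : Fin n × Bool} (hca : c.1 ≠ a.1) (hc : ∀ d, c.1 ≠ d.1 → rt c d ∉ F) : rt a c ∈ Lam cs (isCartan n) F (rt a a) := by
  refine ⟨isRoot_ne hca.symm, fun t ht => ?_⟩
  have h1 := sign_short (a := a) hF hc ht
  have htR := root_RB cs (hF.sub t ht)
  have h2 := cpr_pos_iff cs (isCartan n) (rt a a) htR
  have h3 := cpr_pos_iff cs (isCartan n) (rt a c) htR
  have h4 := cpr_zero_iff cs (isCartan n) (rt a a) htR
  have h5 := cpr_zero_iff cs (isCartan n) (rt a c) htR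
  constructor <;> intro h0 <;> (clear * - h1 h2 h3 h0 h4 h5; omega)

/-- `a`, `c` paired and not mates of each other: `Lam F (rt a c) = {rt a c}` -/
theorem lam_long {a b c d : Fin n × Bool} (hab : a.1 ≠ b.1) (h : rt a b ∈ F) (hcd : c.1 ≠ d.1) (h' : rt c d ∈ F)
    (hac : a.1 ≠ c.1) (hbc : b.1 ≠ c.1) {x : Fin n → ℤ} (hx : x ∈ Lam cs (isCartan n) F (rt a c)) : x = rt a c := by
  have had : a.1 ≠ d.1 := by
    intro e
    rcases eq_of_fst e with e | e
    · subst e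
      exact hbc (uniq hF hab hac h (by rw [rt_comm]; exact h')).symm
    · have e' : d = ng a := by rw [e, ng_ng]
      subst e'
      have h5 := mate hF hcd h'
      rw [ng_ng] at h5
      exact hbc (uniq hF hab hac h (by rw [rt_comm]; exact h5)).symm
  obtain ⟨hxr, h1⟩ := hx
  have h2 := (h1 _ h).1 (by
    rw [fpos hab, cf_rt, cf_rt, dl_self, dl_ne hac, dl_ne hab.symm, dl_ne hbc]; norm_num)
  have h3 := (h1 _ (mate hF hab h)).1 (by
    rw [fpos (by rwa [ng_fst]), cf_ng, cf_rt, cf_rt, dl_self, dl_ne hac, dl_ne hab.symm, dl_ne hbc]; norm_num)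
  have h4 := (h1 _ h').1 (by
    rw [fpos hcd, cf_rt, cf_rt, dl_self, dl_ne (fun e => hac e.symm), dl_ne (fun e => had e.symm),
      dl_ne hcd.symm]; norm_num)
  have h5 := (h1 _ (mate hF hcd h')).1 (by
    rw [fpos (by rwa [ng_fst]), cf_ng, cf_rt, cf_rt, dl_self, dl_ne (fun e => hac e.symm),
      dl_ne (fun e => had e.symm), dl_ne hcd.symm]; norm_num)
  rw [fpos hab] at h2
  rw [fpos (by rwa [ng_fst]), cf_ng] at h3
  rw [fpos hcd] at h4
  rw [fpos (by rwa [ng_fst]), cf_ng] at h5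
  exact eq_rt_of_pos hxr hac (by omega) (by omega)

end MaxF

end Cfsg.Agent.LOC.BRoots
end

-- part: Cit/Nil/LO/LAbs
section
/-!
# LEMMA LA* (helper494): a quaternion group acting by isometries, without singular elements

`M` abelian of odd order, `β : M × M → Z` symmetric and bimultiplicative, `Z` of exponent `p`, `K = Q8` acts by isometries,
no `1 ≠ x ∈ M` inverted by `e` with `β x x = 1`: then `e` centralises `M`.

[`x` inverted by `e`: `x, x ^ a, x ^ b` are pairwise orthogonal of the same norm; `α² + β² + 1 = 0 mod p`: the element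
`x ^ α (x ^ a) ^ β x ^ b` is singular, hence trivial, so `x` is singular.]

* `core`; `star` : for `LA.Frm`; `la` : for the form `[[u, x], y]`.
-/

set_option autoImplicit false
set_option linter.unusedSectionVars false
set_option linter.dupNamespace false

namespace Cfsg.Agent.LOC.LAbs

open Cfsg.Agent.LOC.ChartDefs Cfsg.Agent.LOC.LA
open scoped commutatorElement

variable {Y : Type*} [Group Y]

/-- a symmetric bimultiplicative form -/
structure Bm (M Z : Subgroup Y) (β : Y → Y → Y) : Prop where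
  commM : ∀ u ∈ M, ∀ v ∈ M, u * v = v * u
  oddM : ∀ u ∈ M, u * u = 1 → u = 1
  oddZ : ∀ u ∈ Z, u * u = 1 → u = 1
  mem : ∀ u ∈ M, ∀ v ∈ M, β u v ∈ Z
  mul_left : ∀ u ∈ M, ∀ u' ∈ M, ∀ v ∈ M, β (u * u') v = β u v * β u' v
  symm : ∀ u ∈ M, ∀ v ∈ M, β u v = β v u

variable {M Z K : Subgroup Y} {β : Y → Y → Y} {e : Y}

section

variable (f : Bm M Z β)
include f

theorem Bm.mul_right {u v v' : Y} (hu : u ∈ M) (hv : v ∈ M) (hv' : v' ∈ M) : β u (v * v') = β u v * β u v' := by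
  rw [f.symm u hu _ (mul_mem hv hv'), f.mul_left v hv v' hv' u hu, f.symm v hv u hu, f.symm v' hv' u hu]

theorem Bm.one_left {v : Y} (hv : v ∈ M) : β 1 v = 1 := by
  have h1 := f.mul_left 1 M.one_mem 1 M.one_mem v hv
  rw [one_mul] at h1
  exact mul_left_cancel (a := β 1 v) (by rw [mul_one]; exact h1.symm)

theorem Bm.one_right {u : Y} (hu : u ∈ M) : β u 1 = 1 := by
  rw [f.symm u hu 1 M.one_mem, f.one_left hu]

theorem Bm.inv_right {u v : Y} (hu : u ∈ M) (hv : v ∈ M) : β u v⁻¹ = (β u v)⁻¹ := by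
  have h1 := f.mul_right hu hv (inv_mem hv)
  rw [mul_inv_cancel, f.one_right hu] at h1
  exact (inv_eq_of_mul_eq_one_right h1.symm).symm

theorem Bm.pow_left {u v : Y} (hu : u ∈ M) (hv : v ∈ M) (k : ℕ) : β (u ^ k) v = β u v ^ k := by
  induction k with
  | zero => rw [pow_zero, pow_zero, f.one_left hv]
  | succ k ih => rw [pow_succ, pow_succ, f.mul_left _ (pow_mem hu k) u hu v hv, ih]

theorem Bm.pow_right {u v : Y} (hu : u ∈ M) (hv : v ∈ M) (k : ℕ) : β u (v ^ k) = β u v ^ k := by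
  rw [f.symm u hu _ (pow_mem hv k), f.pow_left hv hu, f.symm v hv u hu]

/-- `β u (u ^ k) = 1` for `u ∈ M_e`, `k² = e` -/
theorem Bm.orth (hKM : ∀ k ∈ K, ∀ u ∈ M, k * u * k⁻¹ ∈ M)
    (hinv : ∀ k ∈ K, ∀ u ∈ M, ∀ v ∈ M, β (k * u * k⁻¹) (k * v * k⁻¹) = β u v) {u k : Y} (hu' : u ∈ M)
    (hue : e * u * e⁻¹ = u⁻¹) (hk : k ∈ K) (hkk : k * k = e) : β u (k * u * k⁻¹) = 1 := by
  have hku := hKM k hk u hu'
  have h1 := hinv k hk u hu' _ hku
  have h2 : k * (k * u * k⁻¹) * k⁻¹ = u⁻¹ := by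
    have : k * (k * u * k⁻¹) * k⁻¹ = (k * k) * u * (k * k)⁻¹ := by group
    rw [this, hkk, hue]
  rw [h2, f.inv_right hku hu', f.symm _ hku u hu'] at h1
  have h3 : β u (k * u * k⁻¹) * β u (k * u * k⁻¹) = 1 := by
    nth_rw 1 [← h1]
    group
  exact f.oddZ _ (f.mem u hu' _ hku) h3

/-- **LEMMA LA***, core -/
theorem Bm.core {p : ℕ} [Fact p.Prime] (hK : QK K e) (hKM : ∀ k ∈ K, ∀ u ∈ M, k * u * k⁻¹ ∈ M)
    (hinv : ∀ k ∈ K, ∀ u ∈ M, ∀ v ∈ M, β (k * u * k⁻¹) (k * v * k⁻¹) = β u v)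
    (hexp : ∀ d ∈ Z, d ^ p = 1) (sing : ∀ u ∈ M, e * u * e⁻¹ = u⁻¹ → β u u = 1 → u = 1) :
    ∀ u ∈ M, e * u = u * e := by
  -- no inverted elements
  have key : ∀ w ∈ Me M e f.commM, w = 1 := by
    intro w hw
    obtain ⟨a, ha, b, hb, h1, h2, -, h4, -⟩ := quad hK
    have hcj : ∀ k ∈ K, k * w * k⁻¹ ∈ Me M e f.commM := by
      intro k hk
      refine ⟨hKM k hk w hw.1, ?_⟩
      have hke := hK.cen k hk
      calc e * (k * w * k⁻¹) * e⁻¹ = (e * k) * w * (e * k)⁻¹ := by group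
        _ = (k * e) * w * (k * e)⁻¹ := by rw [hke]
        _ = k * (e * w * e⁻¹) * k⁻¹ := by group
        _ = (k * w * k⁻¹)⁻¹ := by rw [hw.2]; group
    set u2 := a * w * a⁻¹ with hu2
    set u3 := b * w * b⁻¹ with hu3
    have m2 : u2 ∈ Me M e f.commM := hcj a ha
    have m3 : u3 ∈ Me M e f.commM := hcj b hb
    have o12 : β w u2 = 1 := f.orth hKM hinv hw.1 hw.2 ha h1
    have o13 : β w u3 = 1 := f.orth hKM hinv hw.1 hw.2 hb h2
    have o23 : β u2 u3 = 1 := by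
      have h6 := f.orth hKM hinv hw.1 hw.2 (mul_mem (inv_mem ha) hb) h4
      rw [← hinv a ha w hw.1 _ (hKM _ (mul_mem (inv_mem ha) hb) w hw.1)] at h6
      have h7 : a * (a⁻¹ * b * w * (a⁻¹ * b)⁻¹) * a⁻¹ = b * w * b⁻¹ := by group
      rwa [h7] at h6
    have o21 : β u2 w = 1 := by rw [f.symm u2 m2.1 w hw.1, o12]
    have o31 : β u3 w = 1 := by rw [f.symm u3 m3.1 w hw.1, o13]
    have o32 : β u3 u2 = 1 := by rw [f.symm u3 m3.1 u2 m2.1, o23]
    have n2 : β u2 u2 = β w w := hinv a ha w hw.1 w hw.1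
    have n3 : β u3 u3 = β w w := hinv b hb w hw.1 w hw.1
    obtain ⟨x, y, hxy⟩ := ZMod.sq_add_sq p (-1 : ZMod p)
    have hdvd : p ∣ x.val * x.val + y.val * y.val + 1 := by
      rw [← ZMod.natCast_eq_zero_iff]
      push_cast
      rw [ZMod.natCast_zmod_val, ZMod.natCast_zmod_val]
      linear_combination hxy
    obtain ⟨c, hc⟩ := hdvd
    set k := x.val
    set l := y.val
    set v := w ^ k * u2 ^ l * u3 with hv
    have p1 : w ^ k ∈ M := pow_mem hw.1 k
    have p2 : u2 ^ l ∈ M := pow_mem m2.1 l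
    have p12 : w ^ k * u2 ^ l ∈ M := mul_mem p1 p2
    have hvM : v ∈ Me M e f.commM := mul_mem (mul_mem (pow_mem hw k) (pow_mem m2 l)) m3
    have ev : ∀ g ∈ M, β v g = β w g ^ k * β u2 g ^ l * β u3 g := by
      intro g hg
      rw [hv, f.mul_left _ p12 u3 m3.1 g hg, f.mul_left _ p1 _ p2 g hg, f.pow_left hw.1 hg, f.pow_left m2.1 hg]
    have e1 : β v w = β w w ^ k := by rw [ev w hw.1, o21, o31, one_pow, mul_one, mul_one]
    have e2 : β v u2 = β w w ^ l := by rw [ev u2 m2.1, o12, o32, n2, one_pow, one_mul, mul_one]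
    have e3 : β v u3 = β w w := by rw [ev u3 m3.1, o13, o23, n3, one_pow, one_pow, one_mul, one_mul]
    have hvv : β v v = 1 := by
      have h6 : β v v = β v w ^ k * β v u2 ^ l * β v u3 := by
        conv_lhs => rw [hv]
        rw [f.mul_right hvM.1 p12 m3.1, f.mul_right hvM.1 p1 p2, f.pow_right hvM.1 hw.1, f.pow_right hvM.1 m2.1]
      rw [h6, e1, e2, e3, ← pow_mul, ← pow_mul, ← pow_add, ← pow_succ, hc, pow_mul,
        hexp _ (f.mem w hw.1 w hw.1), one_pow]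
    have hv1 := sing v hvM.1 hvM.2 hvv
    have h8 : β w w = 1 := by
      rw [← e3, hv1, f.one_left m3.1]
    exact sing w hw.1 hw.2 h8
  intro u hu
  have hee : e * e = 1 := hK.sq
  have hw : u⁻¹ * (e * u * e⁻¹) ∈ Me M e f.commM := by
    have heu := hKM e hK.mem u hu
    refine ⟨mul_mem (inv_mem hu) heu, ?_⟩
    have h1 : e * (e * u * e⁻¹) * e⁻¹ = u := by
      have : e * (e * u * e⁻¹) * e⁻¹ = (e * e) * u * (e * e)⁻¹ := by group
      rw [this, hee]; group
    have h2 : e * (u⁻¹ * (e * u * e⁻¹)) * e⁻¹ = (e * u * e⁻¹)⁻¹ * (e * (e * u * e⁻¹) * e⁻¹) := by group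
    rw [h2, h1]
    group
  have h1 := key _ hw
  have h2 : e * u * e⁻¹ = u := by
    rw [inv_mul_eq_one] at h1
    exact h1.symm
  calc e * u = (e * u * e⁻¹) * e := by group
    _ = u * e := by rw [h2]

end

/-- **LEMMA LA*** for the form `[[u, x], y]` -/
theorem la [Finite Y] {p : ℕ} [Fact p.Prime] (hp : p ≠ 2) {K N D : Subgroup Y} {e u : Y} (hK : QK K e)
    (hN : ∀ x ∈ N, ∀ y ∈ N, x * y = y * x) (hodd : Odd (Nat.card N)) (hKN : ∀ k ∈ K, ∀ x ∈ N, k * x * k⁻¹ ∈ N)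
    (hKu : ∀ k ∈ K, k * u = u * k) (hKD : ∀ k ∈ K, ∀ d ∈ D, k * d = d * k)
    (hD : ∀ x ∈ N, ∀ y ∈ N, ⁅⁅u, x⁆, y⁆ ∈ D) (hDp : ∀ d ∈ D, d ^ p = 1)
    (_hDc : ∀ d ∈ D, ∀ d' ∈ D, d * d' = d' * d)
    (mulL : ∀ x ∈ N, ∀ y ∈ N, ∀ t ∈ N, ⁅⁅u, x * y⁆, t⁆ = ⁅⁅u, x⁆, t⁆ * ⁅⁅u, y⁆, t⁆)
    (symm : ∀ x ∈ N, ∀ y ∈ N, ⁅⁅u, x⁆, y⁆ = ⁅⁅u, y⁆, x⁆)
    (sing : ∀ x ∈ N, e * x * e⁻¹ = x⁻¹ → ⁅⁅u, x⁆, x⁆ = 1 → x = 1) : ∀ x ∈ N, e * x = x * e := by
  have hpo := (Fact.out : p.Prime).odd_of_ne_two hp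
  have f : Bm N D (fun x y => ⁅⁅u, x⁆, y⁆) := by
    refine ⟨hN, fun x hx h2 => ?_, fun d hd h2 => ?_, hD, mulL, symm⟩
    · have h4 : orderOf (⟨x, hx⟩ : N) ∣ 2 := orderOf_dvd_of_pow_eq_one (by
        apply Subtype.ext
        rw [pow_two]
        exact h2)
      have h5 : orderOf (⟨x, hx⟩ : N) ∣ Nat.card N := orderOf_dvd_natCard _
      have h6 : orderOf (⟨x, hx⟩ : N) = 1 := by
        have h7 := Nat.dvd_gcd h4 h5
        rwa [Nat.Coprime.gcd_eq_one (Nat.coprime_two_left.2 hodd), Nat.dvd_one] at h7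
      exact congrArg Subtype.val (orderOf_eq_one_iff.1 h6)
    · obtain ⟨k, hk⟩ := hpo
      have h3 := hDp d hd
      rw [hk, pow_succ, pow_mul, pow_two, h2, one_pow, one_mul] at h3
      exact h3
  refine f.core (K := K) hK hKN (fun k hk x hx y hy => ?_) hDp sing
  have h1 : ⁅⁅u, k * x * k⁻¹⁆, k * y * k⁻¹⁆ = k * ⁅⁅u, x⁆, y⁆ * k⁻¹ := by
    have e1 : ⁅u, k * x * k⁻¹⁆ = k * ⁅u, x⁆ * k⁻¹ := by
      have e2 : k⁻¹ * u * k = u := by
        rw [mul_assoc, ← hKu k hk]; group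
      calc ⁅u, k * x * k⁻¹⁆ = k * ⁅k⁻¹ * u * k, x⁆ * k⁻¹ := by
            rw [commutatorElement_def, commutatorElement_def]; group
        _ = k * ⁅u, x⁆ * k⁻¹ := by rw [e2]
    rw [e1, commutatorElement_def, commutatorElement_def _ y]
    group
  change ⁅⁅u, k * x * k⁻¹⁆, k * y * k⁻¹⁆ = ⁅⁅u, x⁆, y⁆
  rw [h1, hKD k hk _ (hD x hx y hy), mul_inv_cancel_right]

end Cfsg.Agent.LOC.LAbs
end

-- part: Cit/Nil/LO/BGam
section
/-!
# Lie odd sections, the chart part: the form `γ(x, y) = [[u, x], y]` (S1309, (n1), piece (C))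

* `Gam N D u` : `γ` maps `N × N` to `D`, is multiplicative and symmetric;
* `gam_abs` : the abstract supply; `gam` : in a chart, `N ≤ VV r` abelian, `u ∈ Z s`, `s ⟂ r`, `u` commutes with all
  `[u, x]`, `x ∈ N`; `quad_le` : the last condition has to be checked for generators only;
* `surj` : `Sq cs h m y₁ y₂ x b`, `1 ≠ u ∈ X b` : for `v ∈ X y₂` there is `g ∈ X y₁` with `[u, g] ∈ v X x`.
-/

set_option autoImplicit false
set_option linter.unusedSectionVars false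
set_option linter.dupNamespace false

namespace Cfsg.Agent.LOC.BGam

open CoxeterSystem Cfsg.Agent.ChevalleyStructure.CoxeterGeom Cfsg.Agent.Tits.Roots Cfsg.Agent.Tits.Core
  Cfsg.Agent.Tits.RootComb Cfsg.Agent.Nodes.Comb Cfsg.Agent.Nodes.SubComb Cfsg.Agent.Nodes.Reps
  Cfsg.Agent.Nodes.Coroot Cfsg.Agent.Nodes.PosPair Cfsg.Agent.Nodes.BNOf Cfsg.Agent.Nodes.RGDLib
  Cfsg.Agent.Nodes.Chart Cfsg.Agent.Nodes.ClsNorm Cfsg.Agent.Nodes.ChartLoc Cfsg.Agent.Nodes.ChartFrame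
  Cfsg.Agent.Nodes.Slope Cfsg.Agent.Nodes.Bruhat Cfsg.Agent.LOC.ChartDefs Cfsg.Agent.LOC.Wt
  Cfsg.Agent.Nodes.ShortSum Cfsg.Agent.Nodes.MuSq
open scoped commutatorElement

/-! ### Abstract part -/

section Abs

variable {Y : Type*} [Group Y] {V D N : Subgroup Y} {u : Y}

/-- the form `γ(x, y) = [[u, x], y]` -/
structure Gam (N D : Subgroup Y) (u : Y) : Prop where
  mem : ∀ x ∈ N, ∀ y ∈ N, ⁅⁅u, x⁆, y⁆ ∈ D
  mulL : ∀ x ∈ N, ∀ y ∈ N, ∀ t ∈ N, ⁅⁅u, x * y⁆, t⁆ = ⁅⁅u, x⁆, t⁆ * ⁅⁅u, y⁆, t⁆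
  symm : ∀ x ∈ N, ∀ y ∈ N, ⁅⁅u, x⁆, y⁆ = ⁅⁅u, y⁆, x⁆

/-- the standing hypotheses on `V` and `u` -/
structure Std (V D : Subgroup Y) (u : Y) : Prop where
  VD : ∀ x ∈ V, ∀ y ∈ V, ⁅x, y⁆ ∈ D
  DV : ∀ d ∈ D, ∀ x ∈ V, d * x = x * d
  le : D ≤ V
  uV : ∀ x ∈ V, u * x * u⁻¹ ∈ V
  uD : ∀ d ∈ D, u * d = d * u

variable (S : Std V D u)
include S

theorem Std.del {x : Y} (hx : x ∈ V) : ⁅u, x⁆ ∈ V := by
  rw [commutatorElement_def]
  exact mul_mem (S.uV x hx) (inv_mem hx)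

theorem Std.commL {v v' t : Y} (hv : v ∈ V) (hv' : v' ∈ V) (ht : t ∈ V) : ⁅v * v', t⁆ = ⁅v, t⁆ * ⁅v', t⁆ := by
  have h1 := S.VD v' hv' t ht
  have h2 := S.DV _ h1 v hv
  have h3 := S.DV _ h1 _ (S.le (S.VD v hv t ht))
  calc ⁅v * v', t⁆ = v * ⁅v', t⁆ * v⁻¹ * ⁅v, t⁆ := by simp only [commutatorElement_def]; group
    _ = ⁅v', t⁆ * ⁅v, t⁆ := by rw [← h2, mul_inv_cancel_right]
    _ = ⁅v, t⁆ * ⁅v', t⁆ := h3

theorem Std.commR {v t t' : Y} (hv : v ∈ V) (ht : t ∈ V) (ht' : t' ∈ V) : ⁅v, t * t'⁆ = ⁅v, t⁆ * ⁅v, t'⁆ := by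
  have h1 := S.DV _ (S.VD v hv t' ht') t ht
  calc ⁅v, t * t'⁆ = ⁅v, t⁆ * (t * ⁅v, t'⁆ * t⁻¹) := by simp only [commutatorElement_def]; group
    _ = ⁅v, t⁆ * ⁅v, t'⁆ := by rw [← h1, mul_inv_cancel_right]

theorem Std.del_mul {x y : Y} (hx : x ∈ V) (hy : y ∈ V) :
    ⁅u, x * y⁆ = ⁅x, ⁅u, y⁆⁆ * (⁅u, x⁆ * ⁅u, y⁆) := by
  have h1 := S.DV _ (S.VD x hx _ (S.del hy)) _ (S.del hx)
  calc ⁅u, x * y⁆ = ⁅u, x⁆ * (⁅x, ⁅u, y⁆⁆ * ⁅u, y⁆) := by simp only [commutatorElement_def]; group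
    _ = (⁅u, x⁆ * ⁅x, ⁅u, y⁆⁆) * ⁅u, y⁆ := by group
    _ = (⁅x, ⁅u, y⁆⁆ * ⁅u, x⁆) * ⁅u, y⁆ := by rw [h1]
    _ = _ := by group

theorem Std.central {d v t : Y} (hd : d ∈ D) (hv : v ∈ V) (ht : t ∈ V) : ⁅d * v, t⁆ = ⁅v, t⁆ := by
  rw [S.commL (S.le hd) hv ht, commutatorElement_eq_one_iff_mul_comm.2 (S.DV d hd t ht), one_mul]

/-- the elements `x` of `V` such that `u` commutes with `[u, x]` -/
def Quad (S : Std V D u) : Subgroup Y where
  carrier := {x | x ∈ V ∧ u * ⁅u, x⁆ = ⁅u, x⁆ * u}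
  one_mem' := ⟨V.one_mem, by rw [commutatorElement_one_right, mul_one, one_mul]⟩
  mul_mem' := by
    rintro x y ⟨hx, h1⟩ ⟨hy, h2⟩
    refine ⟨mul_mem hx hy, ?_⟩
    have h3 := S.uD _ (S.VD x hx _ (S.del hy))
    rw [S.del_mul hx hy]
    calc u * (⁅x, ⁅u, y⁆⁆ * (⁅u, x⁆ * ⁅u, y⁆)) = (u * ⁅x, ⁅u, y⁆⁆) * (⁅u, x⁆ * ⁅u, y⁆) := by group
      _ = ⁅x, ⁅u, y⁆⁆ * (u * ⁅u, x⁆) * ⁅u, y⁆ := by rw [h3]; group
      _ = ⁅x, ⁅u, y⁆⁆ * ⁅u, x⁆ * (u * ⁅u, y⁆) := by rw [h1]; group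
      _ = _ := by rw [h2]; group
  inv_mem' := by
    rintro x ⟨hx, h1⟩
    refine ⟨inv_mem hx, ?_⟩
    have h2 := S.uD _ (S.VD x⁻¹ (inv_mem hx) _ (inv_mem (S.del hx)))
    have h3 : ⁅u, x⁻¹⁆ = ⁅x⁻¹, ⁅u, x⁆⁻¹⁆ * ⁅u, x⁆⁻¹ := by simp only [commutatorElement_def]; group
    have h4 : u * ⁅u, x⁆⁻¹ = ⁅u, x⁆⁻¹ * u := by
      calc u * ⁅u, x⁆⁻¹ = ⁅u, x⁆⁻¹ * (⁅u, x⁆ * u) * ⁅u, x⁆⁻¹ := by group
        _ = ⁅u, x⁆⁻¹ * (u * ⁅u, x⁆) * ⁅u, x⁆⁻¹ := by rw [h1]
        _ = _ := by group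
    rw [h3]
    calc u * (⁅x⁻¹, ⁅u, x⁆⁻¹⁆ * ⁅u, x⁆⁻¹) = (u * ⁅x⁻¹, ⁅u, x⁆⁻¹⁆) * ⁅u, x⁆⁻¹ := by group
      _ = ⁅x⁻¹, ⁅u, x⁆⁻¹⁆ * (u * ⁅u, x⁆⁻¹) := by rw [h2]; group
      _ = _ := by rw [h4]; group

theorem gam_abs (hNV : N ≤ V) (hN : ∀ x ∈ N, ∀ y ∈ N, x * y = y * x) (hu : ∀ x ∈ N, u * ⁅u, x⁆ = ⁅u, x⁆ * u) :
    Gam N D u where
  mem x hx y hy := S.VD _ (S.del (hNV hx)) y (hNV hy)
  mulL x hx y hy t ht := by
    rw [S.del_mul (hNV hx) (hNV hy), S.central (S.VD x (hNV hx) _ (S.del (hNV hy)))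
      (mul_mem (S.del (hNV hx)) (S.del (hNV hy))) (hNV ht), S.commL (S.del (hNV hx)) (S.del (hNV hy)) (hNV ht)]
  symm x hx y hy := by
    have dx := S.del (hNV hx)
    have dy := S.del (hNV hy)
    -- `[δ x, δ y] = 1`
    have h1 : ⁅⁅u, x⁆, ⁅u, y⁆⁆ = 1 := by
      have h2 := S.uD _ (S.VD _ dx y (hNV hy))
      have h3 : u * ⁅⁅u, x⁆, y⁆ * u⁻¹ = ⁅⁅u, x⁆, ⁅u, y⁆ * y⁆ := by
        have e1 : u * ⁅⁅u, x⁆, y⁆ * u⁻¹ = ⁅u * ⁅u, x⁆ * u⁻¹, u * y * u⁻¹⁆ := by
          simp only [commutatorElement_def]; group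
        have e2 : u * ⁅u, x⁆ * u⁻¹ = ⁅u, x⁆ := by rw [hu x hx, mul_inv_cancel_right]
        have e3 : u * y * u⁻¹ = ⁅u, y⁆ * y := by rw [commutatorElement_def]; group
        rw [e1, e2, e3]
      rw [h2, mul_inv_cancel_right, S.commR dx dy (hNV hy)] at h3
      exact right_eq_mul.1 h3
    have h2 : ⁅⁅u, x⁆ * x, ⁅u, y⁆ * y⁆ = 1 := by
      have e1 : ⁅u, x⁆ * x = u * x * u⁻¹ := by rw [commutatorElement_def]; group
      have e2 : ⁅u, y⁆ * y = u * y * u⁻¹ := by rw [commutatorElement_def]; group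
      rw [e1, e2, commutatorElement_eq_one_iff_mul_comm]
      calc u * x * u⁻¹ * (u * y * u⁻¹) = u * (x * y) * u⁻¹ := by group
        _ = u * (y * x) * u⁻¹ := by rw [hN x hx y hy]
        _ = _ := by group
    rw [S.commL dx (hNV hx) (mul_mem dy (hNV hy)), S.commR dx dy (hNV hy), S.commR (hNV hx) dy (hNV hy), h1,
      one_mul, commutatorElement_eq_one_iff_mul_comm.2 (hN x hx y hy), mul_one] at h2
    rw [mul_eq_one_iff_eq_inv.1 h2, commutatorElement_inv]

end Abs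

namespace Gam

variable {Y : Type*} [Group Y] {D N : Subgroup Y} {u : Y} (g : Gam N D u)
include g

theorem mulR {x y t : Y} (hx : x ∈ N) (hy : y ∈ N) (ht : t ∈ N) :
    ⁅⁅u, t⁆, x * y⁆ = ⁅⁅u, t⁆, x⁆ * ⁅⁅u, t⁆, y⁆ := by
  rw [g.symm t ht _ (mul_mem hx hy), g.mulL x hx y hy t ht, g.symm x hx t ht, g.symm y hy t ht]

end Gam

/-! ### In a chart -/

variable {I W Y : Type*} [Fintype I] [DecidableEq I] [Group W] [Fintype W] [Group Y] {M : CoxeterMatrix I}
  {cs : CoxeterSystem M W} {A : I → I → ℤ} {h : IsCartan M A} {p : ℕ} {T : Subgroup Y} {n : I → Y}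
  {X : (I → ℤ) → Subgroup Y} {R : Set (I → ℤ)} {Z : (I → ℤ) → Subgroup Y} {z : (I → ℤ) → Y}
  (C : Cls cs h p T n X R Z z)

include C

theorem std [Finite Y] [Fact p.Prime] (hp2 : p ≠ 2) {r s : I → ℤ} (hr : r ∈ R) (hs : s ∈ R)
    (hrs : form cs h r s = 0) {u : Y} (hu : u ∈ Z s) : Std (VV cs h X r) (Z r) u where
  VD x hx y hy := commutator_VV_le C hp2 hr (Subgroup.commutator_mem_commutator hx hy)
  DV d hd x hx := VV_comm C hr hd hx
  le := Z_le_VV C hr
  uV x hx := by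
    have h1 : u ∈ Subgroup.normalizer (VV cs h X r : Set Y) :=
      Nodes.CenVV.X_le_normalizer_VV C (C.root s hs) (by rw [form_comm]; exact hrs) (C.le s hs hu)
    exact (Subgroup.mem_normalizer_iff.1 h1 x).1 hx
  uD d hd := C.cent r hr s (C.root s hs) (by rw [form_comm, hrs]) u (C.le s hs hu) d hd

/-! ### Surjectivity -/

variable {m : ℤ} {y₁ y₂ x b : I → ℤ} (S : Sq cs h m y₁ y₂ x b)

omit C in
/-- `⟨y₁, b⟩ = -m` -/
theorem cpr_y₁ (S : Sq cs h m y₁ y₂ x b) : cpr cs h y₁ b = -m := by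
  apply cpr_eq_of_form cs h S.rootb
  have h1 : m * (m * form cs h b b) = 2 * form cs h y₁ y₁ := by
    rw [← form_smul_left, ← form_smul_right, S.sub, form_sub_right, form_sub_left, form_sub_left,
      form_comm cs h y₂ y₁, S.orth, S.len]
    ring
  have h2 := S.form_b₁
  have h3 : m * (2 * form cs h y₁ b) = m * (-m * form cs h b b) := by
    rw [form_comm cs h y₁ b]
    calc m * (2 * form cs h b y₁) = 2 * (m * form cs h b y₁) := by ring
      _ = -(2 * form cs h y₁ y₁) := by rw [h2]; ring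
      _ = m * (-m * form cs h b b) := by rw [← h1]; ring
  exact mul_left_cancel₀ S.pos.ne' h3

theorem surj [Finite Y] (S : Sq cs h m y₁ y₂ x b) (hxR : x ∈ R) (hbR : b ∈ R) (hX : X x = Z x) (hB : X b = Z b)
    {u : Y} (hu : u ∈ X b) (hu1 : u ≠ 1) {v : Y} (hv : v ∈ X y₂) : ∃ g ∈ X y₁, ∃ d ∈ X x, ⁅u, g⁆ = v * d := by
  have hbn := _root_.Cfsg.Agent.Nodes.ClsNorm.neg_mem C hbR
  have rb := S.rootb
  -- commutations
  have x₁ : ∀ c ∈ X x, ∀ a ∈ X y₁, a * c = c * a := fun c hc a ha =>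
    C.cent x hxR y₁ S.root₁ (by rw [form_comm]; exact S.x₁_pos.le) a ha c (hX ▸ hc)
  have x₂ : ∀ c ∈ X x, ∀ a ∈ X y₂, a * c = c * a := fun c hc a ha =>
    C.cent x hxR y₂ S.root₂ (by rw [form_comm]; exact S.x₂_pos.le) a ha c (hX ▸ hc)
  have xb' : ∀ c ∈ X x, ∀ a ∈ X (-b), a * c = c * a := fun c hc a ha =>
    C.cent x hxR (-b) rb.neg (by rw [form_neg_left, form_comm, S.xb, neg_zero]) a ha c (hX ▸ hc)
  have hXn : X (-b) = Z (-b) := by
    obtain ⟨w, i, rfl⟩ := rb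
    obtain ⟨k, hk⟩ := exists_rp cs C.rgd.nsys (w * cs.simple i * w⁻¹)
    have h2 : rep cs h (w * cs.simple i * w⁻¹) (rep cs h w (sr i)) = -rep cs h w (sr i) := by
      rw [rep_mul_apply, rep_mul_apply, rep_inv_apply, rep_simple_sr, map_neg]
    have h3 := conj_Z C hk hbR
    have h4 := C.rgd.conj_rp hk S.rootb
    rw [h2] at h3 h4
    rw [← h3, ← h4, hB]
  have b₁ : ∀ c ∈ X (-b), ∀ a ∈ X y₁, a * c = c * a := fun c hc a ha =>
    C.cent (-b) hbn y₁ S.root₁ (by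
      have := S.b₁_neg
      rw [form_neg_right, form_comm]; omega) a ha c (hXn ▸ hc)
  -- the `μ`-element
  obtain ⟨q, hq, q', hq', w, hw, hwi, he⟩ := exists_mu' C.rgd rb hu hu1
  have e1 : rep cs h w y₁ = y₂ := by
    rw [he, cpr_y₁ S, neg_smul, sub_neg_eq_add, S.sub]; abel
  set μ := q * u * q' with hμ
  have hg : μ⁻¹ * v * μ ∈ X y₁ := by
    have h1 := C.rgd.conj_mem' hw S.root₂ hv
    rwa [← e1, rep_inv_apply] at h1
  set g := μ⁻¹ * v * μ with hgd
  -- `[u, g]`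
  obtain ⟨v', hv', d', hd', h1⟩ : ∃ v' ∈ X y₂, ∃ d' ∈ X x, ⁅u, g⁆ = v' * d' := by
    refine mem_sup_of_cm (fun a ha c hc => x₂ c hc a ha) ?_
    refine btw_le ?_ (C.rgd.comm b y₁ rb S.root₁ S.ne_b.1.symm (fun e => S.ne_b.2 (by rw [e, neg_neg])) u hu g hg)
    intro r hr
    rcases S.btwn' hr.symm with rfl | rfl
    · exact le_sup_left
    · exact le_sup_right
  have sw : Sq cs h m y₂ y₁ x (-b) :=
    { pos := S.pos
      root₁ := S.root₂
      root₂ := S.root₁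
      root := S.root
      rootb := S.rootb.neg
      orth := by rw [form_comm]; exact S.orth
      len := S.len.symm
      add := by rw [S.add, add_comm]
      sub := by rw [smul_neg, S.sub]; abel }
  obtain ⟨v₁, hv₁, d₁, hd₁, h2⟩ : ∃ v₁ ∈ X y₁, ∃ d₁ ∈ X x, ⁅q, v'⁆ = v₁ * d₁ := by
    refine mem_sup_of_cm (fun a ha c hc => x₁ c hc a ha) ?_
    refine btw_le ?_ (C.rgd.comm (-b) y₂ rb.neg S.root₂ (fun e => S.ne_b₂.2 e.symm)
      (fun e => S.ne_b₂.1 (neg_injective e.symm)) q hq v' hv')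
    intro r hr
    rcases sw.btwn' hr.symm with rfl | rfl
    · exact le_sup_left
    · exact le_sup_right
  have h3 : ⁅v', g⁆ ∈ X x := by
    refine btw_le ?_ (C.rgd.comm y₂ y₁ S.root₂ S.root₁ S.ne₁.symm (fun e => S.ne₂ (by rw [e, neg_neg])) v' hv' g hg)
    intro r hr
    rw [sw.btwn hr]
  have h4 : v = v₁ * g * (v' * (⁅v', g⁆ * d₁ * d')) := by
    have k1 : v = μ * g * μ⁻¹ := by rw [hgd]; group
    have k2 : q' * g * q'⁻¹ = g := by rw [← b₁ q' hq' g hg]; group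
    have k3 : u * g * u⁻¹ = v' * d' * g := by rw [← h1, commutatorElement_def]; group
    have k4 : q * v' * q⁻¹ = v₁ * d₁ * v' := by rw [← h2, commutatorElement_def]; group
    have k5 : q * d' * q⁻¹ = d' := by rw [xb' d' hd' q hq]; group
    have k6 : q * g * q⁻¹ = g := by rw [← b₁ q hq g hg]; group
    have k7 : v' * g = ⁅v', g⁆ * (g * v') := by rw [commutatorElement_def]; group
    have k8 := x₁ _ h3 g hg
    have k9 := x₂ _ h3 v' hv'
    have k10 := x₁ _ hd₁ g hg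
    have k11 := x₂ _ hd₁ v' hv'
    have k12 := x₁ _ hd' g hg
    have k13 := x₁ _ h3 v₁ hv₁
    have k14 := x₁ _ hd₁ v₁ hv₁
    have hdd : ∀ c ∈ X x, ∀ d ∈ X x, c * d = d * c := fun c hc d hd =>
      (C.cent x hxR x S.root (form_pos cs h S.root.ne_zero).le c hc d (hX ▸ hd))
    calc v = μ * g * μ⁻¹ := k1
      _ = q * (u * (q' * g * q'⁻¹) * u⁻¹) * q⁻¹ := by rw [hμ]; group
      _ = (q * v' * q⁻¹) * (q * d' * q⁻¹) * (q * g * q⁻¹) := by rw [k2, k3]; group
      _ = v₁ * d₁ * v' * (d' * g) := by rw [k4, k5, k6]; group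
      _ = v₁ * d₁ * (v' * g) * d' := by rw [← k12]; group
      _ = v₁ * (d₁ * ⁅v', g⁆) * (g * v') * d' := by rw [k7]; group
      _ = v₁ * (⁅v', g⁆ * d₁) * (g * v') * d' := by rw [hdd _ hd₁ _ h3]
      _ = v₁ * ((⁅v', g⁆ * d₁) * g) * v' * d' := by group
      _ = v₁ * (g * (⁅v', g⁆ * d₁)) * v' * d' := by rw [x₁ _ (mul_mem h3 hd₁) g hg]
      _ = v₁ * g * ((⁅v', g⁆ * d₁) * v') * d' := by group
      _ = v₁ * g * (v' * (⁅v', g⁆ * d₁)) * d' := by rw [x₂ _ (mul_mem h3 hd₁) v' hv']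
      _ = _ := by group
  set d'' := ⁅v', g⁆ * d₁ * d' with hd''
  have hd''X : d'' ∈ X x := mul_mem (mul_mem h3 hd₁) hd'
  -- `v₁ g = 1`
  have h5 : v₁ * g = 1 := by
    refine Cfsg.Agent.Nodes.Slope.sup_inf_sup' C.rgd (Nodes.CenVV.fh cs h y₂) (Nodes.CenVV.fh cs h y₁) (u := v₁ * g) ?_ ?_
    · have h6 : v₁ * g = v * (v' * d'')⁻¹ := by rw [h4]; group
      rw [h6]
      have k1 : X y₂ ≤ RGD.Sup X {w | IsRoot cs h w ∧ 0 < Nodes.CenVV.fh cs h y₂ w} :=
        RGD.le_Sup (S := {w | IsRoot cs h w ∧ 0 < Nodes.CenVV.fh cs h y₂ w}) ⟨S.root₂, form_pos cs h S.root₂.ne_zero⟩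
      have k2 : X x ≤ RGD.Sup X {w | IsRoot cs h w ∧ 0 < Nodes.CenVV.fh cs h y₂ w} :=
        RGD.le_Sup (S := {w | IsRoot cs h w ∧ 0 < Nodes.CenVV.fh cs h y₂ w}) ⟨S.root, S.x₂_pos⟩
      exact mul_mem (k1 hv) (inv_mem (mul_mem (k1 hv') (k2 hd''X)))
    · have k1 : X y₁ ≤ RGD.Sup X {w | IsRoot cs h w ∧ Nodes.CenVV.fh cs h y₂ w ≤ 0 ∧ 0 < Nodes.CenVV.fh cs h y₁ w} :=
        RGD.le_Sup (S := {w | IsRoot cs h w ∧ Nodes.CenVV.fh cs h y₂ w ≤ 0 ∧ 0 < Nodes.CenVV.fh cs h y₁ w})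
          ⟨S.root₁, by rw [Nodes.CenVV.fh_apply, S.orth], form_pos cs h S.root₁.ne_zero⟩
      exact k1 (mul_mem hv₁ hg)
  rw [h5, one_mul] at h4
  have h6 : v'⁻¹ * v = 1 := by
    have h7 : v'⁻¹ * v ∈ X y₂ ⊓ X x := ⟨(X y₂).mul_mem ((X y₂).inv_mem hv') hv, by rw [h4]; simpa using hd''X⟩
    have h8 : y₂ ≠ x := by
      intro e
      have h9 := S.add
      have h10 := S.x₁_pos
      rw [← e, form_comm, S.orth] at h10
      exact lt_irrefl _ h10
    rwa [Cfsg.Agent.Nodes.OppDec.X_inf_X C.rgd S.root₂ S.root h8, Subgroup.mem_bot] at h7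
  have h7 : v' = v := inv_mul_eq_one.1 h6
  exact ⟨g, hg, d', hd', by rw [h1, h7]⟩

end Cfsg.Agent.LOC.BGam
end

-- part: Cit/Nil/LO/BTri
section
/-!
# Lie odd sections, the chart part: the weight group of the unpaired index, abstract part (S1309, (n1), piece (C), `B n`)

`N = E₁ E₀ E₂` abelian, `γ(x, y) = [[u, x], y]` : `E₁`, `E₂` isotropic and dual to each other, `E₀` orthogonal to both and
anisotropic.

* `Tri.claim` : `1 ≠ x ∈ E₁`, `y ∈ N`, `γ(x, y) = γ(y, y) = 1` : `y ∈ E₁`;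
* `Tri.norm` : if `e` inverts `1 ≠ x ∈ E₁`, then `K` normalises `E₁`;
* `Tri.move` : a singular element can be moved into `E₁` or `E₂`.
-/

set_option autoImplicit false
set_option linter.unusedSectionVars false
set_option linter.dupNamespace false

namespace Cfsg.Agent.LOC.BTri

open Cfsg.Agent.LOC.ChartDefs Cfsg.Agent.LOC.BGam
open scoped commutatorElement

variable {Y : Type*} [Group Y] {N D E₀ E₁ E₂ : Subgroup Y} {u : Y}

theorem _root_.Cfsg.Agent.LOC.BGam.Gam.inv (g : Gam N D u) {k : Y} (hku : k * u = u * k)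
    (hkD : ∀ d ∈ D, k * d = d * k) {x y : Y} (hx : x ∈ N) (hy : y ∈ N) :
    ⁅⁅u, k * x * k⁻¹⁆, k * y * k⁻¹⁆ = ⁅⁅u, x⁆, y⁆ := by
  have h1 : ⁅⁅u, k * x * k⁻¹⁆, k * y * k⁻¹⁆ = k * ⁅⁅u, x⁆, y⁆ * k⁻¹ := by
    have e1 : ⁅u, k * x * k⁻¹⁆ = k * ⁅u, x⁆ * k⁻¹ := by
      have e2 : k⁻¹ * u * k = u := by
        rw [mul_assoc, ← hku]; group
      calc ⁅u, k * x * k⁻¹⁆ = k * ⁅k⁻¹ * u * k, x⁆ * k⁻¹ := by
            rw [commutatorElement_def, commutatorElement_def]; group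
        _ = k * ⁅u, x⁆ * k⁻¹ := by rw [e2]
    rw [e1, commutatorElement_def, commutatorElement_def _ y]
    group
  rw [h1, hkD _ (g.mem x hx y hy), mul_inv_cancel_right]

/-- `N = E₁ E₀ E₂` -/
structure Tri (N D E₀ E₁ E₂ : Subgroup Y) (u : Y) : Prop where
  g : Gam N D u
  oddD : ∀ d ∈ D, d * d = 1 → d = 1
  le₀ : E₀ ≤ N
  le₁ : E₁ ≤ N
  le₂ : E₂ ≤ N
  dec : ∀ y ∈ N, ∃ a ∈ E₁, ∃ b ∈ E₀, ∃ c ∈ E₂, y = a * b * c
  iso : ∀ x ∈ E₁, ∀ y ∈ E₁, ⁅⁅u, x⁆, y⁆ = 1
  orth : ∀ x ∈ E₁, ∀ y ∈ E₀, ⁅⁅u, x⁆, y⁆ = 1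
  trip : ∀ x ∈ E₁, x ≠ 1 → ∀ y ∈ E₂, ⁅⁅u, x⁆, y⁆ = 1 → y = 1
  aniso : ∀ x ∈ E₀, ⁅⁅u, x⁆, x⁆ = 1 → x = 1

variable (S : Tri N D E₀ E₁ E₂ u)
include S

theorem Tri.sing_aux {a b : Y} (ha : a ∈ E₁) (hb : b ∈ E₀) (h2 : ⁅⁅u, a * b⁆, a * b⁆ = 1) : b = 1 := by
  have hab : a * b ∈ N := mul_mem (S.le₁ ha) (S.le₀ hb)
  have e2 : ⁅⁅u, a * b⁆, a * b⁆ = ⁅⁅u, b⁆, b⁆ := by
    rw [S.g.mulL a (S.le₁ ha) b (S.le₀ hb) _ hab, S.g.mulR (S.le₁ ha) (S.le₀ hb) (S.le₁ ha),
      S.g.mulR (S.le₁ ha) (S.le₀ hb) (S.le₀ hb), S.iso a ha a ha, S.orth a ha b hb,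
      S.g.symm b (S.le₀ hb) a (S.le₁ ha), S.orth a ha b hb]
    simp only [one_mul]
  rw [e2] at h2
  exact S.aniso b hb h2

theorem Tri.claim {x y : Y} (hx : x ∈ E₁) (hx1 : x ≠ 1) (hy : y ∈ N)
    (h1 : ⁅⁅u, x⁆, y⁆ = 1) (h2 : ⁅⁅u, y⁆, y⁆ = 1) : y ∈ E₁ := by
  obtain ⟨a, ha, b, hb, c, hc, rfl⟩ := S.dec y hy
  have hab : a * b ∈ N := mul_mem (S.le₁ ha) (S.le₀ hb)
  have e1 : ⁅⁅u, x⁆, a * b * c⁆ = ⁅⁅u, x⁆, a⁆ * ⁅⁅u, x⁆, b⁆ * ⁅⁅u, x⁆, c⁆ := by
    rw [S.g.mulR hab (S.le₂ hc) (S.le₁ hx), S.g.mulR (S.le₁ ha) (S.le₀ hb) (S.le₁ hx)]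
  rw [S.iso x hx a ha, S.orth x hx b hb, one_mul, one_mul, h1] at e1
  have c1 : c = 1 := S.trip x hx hx1 c hc e1.symm
  rw [c1, mul_one] at h2 ⊢
  rw [S.sing_aux ha hb h2, mul_one]
  exact ha

theorem Tri.norm {K : Subgroup Y} {e : Y} (hK : QK K e) (hKN : ∀ k ∈ K, ∀ x ∈ N, k * x * k⁻¹ ∈ N)
    (hKu : ∀ k ∈ K, k * u = u * k) (hKD : ∀ k ∈ K, ∀ d ∈ D, k * d = d * k) {x : Y} (hx : x ∈ E₁) (hx1 : x ≠ 1)
    (hex : e * x * e⁻¹ = x⁻¹) : ∀ k ∈ K, ∀ y ∈ E₁, k * y * k⁻¹ ∈ E₁ := by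
  intro k hk
  have hxN := S.le₁ hx
  have hkx := hKN k hk x hxN
  have h1 : k * x * k⁻¹ ∈ E₁ := by
    rcases hK.pow k hk with h2 | h2
    · rcases hK.one k hk h2 with rfl | rfl
      · simpa using hx
      · rw [hex]; exact inv_mem hx
    · refine S.claim hx hx1 hkx ?_ ?_
      · apply S.oddD _ (S.g.mem x hxN _ hkx)
        have e1 := S.g.inv (hKu k hk) (hKD k hk) hxN hkx
        have e2 : k * (k * x * k⁻¹) * k⁻¹ = x⁻¹ := by
          have : k * (k * x * k⁻¹) * k⁻¹ = (k * k) * x * (k * k)⁻¹ := by group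
          rw [this, h2, hex]
        rw [e2] at e1
        have e3 := S.g.mulR (x := x⁻¹) (y := x) (t := k * x * k⁻¹) (inv_mem hxN) hxN hkx
        rw [inv_mul_cancel, commutatorElement_one_right, e1, S.g.symm _ hkx x hxN] at e3
        exact e3.symm
      · rw [S.g.inv (hKu k hk) (hKD k hk) hxN hxN, S.iso x hx x hx]
  have hne : k * x * k⁻¹ ≠ 1 := by
    intro h0
    apply hx1
    calc x = k⁻¹ * (k * x * k⁻¹) * k := by group
      _ = 1 := by rw [h0]; group
  intro y hy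
  have hyN := S.le₁ hy
  refine S.claim h1 hne (hKN k hk y hyN) ?_ ?_
  · rw [S.g.inv (hKu k hk) (hKD k hk) hxN hyN, S.iso x hx y hy]
  · rw [S.g.inv (hKu k hk) (hKD k hk) hyN hyN, S.iso y hy y hy]

theorem Tri.move (S' : Tri N D E₀ E₂ E₁ u) {P : Subgroup Y} (hab : ∀ x ∈ N, ∀ y ∈ N, x * y = y * x)
    (hPu : ∀ g ∈ P, g * u = u * g)
    (hPD : ∀ g ∈ P, ∀ d ∈ D, g * d = d * g) (hP₁ : ∀ g ∈ P, ∀ x ∈ E₁, g * x = x * g)
    (hP₀ : ∀ g ∈ P, ∀ x ∈ E₀, ⁅g, x⁆ ∈ E₁)
    (hs : ∀ w ∈ E₂, w ≠ 1 → ∀ v ∈ E₀, ∃ g ∈ P, ∃ d ∈ E₁, ⁅w, g⁆ = v * d) {x : Y} (hx : x ∈ N)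
    (h1 : ⁅⁅u, x⁆, x⁆ = 1) : x ∈ E₁ ∨ ∃ g ∈ P, g * x * g⁻¹ ∈ E₂ := by
  obtain ⟨a, ha, b, hb, c, hc, rfl⟩ := S.dec x hx
  by_cases hc1 : c = 1
  · left
    rw [hc1, mul_one] at h1 ⊢
    rw [S.sing_aux ha hb h1, mul_one]
    exact ha
  · right
    obtain ⟨g, hg, d, hd, e⟩ := hs c hc hc1 b hb
    refine ⟨g, hg, ?_⟩
    have hgb := hP₀ g hg b hb
    set a' := a * ⁅g, b⁆ * d⁻¹ with ha'
    have ha'1 : a' ∈ E₁ := mul_mem (mul_mem ha hgb) (inv_mem hd)
    have e1 : g * (a * b * c) * g⁻¹ = a' * c := by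
      have k1 : g * a * g⁻¹ = a := by rw [hP₁ g hg a ha]; group
      have k2 : g * b * g⁻¹ = ⁅g, b⁆ * b := by rw [commutatorElement_def]; group
      have k3 : g * c * g⁻¹ = ⁅c, g⁆⁻¹ * c := by rw [commutatorElement_def]; group
      have k4 : b * d⁻¹ * b⁻¹ = d⁻¹ := by
        rw [hab b (S.le₀ hb) _ (inv_mem (S.le₁ hd))]; group
      calc g * (a * b * c) * g⁻¹ = (g * a * g⁻¹) * (g * b * g⁻¹) * (g * c * g⁻¹) := by group
        _ = a * (⁅g, b⁆ * b) * ((b * d)⁻¹ * c) := by rw [k1, k2, k3, e]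
        _ = a * ⁅g, b⁆ * (b * d⁻¹ * b⁻¹) * c := by group
        _ = a' * c := by rw [k4]
    have hcN := S.le₂ hc
    have ha'N := S.le₁ ha'1
    have e2 : ⁅⁅u, a' * c⁆, a' * c⁆ = 1 := by
      rw [← e1, S.g.inv (hPu g hg) (hPD g hg) hx hx, h1]
    have e3 : ⁅⁅u, a' * c⁆, a' * c⁆ = ⁅⁅u, c⁆, a'⁆ * ⁅⁅u, c⁆, a'⁆ := by
      rw [S.g.mulL a' ha'N c hcN _ (mul_mem ha'N hcN), S.g.mulR ha'N hcN ha'N, S.g.mulR ha'N hcN hcN,
        S.iso a' ha'1 a' ha'1, S'.iso c hc c hc, S.g.symm a' ha'N c hcN]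
      simp only [one_mul, mul_one]
    rw [e3] at e2
    have e4 := S'.trip c hc hc1 a' ha'1 (S.oddD _ (S.g.mem c hcN a' ha'N) e2)
    rw [e1, e4, one_mul]
    exact hc

end Cfsg.Agent.LOC.BTri
end

-- part: Cit/Nil/LO/Aniso
section
/-!
# Lie odd sections, the chart part: the form on a short root group is anisotropic

`S : Sq cs h m₀ y₁ y₂ x b` : `y₁, y₂` orthogonal of the same length, `m₀ x = y₁ + y₂`, `m₀ b = y₂ - y₁`, `x, b ∈ R`,
`X x = Z x`, `X b = Z b`, `X (-b) = Z (-b)`.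

* `step` : `w c w⁻¹ = (m c m⁻¹) q c`, `q ∈ X x`, for `c ∈ X y₁`, `m = l w l'`, `w ∈ Z b`;
* `aniso_aux` : `c ∈ X y₁` commuting with `m c m⁻¹` is trivial;
* `gam` : `u ∈ Z b`, `u ≠ 1`, `a ∈ X y₁`, `⁅u, a⁆` commutes with `a`; then `a = 1`;
* `surj` : `⁅u, X y₁⁆` covers `X y₂` modulo `X x`.
-/

set_option autoImplicit false
set_option linter.unusedSectionVars false
set_option linter.dupNamespace false
set_option linter.unusedVariables false

namespace Cfsg.Agent.LOC.Aniso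

open CoxeterSystem Cfsg.Agent.ChevalleyStructure.CoxeterGeom Cfsg.Agent.Tits.Roots Cfsg.Agent.Tits.Core
  Cfsg.Agent.Tits.RootComb Cfsg.Agent.Nodes.Comb Cfsg.Agent.Nodes.SubComb Cfsg.Agent.Nodes.Reps
  Cfsg.Agent.Nodes.Coroot Cfsg.Agent.Nodes.PosPair Cfsg.Agent.Nodes.BNOf Cfsg.Agent.Nodes.RGDLib
  Cfsg.Agent.Nodes.Chart Cfsg.Agent.Nodes.ClsNorm Cfsg.Agent.Nodes.ChartLoc Cfsg.Agent.Nodes.ChartFrame
  Cfsg.Agent.Nodes.Slope Cfsg.Agent.Nodes.Bruhat Cfsg.Agent.LOC.ChartDefs Cfsg.Agent.LOC.Wt Cfsg.Agent.LOC.LA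
  Cfsg.Agent.LOC.Beta Cfsg.Agent.LOC.BetaTor Cfsg.Agent.Nodes.ShortSum
open Cfsg.Agent.Cit.ParabSL2 Cfsg.Agent.Lib.SL2Mat
open scoped commutatorElement

variable {I W Y : Type*} [Fintype I] [DecidableEq I] [Group W] [Fintype W] [Group Y] {M : CoxeterMatrix I}
  {cs : CoxeterSystem M W} {A : I → I → ℤ} {h : IsCartan M A} {p : ℕ} {T : Subgroup Y} {n : I → Y}
  {X : (I → ℤ) → Subgroup Y} {R : Set (I → ℤ)} {Z : (I → ℤ) → Subgroup Y} {z : (I → ℤ) → Y}
  {m₀ : ℤ} {y₁ y₂ x b : I → ℤ}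

/-- `m c m⁻¹` from `w` -/
theorem step (C : Cls cs h p T n X R Z z) (S : Sq cs h m₀ y₁ y₂ x b) (hxR : x ∈ R) (hbR : b ∈ R) (hX : X x = Z x)
    {m l w l' : Y} (hl : l ∈ Z (-b)) (hl' : l' ∈ Z (-b)) (hw : w ∈ Z b) (hm : m = l * w * l') {c : Y}
    (hc : c ∈ X y₁) (hmc : m * c * m⁻¹ ∈ X y₂) : ∃ q ∈ X x, w * c * w⁻¹ = (m * c * m⁻¹) * q * c := by
  have hbR' := _root_.Cfsg.Agent.Nodes.ClsNorm.neg_mem C hbR
  have x₁ : ∀ c ∈ X x, ∀ a ∈ X y₁, a * c = c * a := fun c hc a ha =>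
    C.cent x hxR y₁ S.root₁ (by rw [form_comm]; exact S.x₁_pos.le) a ha c (hX ▸ hc)
  have x₂ : ∀ c ∈ X x, ∀ a ∈ X y₂, a * c = c * a := fun c hc a ha =>
    C.cent x hxR y₂ S.root₂ (by rw [form_comm]; exact S.x₂_pos.le) a ha c (hX ▸ hc)
  -- `X y₁` commutes with `Z (-b)`
  have nb₁ : ∀ l ∈ Z (-b), ∀ a ∈ X y₁, a * l = l * a := fun l hl a ha =>
    C.cent (-b) hbR' y₁ S.root₁ (by rw [form_neg_right, form_comm]; have := S.b₁_neg; omega) a ha l hl
  have nbx : ∀ l ∈ Z (-b), ∀ a ∈ X x, a * l = l * a := fun l hl a ha =>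
    C.cent (-b) hbR' x S.root (by rw [form_neg_right, S.xb]; simp) a ha l hl
  have hwX : w ∈ X b := C.le b hbR hw
  -- `⁅w, c⁆ = ψ q`
  obtain ⟨ψ, hψ, q, hq, e1⟩ : ∃ ψ ∈ X y₂, ∃ q ∈ X x, ⁅c, w⁆⁻¹ = ψ * q := by
    refine Nodes.MuSq.exists_mul_of_sup (fun a ha c hc => x₂ c hc a ha) (inv_mem ?_)
    refine btw_le ?_ (C.rgd.comm y₁ b S.root₁ S.rootb S.ne_b.1 S.ne_b.2 c hc w hwX)
    intro r hr
    rcases S.btwn' hr with rfl | rfl
    · exact le_sup_left
    · exact le_sup_right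
  have e2 : w * c * w⁻¹ = ψ * q * c := by
    rw [← e1, commutatorElement_def]; group
  -- `l ψ l⁻¹ = a₁ q₁ ψ`
  have S' : Sq cs h m₀ (-y₂) y₁ (-b) x := by
    refine ⟨S.pos, S.root₂.neg, S.root₁, S.rootb.neg, S.root, ?_, ?_, ?_, ?_⟩
    · rw [form_neg_left, form_comm, S.orth, neg_zero]
    · rw [form_neg_left, form_neg_right, neg_neg, S.len]
    · rw [smul_neg, S.sub]; abel
    · rw [S.add]; abel
  have S'' : Sq cs h m₀ y₂ (-y₁) (-x + x + b) (-x) := by
    have h1 : -x + x + b = b := by abel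
    rw [h1]
    exact ⟨S.pos, S.root₂, S.root₁.neg, S.rootb, S.root.neg, by rw [form_neg_right, form_comm, S.orth, neg_zero],
      by rw [form_neg_left, form_neg_right, neg_neg, S.len], by rw [S.sub]; abel, by rw [smul_neg, S.add]; abel⟩
  obtain ⟨a₁, ha₁, q₁, hq₁, e3⟩ : ∃ a ∈ X y₁, ∃ q ∈ X x, ⁅ψ, l⁆⁻¹ = a * q := by
    refine Nodes.MuSq.exists_mul_of_sup (fun a ha c hc => x₁ c hc a ha) (inv_mem ?_)
    have hne := S.ne_b₂
    refine btw_le ?_ (C.rgd.comm y₂ (-b) S.root₂ S.rootb.neg (fun e => hne.2 e) (fun e => hne.1 (by rw [e, neg_neg]))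
      ψ hψ l (C.le _ hbR' hl))
    intro r hr
    -- the square `(y₂, y₁, x, -b)`
    have S3 : Sq cs h m₀ y₂ y₁ x (-b) := by
      refine ⟨S.pos, S.root₂, S.root₁, S.root, S.rootb.neg, ?_, S.len.symm, ?_, ?_⟩
      · rw [form_comm, S.orth]
      · rw [S.add]; abel
      · rw [smul_neg, S.sub]; abel
    rcases S3.btwn' hr with rfl | rfl
    · exact le_sup_left
    · exact le_sup_right
  have e4 : l * ψ * l⁻¹ = a₁ * q₁ * ψ := by
    rw [← e3, commutatorElement_def]; group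
  -- `m c m⁻¹ = (a₁ q₁ ψ) q c`
  have e5 : m * c * m⁻¹ = a₁ * q₁ * ψ * q * c := by
    have h1 : l' * c * l'⁻¹ = c := by rw [← nb₁ l' hl' c hc, mul_inv_cancel_right]
    have h2 : l * q * l⁻¹ = q := by rw [← nbx l hl q hq, mul_inv_cancel_right]
    have h3 : l * c * l⁻¹ = c := by rw [← nb₁ l hl c hc, mul_inv_cancel_right]
    calc m * c * m⁻¹ = l * (w * (l' * c * l'⁻¹) * w⁻¹) * l⁻¹ := by rw [hm]; group
      _ = (l * ψ * l⁻¹) * (l * q * l⁻¹) * (l * c * l⁻¹) := by rw [h1, e2]; group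
      _ = _ := by rw [h2, h3, e4]
  -- `ψ⁻¹ (m c m⁻¹) ∈ X y₂ ⊓ ⟨X y₁, X x⟩`
  have e6 : (m * c * m⁻¹) * ψ⁻¹ ∈ RGD.Sup X ({y₁, x} : Set (I → ℤ)) := by
    have k1 : X y₁ ≤ RGD.Sup X ({y₁, x} : Set (I → ℤ)) := RGD.le_Sup (S := {y₁, x}) (Or.inl rfl)
    have k2 : X x ≤ RGD.Sup X ({y₁, x} : Set (I → ℤ)) := RGD.le_Sup (S := {y₁, x}) (Or.inr rfl)
    -- `ψ c ψ⁻¹ ∈ X x * c`
    have k3 : ⁅ψ, c⁆ ∈ X x := by
      have : ⁅c, ψ⁆ ∈ X x := Nodes.MuSq.comm_in C.rgd S.root₁ S.root₂ S.ne₁ S.ne₂ (fun w hw => S.btwn hw) hc hψ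
      rw [← commutatorElement_inv]
      exact inv_mem this
    have k4 : ψ * q * c * ψ⁻¹ = q * (⁅ψ, c⁆ * c) := by
      have : ψ * q = q * ψ := x₂ q hq ψ hψ
      calc ψ * q * c * ψ⁻¹ = q * (ψ * c * ψ⁻¹) := by rw [this]; group
        _ = _ := by rw [commutatorElement_def]; group
    have k5 : (m * c * m⁻¹) * ψ⁻¹ = a₁ * q₁ * (q * (⁅ψ, c⁆ * c)) := by
      rw [e5, ← k4]; group
    rw [k5]
    exact mul_mem (mul_mem (k1 ha₁) (k2 hq₁)) (mul_mem (k2 hq) (mul_mem (k2 k3) (k1 hc)))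
  have hyy := S.ypos
  have f12 : form cs h y₂ y₁ = 0 := by rw [form_comm, S.orth]
  have hlen := S.len
  have e7 : (m * c * m⁻¹) * ψ⁻¹ = 1 := by
    refine Nodes.CenVV.eq_one_of_sep C.rgd (S := {y₁, x}) S.root₂ ?_ (y₂ - (2 : ℤ) • y₁) ?_ ?_
      (mul_mem hmc (inv_mem hψ)) e6
    · rintro w (rfl | rfl)
      · exact S.root₁
      · exact S.root
    · rw [form_sub_right, form_smul_right, f12]; omega
    · rintro w (rfl | rfl)
      · rw [form_sub_right, form_smul_right, S.orth]; omega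
      · have h1 : m₀ * form cs h w (y₂ - (2 : ℤ) • y₁) = -form cs h y₁ y₁ := by
          rw [form_sub_right, form_smul_right]
          have h2 := S.form_x₁
          have h3 := S.form_x₂
          linear_combination h3 - 2 * h2
        have h2 := S.pos
        by_contra hcon
        push Not at hcon
        have := mul_nonneg h2.le hcon
        omega
  have e8 : m * c * m⁻¹ = ψ := by
    rw [mul_inv_eq_one] at e7
    exact e7
  exact ⟨q, hq, by rw [e8, e2]⟩

/-- **anisotropy**, for `c ∈ X y₁` -/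
theorem aniso_aux (C : Cls cs h p T n X R Z z) (hp : p.Prime) (hp2 : p ≠ 2) (S : Sq cs h m₀ y₁ y₂ x b)
    (hxR : x ∈ R) (hbR : b ∈ R) (hX : X x = Z x)
    {m l w l' : Y} (hl : l ∈ Z (-b)) (hl' : l' ∈ Z (-b)) (hw : w ∈ Z b) (hw1 : w ≠ 1) (hm : m = l * w * l') {c : Y}
    (hc : c ∈ X y₁) (hmc : m * c * m⁻¹ ∈ X y₂) (hcm : (m * c * m⁻¹) * c = c * (m * c * m⁻¹)) : c = 1 := by
  by_contra hc1
  obtain ⟨q, hq, e1⟩ := step C S hxR hbR hX hl hl' hw hm hc hmc
  set c₂ := m * c * m⁻¹ with hc₂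
  have sS := S.flip
  have x₁ : c * q = q * c :=
    C.cent x hxR y₁ S.root₁ (by rw [form_comm]; exact S.x₁_pos.le) c hc q (hX ▸ hq)
  have x₂ : c₂ * q = q * c₂ :=
    C.cent x hxR y₂ S.root₂ (by rw [form_comm]; exact S.x₂_pos.le) c₂ hmc q (hX ▸ hq)
  -- `q = 1`
  have zz := C.z_sq b hbR
  have zi : (z b)⁻¹ = z b := inv_eq_of_mul_eq_one_left zz
  have zq : z b * q * z b = q := by
    rw [← Nodes.ZRel.z_cent_of_orth C hbR S.root S.xb hq, mul_assoc, zz, mul_one]
  have zw : z b * w * z b = w := by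
    rw [C.z_cent b hbR w hw, mul_assoc, zz, mul_one]
  have z₁ : z b * c * z b = c⁻¹ :=
    C.z_inv b hbR y₁ S.root₁ S.ne_b.1 S.ne_b.2 (by rw [form_comm]; exact S.b₁_neg.ne) c hc
  have z₂ : z b * c₂ * z b = c₂⁻¹ :=
    C.z_inv b hbR y₂ S.root₂ S.ne_b₂.1 S.ne_b₂.2 (by rw [form_comm]; exact S.b₂_pos.ne') c₂ hmc
  have hq1 : q = 1 := by
    have h1 : z b * (w * c * w⁻¹) * z b = w * c⁻¹ * w⁻¹ := by
      have hwi : z b * w⁻¹ * z b = w⁻¹ := by
        have : z b * w⁻¹ * z b = (z b * w * z b)⁻¹ := by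
          rw [mul_inv_rev, mul_inv_rev, zi, mul_assoc]
        rw [this, zw]
      calc z b * (w * c * w⁻¹) * z b = (z b * w * z b) * (z b * z b)⁻¹ * (z b * c * z b) * (z b * z b)⁻¹ *
            (z b * w⁻¹ * z b) := by group
        _ = w * c⁻¹ * w⁻¹ := by rw [zw, z₁, hwi, zz, inv_one, mul_one, mul_one]
    have h2 : z b * (c₂ * q * c) * z b = c₂⁻¹ * q * c⁻¹ := by
      calc z b * (c₂ * q * c) * z b = (z b * c₂ * z b) * (z b * z b)⁻¹ * (z b * q * z b) * (z b * z b)⁻¹ *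
            (z b * c * z b) := by group
        _ = c₂⁻¹ * q * c⁻¹ := by rw [z₂, zq, z₁, zz, inv_one, mul_one, mul_one]
    have h3 : w * c⁻¹ * w⁻¹ = (c₂ * q * c)⁻¹ := by
      have : w * c⁻¹ * w⁻¹ = (w * c * w⁻¹)⁻¹ := by group
      rw [this, e1]
    have h4 : c₂⁻¹ * q * c⁻¹ = (c₂ * q * c)⁻¹ := by
      rw [← h2, ← h3, ← h1, e1]
    have h5 : (c₂ * q * c) * (c₂⁻¹ * q * c⁻¹) = 1 := by rw [h4, mul_inv_cancel]
    have h6 : (c₂ * q * c) * (c₂⁻¹ * q * c⁻¹) = q * q := by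
      have k1 : c * c₂⁻¹ = c₂⁻¹ * c := by
        rw [eq_inv_mul_iff_mul_eq, ← mul_assoc, hcm, mul_inv_cancel_right]
      have k2 : c₂ * q * c₂⁻¹ = q := by rw [x₂, mul_inv_cancel_right]
      have k3 : c * q * c⁻¹ = q := by rw [x₁, mul_inv_cancel_right]
      calc (c₂ * q * c) * (c₂⁻¹ * q * c⁻¹) = c₂ * q * (c * c₂⁻¹) * q * c⁻¹ := by group
        _ = (c₂ * q * c₂⁻¹) * (c * q * c⁻¹) := by rw [k1]; group
        _ = q * q := by rw [k2, k3]
    rw [h6] at h5
    exact Nodes.ShortSum.mem_of_sq_mem C hp hp2 S.root hq (K := ⊥) (by rw [h5]; exact one_mem _)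
  rw [hq1, mul_one] at e1
  -- the reflection in `y₁`
  have hwX : w ∈ X b := C.le b hbR hw
  obtain ⟨u, hu, v, hv, w', hw', -, he⟩ := Nodes.MuSq.exists_mu' C.rgd S.root₁ hc hc1
  have hkx : u * c * v * w * (u * c * v)⁻¹ ∈ X x := by
    have h1 := C.rgd.conj_mem hw' S.rootb hwX
    rwa [he, S.refl_b] at h1
  have nb : ∀ a ∈ X (-y₁), a * w = w * a := fun a ha =>
    C.cent b hbR (-y₁) S.root₁.neg (by rw [form_comm]; exact sS.x₁_pos.le) a ha w hw
  have h1 : c * w * c⁻¹ = c₂⁻¹ * w := by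
    have h2 : w * c = c₂ * c * w := by
      calc w * c = (w * c * w⁻¹) * w := by group
        _ = c₂ * c * w := by rw [e1]
    calc c * w * c⁻¹ = c₂⁻¹ * (c₂ * c * w) * c⁻¹ := by group
      _ = c₂⁻¹ * (w * c) * c⁻¹ := by rw [h2]
      _ = c₂⁻¹ * w := by group
  have hf : ⁅u, c₂⁻¹⁆ ∈ X b :=
    Nodes.MuSq.comm_in C.rgd S.root₁.neg S.root₂ sS.ne₁ sS.ne₂ (fun w hw => sS.btwn hw) hu (inv_mem hmc)
  have h2 : u * c * v * w * (u * c * v)⁻¹ = ⁅u, c₂⁻¹⁆ * c₂⁻¹ * w := by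
    have k1 : v * w * v⁻¹ = w := by rw [nb v hv, mul_inv_cancel_right]
    have k2 : u * w * u⁻¹ = w := by rw [nb u hu, mul_inv_cancel_right]
    calc u * c * v * w * (u * c * v)⁻¹ = u * (c * (v * w * v⁻¹) * c⁻¹) * u⁻¹ := by group
      _ = (u * c₂⁻¹ * u⁻¹) * (u * w * u⁻¹) := by rw [k1, h1]; group
      _ = _ := by rw [k2, commutatorElement_def]; group
  have hyy := S.ypos
  have f12 : form cs h y₂ y₁ = 0 := by rw [form_comm, S.orth]
  have hlen := S.len
  have h3 : u * c * v * w * (u * c * v)⁻¹ = 1 := by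
    refine Nodes.CenVV.eq_one_of_sep C.rgd (S := {y₂, b}) S.root ?_ ((2 : ℤ) • y₁ - y₂) ?_ ?_ hkx ?_
    · rintro w (rfl | rfl)
      · exact S.root₂
      · exact S.rootb
    · have h1 : m₀ * form cs h x ((2 : ℤ) • y₁ - y₂) = form cs h y₁ y₁ := by
        rw [form_sub_right, form_smul_right]
        have h2 := S.form_x₁
        have h3 := S.form_x₂
        linear_combination 2 * h2 - h3
      by_contra hcon
      push Not at hcon
      have := mul_nonpos_of_nonneg_of_nonpos S.pos.le hcon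
      omega
    · rintro w (rfl | rfl)
      · rw [form_sub_right, form_smul_right, f12]; omega
      · have h1 : m₀ * form cs h w ((2 : ℤ) • y₁ - y₂) = -3 * form cs h y₁ y₁ := by
          rw [form_sub_right, form_smul_right]
          have h2 := S.form_b₁
          have h3 := S.form_b₂
          linear_combination 2 * h2 - h3
        by_contra hcon
        push Not at hcon
        have := mul_nonneg S.pos.le hcon
        omega
    · rw [h2]
      have k1 : X y₂ ≤ RGD.Sup X ({y₂, b} : Set (I → ℤ)) := RGD.le_Sup (S := {y₂, b}) (Or.inl rfl)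
      have k2 : X b ≤ RGD.Sup X ({y₂, b} : Set (I → ℤ)) := RGD.le_Sup (S := {y₂, b}) (Or.inr rfl)
      exact mul_mem (mul_mem (k2 hf) (k1 (inv_mem hmc))) (k2 hwX)
  apply hw1
  have h4 : w = (u * c * v)⁻¹ * (u * c * v * w * (u * c * v)⁻¹) * (u * c * v) := by group
  rw [h4, h3]; group

/-- `X r = Z r` is carried by the Weyl group -/
theorem XZ_of_rp (C : Cls cs h p T n X R Z z) {w : W} {g : Y} (hg : Rp cs C.rgd.nsys w g) {r : I → ℤ} (hr : r ∈ R)
    (hX : X r = Z r) : X (rep cs h w r) = Z (rep cs h w r) := by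
  refine le_antisymm (fun a ha => ?_) (C.le _ (C.act r hr w))
  have h1 := C.rgd.conj_mem' hg (C.root _ (C.act r hr w)) ha
  rw [rep_inv_apply, hX] at h1
  rw [← conj_Z C hg hr]
  exact Cit.mem_cj.2 h1

/-- `s_b y₁ = y₂` -/
theorem refl_y₁ (S : Sq cs h m₀ y₁ y₂ x b) : y₁ - cpr cs h y₁ b • b = y₂ := by
  have h1 := two_form_cpr cs h y₁ S.rootb
  have h2 : m₀ * (m₀ * form cs h b b) = 2 * form cs h y₁ y₁ := by
    rw [← form_smul_right, ← form_smul_left, S.sub, form_sub_left, form_sub_right, form_sub_right,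
      form_comm cs h y₂ y₁, S.orth, S.len]
    ring
  have h3 := S.form_b₁
  rw [form_comm] at h3
  have h4 : cpr cs h y₁ b = -m₀ := by
    have h5 : (m₀ * form cs h b b) * cpr cs h y₁ b = (m₀ * form cs h b b) * (-m₀) := by
      linear_combination (-m₀) * h1 + 2 * h3 + h2
    have h6 : m₀ * form cs h b b ≠ 0 := mul_ne_zero S.pos.ne' (form_pos cs h S.rootb.ne_zero).ne'
    exact mul_left_cancel₀ h6 h5
  rw [h4, neg_smul, sub_neg_eq_add, S.sub]
  abel

/-- **anisotropy** (494's form): `u ∈ Z b`, `u ≠ 1`, `a ∈ X y₁`, `⁅u, a⁆` commutes with `a`; then `a = 1` -/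
theorem gam (C : Cls cs h p T n X R Z z) (hp : p.Prime) (hp2 : p ≠ 2) (S : Sq cs h m₀ y₁ y₂ x b)
    (hxR : x ∈ R) (hbR : b ∈ R) (hX : X x = Z x) (hXb : X b = Z b) {u a : Y} (hu : u ∈ Z b) (hu1 : u ≠ 1)
    (ha : a ∈ X y₁) (hc : ⁅u, a⁆ * a = a * ⁅u, a⁆) : a = 1 := by
  obtain ⟨l, hl, l', hl', w, hm, -, he⟩ := Nodes.MuSq.exists_mu' C.rgd S.rootb (hXb ▸ hu) hu1
  have heb : rep cs h w b = -b := by rw [he, cpr_self cs h S.rootb]; module
  have hXb' : X (-b) = Z (-b) := by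
    have := XZ_of_rp C hm hbR hXb
    rwa [heb] at this
  rw [hXb'] at hl hl'
  have hmc : (l * u * l') * a * (l * u * l')⁻¹ ∈ X y₂ := by
    have h1 := C.rgd.conj_mem hm S.root₁ ha
    rwa [he, refl_y₁ S] at h1
  obtain ⟨q, hq, e1⟩ := step C S hxR hbR hX hl hl' hu rfl ha hmc
  refine aniso_aux C hp hp2 S hxR hbR hX hl hl' hu hu1 rfl ha hmc ?_
  set c₂ := (l * u * l') * a * (l * u * l')⁻¹ with hc₂
  have x₁ : a * q = q * a :=
    C.cent x hxR y₁ S.root₁ (by rw [form_comm]; exact S.x₁_pos.le) a ha q (hX ▸ hq)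
  have h1 : ⁅u, a⁆ = c₂ * q := by
    calc ⁅u, a⁆ = (u * a * u⁻¹) * a⁻¹ := by rw [commutatorElement_def]
      _ = c₂ * q := by rw [e1]; group
  rw [h1] at hc
  have h2 : c₂ * a * q = a * c₂ * q := by
    calc c₂ * a * q = c₂ * (a * q) := by group
      _ = c₂ * q * a := by rw [x₁]; group
      _ = a * c₂ * q := by rw [hc]; group
  exact mul_right_cancel h2

end Cfsg.Agent.LOC.Aniso
end

-- part: Cit/Nil/LO/BReidx
section
/-!
# Lie odd sections, the chart part: the transfer to the standard chart of type `B n`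

* `maxF_reindex`, `cen_reindex`, `triv_reindex` : change of the index type;
* `triv_B`, `out_B` : `Out` for a chart of type `B n` from the statement for the standard index type `Fin n`;
* `hexp_of_sl` : the root groups `Z r` have exponent `p`.
-/

set_option autoImplicit false
set_option linter.unusedSectionVars false
set_option linter.dupNamespace false

namespace Cfsg.Agent.LOC.BReidx

open CoxeterSystem Cfsg.Agent.ChevalleyStructure.CoxeterGeom Cfsg.Agent.Tits.Roots Cfsg.Agent.Tits.Core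
  Cfsg.Agent.Tits.RootComb Cfsg.Agent.Nodes.Comb Cfsg.Agent.Nodes.SubComb Cfsg.Agent.Nodes.Reps
  Cfsg.Agent.Nodes.Coroot Cfsg.Agent.Nodes.PosPair Cfsg.Agent.Nodes.BNOf Cfsg.Agent.Nodes.RGDLib
  Cfsg.Agent.Nodes.Chart Cfsg.Agent.Nodes.ClsNorm Cfsg.Agent.Nodes.ChartLoc Cfsg.Agent.Nodes.ChartFrame
  Cfsg.Agent.Nodes.Bruhat Cfsg.Agent.Nodes.Reindex Cfsg.Agent.Nodes.TyStd Cfsg.Agent.LOC.ChartDefs
  Cfsg.Agent.LOC.BetaTor
open Cfsg.Agent.Cit.ParabSL2 Cfsg.Agent.Lib.SL2Mat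

section Tr

variable {I J W Y : Type*} [Fintype I] [DecidableEq I] [Fintype J] [DecidableEq J] [Group W] [Fintype W] [Group Y]
  {M : CoxeterMatrix I} {M' : CoxeterMatrix J} {cs : CoxeterSystem M W} {cs' : CoxeterSystem M' W}
  {A : I → I → ℤ} {A' : J → J → ℤ} {h : IsCartan M A} {h' : IsCartan M' A'} {e : I ≃ J}
  {p : ℕ} {T : Subgroup Y} {n : I → Y} {n' : J → Y}
  {X : (I → ℤ) → Subgroup Y} {R : Set (I → ℤ)} {Z : (I → ℤ) → Subgroup Y} {z : (I → ℤ) → Y}
  {R' : Set (J → ℤ)} {z' : (J → ℤ) → Y}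

theorem form_zero_iff (hA : ∀ i j, A i j = A' (e i) (e j)) (hs : ∀ i, cs'.simple (e i) = cs.simple i)
    (hM : ∀ i j, M i j = M' (e i) (e j)) {x y : J → ℤ} (hy : IsRoot cs' h' y) :
    form cs h (fun i => x (e i)) (fun i => y (e i)) = 0 ↔ form cs' h' x y = 0 := by
  have hy' : IsRoot cs h (fun i => y (e i)) := (isRoot_comp_iff e hM hA cs' h').2 hy
  rw [← cpr_zero_iff cs h _ hy', ← cpr_zero_iff cs' h' _ hy]
  have h1 := cpr_reindex (h := h) (h' := h') hA hs (fun i => x (e i)) hy'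
  have h2 : ∀ x : J → ℤ, (fun i => x (e i)) ∘ e.symm = x := fun x => comp_symm (e := e) x
  rw [h2, h2] at h1
  rw [h1]

/-- `MaxF` along a change of the index type -/
theorem maxF_reindex {C : Cls cs h p T n X R Z z} {F : Set (I → ℤ)} (hF : MaxF C F)
    (hA : ∀ i j, A i j = A' (e i) (e j)) (hs : ∀ i, cs'.simple (e i) = cs.simple i)
    (hM : ∀ i j, M i j = M' (e i) (e j))
    (C' : Cls cs' h' p T n' (fun x => X (fun i => x (e i))) R' (fun x => Z (fun i => x (e i))) z')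
    (hR : ∀ x, IsRoot cs' h' x → ((fun i => x (e i)) ∈ R ↔ x ∈ R')) :
    MaxF C' {x | (fun i => x (e i)) ∈ F} := by
  have hroot : ∀ x : J → ℤ, (fun i => x (e i)) ∈ F → IsRoot cs' h' x := fun x hx =>
    (isRoot_comp_iff (cs := cs) (h := h) e hM hA cs' h').1 (C.root _ (hF.sub _ hx))
  refine ⟨fun x hx => (hR x (hroot x hx)).1 (hF.sub _ hx), fun x hx => hF.neg _ hx, fun x hx y hy h1 h2 => ?_,
    fun x hx => ?_⟩
  · rw [← form_zero_iff (h := h) (h' := h') hA hs hM (hroot y hy)]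
    refine hF.orth _ hx _ hy (fun h0 => h1 ?_) fun h0 => h2 ?_
    · funext j
      have := congrFun h0 (e.symm j)
      simpa using this
    · funext j
      have := congrFun h0 (e.symm j)
      simpa using this
  · have hx' : IsRoot cs' h' x := C'.root x hx
    obtain ⟨r, hr, h0⟩ := hF.max _ ((hR x hx').2 hx)
    have e1 : (fun i => (fun j => r (e.symm j)) (e i)) = r := by funext i; simp
    have hr' : (fun i => (fun j => r (e.symm j)) (e i)) ∈ F := by rw [e1]; exact hr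
    refine ⟨fun j => r (e.symm j), hr', fun h1 => h0 ?_⟩
    have h2 := (form_zero_iff (h := h) (h' := h') hA hs hM (hroot _ hr')).2 h1
    rwa [e1] at h2

end Tr

variable {G : Type*} [Group G] {Om : Set (Subgroup G)} {p : ℕ} {L : Subgroup G}

/-- **The transfer to the standard chart of type `B n`** -/
theorem triv_B (c : Chart Om p L) {n : ℕ} (hτ : c.IsTy (.B n)) (hXZ : ∀ r ∈ c.R, c.Z r = c.X r)
    (hexp : ∀ r ∈ c.R, ∀ x ∈ c.Z r, x ^ p = 1) {F : Set (c.I → ℤ)} (hF : MaxF c.cls F)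
    (H : ∀ {W' : Type} [Group W'] [Fintype W'] {cs' : CoxeterSystem (CoxeterMatrix.B n) W'} {T : Subgroup G}
      {nn : Fin n → G} {X Z : (Fin n → ℤ) → Subgroup G} {z : (Fin n → ℤ) → G}
      (C : Cls cs' (Nodes.TypeC.isCartan n) p T nn X (Nodes.KindBC.RB n) Z z) (F : Set (Fin n → ℤ)), MaxF C F →
      T ≤ G1 cs' (Nodes.TypeC.isCartan n) X →
      (∀ J : Set (Fin n), J.Nonempty → J ≠ Set.univ → ∃ a ∈ J, ∃ b, b ∉ J ∧ (CoxeterMatrix.B n) a b ≠ 2) →
      (∀ r ∈ Nodes.KindBC.RB n, Z r = X r) → (∀ r ∈ Nodes.KindBC.RB n, ∀ x ∈ Z r, x ^ p = 1) →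
      ∀ (K : Subgroup G) (e : G), QK K e → Cen C F K → Triv C e) :
    ∀ (K : Subgroup G) (e : G), QK K e → Cen c.cls F K → Triv c.cls e := by
  obtain ⟨e, hA, hl⟩ := hτ
  have hM : ∀ i j, c.M i j = CoxeterMatrix.B n (e i) (e j) := fun i j => c.M_apply (τ := .B n) hA i j
  obtain ⟨cs', hs⟩ := exists_reindex c.cs e (M' := CoxeterMatrix.B n) hM
  have hsr : ∀ i, sr i ∈ c.R ↔ sr (e i) ∈ Nodes.KindBC.RB n := fun i =>
    (hl i).trans Nodes.RKindsBC.sr_mem_RB.symm
  let c' := reindex c e hM hA cs' (Nodes.TypeC.isCartan n) (R' := Nodes.KindBC.RB n)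
    (fun r hr => Nodes.KindBC.root_RB cs' hr) (fun r hr w => Nodes.KindBC.act_RB cs' hr w) hsr
    (Nodes.KindBC.trans_RB cs')
  have hR : ∀ x, IsRoot cs' (Nodes.TypeC.isCartan n) x → ((fun i => x (e i)) ∈ c.R ↔ x ∈ Nodes.KindBC.RB n) :=
    fun x hx => mem_R_iff e hM hA cs' (Nodes.TypeC.isCartan n) c.cls.act
      (fun r hr w => Nodes.KindBC.act_RB cs' hr w) hsr hx
  have hF' := maxF_reindex hF hA hs hM c'.cls hR
  have hG1 : G1 cs' (Nodes.TypeC.isCartan n) (fun x => c.X (fun i => x (e i))) = G1 c.cs c.h c.X :=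
    G1_reindex (cs := c.cs) (h := c.h) e hM hA cs' (Nodes.TypeC.isCartan n) c.X
  have hmem : ∀ r ∈ Nodes.KindBC.RB n, (fun i => r (e i)) ∈ c.R := fun r hr =>
    (hR r (Nodes.KindBC.root_RB cs' hr)).2 hr
  intro K f hK hcen
  have h1 := H c'.cls _ hF' (c'.T_le.trans_eq c'.gen.symm) c'.irr (fun r hr => hXZ _ (hmem r hr))
    (fun r hr => hexp _ (hmem r hr)) K f hK ⟨fun r hr a ha k hk => hcen.comm _ hr a ha k hk, fun k hk => by
      have := hcen.nor k hk
      rwa [← hG1] at this⟩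
  intro l hl'
  rw [← hG1] at hl'
  exact h1 l hl'

/-- the root groups `Z r` have exponent `p` -/
theorem hexp_of_sl [Finite G] (c : Chart Om p L) {K₀ : Type*} [Field K₀] [Fintype K₀] [CharP K₀ p]
    (hsl : ∀ r ∈ c.R, Nonempty (Matrix.SpecialLinearGroup (Fin 2) K₀ ≃* ↥(c.Z r ⊔ c.Z (-r)))) :
    ∀ r ∈ c.R, ∀ x ∈ c.Z r, x ^ p = 1 := by
  have : Fact p.Prime := ⟨c.prime⟩
  intro r hr x hx
  obtain ⟨e⟩ := hsl r hr
  obtain ⟨e', hc⟩ := BetaTor.exists_crd c.cls c.odd hr e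
  obtain ⟨b, rfl⟩ := mem_root.1 (hc.rt.ge hx)
  have h1 : ∀ k : ℕ, (up b : Matrix.SpecialLinearGroup (Fin 2) K₀) ^ k = up ((k : K₀) * b) := by
    intro k
    induction k with
    | zero => rw [pow_zero, Nat.cast_zero, zero_mul, up_zero]
    | succ k ih => rw [pow_succ, ih, up_mul, Nat.cast_succ, add_mul, one_mul]
  rw [← Subgroup.coe_pow, ← map_pow, h1, CharP.cast_eq_zero, zero_mul, up_zero, map_one]
  rfl

end Cfsg.Agent.LOC.BReidx
end

-- part: Cit/Nil/LO/TypeB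
section
/-!
# Lie odd sections, the chart part: type `B n`, the standard chart (S1309, (n1), piece (C))

`F` a maximal set of pairwise orthogonal long roots, `K` a `Q₈` centralising all `Z t`, `t ∈ F`, `e` its involution.
For `rt a b ∈ F`:

* `short` : `e` centralises `MM F (rt b b)` [LEMMA LA*; there is at most one unpaired index `c`, and then singular
  elements inverted by `e` are moved into `X (rt b c)` or `X (rt b (ng c))`, where `T` is transitive];
* `long` : `e` centralises `X (rt b c)`, `c` paired [`T` is transitive];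
* `Hyp.triv` : `e` centralises `L`;
* `triv`, `out` : charts of type `B n`, `n ≥ 2`.
-/

set_option autoImplicit false
set_option linter.unusedSectionVars false
set_option linter.dupNamespace false

namespace Cfsg.Agent.LOC.TypeB

open CoxeterSystem Cfsg.Agent.ChevalleyStructure.CoxeterGeom Cfsg.Agent.Tits.Roots Cfsg.Agent.Tits.Core
  Cfsg.Agent.Tits.RootComb Cfsg.Agent.Nodes.Comb Cfsg.Agent.Nodes.SubComb Cfsg.Agent.Nodes.Reps
  Cfsg.Agent.Nodes.Coroot Cfsg.Agent.Nodes.PosPair Cfsg.Agent.Nodes.BNOf Cfsg.Agent.Nodes.RGDLib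
  Cfsg.Agent.Nodes.Chart Cfsg.Agent.Nodes.ClsNorm Cfsg.Agent.Nodes.ChartLoc Cfsg.Agent.Nodes.ChartFrame
  Cfsg.Agent.Nodes.Slope Cfsg.Agent.Nodes.Bruhat Cfsg.Agent.LOC.ChartDefs Cfsg.Agent.LOC.Wt
  Cfsg.Agent.Nodes.ShortSum Cfsg.Agent.Nodes.MuSq Cfsg.Agent.Nodes.TypeC Cfsg.Agent.Nodes.TypeCForm
  Cfsg.Agent.Nodes.KindBC Cfsg.Agent.Nodes.BOdd Cfsg.Agent.LOC.BRoots Cfsg.Agent.LOC.BGam Cfsg.Agent.LOC.BTri
open scoped commutatorElement

variable {n : ℕ} {W : Type*} [Group W] [Fintype W] {cs : CoxeterSystem (CoxeterMatrix.B n) W}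

/-! ### Roots -/

theorem form_self_eq (a b : Fin n × Bool) :
    form cs (isCartan n) (_root_.Cfsg.Agent.Nodes.KindBC.rt a a) (_root_.Cfsg.Agent.Nodes.KindBC.rt a a) = form cs (isCartan n) (_root_.Cfsg.Agent.Nodes.KindBC.rt b b) (_root_.Cfsg.Agent.Nodes.KindBC.rt b b) := by
  obtain ⟨w, hw⟩ := trans_RC (cs := cs) _ (rt_mem_RC b) _ (rt_mem_RC a)
  rw [hw, form_rep]

theorem form_long_eq {a b c d : Fin n × Bool} (hab : a.1 ≠ b.1) (hcd : c.1 ≠ d.1) :
    form cs (isCartan n) (_root_.Cfsg.Agent.Nodes.KindBC.rt a b) (_root_.Cfsg.Agent.Nodes.KindBC.rt a b) = form cs (isCartan n) (_root_.Cfsg.Agent.Nodes.KindBC.rt c d) (_root_.Cfsg.Agent.Nodes.KindBC.rt c d) := by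
  obtain ⟨w, hw⟩ := trans_RB (cs := cs) _ (rt_mem_RB hcd) _ (rt_mem_RB hab)
  rw [hw, form_rep]

theorem sq {a b : Fin n × Bool} (hab : a.1 ≠ b.1) :
    Sq cs (isCartan n) 2 (_root_.Cfsg.Agent.Nodes.KindBC.rt b b) (_root_.Cfsg.Agent.Nodes.KindBC.rt a a) (_root_.Cfsg.Agent.Nodes.KindBC.rt a b) (_root_.Cfsg.Agent.Nodes.KindBC.rt a (ng b)) where
  pos := by norm_num
  root₁ := isRoot_self b
  root₂ := isRoot_self a
  root := isRoot_ne hab
  rootb := isRoot_ne (by rwa [ng_fst])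
  orth := by rw [fzero', cf_rt, dl_ne hab]; rfl
  len := form_self_eq b a
  add := by
    apply eq_of_cf
    intro c
    rw [map_zsmul, map_add, cf_rt, cf_rt, cf_rt, smul_eq_mul]; ring
  sub := by
    apply eq_of_cf
    intro c
    rw [map_zsmul, map_sub, cf_rt, cf_rt, cf_rt, dl_ng_right, smul_eq_mul]; ring

theorem ne_of_cf {x y : Fin n → ℤ} (c : Fin n × Bool) (h1 : cf c x ≠ 0) (h2 : cf c y = 0) : x ≠ y ∧ x ≠ -y := by
  constructor
  · rintro rfl; exact h1 h2
  · rintro rfl; apply h1; rw [map_neg, h2, neg_zero]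

theorem fbb {a b : Fin n × Bool} (hab : a.1 ≠ b.1) : 0 < form cs (isCartan n) (_root_.Cfsg.Agent.Nodes.KindBC.rt b b) (_root_.Cfsg.Agent.Nodes.KindBC.rt a b) := by
  rw [fpos hab, cf_rt, cf_rt, dl_self, dl_ne hab]; norm_num

theorem orth_mate {a b : Fin n × Bool} (hab : a.1 ≠ b.1) :
    form cs (isCartan n) (_root_.Cfsg.Agent.Nodes.KindBC.rt a b) (_root_.Cfsg.Agent.Nodes.KindBC.rt a (ng b)) = 0 := by
  rw [fzero (by rwa [ng_fst]), cf_ng, cf_rt, cf_rt, dl_self, dl_self, dl_ne hab, dl_ne hab.symm]; norm_num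

theorem neg_rt (a b : Fin n × Bool) : -_root_.Cfsg.Agent.Nodes.KindBC.rt a (ng b) = _root_.Cfsg.Agent.Nodes.KindBC.rt (ng a) b := by
  rw [← rt_ng, ng_ng]

variable {Y : Type*} [Group Y] {p : ℕ} {T : Subgroup Y} {nn : Fin n → Y} {X : (Fin n → ℤ) → Subgroup Y}
  {Z : (Fin n → ℤ) → Subgroup Y} {z : (Fin n → ℤ) → Y} (C : Cls cs (isCartan n) p T nn X (RB n) Z z)

include C

/-- `[X (a - b), X (b + d)] ≤ X (a + d)` -/
theorem comm_ll {a b d : Fin n × Bool} (hab : a.1 ≠ b.1) (hbd : b.1 ≠ d.1) (had : a.1 ≠ d.1) {u x : Y}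
    (hu : u ∈ X (_root_.Cfsg.Agent.Nodes.KindBC.rt a (ng b))) (hx : x ∈ X (_root_.Cfsg.Agent.Nodes.KindBC.rt b d)) : ⁅u, x⁆ ∈ X (_root_.Cfsg.Agent.Nodes.KindBC.rt a d) := by
  have hab' : a.1 ≠ (ng b).1 := by rwa [ng_fst]
  obtain ⟨h1, h2⟩ := ne_of_cf (x := _root_.Cfsg.Agent.Nodes.KindBC.rt a (ng b)) (y := _root_.Cfsg.Agent.Nodes.KindBC.rt b d) a
    (by rw [cf_rt, dl_self, dl_ne hab']; norm_num) (by rw [cf_rt, dl_ne hab, dl_ne had]; rfl)
  refine comm_in C.rgd (isRoot_ne hab') (isRoot_ne hbd) h1 h2 (fun w hw => ?_) hu hx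
  refine eq_rt_of_pos hw.1 had (btwn_pos' hw (cf a) ?_ ?_) (btwn_pos' hw.symm (cf d) ?_ ?_)
  · simp only [cf_rt, dl_self, dl_ne hab']; norm_num
  · simp only [cf_rt, dl_ne hab, dl_ne had]; norm_num
  · simp only [cf_rt, dl_self, dl_ne hbd.symm]; norm_num
  · simp only [cf_rt, dl_ng_right, dl_ne hbd.symm, dl_ne had.symm]; norm_num

/-- and this is injective -/
theorem one_ll {a b d : Fin n × Bool} (hab : a.1 ≠ b.1) (hbd : b.1 ≠ d.1) (had : a.1 ≠ d.1) {u x : Y}
    (hu : u ∈ X (_root_.Cfsg.Agent.Nodes.KindBC.rt a (ng b))) (hu1 : u ≠ 1) (hx : x ∈ X (_root_.Cfsg.Agent.Nodes.KindBC.rt b d)) (h0 : ⁅u, x⁆ = 1) : x = 1 := by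
  have hab' : a.1 ≠ (ng b).1 := by rwa [ng_fst]
  have hna : (ng a).1 ≠ d.1 := by rwa [ng_fst]
  have hnb : (ng a).1 ≠ b.1 := by rwa [ng_fst]
  obtain ⟨h1, h2⟩ := ne_of_cf (x := _root_.Cfsg.Agent.Nodes.KindBC.rt a (ng b)) (y := _root_.Cfsg.Agent.Nodes.KindBC.rt b d) a
    (by rw [cf_rt, dl_self, dl_ne hab']; norm_num) (by rw [cf_rt, dl_ne hab, dl_ne had]; rfl)
  refine eq_one_of_comm C.rgd (isRoot_ne hab') (isRoot_ne hbd) h1 h2 (fun w hw => ?_) ?_ hu hu1 hx
    (commutatorElement_eq_one_iff_mul_comm.1 h0)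
  · rw [neg_rt] at hw
    have k1 : w = _root_.Cfsg.Agent.Nodes.KindBC.rt (ng a) d := by
      refine eq_rt_of_pos hw.1 hna (btwn_pos' hw (cf (ng a)) ?_ ?_) (btwn_pos' hw.symm (cf d) ?_ ?_)
      · simp only [cf_rt, dl_self, dl_ne hnb]; norm_num
      · simp only [cf_rt, dl_ne hnb, dl_ne hna]; norm_num
      · simp only [cf_rt, dl_self, dl_ne hbd.symm]; norm_num
      · simp only [cf_rt, dl_ng_right, dl_ne hbd.symm, dl_ne had.symm]; norm_num
    have k2 : 0 < cf b w := by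
      refine btwn_pos' hw (cf b) ?_ ?_
      · simp only [cf_rt, dl_self, dl_ne hnb.symm]; norm_num
      · simp only [cf_rt, dl_self, dl_ne hbd]; norm_num
    rw [k1, cf_rt, dl_ne hnb.symm, dl_ne hbd] at k2
    omega
  · rw [cpr_ne _ hab', cf_ng, cf_rt, cf_rt, dl_self, dl_ne hab, dl_ne had, dl_ne hbd]; norm_num

omit C in
/-- the standing hypotheses -/
structure Hyp (C : Cls cs (isCartan n) p T nn X (RB n) Z z) (F : Set (Fin n → ℤ)) : Prop where
  hF : MaxF C F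
  hp : p ≠ 2
  hT : T ≤ G1 cs (isCartan n) X
  XZ : ∀ r ∈ RB n, Z r = X r
  exp : ∀ r ∈ RB n, ∀ x ∈ Z r, x ^ p = 1

variable {C}
variable {F : Set (Fin n → ℤ)} (H : Hyp C F)
include H

theorem Hyp.symm {a b : Fin n × Bool} (h : _root_.Cfsg.Agent.Nodes.KindBC.rt a b ∈ F) : _root_.Cfsg.Agent.Nodes.KindBC.rt b a ∈ F := by rwa [rt_comm]

/-- the orthogonality of `rt c c`, `c` unpaired, to `F` -/
theorem Hyp.orth {c : Fin n × Bool} (hc : ∀ d, c.1 ≠ d.1 → _root_.Cfsg.Agent.Nodes.KindBC.rt c d ∉ F) {t : Fin n → ℤ} (ht : t ∈ F) :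
    form cs (isCartan n) (_root_.Cfsg.Agent.Nodes.KindBC.rt c c) t = 0 := by
  obtain ⟨u, v, huv, rfl⟩ := mem_RB.1 (H.hF.sub t ht)
  have hcu : ∀ {u v : Fin n × Bool}, u.1 ≠ v.1 → _root_.Cfsg.Agent.Nodes.KindBC.rt u v ∈ F → u.1 ≠ c.1 := by
    intro u v huv ht e
    rcases eq_of_fst e with e | e
    · subst e
      exact hc v huv ht
    · have e' : c = ng u := by rw [e, ng_ng]
      subst e'
      refine hc (ng v) (by simpa using huv) ?_
      rw [rt_ng]
      exact H.hF.neg _ ht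
  have h1 := hcu huv ht
  have h2 := hcu huv.symm (by rw [rt_comm]; exact ht)
  rw [fzero huv, cf_rt, cf_rt, dl_ne h1, dl_ne h2]; norm_num

theorem Hyp.un_ng {c : Fin n × Bool} (hc : ∀ d, c.1 ≠ d.1 → _root_.Cfsg.Agent.Nodes.KindBC.rt c d ∉ F) : ∀ d, (ng c).1 ≠ d.1 → _root_.Cfsg.Agent.Nodes.KindBC.rt (ng c) d ∉ F := by
  intro d hd h
  refine hc (ng d) (by simpa using hd) ?_
  have h1 := H.hF.neg _ h
  rwa [← rt_ng, ng_ng] at h1

theorem Hyp.le_VV {y t : Fin n → ℤ} (ht : 0 < form cs (isCartan n) y t) (htF : t ∈ F) :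
    MM cs (isCartan n) X F y ≤ VV cs (isCartan n) X t :=
  RGD.Sup_mono fun _ hx => ⟨hx.1, (hx.2 t htF).1 ht⟩

variable [Finite Y] [Fact p.Prime]

theorem Hyp.odd_Z {r : Fin n → ℤ} (hr : r ∈ RB n) {d : Y} (hd : d ∈ Z r) (h2 : d * d = 1) : d = 1 := by
  obtain ⟨k, hk⟩ := (Fact.out : p.Prime).odd_of_ne_two H.hp
  have h3 := H.exp r hr d hd
  rw [hk, pow_succ, pow_mul, pow_two, h2, one_pow, one_mul] at h3
  exact h3

theorem Hyp.comm {a b : Fin n × Bool} (hab : a.1 ≠ b.1) (h : _root_.Cfsg.Agent.Nodes.KindBC.rt a b ∈ F) :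
    ∀ x ∈ MM cs (isCartan n) X F (_root_.Cfsg.Agent.Nodes.KindBC.rt b b), ∀ y ∈ MM cs (isCartan n) X F (_root_.Cfsg.Agent.Nodes.KindBC.rt b b), x * y = y * x := by
  intro x hx y hy
  have hna : (ng a).1 ≠ b.1 := by rwa [ng_fst]
  have h' : _root_.Cfsg.Agent.Nodes.KindBC.rt (ng a) b ∈ F := by
    rw [rt_comm]
    exact mate H.hF hab.symm (by rw [rt_comm]; exact h)
  have k1 : ⁅x, y⁆ ∈ X (_root_.Cfsg.Agent.Nodes.KindBC.rt a b) := by
    rw [← H.XZ _ (H.hF.sub _ h)]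
    exact commutator_VV_le C H.hp (H.hF.sub _ h) (Subgroup.commutator_mem_commutator
      (H.le_VV (fbb hab) h hx) (H.le_VV (fbb hab) h hy))
  have k2 : ⁅x, y⁆ ∈ X (_root_.Cfsg.Agent.Nodes.KindBC.rt (ng a) b) := by
    rw [← H.XZ _ (H.hF.sub _ h')]
    exact commutator_VV_le C H.hp (H.hF.sub _ h') (Subgroup.commutator_mem_commutator
      (H.le_VV (fbb hna) h' hx) (H.le_VV (fbb hna) h' hy))
  have hne : _root_.Cfsg.Agent.Nodes.KindBC.rt a b ≠ _root_.Cfsg.Agent.Nodes.KindBC.rt (ng a) b := by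
    intro e
    have := congrArg (cf a) e
    rw [cf_rt, cf_rt, dl_ng_right, dl_self, dl_ne hab] at this
    omega
  have k3 : ⁅x, y⁆ ∈ X (_root_.Cfsg.Agent.Nodes.KindBC.rt a b) ⊓ X (_root_.Cfsg.Agent.Nodes.KindBC.rt (ng a) b) := ⟨k1, k2⟩
  rw [Cfsg.Agent.Nodes.OppDec.X_inf_X C.rgd (isRoot_ne hab) (isRoot_ne hna) hne, Subgroup.mem_bot] at k3
  exact commutatorElement_eq_one_iff_mul_comm.1 k3

theorem Hyp.std {a b : Fin n × Bool} (hab : a.1 ≠ b.1) (h : _root_.Cfsg.Agent.Nodes.KindBC.rt a b ∈ F) {u : Y} (hu : u ∈ Z (_root_.Cfsg.Agent.Nodes.KindBC.rt a (ng b))) :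
    Std (VV cs (isCartan n) X (_root_.Cfsg.Agent.Nodes.KindBC.rt a b)) (Z (_root_.Cfsg.Agent.Nodes.KindBC.rt a b)) u :=
  BGam.std C H.hp (H.hF.sub _ h) (H.hF.sub _ (mate H.hF hab h)) (orth_mate hab) hu

theorem Hyp.quad {a b : Fin n × Bool} (hab : a.1 ≠ b.1) (h : _root_.Cfsg.Agent.Nodes.KindBC.rt a b ∈ F) {u : Y} (hu : u ∈ Z (_root_.Cfsg.Agent.Nodes.KindBC.rt a (ng b))) :
    ∀ x ∈ MM cs (isCartan n) X F (_root_.Cfsg.Agent.Nodes.KindBC.rt b b), u * ⁅u, x⁆ = ⁅u, x⁆ * u := by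
  have hs : _root_.Cfsg.Agent.Nodes.KindBC.rt a (ng b) ∈ F := mate H.hF hab h
  have hsR := H.hF.sub _ hs
  have hab' : a.1 ≠ (ng b).1 := by rwa [ng_fst]
  suffices h1 : MM cs (isCartan n) X F (_root_.Cfsg.Agent.Nodes.KindBC.rt b b) ≤ Quad (H.std hab h hu) from fun x hx => (h1 hx).2
  refine RGD.Sup_le fun y hy => ?_
  intro x hx
  have hy0 : 0 < form cs (isCartan n) y (_root_.Cfsg.Agent.Nodes.KindBC.rt a b) := (hy.2 _ h).1 (fbb hab)
  have hcase := lam_short H.hF hab.symm (H.symm h) hy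
  have hya : cf a y = 0 := by
    rcases hcase with rfl | ⟨c, h1, h2, -, rfl⟩
    · rw [cf_rt, dl_ne hab]; rfl
    · rw [cf_rt, dl_ne hab, dl_ne h2.symm]; rfl
  refine ⟨RGD.le_Sup (S := {y | IsRoot cs (isCartan n) y ∧ 0 < form cs (isCartan n) y (_root_.Cfsg.Agent.Nodes.KindBC.rt a b)}) ⟨hy.1, hy0⟩ hx, ?_⟩
  have key : ∀ w, Btwn cs (isCartan n) (_root_.Cfsg.Agent.Nodes.KindBC.rt a (ng b)) y w → 0 ≤ form cs (isCartan n) w (_root_.Cfsg.Agent.Nodes.KindBC.rt a (ng b)) := by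
    intro w hw
    rcases hcase with rfl | ⟨c, h1, h2, -, rfl⟩
    · rcases (sq (cs := cs) hab).btwn' hw.symm with rfl | rfl
      · exact ((fpos hab').2 (by rw [cf_ng, cf_rt, cf_rt, dl_self, dl_ne hab.symm]; norm_num)).le
      · exact (orth_mate hab).ge
    · have e : w = _root_.Cfsg.Agent.Nodes.KindBC.rt a c := by
        refine eq_rt_of_pos hw.1 h2.symm (btwn_pos' hw (cf a) ?_ ?_) (btwn_pos' hw.symm (cf c) ?_ ?_)
        · simp only [cf_rt, dl_self, dl_ne hab']; norm_num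
        · simp only [cf_rt, dl_ne hab, dl_ne h2.symm]; norm_num
        · simp only [cf_rt, dl_self, dl_ne h1]; norm_num
        · simp only [cf_rt, dl_ng_right, dl_ne h1, dl_ne h2]; norm_num
      rw [e]
      exact ((fpos hab').2 (by rw [cf_ng, cf_rt, cf_rt, dl_self, dl_ne hab.symm, dl_ne h1.symm, dl_ne h2.symm]; norm_num)).le
  obtain ⟨n1, n2⟩ := ne_of_cf (x := _root_.Cfsg.Agent.Nodes.KindBC.rt a (ng b)) (y := y) a (by rw [cf_rt, dl_self, dl_ne hab']; norm_num) hya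
  have h2 : ⁅u, x⁆ ∈ Subgroup.centralizer {u} := by
    refine btw_le (fun w hw => ?_) (C.rgd.comm (_root_.Cfsg.Agent.Nodes.KindBC.rt a (ng b)) y (isRoot_ne hab') hy.1 n1 n2 u (C.le _ hsR hu) x hx)
    intro d hd
    rw [Subgroup.mem_centralizer_singleton_iff]
    exact C.cent _ hsR w hw.1 (key w hw) d hd u hu
  exact (Subgroup.mem_centralizer_singleton_iff.1 h2).symm

theorem Hyp.gam {a b : Fin n × Bool} (hab : a.1 ≠ b.1) (h : _root_.Cfsg.Agent.Nodes.KindBC.rt a b ∈ F) {u : Y} (hu : u ∈ Z (_root_.Cfsg.Agent.Nodes.KindBC.rt a (ng b))) :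
    Gam (MM cs (isCartan n) X F (_root_.Cfsg.Agent.Nodes.KindBC.rt b b)) (Z (_root_.Cfsg.Agent.Nodes.KindBC.rt a b)) u :=
  gam_abs (H.std hab h hu) (H.le_VV (fbb hab) h) (H.comm hab h) (H.quad hab h hu)

theorem Hyp.aniso {a b : Fin n × Bool} (hab : a.1 ≠ b.1) {u x : Y} (hu : u ∈ Z (_root_.Cfsg.Agent.Nodes.KindBC.rt a (ng b)))
    (hu1 : u ≠ 1) (hx : x ∈ X (_root_.Cfsg.Agent.Nodes.KindBC.rt b b)) (h1 : ⁅⁅u, x⁆, x⁆ = 1) : x = 1 := by
  have hab' : a.1 ≠ (ng b).1 := by rwa [ng_fst]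
  exact Aniso.gam C Fact.out H.hp (sq hab) (rt_mem_RB hab) (rt_mem_RB hab') (H.XZ _ (rt_mem_RB hab)).symm
    (H.XZ _ (rt_mem_RB hab')).symm hu hu1 hx (commutatorElement_eq_one_iff_mul_comm.1 h1)

theorem Hyp.tri {a b c : Fin n × Bool} (hab : a.1 ≠ b.1) (h : _root_.Cfsg.Agent.Nodes.KindBC.rt a b ∈ F) (hcb : c.1 ≠ b.1) (hca : c.1 ≠ a.1)
    (hc : ∀ d, c.1 ≠ d.1 → _root_.Cfsg.Agent.Nodes.KindBC.rt c d ∉ F) {u : Y} (hu : u ∈ Z (_root_.Cfsg.Agent.Nodes.KindBC.rt a (ng b))) (hu1 : u ≠ 1) :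
    Tri (MM cs (isCartan n) X F (_root_.Cfsg.Agent.Nodes.KindBC.rt b b)) (Z (_root_.Cfsg.Agent.Nodes.KindBC.rt a b)) (X (_root_.Cfsg.Agent.Nodes.KindBC.rt b b)) (X (_root_.Cfsg.Agent.Nodes.KindBC.rt b c)) (X (_root_.Cfsg.Agent.Nodes.KindBC.rt b (ng c))) u := by
  have hab' : a.1 ≠ (ng b).1 := by rwa [ng_fst]
  have hcb' : (ng c).1 ≠ b.1 := by rwa [ng_fst]
  have hca' : (ng c).1 ≠ a.1 := by rwa [ng_fst]
  have huX : u ∈ X (_root_.Cfsg.Agent.Nodes.KindBC.rt a (ng b)) := by rw [← H.XZ _ (rt_mem_RB hab')]; exact hu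
  have hgX : ∀ x ∈ X (_root_.Cfsg.Agent.Nodes.KindBC.rt b c), ⁅u, x⁆ ∈ Z (_root_.Cfsg.Agent.Nodes.KindBC.rt a c) := fun x hx => by
    rw [H.XZ _ (rt_mem_RB hca.symm)]
    exact comm_ll C hab hcb.symm hca.symm huX hx
  have l0 : X (_root_.Cfsg.Agent.Nodes.KindBC.rt b b) ≤ MM cs (isCartan n) X F (_root_.Cfsg.Agent.Nodes.KindBC.rt b b) := X_le_MM (mem_Lam_self (isRoot_self b))
  have l1 : X (_root_.Cfsg.Agent.Nodes.KindBC.rt b c) ≤ MM cs (isCartan n) X F (_root_.Cfsg.Agent.Nodes.KindBC.rt b b) := X_le_MM (mem_lam H.hF hcb hc)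
  have l2 : X (_root_.Cfsg.Agent.Nodes.KindBC.rt b (ng c)) ≤ MM cs (isCartan n) X F (_root_.Cfsg.Agent.Nodes.KindBC.rt b b) := X_le_MM (mem_lam H.hF hcb' (H.un_ng hc))
  refine ⟨H.gam hab h hu, fun d hd => H.odd_Z (H.hF.sub _ h) hd, l0, l1, l2, ?_, ?_, ?_, ?_, fun x hx => H.aniso hab hu hu1 hx⟩
  · intro y hy
    have k1 : MM cs (isCartan n) X F (_root_.Cfsg.Agent.Nodes.KindBC.rt b b) ≤ (X (_root_.Cfsg.Agent.Nodes.KindBC.rt b c) ⊔ X (_root_.Cfsg.Agent.Nodes.KindBC.rt b b)) ⊔ X (_root_.Cfsg.Agent.Nodes.KindBC.rt b (ng c)) := by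
      refine RGD.Sup_le fun t ht => ?_
      rcases lam_short H.hF hab.symm (H.symm h) ht with rfl | ⟨c', h1, h2, h3, rfl⟩
      · exact le_sup_right.trans le_sup_left
      · have e : c'.1 = c.1 := by
          by_contra hne
          exact odd_one H.hF hne h3 hc
        rcases eq_of_fst e with e | e
        · rw [e]; exact le_sup_left.trans le_sup_left
        · rw [e]; exact le_sup_right
    have hcm := H.comm hab h
    obtain ⟨v, hv, d, hd, e⟩ := mem_sup_of_cm (fun s hs t ht => hcm s (sup_le l1 l0 hs) t (l2 ht)) (k1 hy)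
    obtain ⟨v', hv', d', hd', e'⟩ := mem_sup_of_cm (fun s hs t ht => hcm s (l1 hs) t (l0 ht)) hv
    exact ⟨v', hv', d', hd', d, hd, by rw [e, e']⟩
  · intro x hx y hy
    rw [commutatorElement_eq_one_iff_mul_comm]
    refine (C.cent _ (rt_mem_RB hca.symm) (_root_.Cfsg.Agent.Nodes.KindBC.rt b c) (isRoot_ne hcb.symm) ?_ y hy _ (hgX x hx)).symm
    exact ((fpos hca.symm).2 (by rw [cf_rt, cf_rt, dl_self, dl_ne hab, dl_ne hca.symm, dl_ne hcb]; norm_num)).le
  · intro x hx y hy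
    rw [commutatorElement_eq_one_iff_mul_comm]
    refine (C.cent _ (rt_mem_RB hca.symm) (_root_.Cfsg.Agent.Nodes.KindBC.rt b b) (isRoot_self b) ?_ y hy _ (hgX x hx)).symm
    exact ((fzero hca.symm).2 (by rw [cf_rt, cf_rt, dl_ne hab, dl_ne hcb]; norm_num)).ge
  · intro x hx hx1 y hy h1
    have k1 : ⁅u, x⁆ ≠ 1 := fun h0 => hx1 (one_ll C hab hcb.symm hca.symm huX hu1 hx h0)
    have k2 : ⁅u, x⁆ ∈ X (_root_.Cfsg.Agent.Nodes.KindBC.rt a (ng (ng c))) := by
      rw [ng_ng]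
      exact comm_ll C hab hcb.symm hca.symm huX hx
    exact one_ll C hca'.symm hcb' hab k2 k1 (by rw [rt_comm]; exact hy) h1

/-! ### Transitivity -/

theorem Hyp.th {a b d : Fin n × Bool} (hab : a.1 ≠ b.1) (hbd : b.1 ≠ d.1) (had : a.1 ≠ d.1) :
    Tor.TH C (_root_.Cfsg.Agent.Nodes.KindBC.rt a b) (_root_.Cfsg.Agent.Nodes.KindBC.rt b d) where
  hr := rt_mem_RB hab
  hy := isRoot_ne hbd
  one := by
    rw [two_form_cpr cs (isCartan n) _ (isRoot_ne hab), cpr_ne _ hab, cf_rt, cf_rt, dl_ne hab, dl_ne had, dl_self, dl_ne hbd]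
    norm_num
  len := by
    have h1 := form_pos cs (isCartan n) (isRoot_ne (cs := cs) hbd).ne_zero
    have h2 := form_long_eq (cs := cs) hab hbd
    omega
  btw := by
    intro w hw
    rw [← rt_ng] at hw
    have hna : (ng a).1 ≠ d.1 := by rwa [ng_fst]
    have k1 : w = _root_.Cfsg.Agent.Nodes.KindBC.rt (ng a) d := by
      refine eq_rt_of_pos hw.1 hna (btwn_pos' hw (cf (ng a)) ?_ ?_) (btwn_pos' hw.symm (cf d) ?_ ?_)
      · simp only [cf_rt, dl_self, dl_ng_right, dl_ng_left, dl_ne hab]; norm_num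
      · simp only [cf_rt, dl_ng_left, dl_ne hab, dl_ne had]; norm_num
      · simp only [cf_rt, dl_self, dl_ne hbd.symm]; norm_num
      · simp only [cf_rt, dl_ng_right, dl_ne hbd.symm, dl_ne had.symm]; norm_num
    rw [k1]
    refine ((fneg hab).2 ?_).le
    simp only [cf_rt, dl_ng_right, dl_self, dl_ne hab.symm, dl_ne hbd, dl_ne had]; norm_num
  btw' := by
    intro w hw
    have k1 : w = _root_.Cfsg.Agent.Nodes.KindBC.rt b d := by
      refine eq_rt_of_pos hw.1 hbd (btwn_pos' hw (cf b) ?_ ?_) (btwn_pos' hw.symm (cf d) ?_ ?_)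
      · simp only [cf_rt, dl_self, dl_ne hab.symm]; norm_num
      · simp only [map_sub, cf_rt, dl_self, dl_ne hab.symm, dl_ne hbd]; norm_num
      · simp only [map_sub, cf_rt, dl_self, dl_ne hbd.symm, dl_ne had.symm]; norm_num
      · simp only [cf_rt, dl_ne hbd.symm, dl_ne had.symm]; norm_num
    rw [k1]
    refine ((fpos hab).2 ?_).le
    simp only [cf_rt, dl_self, dl_ne hab, dl_ne hbd, dl_ne had]; norm_num
  XZ := (H.XZ _ (rt_mem_RB hab)).symm
  XZ' := (H.XZ _ (Nodes.ClsNorm.neg_mem C (rt_mem_RB hab))).symm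

theorem Hyp.card {a b c d : Fin n × Bool} (hab : a.1 ≠ b.1) (hcd : c.1 ≠ d.1) :
    Nat.card (X (_root_.Cfsg.Agent.Nodes.KindBC.rt c d)) = Nat.card (Z (_root_.Cfsg.Agent.Nodes.KindBC.rt a b)) := by
  obtain ⟨w, hw⟩ := trans_RB (cs := cs) _ (rt_mem_RB hab) _ (rt_mem_RB hcd)
  obtain ⟨k, hk⟩ := exists_rp cs C.rgd.nsys w
  have h1 := conj_Z C hk (rt_mem_RB hab)
  rw [← hw] at h1
  rw [← H.XZ _ (rt_mem_RB hcd), ← h1]
  exact Nat.card_congr (Subgroup.equivMapOfInjective _ _ (MulAut.conj k).injective).toEquiv.symm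

/-- `e` centralises `X (rt b d)` if `K` normalises it -/
theorem Hyp.cent {a b d : Fin n × Bool} (hab : a.1 ≠ b.1) (h : _root_.Cfsg.Agent.Nodes.KindBC.rt a b ∈ F) (hbd : b.1 ≠ d.1) (had : a.1 ≠ d.1)
    {K : Subgroup Y} {e : Y} (hK : QK K e) (hcen : Cen C F K)
    (hKP : ∀ k ∈ K, ∀ x ∈ X (_root_.Cfsg.Agent.Nodes.KindBC.rt b d), k * x * k⁻¹ ∈ X (_root_.Cfsg.Agent.Nodes.KindBC.rt b d)) {x : Y} (hx : x ∈ X (_root_.Cfsg.Agent.Nodes.KindBC.rt b d)) : e * x = x * e := by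
  have hTH := H.th hab hbd had
  refine hK.cent_of_trans (P := X (_root_.Cfsg.Agent.Nodes.KindBC.rt b d)) (fun s hs t ht => ?_)
    (S := ((T ⊓ (Z (_root_.Cfsg.Agent.Nodes.KindBC.rt a b) ⊔ Z (-_root_.Cfsg.Agent.Nodes.KindBC.rt a b)) : Subgroup Y) : Set Y)) (fun t ht s hs => ?_)
    (fun s hs t ht hs1 ht1 => hTH.trans (H.card hab hbd) hs hs1 ht ht1) hKP (fun k hk t ht => ?_) hx
  · exact C.cent _ (rt_mem_RB hbd) _ (isRoot_ne hbd) (form_pos cs (isCartan n) (isRoot_ne (cs := cs) hbd).ne_zero).le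
      s hs t (by rw [H.XZ _ (rt_mem_RB hbd)]; exact ht)
  · have h1 := C.rgd.tor _ (isRoot_ne hbd) t ht.1
    rw [← h1, mem_cj]
    have : t⁻¹ * (t * s * t⁻¹) * t = s := by group
    rwa [this]
  · have h1 : Z (_root_.Cfsg.Agent.Nodes.KindBC.rt a b) ⊔ Z (-_root_.Cfsg.Agent.Nodes.KindBC.rt a b) ≤ Subgroup.centralizer {k} := by
      refine sup_le (fun s hs => ?_) (fun s hs => ?_)
      · exact Subgroup.mem_centralizer_singleton_iff.2 (hcen.comm _ h s hs k hk).symm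
      · exact Subgroup.mem_centralizer_singleton_iff.2 (hcen.comm _ (H.hF.neg _ h) s hs k hk).symm
    exact (Subgroup.mem_centralizer_singleton_iff.1 (h1 ht.2)).symm

/-- `e` centralises `X (rt b c)`, `c` paired -/
theorem Hyp.long {a b c d : Fin n × Bool} (hab : a.1 ≠ b.1) (h : _root_.Cfsg.Agent.Nodes.KindBC.rt a b ∈ F) (hcd : c.1 ≠ d.1) (h' : _root_.Cfsg.Agent.Nodes.KindBC.rt c d ∈ F)
    (hbc : b.1 ≠ c.1) (hac : a.1 ≠ c.1) {K : Subgroup Y} {e : Y} (hK : QK K e) (hcen : Cen C F K) {x : Y}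
    (hx : x ∈ X (_root_.Cfsg.Agent.Nodes.KindBC.rt b c)) : e * x = x * e := by
  have hM : MM cs (isCartan n) X F (_root_.Cfsg.Agent.Nodes.KindBC.rt b c) = X (_root_.Cfsg.Agent.Nodes.KindBC.rt b c) := by
    apply le_antisymm
    · refine RGD.Sup_le fun t ht => ?_
      rw [lam_long H.hF hab.symm (H.symm h) hcd h' hbc hac ht]
    · exact X_le_MM (mem_Lam_self (isRoot_ne hbc))
  refine H.cent hab h hbc hac hK hcen (fun k hk y hy => ?_) hx
  rw [← hM] at hy ⊢
  refine wt_inv C H.hT H.hF.sub h ?_ hcen hk hy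
  rw [fpos hab, cf_rt, cf_rt, dl_self, dl_ne hab, dl_ne hac, dl_ne hbc]; norm_num

/-! ### The unpaired index -/

theorem Hyp.cen_conj {c : Fin n × Bool} (hc : ∀ d, c.1 ≠ d.1 → _root_.Cfsg.Agent.Nodes.KindBC.rt c d ∉ F) {g : Y} (hg : g ∈ X (_root_.Cfsg.Agent.Nodes.KindBC.rt c c))
    {K : Subgroup Y} (hcen : Cen C F K) : Cen C F (cj g K) := by
  have hgZ : ∀ t ∈ F, ∀ a ∈ Z t, g * a = a * g := fun t ht a ha =>
    C.cent t (H.hF.sub _ ht) (_root_.Cfsg.Agent.Nodes.KindBC.rt c c) (isRoot_self c) (H.orth hc ht).ge g hg a ha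
  refine ⟨fun t ht a ha k hk => ?_, fun k hk => ?_⟩
  · rw [mem_cj] at hk
    have h1 := hcen.comm t ht a ha _ hk
    have h2 := hgZ t ht a ha
    have h3 : g⁻¹ * a = a * g⁻¹ := by
      calc g⁻¹ * a = g⁻¹ * (a * g) * g⁻¹ := by group
        _ = g⁻¹ * (g * a) * g⁻¹ := by rw [h2]
        _ = a * g⁻¹ := by group
    calc k * a = g * (g⁻¹ * k * g) * (g⁻¹ * a) := by group
      _ = g * ((g⁻¹ * k * g) * a) * g⁻¹ := by rw [h3]; group
      _ = (g * a) * (g⁻¹ * k * g) * g⁻¹ := by rw [h1]; group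
      _ = a * k := by rw [h2]; group
  · rw [mem_cj] at hk
    have h1 := hcen.nor _ hk
    have h2 : g ∈ Subgroup.normalizer (G1 cs (isCartan n) X : Set Y) :=
      Subgroup.le_normalizer (X_le_G1 (isRoot_self c) hg)
    have h3 : k = g * (g⁻¹ * k * g) * g⁻¹ := by group
    rw [h3]
    exact mul_mem (mul_mem h2 h1) (inv_mem h2)

/-- no element of `X (rt b c)`, `c` unpaired, is inverted by `e` -/
theorem Hyp.key {a b c : Fin n × Bool} (hab : a.1 ≠ b.1) (h : _root_.Cfsg.Agent.Nodes.KindBC.rt a b ∈ F) (hcb : c.1 ≠ b.1) (hca : c.1 ≠ a.1)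
    (hc : ∀ d, c.1 ≠ d.1 → _root_.Cfsg.Agent.Nodes.KindBC.rt c d ∉ F) {u : Y} (hu : u ∈ Z (_root_.Cfsg.Agent.Nodes.KindBC.rt a (ng b))) (hu1 : u ≠ 1)
    {K : Subgroup Y} {e : Y} (hK : QK K e) (hcen : Cen C F K) {x : Y} (hx : x ∈ X (_root_.Cfsg.Agent.Nodes.KindBC.rt b c))
    (hex : e * x * e⁻¹ = x⁻¹) : x = 1 := by
  by_contra hx1
  have hs : _root_.Cfsg.Agent.Nodes.KindBC.rt a (ng b) ∈ F := mate H.hF hab h
  have S := H.tri hab h hcb hca hc hu hu1
  have h1 := S.norm hK (fun k hk y hy => wt_inv C H.hT H.hF.sub h (fbb hab) hcen hk hy)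
    (fun k hk => hcen.comm _ hs u hu k hk) (fun k hk d hd => hcen.comm _ h d hd k hk) hx hx1 hex
  have h2 := H.cent hab h hcb.symm hca.symm hK hcen h1 hx
  rw [h2, mul_inv_cancel_right] at hex
  apply hx1
  refine H.odd_Z (rt_mem_RB hcb.symm) (by rw [H.XZ _ (rt_mem_RB hcb.symm)]; exact hx) ?_
  nth_rw 1 [hex]
  exact inv_mul_cancel x

theorem Hyp.sing {a b : Fin n × Bool} (hab : a.1 ≠ b.1) (h : _root_.Cfsg.Agent.Nodes.KindBC.rt a b ∈ F) {u : Y} (hu : u ∈ Z (_root_.Cfsg.Agent.Nodes.KindBC.rt a (ng b)))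
    (hu1 : u ≠ 1) {K : Subgroup Y} {e : Y} (hK : QK K e) (hcen : Cen C F K) {x : Y}
    (hx : x ∈ MM cs (isCartan n) X F (_root_.Cfsg.Agent.Nodes.KindBC.rt b b)) (hex : e * x * e⁻¹ = x⁻¹) (h1 : ⁅⁅u, x⁆, x⁆ = 1) : x = 1 := by
  have hab' : a.1 ≠ (ng b).1 := by rwa [ng_fst]
  by_cases hc : ∃ c : Fin n × Bool, c.1 ≠ b.1 ∧ c.1 ≠ a.1 ∧ ∀ d, c.1 ≠ d.1 → _root_.Cfsg.Agent.Nodes.KindBC.rt c d ∉ F
  · obtain ⟨c, hcb, hca, hc⟩ := hc
    have hcb' : (ng c).1 ≠ b.1 := by rwa [ng_fst]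
    have hca' : (ng c).1 ≠ a.1 := by rwa [ng_fst]
    have hc' := H.un_ng hc
    have S := H.tri hab h hcb hca hc hu hu1
    have S' := H.tri hab h hcb' hca' hc' hu hu1
    rw [ng_ng] at S'
    have hPZ : ∀ g ∈ X (_root_.Cfsg.Agent.Nodes.KindBC.rt c c), ∀ t ∈ F, ∀ d ∈ Z t, g * d = d * g := fun g hg t ht d hd =>
      C.cent t (H.hF.sub _ ht) (_root_.Cfsg.Agent.Nodes.KindBC.rt c c) (isRoot_self c) (H.orth hc ht).ge g hg d hd
    have hmove : x ∈ X (_root_.Cfsg.Agent.Nodes.KindBC.rt b c) ∨ ∃ g ∈ X (_root_.Cfsg.Agent.Nodes.KindBC.rt c c), g * x * g⁻¹ ∈ X (_root_.Cfsg.Agent.Nodes.KindBC.rt b (ng c)) := by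
      refine S.move S' (P := X (_root_.Cfsg.Agent.Nodes.KindBC.rt c c)) (H.comm hab h) (fun g hg => hPZ g hg _ (mate H.hF hab h) u hu)
        (fun g hg d hd => hPZ g hg _ h d hd) (fun g hg y hy => ?_) (fun g hg y hy => ?_)
        (fun w hw hw1 v hv => ?_) hx h1
      · -- `X (rt c c)` commutes with `X (rt b c)`
        refine C.cent _ (rt_mem_RB hcb.symm) (_root_.Cfsg.Agent.Nodes.KindBC.rt c c) (isRoot_self c) ?_ g hg y
          (by rw [H.XZ _ (rt_mem_RB hcb.symm)]; exact hy)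
        exact ((fpos hcb.symm).2 (by rw [cf_rt, cf_rt, dl_self, dl_ne hcb.symm]; norm_num)).le
      · have Sc := sq (cs := cs) hcb.symm
        exact comm_in C.rgd (isRoot_self c) (isRoot_self b) Sc.ne₁ Sc.ne₂ (fun w hw => Sc.btwn hw) hg hy
      · have hbc' : b.1 ≠ (ng c).1 := by rwa [ng_fst, ne_comm]
        exact BGam.surj C (sq hcb.symm) (rt_mem_RB hcb.symm) (rt_mem_RB hbc') (H.XZ _ (rt_mem_RB hcb.symm)).symm
          (H.XZ _ (rt_mem_RB hbc')).symm hw hw1 hv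
    rcases hmove with h2 | ⟨g, hg, h2⟩
    · exact H.key hab h hcb hca hc hu hu1 hK hcen h2 hex
    · have h3 : g * x * g⁻¹ = 1 := by
        refine H.key hab h hcb' hca' hc' hu hu1 (hK.conj g) (H.cen_conj hc hg hcen) h2 ?_
        calc g * e * g⁻¹ * (g * x * g⁻¹) * (g * e * g⁻¹)⁻¹ = g * (e * x * e⁻¹) * g⁻¹ := by group
          _ = _ := by rw [hex]; group
      calc x = g⁻¹ * (g * x * g⁻¹) * g := by group
        _ = 1 := by rw [h3]; group
  · push Not at hc
    have k1 : MM cs (isCartan n) X F (_root_.Cfsg.Agent.Nodes.KindBC.rt b b) ≤ X (_root_.Cfsg.Agent.Nodes.KindBC.rt b b) := by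
      refine RGD.Sup_le fun t ht => ?_
      rcases lam_short H.hF hab.symm (H.symm h) ht with rfl | ⟨c', h1, h2, h3, rfl⟩
      · exact le_rfl
      · obtain ⟨d, h4, h5⟩ := hc c' h1 h2
        exact absurd h5 (h3 d h4)
    exact H.aniso hab hu hu1 (k1 hx) h1

/-- **`e` centralises the weight group of a short root.** -/
theorem Hyp.short {a b : Fin n × Bool} (hab : a.1 ≠ b.1) (h : _root_.Cfsg.Agent.Nodes.KindBC.rt a b ∈ F)
    {K : Subgroup Y} {e : Y} (hK : QK K e) (hcen : Cen C F K) :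
    ∀ x ∈ MM cs (isCartan n) X F (_root_.Cfsg.Agent.Nodes.KindBC.rt b b), e * x = x * e := by
  have hs : _root_.Cfsg.Agent.Nodes.KindBC.rt a (ng b) ∈ F := mate H.hF hab h
  obtain ⟨u, hu, hu1⟩ : ∃ u ∈ Z (_root_.Cfsg.Agent.Nodes.KindBC.rt a (ng b)), u ≠ 1 := by
    by_contra hcon
    push Not at hcon
    exact C.ne_bot _ (H.hF.sub _ hs) ((Subgroup.eq_bot_iff_forall _).2 hcon)
  have g := H.gam hab h hu
  refine LAbs.la H.hp hK (H.comm hab h) ?_ (fun k hk y hy => wt_inv C H.hT H.hF.sub h (fbb hab) hcen hk hy)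
    (fun k hk => hcen.comm _ hs u hu k hk) (fun k hk d hd => hcen.comm _ h d hd k hk) g.mem
    (H.exp _ (H.hF.sub _ h)) (fun d hd d' hd' => ?_) g.mulL g.symm
    (fun x hx hex h1 => H.sing hab h hu hu1 hK hcen hx hex h1)
  · exact (odd_card_VV C H.hp (_root_.Cfsg.Agent.Nodes.KindBC.rt a b)).of_dvd_nat (Subgroup.card_dvd_of_le (H.le_VV (fbb hab) h))
  · exact VV_comm C (H.hF.sub _ h) hd (Z_le_VV C (H.hF.sub _ h) hd')

/-- **`e` centralises `L`.** -/
theorem Hyp.triv (hn : 2 ≤ n)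
    (hirr : ∀ J : Set (Fin n), J.Nonempty → J ≠ Set.univ → ∃ a ∈ J, ∃ b, b ∉ J ∧ (CoxeterMatrix.B n) a b ≠ 2)
    {K : Subgroup Y} {e : Y} (hK : QK K e) (hcen : Cen C F K) : Triv C e := by
  have hpos : ∀ {a b : Fin n × Bool}, a.1 ≠ b.1 → _root_.Cfsg.Agent.Nodes.KindBC.rt a b ∈ F → ∀ y, IsRoot cs (isCartan n) y → 0 < cf b y →
      Phi.Fx X e y := by
    intro a b hab h y hy h0 x hx
    rcases cases_pos hy h0 with rfl | ⟨c, hcb, rfl⟩
    · exact H.short hab h hK hcen x (X_le_MM (mem_Lam_self (isRoot_self b)) hx)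
    · by_cases hca : c.1 = a.1
      · have h1 : _root_.Cfsg.Agent.Nodes.KindBC.rt b c ∈ F := by
          rcases eq_of_fst hca with rfl | rfl
          · exact H.symm h
          · exact mate H.hF hab.symm (H.symm h)
        exact hcen.comm _ h1 x (by rw [H.XZ _ (H.hF.sub _ h1)]; exact hx) e hK.mem
      · by_cases hc : ∃ d : Fin n × Bool, c.1 ≠ d.1 ∧ _root_.Cfsg.Agent.Nodes.KindBC.rt c d ∈ F
        · obtain ⟨d, hcd, hd⟩ := hc
          exact H.long hab h hcd hd hcb.symm (fun e => hca e.symm) hK hcen hx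
        · push Not at hc
          exact H.short hab h hK hcen x (X_le_MM (mem_lam H.hF hcb hc) hx)
  have h01 : ((⟨0, by omega⟩, true) : Fin n × Bool).1 ≠ ((⟨1, by omega⟩, true) : Fin n × Bool).1 := by
    simp
  obtain ⟨r, hr, -⟩ := H.hF.max _ (rt_mem_RB h01)
  obtain ⟨a, b, hab, rfl⟩ := mem_RB.1 (H.hF.sub r hr)
  have hneg : _root_.Cfsg.Agent.Nodes.KindBC.rt (ng a) (ng b) ∈ F := by rw [rt_ng]; exact H.hF.neg _ hr
  have hab' : (ng a).1 ≠ (ng b).1 := by simpa using hab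
  refine Phi.triv_of_ne hirr C (isRoot_ne hab) fun y hy h0 => ?_
  rw [Ne, fzero hab] at h0
  by_cases h1 : cf b y = 0
  · rcases pos_or a y (by omega) with h2 | h2
    · exact hpos hab.symm (H.symm hr) y hy h2
    · exact hpos hab'.symm (H.symm hneg) y hy h2
  · rcases pos_or b y h1 with h2 | h2
    · exact hpos hab hr y hy h2
    · exact hpos hab' hneg y hy h2

end Cfsg.Agent.LOC.TypeB

/-! ### Charts of type `B n` -/

namespace Cfsg.Agent.LOC.TypeB

open Cfsg.Agent.Nodes.Chart Cfsg.Agent.LOC.ChartDefs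

variable {G : Type*} [Group G] [Finite G] {Om : Set (Subgroup G)} {p : ℕ} {L : Subgroup G} (c : Chart Om p L) {n : ℕ}

/-- **Type `B n`, `n ≥ 2`: `e` centralises `L`.** -/
theorem triv (hτ : c.IsTy (.B n)) (hn : 2 ≤ n) (hXZ : ∀ r ∈ c.R, c.Z r = c.X r)
    (hexp : ∀ r ∈ c.R, ∀ x ∈ c.Z r, x ^ p = 1) {F : Set (c.I → ℤ)} (hF : MaxF c.cls F) :
    ∀ (K : Subgroup G) (e : G), QK K e → Cen c.cls F K → Triv c.cls e := by
  have : Fact p.Prime := ⟨c.prime⟩
  refine BReidx.triv_B c hτ hXZ hexp hF ?_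
  intro W' _ _ cs' T nn X Z z C F hF hT hirr hZX hexp K e hK hcen
  exact (Hyp.mk hF c.odd hT hZX hexp : Hyp C F).triv hn hirr hK hcen

/-- **Type `B n`, `n ≥ 2`.** -/
theorem out (hτ : c.IsTy (.B n)) (hn : 2 ≤ n) (hXZ : ∀ r ∈ c.R, c.Z r = c.X r)
    (hexp : ∀ r ∈ c.R, ∀ x ∈ c.Z r, x ^ p = 1) {F : Set (c.I → ℤ)} (hF : MaxF c.cls F) : Out c.cls F :=
  Out.of_triv (triv c hτ hn hXZ hexp hF)

end Cfsg.Agent.LOC.TypeB
end

private theorem dce_1742fab9fe1d : _root_.True := by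
  try have : _root_.True := by simp only [_root_.Cfsg.Agent.LOC.BRoots.dl.eq_1]
  exact _root_.True.intro
end

-- part: Cit/Nil/Comp/AO/TriRot
section
set_option linter.all false
open scoped Cfsg.Agent.FastGrp

/-!
# S1309 (6b), `r = 1`, COMP, AllOne, (M3): rotations and transitivity (helper61)

* `exists_rot` : (C3) gives an element of odd order of `C(z)` acting non-trivially on `K z`;
* `sylow3` : pairs of members which form triples with `b` are conjugate in `M ≤ C(b)`;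
* `Tri.exists_rot` : an element of odd order centralising `z`, `a`, `b`, acting non-trivially on `K b`;
* `Tri.exists_trans` : the triple is transitive.
-/

set_option autoImplicit false
set_option linter.style.haveILetI false
set_option linter.unusedSectionVars false

namespace Cfsg.Agent.Cit.Nil.Comp.AO

open Subgroup Cfsg Cfsg.Agent.Cit Cfsg.Agent.Cit.Nil.ROne
open Cfsg.Agent.Cit.Nil.Comp (Tri AllOne cp_sym)

set_option maxRecDepth 100000 in
theorem tq_of_two : ∀ p q : QEight.Q, QEight.Ok p q → ∀ y : QEight.Q, y * y = QuaternionGroup.a 2 →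
    (QEight.F p q y = y ∨ QEight.F p q y = y⁻¹) → ∀ x : QEight.Q, x * x = QuaternionGroup.a 2 →
    QEight.F p q x ≠ x → QEight.F p q x ≠ x⁻¹ → Tq p q y := by
  decide +kernel

section

variable {G : Type*} [Group G] {Z : Set G} {K : G → Subgroup G} {z a b d g u v u' v' : G}

/-- an element moving all axes -/
theorem exists_odd_of_ax [Finite G] (w : W Z K) (hz : z ∈ Z) (hdz : d * z = z * d)
    (hax0 : ∀ b ∈ K z, b * b = z → d * b * d⁻¹ ≠ b ∧ d * b * d⁻¹ ≠ b⁻¹) :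
    ∃ k : ℕ, d ^ k * z = z * d ^ k ∧ Odd (orderOf (d ^ k)) ∧ ¬ Cen K (d ^ k) z := by
  have hax : ∀ x : QEight.Q, x * x = QuaternionGroup.a 2 → w.rho hz d hdz x ≠ x ∧ w.rho hz d hdz x ≠ x⁻¹ := by
    intro x hxx
    obtain ⟨b, hb, rfl⟩ := w.exists_e hz x
    have hbb : b * b = z := by
      rw [← w.e_mul hz hb hb, ← w.e_z hz] at hxx
      exact w.e_inj hz _ _ hxx
    obtain ⟨h3, h4⟩ := hax0 b hb hbb
    rw [w.rho_e hz hdz hb]
    refine ⟨fun h => h3 (w.e_inj hz _ _ h), fun h => h4 ?_⟩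
    rw [← w.e_inv hz hb] at h
    exact w.e_inj hz _ _ h
  have hax' : Ax (w.rho hz d hdz (QuaternionGroup.a 1)) (w.rho hz d hdz (QuaternionGroup.xa 0)) := by
    intro x hx
    rw [← QEight.funF]
    exact hax x hx
  have h3 : w.rho hz d hdz ^ 3 = 1 := by
    have h1 := ax_three _ _ (QEight.aut_ok _) hax'
    rw [← QEight.funF] at h1
    refine MulEquiv.ext fun x => ?_
    rw [pow_succ, pow_succ, pow_one]
    exact h1 x
  obtain ⟨k, hk⟩ := exists_odd_pow d
  obtain ⟨h4, h5⟩ := w.rho_pow hz hdz (2 ^ k)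
  refine ⟨2 ^ k, h4, hk, fun hcen => ?_⟩
  rw [(w.rho_eq_one hz h4).2 hcen] at h5
  have h6 : orderOf (w.rho hz d hdz) ∣ 3 := orderOf_dvd_of_pow_eq_one h3
  have h7 : orderOf (w.rho hz d hdz) ∣ 2 ^ k := orderOf_dvd_of_pow_eq_one h5.symm
  have h8 : orderOf (w.rho hz d hdz) = 1 := by
    refine Nat.eq_one_of_dvd_coprimes (a := 3) (b := 2 ^ k) ?_ h6 h7
    exact Nat.Coprime.pow_right k (by norm_num)
  rw [orderOf_eq_one_iff] at h8
  obtain ⟨y, hy, -, -, hyy, -⟩ := w.exists_ij hz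
  have h9 := (hax (w.e hz ⟨y, hy⟩) (by
    rw [← w.e_mul hz hy hy, ← w.e_z hz]
    exact congrArg (w.e hz) (Subtype.ext hyy))).1
  rw [h8] at h9
  exact h9 rfl

/-- **(C3) gives rotations** -/
theorem exists_rot [Finite G] (w : W Z K) (c3 : ROne.C3 Z K) (hz : z ∈ Z) :
    ∃ d : G, d * z = z * d ∧ Odd (orderOf d) ∧ ¬ Cen K d z := by
  obtain ⟨y, hy, -, -, hyy, -⟩ := w.exists_ij hz
  obtain ⟨g, hg, h1, h2⟩ := c3 z hz y hy hyy
  by_cases hax : ∀ b ∈ K z, b * b = z → g * b * g⁻¹ ≠ b ∧ g * b * g⁻¹ ≠ b⁻¹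
  · obtain ⟨k, h3, h4, h5⟩ := exists_odd_of_ax w hz hg hax
    exact ⟨_, h3, h4, h5⟩
  push Not at hax
  obtain ⟨b, hb, hbb, h3⟩ := hax
  have hfix : g * b * g⁻¹ = b ∨ g * b * g⁻¹ = b⁻¹ := by
    by_cases h4 : g * b * g⁻¹ = b
    · exact Or.inl h4
    · exact Or.inr (h3 h4)
  have hsq : ∀ {y : G} (hy : y ∈ K z), y * y = z → w.e hz ⟨y, hy⟩ * w.e hz ⟨y, hy⟩ = QuaternionGroup.a 2 := by
    intro y hy h4
    rw [← w.e_mul hz hy hy, ← w.e_z hz]
    exact congrArg (w.e hz) (Subtype.ext h4)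
  have htq : Tq (w.rho hz g hg (QuaternionGroup.a 1)) (w.rho hz g hg (QuaternionGroup.xa 0)) (w.e hz ⟨b, hb⟩) := by
    refine tq_of_two _ _ (QEight.aut_ok _) _ (hsq hb hbb) ?_ _ (hsq hy hyy) ?_ ?_
    · rw [← QEight.funF, w.rho_e hz hg hb]
      rcases hfix with h4 | h4
      · left
        exact congrArg (w.e hz) (Subtype.ext h4)
      · right
        rw [← w.e_inv hz hb]
        exact congrArg (w.e hz) (Subtype.ext h4)
    · rw [← QEight.funF, w.rho_e hz hg hy]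
      exact fun h => h1 (w.e_inj hz _ _ h)
    · rw [← QEight.funF, w.rho_e hz hg hy]
      intro h
      rw [← w.e_inv hz hy] at h
      exact h2 (w.e_inj hz _ _ h)
  have hmov : ∀ c ∈ K z, c * c = z → c ≠ b → c ≠ b⁻¹ → g * c * g⁻¹ ≠ c ∧ g * c * g⁻¹ ≠ c⁻¹ := by
    intro c hc hcc h4 h5
    obtain ⟨h6, h7⟩ := htq.2 (w.e hz ⟨c, hc⟩) (hsq hc hcc) (fun h => h4 (w.e_inj hz _ _ h)) (fun h => h5 (by
      rw [← w.e_inv hz hb] at h
      exact w.e_inj hz _ _ h))
    rw [← QEight.funF, w.rho_e hz hg hc] at h6 h7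
    refine ⟨fun h => h6 (congrArg (w.e hz) (Subtype.ext h)), fun h => h7 ?_⟩
    rw [← w.e_inv hz hc]
    exact congrArg (w.e hz) (Subtype.ext h)
  obtain ⟨g', hg', h4, h5⟩ := c3 z hz b hb hbb
  obtain ⟨d, -, h6, h7, h8⟩ := exists_rot_in w hz (T := (⊤ : Subgroup G)) inferInstance (mem_top g) hg hb hbb hfix hmov
    hg' h4 h5
  exact ⟨d, h6, h7, h8⟩

/-- conjugation of C-pairs -/
theorem cp_conj (w : W Z K) (hu : u ∈ Z) (hv : v ∈ Z) (h : CP K u v) (g : G) :
    CP K (g * u * g⁻¹) (g * v * g⁻¹) := by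
  refine ⟨fun h1 => h.1 (mul_left_cancel (mul_right_cancel h1)), ?_⟩
  intro x hx y hy
  rw [w.conjK u hu, mem_cj] at hx
  rw [w.conjK v hv, mem_cj] at hy
  have h1 := h.2 _ hx _ hy
  calc x * y = g * ((g⁻¹ * x * g) * (g⁻¹ * y * g)) * g⁻¹ := by group
    _ = g * ((g⁻¹ * y * g) * (g⁻¹ * x * g)) * g⁻¹ := by rw [h1]
    _ = y * x := by group

/-- pairs of members which form triples with `b` are conjugate in `M ≤ C(b)` -/
theorem sylow3 [Finite G] (w : W Z K) (ao : AllOne Z K) {M : Subgroup G} (hM : ∀ x ∈ M, x * b = b * x)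
    (t : Tri Z K b u v) (t' : Tri Z K b u' v') (h1 : K u ≤ M) (h2 : K v ≤ M) (h3 : K u' ≤ M) (h4 : K v' ≤ M) :
    ∃ x ∈ M, (x * u' * x⁻¹ = u ∧ x * v' * x⁻¹ = v) ∨ (x * u' * x⁻¹ = v ∧ x * v' * x⁻¹ = u) := by
  haveI : Fact (Nat.Prime 2) := ⟨Nat.prime_two⟩
  have hP : ∀ {u v : G}, u ∈ Z → v ∈ Z → CP K u v → IsPGroup 2 (K u ⊔ K v : Subgroup G) := by
    intro u v hu hv hc
    obtain ⟨S, hS1, hS2⟩ := w.exists_sylow_of_cp hu hv hc
    exact S.isPGroup'.to_le (sup_le hS1.2 hS2.2)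
  obtain ⟨R, hR, hR1⟩ := LB.exists_syl_ge (hP t.ha t.hb t.cab) (sup_le h1 h2)
  obtain ⟨R', hR', hR2⟩ := LB.exists_syl_ge (hP t'.ha t'.hb t'.cab) (sup_le h3 h4)
  obtain ⟨x, hx, h5⟩ := hR'.exists_conj hR
  have hxb := hM x hx
  have hbb : x * b * x⁻¹ = b := by rw [hxb, mul_inv_cancel_right]
  have c1 := cp_conj w t'.hz t'.ha t'.cza x
  have c2 := cp_conj w t'.hz t'.hb t'.czb x
  have c3 := cp_conj w t'.ha t'.hb t'.cab x
  rw [hbb] at c1 c2
  have l1 : K (x * u' * x⁻¹) ≤ R := by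
    rw [w.conjK u' t'.ha, ← h5]
    exact cj_mono x (le_sup_left.trans hR2)
  have l2 : K (x * v' * x⁻¹) ≤ R := by
    rw [w.conjK v' t'.hb, ← h5]
    exact cj_mono x (le_sup_right.trans hR2)
  have key : ∀ y ∈ Z, CP K b y → K y ≤ R → y = u ∨ y = v := by
    intro y hy hby hyR
    by_contra hcon
    push Not at hcon
    have e1 : CP K u y := w.com t.ha hy hR.2.1 (le_sup_left.trans hR1) hyR hcon.1.symm
    have e2 := ao.three b t.hz u t.ha y hy t.cza hby e1
    have e3 := ao.three b t.hz u t.ha v t.hb t.cza t.czb t.cab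
    exact hcon.2 (mul_left_cancel (e2.trans e3.symm))
  refine ⟨x, hx, ?_⟩
  rcases key _ (w.conjZ u' t'.ha x) c1 l1 with k1 | k1
  · rcases key _ (w.conjZ v' t'.hb x) c2 l2 with k2 | k2
    · exact absurd (k1.trans k2.symm) c3.1
    · exact Or.inl ⟨k1, k2⟩
  · rcases key _ (w.conjZ v' t'.hb x) c2 l2 with k2 | k2
    · exact Or.inr ⟨k1, k2⟩
    · exact absurd (k1.trans k2.symm) c3.1

/-- an element of odd order centralising the triple, acting non-trivially on `K b` -/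
theorem tri_rot [Finite G] (w : W Z K) (ao : AllOne Z K) (c3 : ROne.C3 Z K) (t : Tri Z K b z a) :
    ∃ g : G, g * z = z * g ∧ g * a = a * g ∧ g * b = b * g ∧ Odd (orderOf g) ∧ ∃ k ∈ K b, g * k ≠ k * g := by
  obtain ⟨d, hdb, hdo, hdn⟩ := exists_rot w c3 t.hz
  obtain ⟨X, hX⟩ : ∃ X : Subgroup G, X = centralizer (K b : Set G) := ⟨_, rfl⟩
  have hXm : ∀ x ∈ X, ∀ k ∈ K b, k * x = x * k := fun x hx k hk => by
    rw [hX] at hx
    exact mem_centralizer_iff.1 hx k hk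
  have hle : ∀ u, CP K b u → K u ≤ X := fun u hu k hk => by
    rw [hX, mem_centralizer_iff]
    exact fun l hl => hu.2 l hl k hk
  have hbb : d * b * d⁻¹ = b := by rw [hdb, mul_inv_cancel_right]
  have t' : Tri Z K b (d * z * d⁻¹) (d * a * d⁻¹) := by
    have c1 := cp_conj w t.hz t.ha t.cza d
    have c2 := cp_conj w t.hz t.hb t.czb d
    rw [hbb] at c1 c2
    exact ⟨t.hz, w.conjZ z t.ha d, w.conjZ a t.hb d, c1, c2, cp_conj w t.ha t.hb t.cab d⟩
  obtain ⟨x, hx, h1⟩ := sylow3 w ao (M := X) (fun x hx => (hXm x hx b (w.mem b t.hz)).symm) t t' (hle z t.cza)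
    (hle a t.czb) (hle _ t'.cza) (hle _ t'.czb)
  obtain ⟨h, hh⟩ : ∃ h, h = x * d := ⟨_, rfl⟩
  have e1 : ∀ y, h * y * h⁻¹ = x * (d * y * d⁻¹) * x⁻¹ := fun y => by rw [hh]; group
  have hhh : ∀ y, (h * h) * y * (h * h)⁻¹ = h * (h * y * h⁻¹) * h⁻¹ := fun y => by group
  have hz2 : (h * h) * z * (h * h)⁻¹ = z := by
    rw [hhh, e1 z]
    rcases h1 with h1 | h1
    · rw [h1.1, e1 z, h1.1]
    · rw [h1.1, e1 a, h1.2]
  have ha2 : (h * h) * a * (h * h)⁻¹ = a := by
    rw [hhh, e1 a]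
    rcases h1 with h1 | h1
    · rw [h1.2, e1 a, h1.2]
    · rw [h1.2, e1 z, h1.1]
  have hact : ∀ k ∈ K b, h * k * h⁻¹ = d * k * d⁻¹ := by
    intro k hk
    have h2 := w.norm_mem t.hz hdb hk
    rw [e1, ← hXm x hx _ h2, mul_inv_cancel_right]
  have hact2 : ∀ k ∈ K b, (h * h) * k * (h * h)⁻¹ = (d * d) * k * (d * d)⁻¹ := by
    intro k hk
    have h2 := w.norm_mem t.hz hdb hk
    rw [hhh, hact k hk, hact _ h2]
    group
  have hb2 : (h * h) * b * (h * h)⁻¹ = b := by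
    rw [hact2 b (w.mem b t.hz)]
    calc d * d * b * (d * d)⁻¹ = d * (d * b * d⁻¹) * d⁻¹ := by group
      _ = b := by rw [hbb, hbb]
  have hodd : Odd (orderOf (d * d)) := by
    rw [← pow_two]
    exact Odd.of_dvd_nat hdo (orderOf_pow_dvd 2)
  have hne : ∃ k ∈ K b, d * d * k ≠ k * (d * d) := by
    by_contra hcon
    push Not at hcon
    exact hdn fun k hk => comm_of_sq hdo (hcon k hk)
  obtain ⟨m, hm⟩ := exists_odd_pow (h * h)
  obtain ⟨k, hk, hk2⟩ := exists_of_same hodd (fun k hk => by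
    have h2 := w.norm_mem t.hz hdb (w.norm_mem t.hz hdb hk)
    have e : d * d * k * (d * d)⁻¹ = d * (d * k * d⁻¹) * d⁻¹ := by group
    rw [e]
    exact h2) hact2 hne m
  have hpow : ∀ y, (h * h) * y * (h * h)⁻¹ = y → (h * h) ^ 2 ^ m * y = y * (h * h) ^ 2 ^ m := fun y hy =>
    ((show Commute (h * h) y from mul_inv_eq_iff_eq_mul.1 hy).pow_left _).eq
  exact ⟨(h * h) ^ 2 ^ m, hpow z hz2, hpow a ha2, hpow b hb2, hm, k, hk, hk2⟩

/-- the triple is transitive: `z ↦ b` -/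
theorem tri_trans [Finite G] (w : W Z K) (ao : AllOne Z K) (one : OneCls Z) (t : Tri Z K z a b) :
    ∃ h : G, h * z * h⁻¹ = b ∧ ((h * a * h⁻¹ = z ∧ h * b * h⁻¹ = a) ∨ (h * a * h⁻¹ = a ∧ h * b * h⁻¹ = z)) := by
  obtain ⟨g, hg⟩ := one z t.hz b t.hb
  have tb : Tri Z K b z a := ⟨t.hb, t.hz, t.ha, cp_sym t.czb, cp_sym t.cab, t.cza⟩
  have t' : Tri Z K b (g * a * g⁻¹) (g * b * g⁻¹) := by
    have c1 := cp_conj w t.hz t.ha t.cza g
    have c2 := cp_conj w t.hz t.hb t.czb g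
    rw [hg] at c1 c2
    exact ⟨t.hb, w.conjZ a t.ha g, w.conjZ b t.hb g, c1, c2, cp_conj w t.ha t.hb t.cab g⟩
  have hle : ∀ u, CP K b u → K u ≤ centralizer {b} := fun u hu k hk => by
    rw [mem_centralizer_singleton_iff]
    exact (hu.2 b (w.mem b t.hb) k hk).symm
  obtain ⟨x, hx, h1⟩ := sylow3 w ao (M := centralizer {b}) (fun x hx => mem_centralizer_singleton_iff.1 hx) tb t'
    (hle z tb.cza) (hle a tb.czb) (hle _ t'.cza) (hle _ t'.czb)
  have hxb := mem_centralizer_singleton_iff.1 hx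
  have e1 : ∀ y, (x * g) * y * (x * g)⁻¹ = x * (g * y * g⁻¹) * x⁻¹ := fun y => by group
  refine ⟨x * g, ?_, ?_⟩
  · rw [e1, hg, hxb, mul_inv_cancel_right]
  · rw [e1 a, e1 b]
    exact h1

end

end Cfsg.Agent.Cit.Nil.Comp.AO
end

-- part: Cit/Nil/Comp/AO/HRes
section
prune_inst 0x20100448000200000000164000240042000190002f8c01d5000f42068e354000000f20c4a03d03102a2a0c0034006813c400c00010000000000400011901a080aa5002a208010426001f803007580c00000000000000000000000000041004000000000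
set_option linter.all false
open scoped Cfsg.Agent.FastGrp

-- part: Cit/Nil/Comp/AO/Quot
section
/-!
# S1309 (6b), `r = 1`, COMP, AllOne, (M2): quotients, subgroups, `F = 1` (helper61)

* `f1_of` : `F = 1` for a family of members of order 8 without C-pairs in a group with a simple normal subgroup `D`
  with trivial centraliser;
* `W.quot` : the image family; `W.restr` : the family in a subgroup.
-/

set_option autoImplicit false
set_option linter.style.haveILetI false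
set_option linter.unusedSectionVars false

namespace Cfsg.Agent.Cit.Nil.Comp.AO

open Subgroup Cfsg Cfsg.Agent.Cit Cfsg.Agent.Cit.Nil.ROne

section

variable {G : Type*} [Group G] {Z : Set G} {K : G → Subgroup G} {z t u v b : G} {D : Subgroup G}

theorem le_of_relIndex [Finite G] {S P : Subgroup G} (hP : IsPGroup 2 P) (h : ¬ 2 ∣ S.relIndex P) : P ≤ S := by
  haveI : Fact (Nat.Prime 2) := ⟨Nat.prime_two⟩
  obtain ⟨n, hn⟩ := hP.index (S.subgroupOf P)
  rw [relIndex, hn] at h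
  rw [← relIndex_eq_one, relIndex, hn]
  rcases n with _ | n
  · rfl
  · exact absurd (dvd_pow_self 2 (by omega)) h

/-- `|Om(S)| = 1` -/
theorem one_of [Finite G] (w : W Z K) (nc : ∀ z ∈ Z, ∀ u ∈ Z, ¬ CP K z u) : Cit.One (K '' Z) where
  hyp := w.hyp
  one := by
    rintro S hS _ ⟨⟨z, hz, rfl⟩, h1⟩ _ ⟨⟨u, hu, rfl⟩, h2⟩
    by_contra hne
    have h3 := le_of_relIndex (w.two hz) h1
    have h4 := le_of_relIndex (w.two hu) h2
    exact nc z hz u hu (w.com hz hu hS h3 h4 (fun e => hne (by rw [e])))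

theorem nilOm_of [Finite G] (w : W Z K) : NilOm (K '' Z) := by
  rintro _ ⟨z, hz, rfl⟩ Q hQ
  haveI : Fact (Nat.Prime 2) := ⟨Nat.prime_two⟩
  exact (le_of_relIndex (w.two hz) hQ.2.2).trans le_sup_right

theorem perp_of [Finite G] (w : W Z K) (hz : z ∈ Z) (hb : Cen K b z) : OneF.Perp b (K z) :=
  ⟨K z, ⟨le_rfl, w.two hz, by rw [relIndex_self]; omega⟩, hb⟩

/-- **`F = 1`** -/
theorem f1_of [Finite G] (w : W Z K) (nc : ∀ z ∈ Z, ∀ u ∈ Z, ¬ CP K z u) (f : FSimp D) (hD : ∀ z ∈ Z, z ∈ D)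
    (h71 : oddCore G = ⊥ → OneF.H1171 G) (h73 : oddCore G = ⊥ → OneF.H1173 G) (hz : z ∈ Z) (ht : t ∈ Z)
    (hne : z ≠ t) (hc : z * t = t * z) (hb : IsPGroup 2 (zpowers b)) (h1 : Cen K b z) (h2 : Cen K b t) : b = 1 := by
  haveI : Fact (Nat.Prime 2) := ⟨Nat.prime_two⟩
  have hle : ∀ N : Subgroup G, N.Normal → N ≠ ⊥ → D ≤ N := fun N hN h3 =>
    f.le (fun g _ n hn => hN.conj_mem n hn g) h3
  have hO : oddCore G = ⊥ := by
    by_contra h3
    have h4 := hle (oddCore G) (Lib.Cores.pPrimeCore_normal 2) h3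
    have h5 : 2 ∣ Nat.card D := by
      rw [← w.ord hz, ← Subgroup.orderOf_mk z (hD z hz)]
      exact orderOf_dvd_natCard _
    have h6 := h5.trans (card_dvd_of_le h4)
    exact (Nat.Prime.coprime_iff_not_dvd Nat.prime_two).1 (Lib.Cores.pPrimeCore_coprime 2).symm h6
  have hone := one_of w nc
  refine OneF.eq_one_of_WW_nil hone (Nil.l1_nil hone (nilOm_of w)) (h73 hO) (h71 hO) hO ?_ hb ?_
  · intro N hN h3
    rw [eq_bot_iff, ← f.cen]
    exact centralizer_le (hle N hN h3)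
  · refine ⟨K z, ⟨z, hz, rfl⟩, K t, ⟨t, ht, rfl⟩, fun e => hne (w.K_inj hz ht e), ?_, perp_of w hz h1, perp_of w ht h2⟩
    rw [w.zz_K hz, w.zz_K ht]
    exact hc

end

/-! ### Quotients -/

section quot

variable {H Y : Type*} [Group H] [Group Y] {φ : H →* Y} {Z : Set H} {K : H → Subgroup H} {u v x k : H}

open Classical in
/-- the image family -/
noncomputable def Kq (φ : H →* Y) (Z : Set H) (K : H → Subgroup H) (y : Y) : Subgroup Y :=
  if h : ∃ u ∈ Z, φ u = y then (K h.choose).map φ else ⊥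

/-- a homomorphism injective on the members -/
structure QH (φ : H →* Y) (Z : Set H) (K : H → Subgroup H) : Prop where
  w : W Z K
  surj : Function.Surjective φ
  inj : ∀ u ∈ Z, ∀ k ∈ K u, φ k = 1 → k = 1
  uq : ∀ u ∈ Z, ∀ v ∈ Z, φ u = φ v → u = v

namespace QH

variable (q : QH φ Z K)

include q

theorem Kq_eq (hu : u ∈ Z) : Kq φ Z K (φ u) = (K u).map φ := by
  have h : ∃ v ∈ Z, φ v = φ u := ⟨u, hu, rfl⟩
  rw [Kq, dif_pos h]
  have h1 := h.choose_spec
  rw [q.uq _ h1.1 u hu h1.2]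

theorem inf_ker (hu : u ∈ Z) : K u ⊓ φ.ker = ⊥ := by
  rw [eq_bot_iff]
  rintro k ⟨hk, hk'⟩
  exact q.inj u hu k hk hk'

/-- the image family -/
theorem wq : W (φ '' Z) (Kq φ Z K) where
  sq := by
    rintro _ ⟨u, hu, rfl⟩
    rw [← map_mul, q.w.sq u hu, map_one]
  ne := by
    rintro _ ⟨u, hu, rfl⟩ h1
    exact q.w.ne u hu (q.inj u hu u (q.w.mem u hu) h1)
  mem := by
    rintro _ ⟨u, hu, rfl⟩
    rw [q.Kq_eq hu]
    exact ⟨u, q.w.mem u hu, rfl⟩
  conjZ := by
    rintro _ ⟨u, hu, rfl⟩ g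
    obtain ⟨x, rfl⟩ := q.surj g
    exact ⟨x * u * x⁻¹, q.w.conjZ u hu x, by rw [map_mul, map_mul, map_inv]⟩
  conjK := by
    rintro _ ⟨u, hu, rfl⟩ g
    obtain ⟨x, rfl⟩ := q.surj g
    have e : φ x * φ u * (φ x)⁻¹ = φ (x * u * x⁻¹) := by rw [map_mul, map_mul, map_inv]
    rw [e, q.Kq_eq (q.w.conjZ u hu x), q.Kq_eq hu, q.w.conjK u hu, cj_map]
  q8 := by
    rintro _ ⟨u, hu, rfl⟩
    obtain ⟨e⟩ := q.w.q8 u hu
    rw [q.Kq_eq hu]
    exact ⟨(QuoCen.equivMap (q.inf_ker hu)).symm.trans e⟩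

theorem comm (hv : v ∈ Z) (h1 : φ x * φ v = φ v * φ x) : x * v = v * x := by
  have h2 : φ (x * v * x⁻¹) = φ v := by
    rw [map_mul, map_mul, map_inv, h1, mul_inv_cancel_right]
  exact mul_inv_eq_iff_eq_mul.1 (q.uq _ (q.w.conjZ v hv x) v hv h2)

theorem cen (hu : u ∈ Z) (h1 : Cen (Kq φ Z K) (φ x) (φ u)) : Cen K x u := by
  have hxu : x * u = u * x := q.comm hu (h1 _ ((q.wq).mem _ ⟨u, hu, rfl⟩))
  intro k hk
  have h2 : φ x * φ k = φ k * φ x := h1 _ (by rw [q.Kq_eq hu]; exact ⟨k, hk, rfl⟩)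
  have h3 : x * k * x⁻¹ * k⁻¹ ∈ K u := mul_mem (q.w.norm_mem hu hxu hk) (inv_mem hk)
  have h4 := q.inj u hu _ h3 (by
    rw [map_mul, map_mul, map_mul, map_inv, map_inv, h2, mul_inv_cancel_right, mul_inv_cancel])
  rw [mul_inv_eq_one] at h4
  exact mul_inv_eq_iff_eq_mul.1 h4

theorem cen' (hu : u ∈ Z) (h1 : Cen K x u) : Cen (Kq φ Z K) (φ x) (φ u) := by
  intro k hk
  rw [q.Kq_eq hu] at hk
  obtain ⟨k, hk, rfl⟩ := hk
  rw [← map_mul, h1 k hk, map_mul]

/-- no C-pairs in the image -/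
theorem nc (h : ∀ u ∈ Z, ∀ v ∈ Z, ¬ CP K u v) : ∀ u ∈ φ '' Z, ∀ v ∈ φ '' Z, ¬ CP (Kq φ Z K) u v := by
  rintro _ ⟨u, hu, rfl⟩ _ ⟨v, hv, rfl⟩ ⟨hne, hc⟩
  apply h u hu v hv
  refine q.w.csymm hu hv (fun e => hne (by rw [e])) (q.cen hu ?_)
  intro k hk
  exact (hc k hk _ (q.wq.mem _ ⟨v, hv, rfl⟩)).symm

end QH

end quot

/-! ### Subgroups -/

section restr

variable {G : Type*} [Group G] {Z : Set G} {K : G → Subgroup G} {H : Subgroup G} {A : Set G}

/-- the elements of `A` in `H` -/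
def Zr (H : Subgroup G) (A : Set G) : Set H := {u | (u : G) ∈ A}

/-- the members in `H` -/
def Kr (H : Subgroup G) (K : G → Subgroup G) (u : H) : Subgroup H := (K u).subgroupOf H

theorem mem_Kr {u k : H} : k ∈ Kr H K u ↔ (k : G) ∈ K u := Iff.rfl

theorem wr (w : W Z K) (hA : A ⊆ Z) (hle : ∀ u ∈ A, K u ≤ H) (hinv : ∀ u ∈ A, ∀ g ∈ H, g * u * g⁻¹ ∈ A) :
    W (Zr H A) (Kr H K) where
  sq u hu := Subtype.ext (w.sq u (hA hu))
  ne u hu h := w.ne u (hA hu) (congrArg Subtype.val h)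
  mem u hu := w.mem u (hA hu)
  conjZ u hu g := hinv u hu g g.2
  conjK u hu g := by
    ext x
    rw [mem_Kr, mem_cj, mem_Kr]
    have e : ((g * u * g⁻¹ : H) : G) = g * u * (g : G)⁻¹ := rfl
    rw [e, w.conjK u (hA hu), mem_cj]
    rfl
  q8 u hu := by
    obtain ⟨e⟩ := w.q8 u (hA hu)
    exact ⟨(subgroupOfEquivOfLe (hle u hu)).trans e⟩

theorem cen_r (hle : ∀ u ∈ A, K u ≤ H) {x u : H} (hu : u ∈ Zr H A) : Cen (Kr H K) x u ↔ Cen K (x : G) (u : G) := by
  constructor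
  · intro h k hk
    exact congrArg Subtype.val (h ⟨k, hle u hu hk⟩ hk)
  · intro h k hk
    exact Subtype.ext (h k hk)

theorem cp_r (hle : ∀ u ∈ A, K u ≤ H) {u v : H} (hu : u ∈ Zr H A) (hv : v ∈ Zr H A) :
    CP (Kr H K) u v ↔ CP K (u : G) (v : G) := by
  constructor
  · rintro ⟨h1, h2⟩
    exact ⟨fun h => h1 (Subtype.ext h), fun a ha b hb =>
      congrArg Subtype.val (h2 ⟨a, hle u hu ha⟩ ha ⟨b, hle v hv hb⟩ hb)⟩
  · rintro ⟨h1, h2⟩
    exact ⟨fun h => h1 (congrArg Subtype.val h), fun a ha b hb => Subtype.ext (h2 a ha b hb)⟩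

end restr

end Cfsg.Agent.Cit.Nil.Comp.AO
end

-- part: Cit/Nil/Comp/AO/HWorld
section
/-!
# S1309 (6b), `r = 1`, COMP, AllOne, (M2): a class of members in `H` (= `C(z)`) (helper61)

`HW Z K` : no C-pairs, the non-commuting graph is connected, no element of `Z` in `O₂(H)`, `O(H) = 1`.
`BG Z K` : the group generated by the members; `HW.exists_lc` : its component `L`: `LC Z K L`.
-/

set_option autoImplicit false
set_option linter.style.haveILetI false
set_option linter.unusedSectionVars false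

namespace Cfsg.Agent.Cit.Nil.Comp.AO

open Subgroup Cfsg Cfsg.Agent.Cit Cfsg.Agent.Cit.Nil.ROne Nil.IndDefs

universe u

section

variable {H : Type u} [Group H] {Z : Set H} {K : H → Subgroup H}

/-- the group generated by the members -/
def BG (Z : Set H) (K : H → Subgroup H) : Subgroup H := closure {k | ∃ z ∈ Z, k ∈ K z}

/-- see the head of the file -/
structure HW (Z : Set H) (K : H → Subgroup H) : Prop where
  w : W Z K
  core : pPrimeCore 2 H = ⊥
  nc : ∀ z ∈ Z, ∀ u ∈ Z, ¬ CP K z u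
  conn : ∀ z ∈ Z, ∀ u ∈ Z, Relation.ReflTransGen (fun a b => a ∈ Z ∧ b ∈ Z ∧ ¬ IndDefs.Cm (K a) (K b)) z u
  nn : ∀ z ∈ Z, z ∉ pCore 2 H
  ne : Z.Nonempty

/-- the component of `BG` -/
structure LC (Z : Set H) (K : H → Subgroup H) (L : Subgroup H) : Prop where
  nor : L.Normal
  le : L ≤ BG Z K
  mem : ∀ z ∈ Z, z ∈ L
  qs : IsQuasisimple L
  cenB : ∀ x ∈ BG Z K, (∀ l ∈ L, x * l = l * x) → ∀ b ∈ BG Z K, x * b = b * x
  ncen : ∀ z ∈ Z, ∃ b ∈ BG Z K, z * b ≠ b * z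
  p2 : pCore 2 ↥(BG Z K) = center ↥(BG Z K)

theorem le_BG {z : H} (hz : z ∈ Z) : K z ≤ BG Z K := fun _ hk => subset_closure ⟨z, hz, hk⟩

theorem BG_le {N : Subgroup H} (h : ∀ z ∈ Z, K z ≤ N) : BG Z K ≤ N := (closure_le _).2 fun _ ⟨z, hz, hk⟩ => h z hz hk

theorem BG_normal (w : W Z K) : (BG Z K).Normal := by
  refine ⟨fun x hx g => ?_⟩
  have h1 : BG Z K ≤ (BG Z K).comap (MulAut.conj g).toMonoidHom := BG_le fun z hz k hk => by
    change g * k * g⁻¹ ∈ BG Z K
    exact le_BG (w.conjZ z hz g) (w.conj_mem_K hz g hk)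
  exact h1 hx

variable [Finite H]

/-- the family in `BG` -/
theorem mem_restr_BG {A : Subgroup ↥(BG Z K)} (hA : A ∈ restr (K '' Z) (BG Z K)) : ∃ z ∈ Z, A = (K z).subgroupOf (BG Z K) := by
  obtain ⟨z, hz, h1⟩ := mem_restr.1 hA
  refine ⟨z, hz, ?_⟩
  rw [h1, subgroupOf, comap_map_eq_self_of_injective (BG Z K).subtype_injective]

theorem restr_mem {z : H} (hz : z ∈ Z) : (K z).subgroupOf (BG Z K) ∈ restr (K '' Z) (BG Z K) :=
  subgroupOf_mem_restr ⟨z, hz, rfl⟩ (le_BG hz)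

variable (h : HW Z K)

include h

theorem HW.t0 : T0 (restr (K '' Z) (BG Z K)) where
  hyp := h.w.hyp.restr _
  card := by
    intro A hA
    obtain ⟨z, hz, rfl⟩ := mem_restr_BG hA
    rw [Nat.card_congr (subgroupOfEquivOfLe (le_BG hz)).toEquiv]
    exact h.w.card8 hz
  core := by
    have h3 := Lib.PComponents.map_pPrimeCore_le_of_isSubnormal (p := 2) (BG_normal h.w).isSubnormal
    rw [h.core, le_bot_iff, Subgroup.map_eq_bot_iff_of_injective _ (Subgroup.subtype_injective _)] at h3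
    exact h3

theorem HW.top : sSup (restr (K '' Z) (BG Z K)) = ⊤ := by
  have h1 : BG Z K ≤ (sSup (restr (K '' Z) (BG Z K))).map (BG Z K).subtype := BG_le fun z hz k hk =>
    ⟨⟨k, le_BG hz hk⟩, le_sSup (restr_mem hz) hk, rfl⟩
  rw [eq_top_iff]
  intro x _
  obtain ⟨y, hy, hyx⟩ := h1 x.2
  have : y = x := Subtype.ext hyx
  rwa [← this]

theorem HW.conn' : ∀ A ∈ restr (K '' Z) (BG Z K), ∀ C ∈ restr (K '' Z) (BG Z K), C ∈ comp (restr (K '' Z) (BG Z K)) A := by
  intro A hA C hC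
  obtain ⟨z, hz, rfl⟩ := mem_restr_BG hA
  obtain ⟨u, hu, rfl⟩ := mem_restr_BG hC
  have h1 := h.conn z hz u hu
  clear hA hC hu
  induction h1 with
  | refl => exact mem_comp_self
  | tail h2 h3 ih =>
    refine Relation.ReflTransGen.tail ih ⟨restr_mem h3.1, restr_mem h3.2.1, fun h4 => h3.2.2 ?_⟩
    have h5 := Ind.SubB.cm_map_iff.2 h4
    rwa [map_subgroupOf_eq_of_le (le_BG h3.1), map_subgroupOf_eq_of_le (le_BG h3.2.1)] at h5

theorem HW.zz_r {z : H} (hz : z ∈ Z) : ((zz ((K z).subgroupOf (BG Z K)) : ↥(BG Z K)) : H) = z := by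
  rw [zz_map h.w.hyp (restr_mem hz), map_subgroupOf_eq_of_le (le_BG hz), h.w.zz_K hz]

theorem HW.exists_lc (hev : ∀ (G : Type u) [Group G] [Finite G], Comp.EvQ G) : ∃ L, LC Z K L := by
  haveI : Fact (Nat.Prime 2) := ⟨Nat.prime_two⟩
  haveI hBn : (BG Z K).Normal := BG_normal h.w
  obtain ⟨z0, hz0⟩ := h.ne
  have hN : ¬ NIL ((K z0).subgroupOf (BG Z K)) := by
    intro h1
    apply h.nn z0 hz0
    have h2 : (pCore 2 ↥(BG Z K)).map (BG Z K).subtype ≤ pCore 2 H := by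
      refine Lib.Cores.le_pCore ?_ ?_
      · haveI := Lib.Cores.pCore_characteristic (G := ↥(BG Z K)) 2
        infer_instance
      · exact (Lib.Cores.pCore_isPGroup 2).map _
    have h3 : ((zz ((K z0).subgroupOf (BG Z K)) : ↥(BG Z K)) : H) ∈ pCore 2 H := h2 ⟨_, h1, rfl⟩
    rwa [h.zz_r hz0] at h3
  obtain ⟨hZ, L, hL, hLn, huni, hzL, hzc⟩ := Ind.Red.exists_comp h.t0 h.top h.conn' (hev _) (hev _) (restr_mem hz0) hN
  have hCL : centralizer (L : Set ↥(BG Z K)) = center ↥(BG Z K) := Ind.centralizer_eq huni h.t0.core hZ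
  refine ⟨L.map (BG Z K).subtype, ?_, map_subtype_le _, ?_, ?_, ?_, ?_, hZ⟩
  · refine ⟨fun x hx g => ?_⟩
    obtain ⟨l, hl, rfl⟩ := hx
    have h1 := SignalizersComponents.Components.isComponent_map_equiv (MulAut.conjNormal g : MulAut ↥(BG Z K)) hL
    have h2 := huni _ h1
    refine ⟨MulAut.conjNormal g l, ?_, rfl⟩
    rw [← h2]
    exact ⟨l, hl, rfl⟩
  · intro z hz
    exact ⟨_, hzL _ (restr_mem hz), h.zz_r hz⟩
  · exact SignalizersComponents.ComponentNormalize.quasisimple_congr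
      (L.equivMapOfInjective (BG Z K).subtype (BG Z K).subtype_injective) hL.2
  · intro x hx h1 b hb
    have h2 : (⟨x, hx⟩ : ↥(BG Z K)) ∈ centralizer (L : Set ↥(BG Z K)) := by
      rw [mem_centralizer_iff]
      intro l hl
      exact Subtype.ext (h1 l ⟨l, hl, rfl⟩).symm
    rw [hCL, mem_center_iff] at h2
    exact (congrArg Subtype.val (h2 ⟨b, hb⟩)).symm
  · intro z hz
    by_contra hcon
    push Not at hcon
    apply hzc _ (restr_mem hz)
    rw [mem_center_iff]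
    intro b
    refine Subtype.ext ?_
    have h1 := hcon b b.2
    have h2 := h.zz_r hz
    change (b : H) * ((zz ((K z).subgroupOf (BG Z K)) : ↥(BG Z K)) : H) = _ * (b : H)
    rw [h2]
    exact h1.symm

end

end Cfsg.Agent.Cit.Nil.Comp.AO
end

-- part: Cit/Nil/Comp/AO/InvTI
section
/-!
# S1309 (6b), `r = 1`, COMP, AllOne, (M2): 2-subgroups of `C(K z)`, type I (helper61)

* `OW.p3`, `OW.no_inv` : an involution centralising `K z` and an N-partner `t` of `z` is `z`;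
* `TC` : a type I pair `(z, t)`, `t = w r`; `TC.cP` : `C_P(r) = ⟨r⟩`; `TC.scal`; `TC.sig` : elements of `P` inverting `r`
  have square `z`; `TC.struct` : a `g`-invariant 2-subgroup `P ∋ r` of `C(K z)` is `⟨r⟩` or `⟨r, σ⟩`, a quaternion group.
-/

set_option autoImplicit false
set_option linter.style.haveILetI false
set_option linter.unusedSectionVars false

namespace Cfsg.Agent.Cit.Nil.Comp.AO

open Subgroup Cfsg Cfsg.Agent.Cit Cfsg.Agent.Cit.Nil.ROne

variable {G : Type*} [Group G] {Z : Set G} {K : G → Subgroup G} {z t u v w g b p r x y k l m σ : G}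

theorem isPGroup_of_sq (hbb : b * b = 1) : IsPGroup 2 (zpowers b) := by
  haveI : Fact (Nat.Prime 2) := ⟨Nat.prime_two⟩
  rw [IsPGroup]
  rintro ⟨_, n, rfl⟩
  refine ⟨1, Subtype.ext ?_⟩
  change ((fun x : ℤ => b ^ x) n) ^ 2 ^ 1 = 1
  change (b ^ n) ^ 2 ^ 1 = 1
  rw [pow_one, ← zpow_natCast, ← zpow_mul, mul_comm, zpow_mul]
  have h1 : b ^ ((2 : ℕ) : ℤ) = 1 := by rw [zpow_natCast, pow_two]; exact hbb
  rw [h1, one_zpow]

theorem isPGroup_zp {P : Subgroup G} (hP : IsPGroup 2 P) (hp : p ∈ P) : IsPGroup 2 (zpowers p) :=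
  hP.to_le (zpowers_le.2 hp)

section W

variable (h : W Z K)

include h

/-- two axes generate `K u` -/
theorem cen_of_two (hu : u ∈ Z) (hk : k ∈ K u) (hkk : k * k = u) (hl : l ∈ K u) (hll : l * l = u) (h1 : l ≠ k)
    (h2 : l ≠ k⁻¹) (hxk : x * k = k * x) (hxl : x * l = l * x) : Cen K x u := by
  intro m hm
  have hxu : x * u = u * x := by rw [← hkk, ← mul_assoc, hxk, mul_assoc, hxk, ← mul_assoc]
  have inv : ∀ {m : G}, x * m = m * x → x * m⁻¹ = m⁻¹ * x := fun {m} hm => ((show Commute x m from hm).inv_right).eq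
  by_cases e1 : m = 1
  · rw [e1, mul_one, one_mul]
  by_cases e2 : m = u
  · rw [e2]; exact hxu
  have hmm := h.sq_eq hu hm e1 e2
  by_cases e3 : m = k
  · rw [e3]; exact hxk
  by_cases e4 : m = k⁻¹
  · rw [e4]; exact inv hxk
  by_cases e5 : m = l
  · rw [e5]; exact hxl
  by_cases e6 : m = l⁻¹
  · rw [e6]; exact inv hxl
  have hkl : x * (k * l) = k * l * x := by rw [← mul_assoc, hxk, mul_assoc, hxl, ← mul_assoc]
  rcases third_axis h hu hk hkk hl hll h1 h2 hm hmm e3 e4 e5 e6 with e | e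
  · rw [e]; exact hkl
  · rw [e]; exact inv hkl

theorem sq_ne_inv (hu : u ∈ Z) (hkk : k * k = u) : k ≠ k⁻¹ := by
  intro e
  apply h.ne u hu
  rw [← hkk]
  nth_rewrite 1 [e]
  exact inv_mul_cancel k

theorem inv_eq (hu : u ∈ Z) (hkk : k * k = u) : k⁻¹ = u * k := by
  rw [inv_eq_iff_mul_eq_one, ← hkk]
  calc k * (k * k * k) = (k * k) * (k * k) := by group
    _ = 1 := by rw [hkk, h.sq u hu]

theorem not_cen_four (hu : u ∈ Z) (hk : k ∈ K u) (hkk : k * k = u) : ¬ Cen K k u := by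
  intro hc
  obtain ⟨c, hcK, hcc, -, -, h1, -⟩ := h.exists_inv hu hk hkk
  rw [hc c hcK, mul_inv_cancel_right] at h1
  exact sq_ne_inv h hu hcc h1

end W

namespace OW

variable (o : OW Z K)

include o

theorem np (hz : z ∈ Z) (ht : t ∈ Z) (hne : z ≠ t) (hc : z * t = t * z) : NP K z t := ⟨hne, hc, o.nc z hz t ht⟩

theorem not_cen (hz : z ∈ Z) (ht : t ∈ Z) (hne : z ≠ t) : ¬ Cen K t z := fun hc =>
  o.nc z hz t ht (o.w.csymm hz ht hne hc)

/-- the product of commuting elements of `Z` -/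
theorem mulZ (hz : z ∈ Z) (ht : t ∈ Z) (hne : z ≠ t) (hc : z * t = t * z) : z * t ∈ Z :=
  o.w.mul_mem_of_np hz ht (o.np hz ht hne hc)

/-- (P3) -/
theorem p3 (hz : z ∈ Z) (ht : t ∈ Z) (hne : z ≠ t) (hc : z * t = t * z) (hb : Cen K b z) (hbt : b * t = t * b)
    (hbb : b * b = 1) : Cen K b t ∨ Cen K (b * z) t := by
  have hn := o.np hz ht hne hc
  obtain ⟨c, hcK, hcc, -, hcz, -⟩ := o.w.flip ht hz hn.symm
  obtain ⟨f, hfK, hff, -, -, hft⟩ := o.w.flip hz ht hn
  have hbz : b * z = z * b := hb z (o.w.mem z hz)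
  have hct : c * t = t * c := o.w.cent ht hcK
  have hbf : b * f = f * b := hb f hfK
  have hfz : f * z = z * f := o.w.cent hz hfK
  have htz : t * z ∈ Z := o.mulZ ht hz hne.symm hc.symm
  obtain ⟨k, hk⟩ : ∃ k, k = b⁻¹ * (c * b * c⁻¹) := ⟨_, rfl⟩
  have hkK : k ∈ K t := by
    have e : k = (b⁻¹ * c * b) * c⁻¹ := by rw [hk]; group
    rw [e]
    exact mul_mem (o.w.norm_mem' ht hbt hcK) (inv_mem hcK)
  have hbk : b * k = c * b * c⁻¹ := by rw [hk]; group
  -- `b k` centralises `K (t z)`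
  have h1 : Cen K (c * b * c⁻¹) (t * z) := by
    have h2 := o.w.cen_conj hz c hb
    rwa [hcz] at h2
  have h2 : c * b * c⁻¹ * (t * z) = t * z * (c * b * c⁻¹) := h1 _ (o.w.mem _ htz)
  have h3 : c * b * c⁻¹ * t = t * (c * b * c⁻¹) := by
    have q1 : Commute t c := hct.symm
    have q2 : Commute t b := hbt.symm
    exact ((q1.mul_right q2).mul_right q1.inv_right).eq.symm
  have h4 : c * b * c⁻¹ * z = z * (c * b * c⁻¹) := by
    have q1 : Commute (c * b * c⁻¹) (t * z) := h2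
    have q2 : Commute (c * b * c⁻¹) t := h3
    have q3 := q2.inv_right.mul_right q1
    rw [← mul_assoc, inv_mul_cancel, one_mul] at q3
    exact q3
  have hkz : k * z = z * k := by
    have q1 : Commute z b := hbz.symm
    have q2 : Commute z (c * b * c⁻¹) := h4.symm
    rw [hk]
    exact (q1.inv_right.mul_right q2).eq.symm
  -- conjugation by `f⁻¹`
  have h5 : Cen K (b * (f⁻¹ * k * f)) t := by
    have h6 := o.w.cen_conj htz f⁻¹ h1
    have e1 : f⁻¹ * (t * z) * f⁻¹⁻¹ = t := by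
      have : f⁻¹ * (t * z) * f⁻¹⁻¹ = (f⁻¹ * t * f) * (f⁻¹ * (z * f)) := by group
      rw [this, hft, ← hfz]
      calc z * t * (f⁻¹ * (f * z)) = z * (t * z) := by group
        _ = z * z * t := by rw [← hc]; group
        _ = t := by rw [o.w.sq z hz, one_mul]
    have e2 : f⁻¹ * (c * b * c⁻¹) * f⁻¹⁻¹ = b * (f⁻¹ * k * f) := by
      rw [← hbk]
      calc f⁻¹ * (b * k) * f⁻¹⁻¹ = (f⁻¹ * b) * k * f := by group
        _ = (b * f⁻¹) * k * f := by rw [((show Commute b f from hbf).inv_right).eq]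
        _ = b * (f⁻¹ * k * f) := by group
    rwa [e1, e2] at h6
  by_cases e1 : k = 1
  · left
    rw [e1] at h5
    have e : b * (f⁻¹ * 1 * f) = b := by group
    rwa [e] at h5
  by_cases e2 : k = t
  · right
    rw [e2, hft] at h5
    have h6 : Cen K t⁻¹ t := (o.w.cen_iff ht ht).2 (Or.inl rfl) |>.inv
    have h7 := h5.mul h6
    have e : b * (z * t) * t⁻¹ = b * z := by group
    rwa [e] at h7
  · exfalso
    have hkk := o.w.sq_eq ht hkK e1 e2
    apply o.not_cen hz ht hne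
    intro q hq
    have hkq : k * q * k⁻¹ ∈ K z := o.w.norm_mem hz hkz hq
    have h6 : b * k * (b * k) = 1 := by
      rw [hbk]
      calc c * b * c⁻¹ * (c * b * c⁻¹) = c * (b * b) * c⁻¹ := by group
        _ = 1 := by rw [hbb]; group
    have h7 : ∀ q ∈ K z, b * k * q * (b * k)⁻¹ = k * q * k⁻¹ := by
      intro q hq
      calc b * k * q * (b * k)⁻¹ = (b * (k * q * k⁻¹)) * b⁻¹ := by group
        _ = k * q * k⁻¹ := by rw [hb _ (o.w.norm_mem hz hkz hq)]; group
    have h8 : q = t * q * t⁻¹ := by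
      calc q = (b * k * (b * k)) * q * (b * k * (b * k))⁻¹ := by rw [h6]; group
        _ = b * k * (b * k * q * (b * k)⁻¹) * (b * k)⁻¹ := by group
        _ = k * (k * q * k⁻¹) * k⁻¹ := by rw [h7 q hq, h7 _ hkq]
        _ = (k * k) * q * (k * k)⁻¹ := by group
        _ = t * q * t⁻¹ := by rw [hkk]
    rw [eq_mul_inv_iff_mul_eq] at h8
    exact h8.symm

/-- an involution centralising `K z` and `t` is `z` -/
theorem no_inv (hz : z ∈ Z) (ht : t ∈ Z) (hne : z ≠ t) (hc : z * t = t * z) (hb : Cen K b z) (hbt : b * t = t * b)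
    (hbb : b * b = 1) : b = 1 ∨ b = z := by
  rcases o.p3 hz ht hne hc hb hbt hbb with h1 | h1
  · exact Or.inl (o.f1 z hz t ht hne hc b (isPGroup_of_sq hbb) hb h1)
  · right
    have hbz : b * z = z * b := hb z (o.w.mem z hz)
    have h2 : Cen K z z := (o.w.cen_iff hz hz).2 (Or.inl rfl)
    have h3 : b * z * (b * z) = 1 := by
      calc b * z * (b * z) = b * (z * b) * z := by group
        _ = (b * b) * (z * z) := by rw [← hbz]; group
        _ = 1 := by rw [hbb, o.w.sq z hz, one_mul]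
    have h4 := o.f1 z hz t ht hne hc (b * z) (isPGroup_of_sq h3) (hb.mul h2) h1
    rw [mul_eq_one_iff_eq_inv, o.w.inv hz] at h4
    exact h4

end OW

/-- a type I pair -/
structure TC (Z : Set G) (K : G → Subgroup G) (z t w g : G) : Prop where
  o : OW Z K
  hz : z ∈ Z
  ht : t ∈ Z
  ne : z ≠ t
  c : z * t = t * z
  hw : Inn K t z w
  hg : Inn K z t g

namespace TC

variable (T : TC Z K z t w g)

include T

theorem wt : w * t = t * w := (T.o.w.comm_of_inn T.hw).symm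

theorem gz : g * z = z * g := (T.o.w.comm_of_inn T.hg).symm

theorem gw : g * w = w * g := by
  have h1 := (T.o.w.ti_act T.hz T.hw T.hg.sq T.gz).1
  exact mul_inv_eq_iff_eq_mul.1 h1

theorem wz : w * z = z * w := T.o.w.cent T.hz T.hw.mem

theorem gt : g * t = t * g := T.o.w.cent T.ht T.hg.mem

/-- `r = w⁻¹ t` centralises `K z` -/
theorem r_cen : Cen K (w⁻¹ * t) z := by
  intro k hk
  have h1 := T.hw.act k hk
  calc w⁻¹ * t * k = w⁻¹ * (t * k * t⁻¹) * t := by group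
    _ = k * (w⁻¹ * t) := by rw [h1]; group

theorem r_sq : w⁻¹ * t * (w⁻¹ * t) = z := by
  calc w⁻¹ * t * (w⁻¹ * t) = w⁻¹ * (t * w⁻¹) * t := by group
    _ = w⁻¹ * (w⁻¹ * t) * t := by rw [((show Commute t w from T.wt.symm).inv_right).eq]
    _ = (w * w)⁻¹ * (t * t) := by group
    _ = z := by rw [T.hw.sq, T.o.w.sq t T.ht, mul_one, T.o.w.inv T.hz]

theorem r_g : g * (w⁻¹ * t) = w⁻¹ * t * g := by
  have q1 : Commute g w := T.gw
  have q2 : Commute g t := T.gt
  exact (q1.inv_right.mul_right q2).eq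

/-- the elements of order 4 of `K t` commuting with `z` -/
theorem eq_g (hx : x ∈ K t) (hxx : x * x = t) (hxz : x * z = z * x) : x = g ∨ x = g⁻¹ := by
  by_contra hcon
  push Not at hcon
  have h1 := T.o.w.inv_of_ne T.ht T.hg.mem T.hg.sq hx hxx hcon.1 hcon.2
  have h2 := T.hg.act x hx
  rw [h1, ← hxz, mul_inv_cancel_right] at h2
  exact sq_ne_inv T.o.w T.ht hxx h2

theorem conj_g (hxt : x * t = t * x) (hxz : x * z = z * x) : x * g * x⁻¹ = g ∨ x * g * x⁻¹ = g⁻¹ := by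
  refine T.eq_g (T.o.w.norm_mem T.ht hxt T.hg.mem) ?_ ?_
  · calc x * g * x⁻¹ * (x * g * x⁻¹) = x * (g * g) * x⁻¹ := by group
      _ = t := by rw [T.hg.sq, hxt, mul_inv_cancel_right]
  · have q1 : Commute z x := hxz.symm
    have q2 : Commute z g := T.gz.symm
    exact ((q1.mul_right q2).mul_right q1.inv_right).eq.symm

/-- **`C_P(r) = ⟨r⟩`** -/
theorem cP {P : Subgroup G} (hP : IsPGroup 2 P) (hr : r = w⁻¹ * t) (hrP : r ∈ P) (hpP : p ∈ P) (hp : Cen K p z)
    (hpr : p * r = r * p) : p = 1 ∨ p = z ∨ p = r ∨ p = r * z := by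
  obtain ⟨o, hz, ht, hne, hc, hw, hg⟩ := id T
  have hcr : Cen K r z := by rw [hr]; exact T.r_cen
  have hrz : r * z = z * r := hcr z (o.w.mem z hz)
  have hpz : p * z = z * p := hp z (o.w.mem z hz)
  have htr : t = w * r := by rw [hr]; group
  have hpt : p * t = t * p := by
    have q1 : Commute p w := hp w hw.mem
    have q2 : Commute p r := hpr
    rw [htr]
    exact (q1.mul_right q2).eq
  have hrt : r * t = t * r := by
    have q1 : Commute r w := hcr w hw.mem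
    rw [htr]
    exact (q1.mul_right (Commute.refl r)).eq
  obtain ⟨j, hj, hjj, hj1, hj2, hgj, hjg⟩ := o.w.exists_inv ht hg.mem hg.sq
  -- axes
  have sqc : ∀ {x y : G}, x * t = t * x → y * y = t → x * y * x⁻¹ * (x * y * x⁻¹) = t := by
    intro x y hx hy
    calc x * y * x⁻¹ * (x * y * x⁻¹) = x * (y * y) * x⁻¹ := by group
      _ = t := by rw [hy, hx, mul_inv_cancel_right]
  have ginv : ∀ {x : G}, x * t = t * x → x * z = z * x → x * j * x⁻¹ ≠ g ∧ x * j * x⁻¹ ≠ g⁻¹ := by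
    intro x hx hxz
    have h1 := T.conj_g hx hxz
    have e : ∀ {y y' : G}, x * y * x⁻¹ = x * y' * x⁻¹ → y = y' := fun h => mul_left_cancel (mul_right_cancel h)
    have e' : x * g⁻¹ * x⁻¹ = (x * g * x⁻¹)⁻¹ := by group
    rcases h1 with h1 | h1
    · refine ⟨fun h2 => hj1 (e (h2.trans h1.symm)), fun h2 => hj2 (e ?_)⟩
      rw [e', h1]; exact h2
    · refine ⟨fun h2 => hj2 (e ?_), fun h2 => hj1 (e (h2.trans h1.symm))⟩
      rw [e', h1, inv_inv]; exact h2
  -- `r` moves the axis of `j`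
  have hrj : r * j * r⁻¹ ≠ j ∧ r * j * r⁻¹ ≠ j⁻¹ := by
    have h1 := (o.w.ti_act ht hg hw.sq T.wt).2 j hj hjj hj1 hj2
    have htj : t * j = j * t := (o.w.cent ht hj).symm
    have e : w⁻¹ * j * w = r * j * r⁻¹ := by
      rw [hr]
      calc w⁻¹ * j * w = w⁻¹ * (j * t) * t⁻¹ * w := by group
        _ = w⁻¹ * t * j * (w⁻¹ * t)⁻¹ := by rw [← htj]; group
    rw [← e]
    refine ⟨fun h2 => h1.1 ?_, fun h2 => h1.2 ?_⟩
    · calc w * j * w⁻¹ = w * (w⁻¹ * j * w) * w⁻¹ := by rw [h2]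
        _ = j := by group
    · calc w * j * w⁻¹ = (w * j⁻¹ * w⁻¹)⁻¹ := by group
        _ = (w * (w⁻¹ * j * w) * w⁻¹)⁻¹ := by rw [h2]
        _ = j⁻¹ := by group
  -- the key: elements preserving the axis of `j`
  have key : ∀ q ∈ P, Cen K q z → q * t = t * q → (q * j * q⁻¹ = j ∨ q * j * q⁻¹ = j⁻¹) → q = 1 ∨ q = z := by
    intro q hqP hqz hqt hqj
    have hqz' : q * z = z * q := hqz z (o.w.mem z hz)
    have hqg := T.conj_g hqt hqz'
    have sq : ∀ {y : G}, (q * y * q⁻¹ = y ∨ q * y * q⁻¹ = y⁻¹) → q * q * y = y * (q * q) := by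
      intro y hy
      have h1 : q * q * y * (q * q)⁻¹ = y := by
        have e : q * q * y * (q * q)⁻¹ = q * (q * y * q⁻¹) * q⁻¹ := by group
        rw [e]
        rcases hy with h2 | h2
        · rw [h2, h2]
        · rw [h2]
          have e' : q * y⁻¹ * q⁻¹ = (q * y * q⁻¹)⁻¹ := by group
          rw [e', h2, inv_inv]
      exact mul_inv_eq_iff_eq_mul.1 h1
    have h2 : Cen K (q * q) t := cen_of_two o.w ht hg.mem hg.sq hj hjj hj1 hj2 (sq hqg) (sq hqj)
    have h3 := o.f1 z hz t ht hne hc (q * q) (isPGroup_zp hP (mul_mem hqP hqP)) (hqz.mul hqz) h2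
    exact o.no_inv hz ht hne hc hqz hqt h3
  by_cases hcase : p * j * p⁻¹ = j ∨ p * j * p⁻¹ = j⁻¹
  · rcases key p hpP hp hpt hcase with h1 | h1
    · exact Or.inl h1
    · exact Or.inr (Or.inl h1)
  · push Not at hcase
    have m1 := ginv hpt hpz
    have m2 := ginv hrt hrz
    have h3 := third_axis o.w ht hg.mem hg.sq hj hjj hj1 hj2 (o.w.norm_mem ht hpt hj) (sqc hpt hjj) m1.1 m1.2 hcase.1 hcase.2
    have h4 := third_axis o.w ht hg.mem hg.sq hj hjj hj1 hj2 (o.w.norm_mem ht hrt hj) (sqc hrt hjj) m2.1 m2.2 hrj.1 hrj.2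
    have h5 : p * j * p⁻¹ = r * j * r⁻¹ ∨ p * j * p⁻¹ = r * j⁻¹ * r⁻¹ := by
      have e' : r * j⁻¹ * r⁻¹ = (r * j * r⁻¹)⁻¹ := by group
      rw [e']
      rcases h3 with h3 | h3 <;> rcases h4 with h4 | h4 <;> rw [h3, h4]
      · exact Or.inl rfl
      · right; rw [inv_inv]
      · exact Or.inr rfl
      · exact Or.inl rfl
    have h6 : r⁻¹ * p * j * (r⁻¹ * p)⁻¹ = j ∨ r⁻¹ * p * j * (r⁻¹ * p)⁻¹ = j⁻¹ := by
      have e : r⁻¹ * p * j * (r⁻¹ * p)⁻¹ = r⁻¹ * (p * j * p⁻¹) * r := by group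
      rw [e]
      rcases h5 with h5 | h5
      · left; rw [h5]; group
      · right; rw [h5]; group
    have hrt' : r⁻¹ * p * t = t * (r⁻¹ * p) := by
      have q1 : Commute t r := hrt.symm
      have q2 : Commute t p := hpt.symm
      exact (q1.inv_right.mul_right q2).eq.symm
    rcases key (r⁻¹ * p) (mul_mem (inv_mem hrP) hpP) (hcr.inv.mul hp) hrt' h6 with h7 | h7
    · right; right; left
      rw [inv_mul_eq_one] at h7
      exact h7.symm
    · right; right; right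
      rw [inv_mul_eq_iff_eq_mul] at h7
      exact h7

/-- scalars -/
theorem scal (huz : u * z = z * u) (hut : u * t = t * u) (huw : u * w * u⁻¹ = w⁻¹) : u * g * u⁻¹ = g⁻¹ := by
  obtain ⟨o, hz, ht, hne, hc, hw, hg⟩ := id T
  rcases T.conj_g hut huz with h1 | h1
  swap
  · exact h1
  exfalso
  obtain ⟨y, hy, hyy, hy1, hy2, hwy, hyw⟩ := o.w.exists_inv hz hw.mem hw.sq
  have hyz : y * z = z * y := o.w.cent hz hy
  have hwi := inv_eq o.w hz hw.sq
  -- `y t y⁻¹ = t z`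
  have hyt : y * t * y⁻¹ = t * z := by
    have h2 := hw.act y hy
    rw [hwy] at h2
    have h3 : t * y = y⁻¹ * t := by rw [← h2]; group
    have h4 : y * t = t * y⁻¹ := by
      calc y * t = y * (t * y) * y⁻¹ := by group
        _ = t * y⁻¹ := by rw [h3]; group
    rw [h4, mul_assoc, ← mul_inv_rev, hyy, o.w.inv hz]
  -- `y g y⁻¹ = e g`
  have hyg : ∃ e, (e = w ∨ e = w⁻¹) ∧ y * g * y⁻¹ = e * g := by
    have hgy : g * y * g⁻¹ ∈ K z := o.w.norm_mem hz T.gz hy
    have hgy2 : g * y * g⁻¹ * (g * y * g⁻¹) = z := by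
      calc g * y * g⁻¹ * (g * y * g⁻¹) = g * (y * y) * g⁻¹ := by group
        _ = z := by rw [hyy, T.gz, mul_inv_cancel_right]
    have h3 := (o.w.ti_act hz hw hg.sq T.gz).2 y hy hyy hy1 hy2
    have hgw : g * w * g⁻¹ = w := by rw [T.gw, mul_inv_cancel_right]
    have n1 : g * y * g⁻¹ ≠ w := by
      intro e
      rw [← hgw] at e
      exact hy1 (mul_left_cancel (mul_right_cancel e))
    have n2 : g * y * g⁻¹ ≠ w⁻¹ := by
      intro e
      have e' : w⁻¹ = g * w⁻¹ * g⁻¹ := by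
        have : g * w⁻¹ * g⁻¹ = (g * w * g⁻¹)⁻¹ := by group
        rw [this, hgw]
      rw [e'] at e
      exact hy2 (mul_left_cancel (mul_right_cancel e))
    rcases third_axis o.w hz hw.mem hw.sq hy hyy hy1 hy2 hgy hgy2 n1 n2 h3.1 h3.2 with h4 | h4
    · refine ⟨w⁻¹, Or.inr rfl, ?_⟩
      have h5 : g * y = w * y * g := by rw [← h4]; group
      have h6 : w⁻¹ * (g * y) = y * g := by rw [h5]; group
      have h7 : w⁻¹ * g = g * w⁻¹ := ((show Commute w g from T.gw.symm).inv_left).eq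
      rw [← h6]; group
    · refine ⟨w, Or.inl rfl, ?_⟩
      have h5 : g * y = (w * y)⁻¹ * g := by rw [← h4]; group
      have h6 : (w * y)⁻¹ = w⁻¹ * y := by
        have e1 : y⁻¹ = w * y * w⁻¹ := hwy.symm
        calc (w * y)⁻¹ = y⁻¹ * w⁻¹ := by group
          _ = w * y * w⁻¹ * w⁻¹ := by rw [e1]
          _ = w * y * (w * w)⁻¹ := by group
          _ = w * y * z := by rw [hw.sq, o.w.inv hz]
          _ = w * z * y := by rw [mul_assoc, hyz, mul_assoc]
          _ = w⁻¹ * y := by rw [T.wz, ← hwi]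
      rw [h6] at h5
      have h7 : w * (g * y) = y * g := by rw [h5]; group
      rw [← h7]; group
  obtain ⟨e, he, hyg⟩ := hyg
  have hue : u * e * u⁻¹ = e⁻¹ := by
    rcases he with rfl | rfl
    · exact huw
    · have : u * w⁻¹ * u⁻¹ = (u * w * u⁻¹)⁻¹ := by group
      rw [this, huw]
  have heg : e * g = g * e := by
    rcases he with rfl | rfl
    · exact T.gw.symm
    · exact ((show Commute w g from T.gw.symm).inv_left).eq
  -- `u' = y⁻¹ u y`
  have hut' : y⁻¹ * u * y * t = t * (y⁻¹ * u * y) := by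
    have h2 : y * t = t * z * y := by rw [← hyt]; group
    have h3 : u * (t * z) = t * z * u := by
      have q1 : Commute u t := hut
      have q2 : Commute u z := huz
      exact (q1.mul_right q2).eq
    have h4 : y⁻¹ * (t * z) = t * y⁻¹ := by
      have h5 : t * z * y = y * t := h2.symm
      calc y⁻¹ * (t * z) = y⁻¹ * (t * z * y) * y⁻¹ := by group
        _ = t * y⁻¹ := by rw [h5]; group
    calc y⁻¹ * u * y * t = y⁻¹ * u * (y * t) := by group
      _ = y⁻¹ * (u * (t * z)) * y := by rw [h2]; group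
      _ = y⁻¹ * (t * z) * u * y := by rw [h3]; group
      _ = t * (y⁻¹ * u * y) := by rw [h4]; group
  have huz' : y⁻¹ * u * y * z = z * (y⁻¹ * u * y) := by
    have q1 : Commute z y := hyz.symm
    have q2 : Commute z u := huz.symm
    exact ((q1.inv_right.mul_right q2).mul_right q1).eq.symm
  have h2 : u * (y * g * y⁻¹) * u⁻¹ = e⁻¹ * g := by
    rw [hyg]
    have : u * (e * g) * u⁻¹ = (u * e * u⁻¹) * (u * g * u⁻¹) := by group
    rw [this, hue, h1]
  have h3 : u * (y * g * y⁻¹) * u⁻¹ = y * (y⁻¹ * u * y * g * (y⁻¹ * u * y)⁻¹) * y⁻¹ := by group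
  rw [h3] at h2
  rcases T.conj_g hut' huz' with h4 | h4
  · rw [h4, hyg] at h2
    have h5 : e = e⁻¹ := mul_right_cancel h2
    have h6 : e * e = z := by
      rcases he with rfl | rfl
      · exact hw.sq
      · rw [← mul_inv_rev, hw.sq, o.w.inv hz]
    exact sq_ne_inv o.w hz h6 h5
  · rw [h4] at h2
    have h5 : y * g⁻¹ * y⁻¹ = (y * g * y⁻¹)⁻¹ := by group
    rw [h5, hyg, heg, mul_inv_rev] at h2
    have h6 : g⁻¹ = g := mul_left_cancel h2
    exact sq_ne_inv o.w ht hg.sq h6.symm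

/-- an element of `P` inverting `r` has square `z` -/
theorem sig {P : Subgroup G} (hP : IsPGroup 2 P) (hr : r = w⁻¹ * t) (hrP : r ∈ P) (hσP : σ ∈ P) (hσ : Cen K σ z)
    (hσr : σ * r * σ⁻¹ = r⁻¹) : σ * σ = z := by
  obtain ⟨o, hz, ht, hne, hc, hw, hg⟩ := id T
  have hcr : Cen K r z := by rw [hr]; exact T.r_cen
  have hrr : r * r = z := by rw [hr]; exact T.r_sq
  have htr : t = w * r := by rw [hr]; group
  have hri : r ≠ r⁻¹ := sq_ne_inv o.w hz hrr
  obtain ⟨y, hy, hyy, hy1, hy2, hwy, hyw⟩ := o.w.exists_inv hz hw.mem hw.sq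
  have hyσ : σ * y = y * σ := hσ y hy
  have hwσ : σ * w = w * σ := hσ w hw.mem
  have hyr : r * y = y * r := hcr y hy
  have hwr : r * w = w * r := hcr w hw.mem
  have hyz : y * z = z * y := o.w.cent hz hy
  have hσz : σ * z = z * σ := hσ z (o.w.mem z hz)
  have huz : y * σ * z = z * (y * σ) := by
    have q1 : Commute z y := hyz.symm
    have q2 : Commute z σ := hσz.symm
    exact (q1.mul_right q2).eq.symm
  have huw : y * σ * w * (y * σ)⁻¹ = w⁻¹ := by
    calc y * σ * w * (y * σ)⁻¹ = y * (σ * w) * σ⁻¹ * y⁻¹ := by group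
      _ = y * w * y⁻¹ := by rw [hwσ]; group
      _ = w⁻¹ := hyw
  have hur : y * σ * r * (y * σ)⁻¹ = r⁻¹ := by
    calc y * σ * r * (y * σ)⁻¹ = y * (σ * r * σ⁻¹) * y⁻¹ := by group
      _ = y * r⁻¹ * y⁻¹ := by rw [hσr]
      _ = r⁻¹ := by rw [((show Commute y r from hyr.symm).inv_right).eq]; group
  have hut : y * σ * t = t * (y * σ) := by
    have h1 : y * σ * t * (y * σ)⁻¹ = t := by
      have e : y * σ * t * (y * σ)⁻¹ = (y * σ * w * (y * σ)⁻¹) * (y * σ * r * (y * σ)⁻¹) := by rw [htr]; group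
      rw [e, huw, hur, ← mul_inv_rev, hwr, ← htr, o.w.inv ht]
    exact mul_inv_eq_iff_eq_mul.1 h1
  have h1 := T.scal huz hut huw
  have hσσr : σ * σ * r = r * (σ * σ) := by
    have h2 : σ * σ * r * (σ * σ)⁻¹ = r := by
      calc σ * σ * r * (σ * σ)⁻¹ = σ * (σ * r * σ⁻¹) * σ⁻¹ := by group
        _ = (σ * r * σ⁻¹)⁻¹ := by rw [hσr]; nth_rewrite 2 [← hσr]; group
        _ = r := by rw [hσr, inv_inv]
    exact mul_inv_eq_iff_eq_mul.1 h2
  rcases T.cP hP hr hrP (mul_mem hσP hσP) (hσ.mul hσ) hσσr with h2 | h2 | h2 | h2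
  · exfalso
    have h3 : y * σ * (y * σ) = z := by
      calc y * σ * (y * σ) = y * (σ * y) * σ := by group
        _ = (y * y) * (σ * σ) := by rw [hyσ]; group
        _ = z := by rw [hyy, h2, mul_one]
    have h4 := (o.w.ti_act ht hg h3 hut).1
    rw [h1] at h4
    exact sq_ne_inv o.w ht hg.sq h4.symm
  · exact h2
  · exfalso
    apply hri
    rw [← hσr, ← h2]; group
  · exfalso
    apply hri
    have hrz : r * z = z * r := hcr z (o.w.mem z hz)
    have h3 : r = σ * σ * z := by rw [h2, mul_assoc, o.w.sq z hz, mul_one]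
    rw [← hσr]
    nth_rewrite 2 [h3]
    have h4 : σ * (σ * σ * z) * σ⁻¹ = σ * σ * (σ * z) * σ⁻¹ := by group
    rw [h4, hσz]
    calc r = σ * σ * z := h3
      _ = σ * σ * (z * σ) * σ⁻¹ := by group

end TC

end Cfsg.Agent.Cit.Nil.Comp.AO
end

-- part: Cit/Nil/Comp/AO/StructTI
section
/-!
# S1309 (6b), `r = 1`, COMP, AllOne, (M2): 2-subgroups of `C(K z)`, type I: the structure (helper61)

* `Shape Z K z P` : `P` is cyclic of order at most 4, or a quaternion group containing `r` with `w r ∈ Z`, `w ∈ K z`;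
* `TC.struct` : a `g`-invariant 2-subgroup `P ∋ r` of `C(K z)` has this shape.
-/

set_option autoImplicit false
set_option linter.style.haveILetI false
set_option linter.unusedSectionVars false

namespace Cfsg.Agent.Cit.Nil.Comp.AO

open Subgroup Cfsg Cfsg.Agent.Cit Cfsg.Agent.Cit.Nil.ROne

variable {G : Type*} [Group G] {Z : Set G} {K : G → Subgroup G} {z t u v w g b p r x y k l m σ h : G}

/-- `1, z, r, r z` -/
def In4 (z r p : G) : Prop := p = 1 ∨ p = z ∨ p = r ∨ p = r * z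

/-- the shape of a 2-subgroup of `C(K z)` -/
def Shape (Z : Set G) (K : G → Subgroup G) (z : G) (P : Subgroup G) : Prop :=
  (∃ ρ ∈ P, (ρ = 1 ∨ ρ * ρ = z) ∧ ∀ p ∈ P, In4 z ρ p) ∨
  (∃ r ∈ P, ∃ σ ∈ P, ∃ w ∈ K z, w * w = z ∧ r * r = z ∧ w * r ∈ Z ∧ σ * σ = z ∧ σ * r * σ⁻¹ = r⁻¹ ∧
    ∀ p ∈ P, In4 z r p ∨ In4 z r (σ⁻¹ * p))

/-- equal up to `z` -/
def Sm (z p q : G) : Prop := p = q ∨ p = q * z

section sm

variable {q q' p' : G}

theorem Sm.mul (hz : z * z = 1) (h1 : Sm z p q) (h2 : Sm z p' q') (hq' : q' * z = z * q') : Sm z (p * p') (q * q') := by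
  rcases h1 with rfl | rfl <;> rcases h2 with rfl | rfl
  · exact Or.inl rfl
  · right; group
  · right
    rw [mul_assoc, ← hq', ← mul_assoc]
  · left
    calc q * z * (q' * z) = q * (z * q') * z := by group
      _ = q * q' * (z * z) := by rw [← hq']; group
      _ = q * q' := by rw [hz, mul_one]

theorem Sm.conj (h1 : Sm z p q) (hx : x * z = z * x) : Sm z (x * p * x⁻¹) (x * q * x⁻¹) := by
  rcases h1 with rfl | rfl
  · exact Or.inl rfl
  · right
    calc x * (q * z) * x⁻¹ = x * q * (z * x⁻¹) := by group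
      _ = x * q * x⁻¹ * z := by rw [((show Commute z x from hx.symm).inv_right).eq]; group

theorem Sm.trans (hz : z * z = 1) (h1 : Sm z p q) (h2 : Sm z q x) : Sm z p x := by
  rcases h1 with rfl | rfl
  · exact h2
  · rcases h2 with rfl | rfl
    · exact Or.inr rfl
    · left; rw [mul_assoc, hz, mul_one]

theorem Sm.symm (hz : z * z = 1) (h1 : Sm z p q) : Sm z q p := by
  rcases h1 with rfl | rfl
  · exact Or.inl rfl
  · right; rw [mul_assoc, hz, mul_one]

end sm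

/-- a 2-element `h` such that `h³` fixes the axis of `r` -/
theorem sm_of_cube (hz : z * z = 1) (hh : h * z = z * h) (hn : IsPGroup 2 (zpowers h))
    (h3 : Sm z (h ^ 3 * r * (h ^ 3)⁻¹) r) : Sm z (h * r * h⁻¹) r := by
  haveI : Fact (Nat.Prime 2) := ⟨Nat.prime_two⟩
  obtain ⟨n, hn⟩ : ∃ n : ℕ, h ^ 2 ^ n = 1 := by
    obtain ⟨n, h1⟩ := hn ⟨h, mem_zpowers h⟩
    exact ⟨n, congrArg Subtype.val h1⟩
  have hco : Nat.Coprime 3 (orderOf h) := by
    obtain ⟨k, -, hk⟩ := (Nat.dvd_prime_pow Nat.prime_two).1 (orderOf_dvd_of_pow_eq_one hn)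
    rw [hk]
    exact Nat.Coprime.pow_right _ (by norm_num)
  obtain ⟨m, hm⟩ := exists_pow_eq_self_of_coprime hco
  have h3z : h ^ 3 * z = z * h ^ 3 := ((show Commute h z from hh).pow_left 3).eq
  have key : ∀ m : ℕ, Sm z ((h ^ 3) ^ m * r * ((h ^ 3) ^ m)⁻¹) r := by
    intro m
    induction m with
    | zero => left; simp
    | succ m ih =>
      have e : (h ^ 3) ^ (m + 1) * r * ((h ^ 3) ^ (m + 1))⁻¹ = h ^ 3 * ((h ^ 3) ^ m * r * ((h ^ 3) ^ m)⁻¹) * (h ^ 3)⁻¹ := by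
        rw [pow_succ' (h ^ 3) m]; group
      rw [e]
      exact (ih.conj h3z).trans hz h3
  have h4 := key m
  rwa [hm] at h4

namespace TC

variable (T : TC Z K z t w g)

include T

/-- **type I**: the shape of `P` -/
theorem struct [Finite G] {P R : Subgroup G} (hR : IsPGroup 2 R) (hPR : P ≤ R) (hgR : g ∈ R)
    (hgP : ∀ p ∈ P, g * p * g⁻¹ ∈ P) (hPc : ∀ p ∈ P, Cen K p z) (hr : r = w⁻¹ * t) (hrP : r ∈ P) : Shape Z K z P := by
  obtain ⟨o, hz, ht, hne, hc, hw, hg⟩ := id T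
  have hP := hR.to_le hPR
  have zz1 : z * z = 1 := o.w.sq z hz
  have z1 : z ≠ 1 := o.w.ne z hz
  have hcr : Cen K r z := hPc r hrP
  have hrr : r * r = z := by rw [hr]; exact T.r_sq
  have htr : t = w * r := by rw [hr]; group
  have hgr : g * r = r * g := by rw [hr]; exact T.r_g
  have hpz : ∀ p ∈ P, p * z = z * p := fun p hp => hPc p hp z (o.w.mem z hz)
  have hrz := hpz r hrP
  have hri : r⁻¹ = r * z := by rw [inv_eq o.w hz hrr, hrz]
  have hri' : r ≠ r⁻¹ := sq_ne_inv o.w hz hrr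
  have hrzr : r * z ≠ r := fun e => z1 (mul_eq_left.1 e)
  have hwrZ : w * r ∈ Z := by rw [← htr]; exact ht
  have i4 : ∀ p ∈ P, p * r = r * p → In4 z r p := fun p hp h1 => T.cP hP hr hrP hp (hPc p hp) h1
  -- conjugates of elements with square `z`
  have sqc : ∀ {x y : G}, x * z = z * x → y * y = z → x * y * x⁻¹ * (x * y * x⁻¹) = z := by
    intro x y hx hy
    calc x * y * x⁻¹ * (x * y * x⁻¹) = x * (y * y) * x⁻¹ := by group
      _ = z := by rw [hy, hx, mul_inv_cancel_right]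
  have not4 : ∀ {y : G}, y * y = z → In4 z r y → Sm z y r := by
    intro y hy h1
    rcases h1 with h1 | h1 | h1 | h1
    · exfalso; rw [h1, one_mul] at hy; exact z1 hy.symm
    · exfalso; rw [h1, zz1] at hy; exact z1 hy.symm
    · exact Or.inl h1
    · exact Or.inr h1
  -- `P` inverting `r`
  have inv2 : ∀ σ ∈ P, σ * r * σ⁻¹ = r⁻¹ → ∀ p ∈ P, p * r * p⁻¹ = r⁻¹ → In4 z r (σ⁻¹ * p) := by
    intro σ hσ h1 p hp h2
    refine i4 _ (mul_mem (inv_mem hσ) hp) ?_
    have h3 : σ⁻¹ * p * r * (σ⁻¹ * p)⁻¹ = r := by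
      calc σ⁻¹ * p * r * (σ⁻¹ * p)⁻¹ = σ⁻¹ * (p * r * p⁻¹) * σ := by group
        _ = σ⁻¹ * (σ * r * σ⁻¹) * σ := by rw [h2, h1]
        _ = r := by group
    exact mul_inv_eq_iff_eq_mul.1 h3
  obtain ⟨N, hNd⟩ : ∃ N : Subgroup G, ∀ x, x ∈ N ↔ x ∈ P ∧ Sm z (x * r * x⁻¹) r := by
    refine ⟨{ carrier := {x | x ∈ P ∧ Sm z (x * r * x⁻¹) r}, mul_mem' := ?_, one_mem' := ?_, inv_mem' := ?_ }, fun x => Iff.rfl⟩
    · rintro a c ⟨ha, ha'⟩ ⟨hc, hc'⟩
      refine ⟨mul_mem ha hc, ?_⟩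
      have e : a * c * r * (a * c)⁻¹ = a * (c * r * c⁻¹) * a⁻¹ := by group
      rw [e]
      exact (hc'.conj (hpz a ha)).trans zz1 ha'
    · exact ⟨one_mem _, Or.inl (by group)⟩
    · rintro a ⟨ha, ha'⟩
      refine ⟨inv_mem ha, ?_⟩
      have h1 := ha'.conj (hpz a⁻¹ (inv_mem ha))
      have e : a⁻¹ * (a * r * a⁻¹) * a⁻¹⁻¹ = r := by group
      rw [e] at h1
      exact h1.symm zz1
  have hNP : N ≤ P := fun x hx => ((hNd x).1 hx).1
  by_cases hN : N = P
  · -- `P` preserves the axis of `r`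
    have hall : ∀ p ∈ P, Sm z (p * r * p⁻¹) r := fun p hp => ((hNd p).1 (by rw [hN]; exact hp)).2
    by_cases hex : ∃ σ ∈ P, σ * r * σ⁻¹ = r⁻¹
    · obtain ⟨σ, hσ, h1⟩ := hex
      right
      refine ⟨r, hrP, σ, hσ, w, hw.mem, hw.sq, hrr, hwrZ, T.sig hP hr hrP hσ (hPc σ hσ) h1, h1, fun p hp => ?_⟩
      rcases hall p hp with h2 | h2
      · exact Or.inl (i4 p hp (mul_inv_eq_iff_eq_mul.1 h2))
      · exact Or.inr (inv2 σ hσ h1 p hp (by rw [h2, hri]))
    · left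
      refine ⟨r, hrP, Or.inr hrr, fun p hp => ?_⟩
      rcases hall p hp with h2 | h2
      · exact i4 p hp (mul_inv_eq_iff_eq_mul.1 h2)
      · exact absurd ⟨p, hp, by rw [h2, hri]⟩ hex
  · exfalso
    obtain ⟨x, hxP, hxN, hxc⟩ := exists_normalizing hP hNP hN
    have hxz := hpz x hxP
    have hrN : r ∈ N := (hNd r).2 ⟨hrP, Or.inl (by group)⟩
    obtain ⟨σ, hσ⟩ : ∃ σ, σ = x * r * x⁻¹ := ⟨_, rfl⟩
    have hσN : σ ∈ N := by
      rw [hσ, ← hxc]
      exact conj_mem_cj hrN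
    obtain ⟨hσP, hσr⟩ := (hNd σ).1 hσN
    have hσz := hpz σ hσP
    have hσσ : σ * σ = z := by rw [hσ]; exact sqc hxz hrr
    have hnot : ¬ Sm z σ r := by
      intro h1
      exact hxN ((hNd x).2 ⟨hxP, by rw [← hσ]; exact h1⟩)
    have hσr' : σ * r * σ⁻¹ = r⁻¹ := by
      rcases hσr with h1 | h1
      · exact absurd (not4 hσσ (i4 σ hσP (mul_inv_eq_iff_eq_mul.1 h1))) hnot
      · rw [h1, hri]
    -- relations
    have rel1 : r * σ * r = σ := by
      have h1 : σ * r = r⁻¹ * σ := by rw [← hσr']; group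
      rw [mul_assoc, h1]; group
    have rel2 : σ * r * σ = r := by
      have h1 : σ * r = r⁻¹ * σ := by rw [← hσr']; group
      rw [h1, mul_assoc, hσσ, hri, mul_assoc, zz1, mul_one]
    have hσrz : σ * r * z = z * (σ * r) := hpz _ (mul_mem hσP hrP)
    obtain ⟨τ, hτ⟩ : ∃ τ, τ = x * σ * x⁻¹ := ⟨_, rfl⟩
    have hτN : τ ∈ N := by
      rw [hτ, ← hxc]
      exact conj_mem_cj hσN
    obtain ⟨hτP, hτr⟩ := (hNd τ).1 hτN
    have hττ : τ * τ = z := by rw [hτ]; exact sqc hxz hσσ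
    have hxinj : ∀ {a c : G}, x * a * x⁻¹ = x * c * x⁻¹ → a = c := fun h => mul_left_cancel (mul_right_cancel h)
    -- the action of `g` on `σ`
    have hgσ : Sm z (g * σ * g⁻¹) (σ * r) := by
      have h1 : g * σ * g⁻¹ * r * (g * σ * g⁻¹)⁻¹ = r⁻¹ := by
        have q1 : g⁻¹ * r * g = r := by rw [mul_assoc, ← hgr, inv_mul_cancel_left]
        calc g * σ * g⁻¹ * r * (g * σ * g⁻¹)⁻¹ = g * (σ * (g⁻¹ * r * g) * σ⁻¹) * g⁻¹ := by group
          _ = g * r⁻¹ * g⁻¹ := by rw [q1, hσr']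
          _ = (g * r * g⁻¹)⁻¹ := by group
          _ = r⁻¹ := by rw [hgr, mul_inv_cancel_right]
      have h2 := inv2 σ hσP hσr' _ (hgP σ hσP) h1
      have htσ : t * σ * t⁻¹ = σ * z := by
        have h3 : r * σ * r⁻¹ = σ * z := by
          calc r * σ * r⁻¹ = (r * σ * r) * (r * r)⁻¹ := by group
            _ = σ * z := by rw [rel1, hrr, o.w.inv hz]
        have h4 : (σ * z) * w = w * (σ * z) := by
          have q1 : Commute w σ := (hPc σ hσP w hw.mem).symm
          have q2 : Commute w z := T.wz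
          exact (q1.mul_right q2).eq.symm
        calc t * σ * t⁻¹ = w * (r * σ * r⁻¹) * w⁻¹ := by rw [htr]; group
          _ = σ * z := by rw [h3, ← h4]; group
      have hgg : t * σ * t⁻¹ = g * (g * σ * g⁻¹) * g⁻¹ := by rw [← hg.sq]; group
      rcases h2 with h2 | h2 | h2 | h2
      · exfalso
        rw [inv_mul_eq_one] at h2
        rw [← h2, ← h2, htσ] at hgg
        exact z1 (mul_eq_left.1 hgg)
      · exfalso
        rw [inv_mul_eq_iff_eq_mul] at h2
        have h3 : g * (σ * z) * g⁻¹ = σ := by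
          calc g * (σ * z) * g⁻¹ = g * σ * g⁻¹ * (g * z * g⁻¹) := by group
            _ = σ := by rw [h2, T.gz, mul_inv_cancel_right, mul_assoc, zz1, mul_one]
        rw [h2, h3, htσ] at hgg
        exact z1 (mul_eq_left.1 hgg)
      · left
        rw [inv_mul_eq_iff_eq_mul] at h2
        exact h2
      · right
        rw [inv_mul_eq_iff_eq_mul] at h2
        rw [h2, mul_assoc]
    -- the two cases for `τ`
    have hcase : Sm z τ r ∨ Sm z τ (σ * r) := by
      rcases hτr with h1 | h1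
      · exact Or.inl (not4 hττ (i4 τ hτP (mul_inv_eq_iff_eq_mul.1 h1)))
      · have h2 := inv2 σ hσP hσr' τ hτP (by rw [h1, hri])
        rcases h2 with h2 | h2 | h2 | h2
        · exfalso
          rw [inv_mul_eq_one, hτ] at h2
          have h3 : x * r * x⁻¹ = x * σ * x⁻¹ := by rw [← hσ]; exact h2
          exact hnot (Or.inl (hxinj h3).symm)
        · exfalso
          rw [inv_mul_eq_iff_eq_mul, hτ] at h2
          have h3 : x * σ * x⁻¹ = x * (r * z) * x⁻¹ := by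
            rw [h2]
            calc σ * z = x * r * x⁻¹ * z := by rw [hσ]
              _ = x * r * (z * x⁻¹) := by rw [((show Commute z x from hxz.symm).inv_right).eq]; group
              _ = x * (r * z) * x⁻¹ := by group
          exact hnot (Or.inr (hxinj h3))
        · right; left
          rwa [inv_mul_eq_iff_eq_mul] at h2
        · right; right
          rw [inv_mul_eq_iff_eq_mul] at h2
          rw [h2, mul_assoc]
    have cube : ∀ h : G, h ^ 3 * r * (h ^ 3)⁻¹ = h * (h * (h * r * h⁻¹) * h⁻¹) * h⁻¹ := fun h => by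
      rw [pow_three]; group
    rcases hcase with h1 | h1
    · obtain ⟨h, hh⟩ : ∃ h, h = g * x := ⟨_, rfl⟩
      have hhz : h * z = z * h := by
        have q1 : Commute z g := T.gz.symm
        have q2 : Commute z x := hxz.symm
        rw [hh]
        exact (q1.mul_right q2).eq.symm
      have hhR : h ∈ R := by rw [hh]; exact mul_mem hgR (hPR hxP)
      have s1 : Sm z (h * r * h⁻¹) (σ * r) := by
        have e : h * r * h⁻¹ = g * σ * g⁻¹ := by rw [hh, hσ]; group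
        rw [e]; exact hgσ
      have s2 : Sm z (h * σ * h⁻¹) r := by
        have e : h * σ * h⁻¹ = g * τ * g⁻¹ := by rw [hh, hτ]; group
        have h2 := h1.conj T.gz
        have e' : g * r * g⁻¹ = r := by rw [hgr, mul_inv_cancel_right]
        rw [e', ← e] at h2
        exact h2
      have s3 : Sm z (h * (σ * r) * h⁻¹) σ := by
        have e : h * (σ * r) * h⁻¹ = (h * σ * h⁻¹) * (h * r * h⁻¹) := by group
        have h2 := Sm.mul zz1 s2 s1 hσrz
        have e' : r * (σ * r) = σ := by rw [← mul_assoc]; exact rel1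
        rw [e', ← e] at h2
        exact h2
      have s4 : Sm z (h ^ 3 * r * (h ^ 3)⁻¹) r := by
        rw [cube]
        exact ((((s1.conj hhz).trans zz1 s3).conj hhz).trans zz1 s2)
      have s5 := sm_of_cube zz1 hhz (isPGroup_zp hR hhR) s4
      have s6 : Sm z (σ * r) r := (s1.symm zz1).trans zz1 s5
      have hσ1 : σ = 1 ∨ σ = z := by
        rcases s6 with h2 | h2
        · exact Or.inl (mul_eq_right.1 h2)
        · right
          rw [hrz] at h2
          exact mul_right_cancel h2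
      rcases hσ1 with h2 | h2
      · rw [h2, one_mul] at hσσ; exact z1 hσσ.symm
      · rw [h2, zz1] at hσσ; exact z1 hσσ.symm
    · have s1 : Sm z (x * r * x⁻¹) σ := Or.inl hσ.symm
      have s2 : Sm z (x * σ * x⁻¹) (σ * r) := by rw [← hτ]; exact h1
      have s3 : Sm z (x * (σ * r) * x⁻¹) r := by
        have e : x * (σ * r) * x⁻¹ = (x * σ * x⁻¹) * (x * r * x⁻¹) := by group
        have h2 := Sm.mul zz1 s2 s1 hσz
        rw [rel2, ← e] at h2
        exact h2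
      have s4 : Sm z (x ^ 3 * r * (x ^ 3)⁻¹) r := by
        rw [cube]
        exact ((((s1.conj hxz).trans zz1 s2).conj hxz).trans zz1 s3)
      have s5 := sm_of_cube zz1 hxz (isPGroup_zp hP hxP) s4
      rw [← hσ] at s5
      exact hnot s5

end TC

end Cfsg.Agent.Cit.Nil.Comp.AO
end

-- part: Cit/Nil/Comp/AO/StructTS
section
/-!
# S1309 (6b), `r = 1`, COMP, AllOne, (M2): 2-subgroups of `C(K z)`, only transpositions (helper61)

`OW.structTS` : if all N-partners of `z` act as transpositions, a `t`-invariant 2-subgroup of `C(K z)` is cyclic of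
order at most 4.
-/

set_option autoImplicit false
set_option linter.style.haveILetI false
set_option linter.unusedSectionVars false

namespace Cfsg.Agent.Cit.Nil.Comp.AO

open Subgroup Cfsg Cfsg.Agent.Cit Cfsg.Agent.Cit.Nil.ROne

variable {G : Type*} [Group G] {Z : Set G} {K : G → Subgroup G} {z t u v w g b p r x y k l m σ h ρ : G}

/-- a transposition pair `(z, t)`; all N-partners of `z` are transpositions -/
structure TSW (Z : Set G) (K : G → Subgroup G) (z t b : G) : Prop where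
  o : OW Z K
  hz : z ∈ Z
  ht : t ∈ Z
  ne : z ≠ t
  c : z * t = t * z
  hb : Trn K t z b
  all : ∀ u ∈ Z, z ≠ u → z * u = u * z → (∃ b, Trn K u z b) ∧ ∃ b, Trn K z u b

namespace TSW

variable (T : TSW Z K z t b)

include T

theorem cpt {P : Subgroup G} (hP : IsPGroup 2 P) (hp : p ∈ P) (hpz : Cen K p z) (hpt : p * t = t * p) :
    p = 1 ∨ p = z := by
  classical
  obtain ⟨o, hz, ht, hne, hc, hb, all⟩ := id T
  have hex : ∃ n : ℕ, p ^ 2 ^ n = 1 := by
    obtain ⟨n, h1⟩ := isPGroup_zp hP hp ⟨p, mem_zpowers p⟩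
    exact ⟨n, congrArg Subtype.val h1⟩
  have hfn := Nat.find_spec hex
  have hmin : ∀ {m : ℕ}, m < Nat.find hex → p ^ 2 ^ m ≠ 1 := fun h => Nat.find_min hex h
  have hcen : ∀ n : ℕ, Cen K (p ^ n) z := by
    intro n k hk
    exact ((show Commute p k from hpz k hk).pow_left n).eq
  have hcom : ∀ n : ℕ, p ^ n * t = t * p ^ n := fun n => ((show Commute p t from hpt).pow_left n).eq
  rcases hn : Nat.find hex with _ | _ | n
  · rw [hn] at hfn
    left
    simpa using hfn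
  · rw [hn] at hfn
    refine o.no_inv hz ht hne hc hpz hpt ?_
    have e : p ^ 2 ^ (0 + 1) = p * p := by rw [zero_add, pow_one, pow_two]
    rw [← e]; exact hfn
  · exfalso
    rw [hn] at hfn
    obtain ⟨q, hq⟩ : ∃ q, q = p ^ 2 ^ n := ⟨_, rfl⟩
    have e1 : q * q = p ^ 2 ^ (n + 1) := by
      rw [hq, ← pow_add]
      congr 1
      rw [pow_succ]; ring
    have e2 : (q * q) * (q * q) = 1 := by
      rw [e1, ← pow_add, ← hfn]
      congr 1
      rw [pow_succ, pow_succ]; ring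
    have hqc : Cen K (q * q) z := by rw [e1]; exact hcen _
    have hqt : q * q * t = t * (q * q) := by rw [e1]; exact hcom _
    rcases o.no_inv hz ht hne hc hqc hqt e2 with h1 | h1
    · rw [e1] at h1
      exact hmin (by rw [hn]; omega) h1
    · obtain ⟨b', hb'⟩ := (all t ht hne hc).2
      rw [← h1] at hb'
      exact o.w.not_trn_sq ht (by rw [hq]; exact hcom _) hb'

/-- an element moved to `p z` has square `z` -/
theorem twist {P : Subgroup G} (hP : IsPGroup 2 P) (hp : p ∈ P) (hpz : Cen K p z) (htp : t * p * t⁻¹ = p * z) :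
    p * p = z := by
  obtain ⟨o, hz, ht, hne, hc, hb, all⟩ := id T
  have zz1 := o.w.sq z hz
  have hpz' : p * z = z * p := hpz z (o.w.mem z hz)
  have hppt : p * p * t = t * (p * p) := by
    have h1 : t * (p * p) * t⁻¹ = p * p := by
      calc t * (p * p) * t⁻¹ = (t * p * t⁻¹) * (t * p * t⁻¹) := by group
        _ = p * (z * p) * z := by rw [htp]; group
        _ = p * p * (z * z) := by rw [← hpz']; group
        _ = p * p := by rw [zz1, mul_one]
    exact (mul_inv_eq_iff_eq_mul.1 h1).symm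
  rcases T.cpt hP (mul_mem hp hp) (hpz.mul hpz) hppt with h1 | h1
  swap
  · exact h1
  exfalso
  obtain ⟨c, hcK, hcc, h2, -, -⟩ := o.w.flip hz ht (o.np hz ht hne hc)
  have hpc : p * c = c * p := hpz c hcK
  have hcz : c * z = z * c := o.w.cent hz hcK
  have hci : c⁻¹ = z * c := inv_eq o.w hz hcc
  have h3 : p * c * (p * c) = z := by
    calc p * c * (p * c) = p * (c * p) * c := by group
      _ = (p * p) * (c * c) := by rw [← hpc]; group
      _ = z := by rw [h1, hcc, one_mul]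
  have h4 : p * c * t = t * (p * c) := by
    have h5 : t * (p * c) * t⁻¹ = p * c := by
      calc t * (p * c) * t⁻¹ = (t * p * t⁻¹) * (t * c * t⁻¹) := by group
        _ = p * (z * z) * c := by rw [htp, h2, hci]; group
        _ = p * c := by rw [zz1, mul_one]
    exact (mul_inv_eq_iff_eq_mul.1 h5).symm
  obtain ⟨b', hb'⟩ := (all t ht hne hc).2
  rw [← h3] at hb'
  exact o.w.not_trn_sq ht h4 hb'

/-- `ρ t ∉ Z` -/
theorem notZ (hρ : Cen K ρ z) (hρρ : ρ * ρ = z) (htρ : t * ρ * t⁻¹ = ρ * z) : ρ * t ∉ Z := by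
  obtain ⟨o, hz, ht, hne, hc, hb, all⟩ := id T
  intro hu
  have zz1 := o.w.sq z hz
  have tt1 := o.w.sq t ht
  have hρz : ρ * z = z * ρ := hρ z (o.w.mem z hz)
  have hρb : ρ * b = b * ρ := hρ b hb.mem
  have hbz : b * z = z * b := o.w.cent hz hb.mem
  have hbi : b⁻¹ = z * b := inv_eq o.w hz hb.sq
  obtain ⟨y, hy, hyy, hy1, hy2, hby, hyb⟩ := o.w.exists_inv hz hb.mem hb.sq
  have hρy : ρ * y = y * ρ := hρ y hy
  obtain ⟨e, he⟩ : ∃ e, e = b * ρ := ⟨_, rfl⟩
  have het : e * t = t * e := by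
    have h1 : t * e * t⁻¹ = e := by
      calc t * e * t⁻¹ = (t * b * t⁻¹) * (t * ρ * t⁻¹) := by rw [he]; group
        _ = (z * b) * (ρ * z) := by rw [hb.inv, htρ, hbi]
        _ = (z * z) * (b * ρ) := by rw [hρz, ← hbz]; calc b * z * (z * ρ) = b * (z * z) * ρ := by group
                                      _ = z * z * (b * ρ) := by rw [zz1]; group
        _ = e := by rw [zz1, one_mul, he]
    exact (mul_inv_eq_iff_eq_mul.1 h1).symm
  have hez : e * z = z * e := by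
    have q1 : Commute z b := hbz.symm
    have q2 : Commute z ρ := hρz.symm
    rw [he]
    exact (q1.mul_right q2).eq.symm
  have hee : e * e = 1 := by
    calc e * e = b * (ρ * b) * ρ := by rw [he]; group
      _ = (b * b) * (ρ * ρ) := by rw [hρb]; group
      _ = 1 := by rw [hb.sq, hρρ, zz1]
  have he1 : e ≠ 1 := by
    intro h1
    rw [he, mul_eq_one_iff_eq_inv] at h1
    have h2 : Cen K b z := by rw [h1]; exact hρ.inv
    exact not_cen_four o.w hz hb.mem hb.sq h2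
  have hze : z ≠ e := by
    intro h1
    have h2 : Cen K b z := by
      have h3 : b = z * ρ⁻¹ := by rw [h1, he]; group
      rw [h3]
      exact ((o.w.cen_iff hz hz).2 (Or.inl rfl)).mul hρ.inv
    exact not_cen_four o.w hz hb.mem hb.sq h2
  -- `y⁻¹ t y`
  have hm1 : t * y * t⁻¹ ∈ K z := o.w.norm_mem hz hc.symm hy
  have hm2 : t * y * t⁻¹ * (t * y * t⁻¹) = z := by
    calc t * y * t⁻¹ * (t * y * t⁻¹) = t * (y * y) * t⁻¹ := by group
      _ = z := by rw [hyy, ← hc, mul_inv_cancel_right]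
  have hinj : ∀ {a c : G}, t * a * t⁻¹ = t * c * t⁻¹ → a = c := fun h => mul_left_cancel (mul_right_cancel h)
  have hbi' : t * b⁻¹ * t⁻¹ = b := by
    have : t * b⁻¹ * t⁻¹ = (t * b * t⁻¹)⁻¹ := by group
    rw [this, hb.inv, inv_inv]
  have hm3 : t * y * t⁻¹ ≠ b := fun h1 => hy2 (hinj (h1.trans hbi'.symm))
  have hm4 : t * y * t⁻¹ ≠ b⁻¹ := fun h1 => hy1 (hinj (h1.trans hb.inv.symm))
  obtain ⟨hm5, hm6⟩ := hb.ne y hy hyy hy1 hy2
  have hyby : y⁻¹ * b * y = b⁻¹ := by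
    have h1 : y * b⁻¹ * y⁻¹ = b := by
      have : y * b⁻¹ * y⁻¹ = (y * b * y⁻¹)⁻¹ := by group
      rw [this, hyb, inv_inv]
    calc y⁻¹ * b * y = y⁻¹ * (y * b⁻¹ * y⁻¹) * y := by rw [h1]
      _ = b⁻¹ := by group
  have hyi : y⁻¹ * y⁻¹ = z := by rw [← mul_inv_rev, hyy, o.w.inv hz]
  have hyt : y⁻¹ * t * y = b⁻¹ * t ∨ y⁻¹ * t * y = b * t := by
    have e : y⁻¹ * t * y = y⁻¹ * (t * y * t⁻¹) * t := by group
    rcases third_axis o.w hz hb.mem hb.sq hy hyy hy1 hy2 hm1 hm2 hm3 hm4 hm5 hm6 with h1 | h1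
    · left
      rw [e, h1]
      calc y⁻¹ * (b * y) * t = (y⁻¹ * b * y) * t := by group
        _ = b⁻¹ * t := by rw [hyby]
    · right
      rw [e, h1]
      calc y⁻¹ * (b * y)⁻¹ * t = (y⁻¹ * y⁻¹) * b⁻¹ * t := by group
        _ = (z * z) * b * t := by rw [hyi, hbi]; group
        _ = b * t := by rw [zz1, one_mul]
  have huy : ρ * (y⁻¹ * t * y) ∈ Z := by
    have h1 := o.w.conjZ _ hu y⁻¹
    have e : y⁻¹ * (ρ * t) * y⁻¹⁻¹ = ρ * (y⁻¹ * t * y) := by
      calc y⁻¹ * (ρ * t) * y⁻¹⁻¹ = (y⁻¹ * ρ) * t * y := by group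
        _ = (ρ * y⁻¹) * t * y := by rw [((show Commute ρ y from hρy).inv_right).eq]
        _ = ρ * (y⁻¹ * t * y) := by group
    rwa [e] at h1
  have heZ : e ∈ Z := by
    rcases hyt with h1 | h1
    · -- `e z t ∈ Z`
      have h2 : e * (z * t) ∈ Z := by
        have e1 : ρ * (y⁻¹ * t * y) = e * (z * t) := by
          rw [h1, hbi, he]
          calc ρ * (z * b * t) = ρ * (b * z) * t := by rw [hbz]; group
            _ = (ρ * b) * (z * t) := by group
            _ = b * ρ * (z * t) := by rw [hρb]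
        rwa [e1] at huy
      have hzt : z * t ∈ Z := o.mulZ hz ht hne hc
      have h3 : e * (z * t) * (z * t) = e := by
        rw [mul_assoc, o.w.sq _ hzt, mul_one]
      have h4 : e * (z * t) = z * t * e := by
        have q1 : Commute e z := hez
        have q2 : Commute e t := het
        exact (q1.mul_right q2).eq
      have h5 : e * (z * t) ≠ z * t := fun h5 => he1 (mul_eq_right.1 h5)
      have h6 : e * (z * t) * (z * t) = z * t * (e * (z * t)) := by
        rw [h4]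
        calc z * t * e * (z * t) = z * t * (e * (z * t)) := by group
          _ = z * t * (z * t * e) := by rw [h4]
      have h7 := o.mulZ h2 hzt h5 h6
      rwa [h3] at h7
    · have h2 : e * t ∈ Z := by
        have e1 : ρ * (y⁻¹ * t * y) = e * t := by
          rw [h1, he, ← mul_assoc, hρb]
        rwa [e1] at huy
      have h3 : e * t * t = e := by rw [mul_assoc, tt1, mul_one]
      have h5 : e * t ≠ t := fun h5 => he1 (mul_eq_right.1 h5)
      have h6 : e * t * t = t * (e * t) := by rw [← mul_assoc t e t, ← het]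
      have h7 := o.mulZ h2 ht h5 h6
      rwa [h3] at h7
  obtain ⟨b', hb'⟩ := (all e heZ hze hez.symm).1
  refine o.w.not_inn_trn hz (y := b) ⟨hb.mem, hb.sq, fun k hk => ?_⟩ hb'
  calc e * k * e⁻¹ = b * (ρ * k * ρ⁻¹) * b⁻¹ := by rw [he]; group
    _ = b * k * b⁻¹ := by rw [hρ k hk]; group

/-- **only transpositions**: the shape of `P` -/
theorem struct [Finite G] {P R : Subgroup G} (hR : IsPGroup 2 R) (hPR : P ≤ R) (htR : t ∈ R)
    (htP : ∀ p ∈ P, t * p * t⁻¹ ∈ P) (hPc : ∀ p ∈ P, Cen K p z) : Shape Z K z P := by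
  obtain ⟨o, hz, ht, hne, hc, hb, all⟩ := id T
  have hP := hR.to_le hPR
  have zz1 : z * z = 1 := o.w.sq z hz
  have tt1 : t * t = 1 := o.w.sq t ht
  have ti : t⁻¹ = t := o.w.inv ht
  have z1 : z ≠ 1 := o.w.ne z hz
  have hpz : ∀ p ∈ P, p * z = z * p := fun p hp => hPc p hp z (o.w.mem z hz)
  have htnP : t ∉ P := fun h1 => o.not_cen hz ht hne (hPc t h1)
  have zt1 : z * t ≠ 1 := by
    intro h1
    apply hne
    rw [mul_eq_one_iff_eq_inv, ti] at h1
    exact h1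
  -- the group `P ⟨t⟩`
  obtain ⟨Y, hYd⟩ : ∃ Y : Subgroup G, ∀ x, x ∈ Y ↔ x ∈ P ∨ x * t ∈ P := by
    refine ⟨{ carrier := {x | x ∈ P ∨ x * t ∈ P}, mul_mem' := ?_, one_mem' := Or.inl (one_mem _), inv_mem' := ?_ }, fun x => Iff.rfl⟩
    · rintro a c (ha | ha) (hc' | hc')
      · exact Or.inl (mul_mem ha hc')
      · right; rw [mul_assoc]; exact mul_mem ha hc'
      · right
        have h1 := mul_mem ha (htP c hc')
        have e : a * t * (t * c * t⁻¹) = a * (t * t) * c * t⁻¹ := by group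
        rw [e, tt1, ti, mul_one] at h1
        exact h1
      · left
        have h1 := mul_mem ha (htP _ hc')
        have e : a * t * (t * (c * t) * t⁻¹) = a * (t * t) * c := by group
        rw [e, tt1, mul_one] at h1
        exact h1
    · rintro a (ha | ha)
      · exact Or.inl (inv_mem ha)
      · right
        have h1 := htP _ (inv_mem ha)
        have e : t * (a * t)⁻¹ * t⁻¹ = (t * t⁻¹) * a⁻¹ * t⁻¹ := by group
        rw [e, mul_inv_cancel, one_mul, ti] at h1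
        exact h1
  have hPY : P ≤ Y := fun x hx => (hYd x).2 (Or.inl hx)
  have htY : t ∈ Y := (hYd t).2 (Or.inr (by rw [tt1]; exact one_mem _))
  have hY : IsPGroup 2 Y := by
    refine hR.to_le fun x hx => ?_
    rcases (hYd x).1 hx with h1 | h1
    · exact hPR h1
    · have h2 := mul_mem (hPR h1) (inv_mem htR)
      rwa [mul_inv_cancel_right] at h2
  have hYz : ∀ x ∈ Y, x * z = z * x := by
    intro x hx
    rcases (hYd x).1 hx with h1 | h1
    · exact hpz x h1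
    · have h2 := hpz _ h1
      calc x * z = (x * t * z) * t⁻¹ := by rw [mul_assoc x t z, ← hc]; group
        _ = z * x := by rw [h2]; group
  -- the centraliser of `t` in `Y`
  obtain ⟨V, hVd⟩ : ∃ V : Subgroup G, ∀ x, x ∈ V ↔ x ∈ Y ∧ x * t * x⁻¹ = t := by
    refine ⟨Y ⊓ centralizer {t}, fun x => ?_⟩
    rw [mem_inf, mem_centralizer_singleton_iff, mul_inv_eq_iff_eq_mul]
  have hVY : V ≤ Y := fun x hx => ((hVd x).1 hx).1
  have hcp : ∀ p ∈ P, p * t * p⁻¹ = t → p = 1 ∨ p = z := fun p hp h1 =>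
    T.cpt hP hp (hPc p hp) (mul_inv_eq_iff_eq_mul.1 h1)
  by_cases hV : V = Y
  · left
    refine ⟨1, one_mem _, Or.inl rfl, fun p hp => ?_⟩
    have h1 : p ∈ V := by rw [hV]; exact hPY hp
    rcases hcp p hp ((hVd p).1 h1).2 with h2 | h2
    · exact Or.inl h2
    · exact Or.inr (Or.inl h2)
  obtain ⟨ρ, hρP, hρt⟩ : ∃ ρ ∈ P, ρ * t * ρ⁻¹ = z * t := by
    obtain ⟨x, hxY, hxV, hxc⟩ := exists_normalizing hY hVY hV
    have htV : t ∈ V := (hVd t).2 ⟨htY, by group⟩
    have h1 : x * t * x⁻¹ ∈ V := by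
      rw [← hxc]
      exact conj_mem_cj htV
    have h2 : x * t * x⁻¹ = z * t := by
      obtain ⟨h3, h4⟩ := (hVd _).1 h1
      rcases (hYd _).1 h3 with h5 | h5
      · exfalso
        rcases hcp _ h5 h4 with h6 | h6
        · apply o.w.ne t ht
          have h7 : x * t = x := by rw [mul_inv_eq_one] at h6; exact h6
          exact mul_eq_left.1 h7
        · apply hne
          have h7 : x * t = z * x := mul_inv_eq_iff_eq_mul.1 h6
          rw [← hYz x hxY] at h7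
          exact (mul_left_cancel h7).symm
      · have h6 : x * t * x⁻¹ * t * t * (x * t * x⁻¹ * t)⁻¹ = t := by
          calc x * t * x⁻¹ * t * t * (x * t * x⁻¹ * t)⁻¹ = x * t * x⁻¹ * t * (x * t * x⁻¹)⁻¹ := by group
            _ = t := h4
        rcases hcp _ h5 h6 with h7 | h7
        · exfalso
          apply hxV
          refine (hVd x).2 ⟨hxY, ?_⟩
          rw [mul_eq_one_iff_eq_inv, ti] at h7
          exact h7
        · calc x * t * x⁻¹ = x * t * x⁻¹ * t * t⁻¹ := by group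
            _ = z * t := by rw [h7, ti]
    rcases (hYd x).1 hxY with h3 | h3
    · exact ⟨x, h3, h2⟩
    · refine ⟨x * t, h3, ?_⟩
      calc x * t * t * (x * t)⁻¹ = x * t * x⁻¹ := by group
        _ = z * t := h2
  have htw : ∀ p ∈ P, p * t * p⁻¹ = z * t → t * p * t⁻¹ = p * z := by
    intro p hp h1
    have h2 : p * t = z * t * p := mul_inv_eq_iff_eq_mul.1 h1
    calc t * p * t⁻¹ = z * (z * t * p) * t⁻¹ := by
          rw [show z * (z * t * p) = (z * z) * t * p by group, zz1, one_mul]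
      _ = z * (p * t) * t⁻¹ := by rw [h2]
      _ = p * z := by rw [hpz p hp]; group
  have hρρ : ρ * ρ = z := T.twist hP hρP (hPc ρ hρP) (htw ρ hρP hρt)
  have hρz := hpz ρ hρP
  -- `P` and `{1, z, ρ, ρ z}`
  have hin : ∀ p ∈ P, (p * t * p⁻¹ = t ∨ p * t * p⁻¹ = z * t) → In4 z ρ p := by
    intro p hp h1
    rcases h1 with h1 | h1
    · rcases hcp p hp h1 with h2 | h2
      · exact Or.inl h2
      · exact Or.inr (Or.inl h2)
    · have h2 : ρ⁻¹ * p * t * (ρ⁻¹ * p)⁻¹ = t := by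
        calc ρ⁻¹ * p * t * (ρ⁻¹ * p)⁻¹ = ρ⁻¹ * (p * t * p⁻¹) * ρ := by group
          _ = ρ⁻¹ * (ρ * t * ρ⁻¹) * ρ := by rw [h1, hρt]
          _ = t := by group
      rcases hcp _ (mul_mem (inv_mem hρP) hp) h2 with h3 | h3
      · right; right; left
        rw [inv_mul_eq_one] at h3
        exact h3.symm
      · right; right; right
        rw [inv_mul_eq_iff_eq_mul] at h3
        exact h3
  obtain ⟨V2, hVd2⟩ : ∃ V : Subgroup G, ∀ x, x ∈ V ↔ x ∈ Y ∧ (x * t * x⁻¹ = t ∨ x * t * x⁻¹ = z * t) := by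
    have hzt' : ∀ a ∈ Y, a * (z * t) * a⁻¹ = z * (a * t * a⁻¹) := by
      intro a ha
      calc a * (z * t) * a⁻¹ = (a * z) * t * a⁻¹ := by group
        _ = z * (a * t * a⁻¹) := by rw [hYz a ha]; group
    refine ⟨{ carrier := {x | x ∈ Y ∧ (x * t * x⁻¹ = t ∨ x * t * x⁻¹ = z * t)}, mul_mem' := ?_,
              one_mem' := ⟨one_mem _, Or.inl (by group)⟩, inv_mem' := ?_ }, fun x => Iff.rfl⟩
    · rintro a c ⟨ha, ha'⟩ ⟨hc', hc''⟩
      refine ⟨mul_mem ha hc', ?_⟩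
      have e : a * c * t * (a * c)⁻¹ = a * (c * t * c⁻¹) * a⁻¹ := by group
      rw [e]
      rcases hc'' with h1 | h1
      · rw [h1]; exact ha'
      · rw [h1, hzt' a ha]
        rcases ha' with h2 | h2
        · right; rw [h2]
        · left; rw [h2, ← mul_assoc, zz1, one_mul]
    · rintro a ⟨ha, ha'⟩
      refine ⟨inv_mem ha, ?_⟩
      rcases ha' with h1 | h1
      · left
        calc a⁻¹ * t * a⁻¹⁻¹ = a⁻¹ * (a * t * a⁻¹) * a := by rw [h1]; group
          _ = t := by group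
      · right
        have h2 : a * (z * t) * a⁻¹ = t := by rw [hzt' a ha, h1, ← mul_assoc, zz1, one_mul]
        calc a⁻¹ * t * a⁻¹⁻¹ = a⁻¹ * (a * (z * t) * a⁻¹) * a := by rw [h2]; group
          _ = z * t := by group
  have hVY2 : V2 ≤ Y := fun x hx => ((hVd2 x).1 hx).1
  by_cases hV2 : V2 = Y
  · left
    refine ⟨ρ, hρP, Or.inr hρρ, fun p hp => hin p hp ?_⟩
    have h1 : p ∈ V2 := by rw [hV2]; exact hPY hp
    exact ((hVd2 p).1 h1).2
  exfalso
  obtain ⟨x, hxY, hxV, hxc⟩ := exists_normalizing hY hVY2 hV2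
  have htV : t ∈ V2 := (hVd2 t).2 ⟨htY, Or.inl (by group)⟩
  have h1 : x * t * x⁻¹ ∈ V2 := by
    rw [← hxc]
    exact conj_mem_cj htV
  have hxtZ : x * t * x⁻¹ ∈ Z := o.w.conjZ t ht x
  -- `x t x⁻¹ ∉ P`
  have h2 : x * t * x⁻¹ ∉ P := by
    intro h3
    rcases (hYd x).1 hxY with h4 | h4
    · apply htnP
      have h5 := mul_mem (mul_mem (inv_mem h4) h3) h4
      have e : x⁻¹ * (x * t * x⁻¹) * x = t := by group
      rwa [e] at h5
    · apply htnP
      have h5 := mul_mem (mul_mem (inv_mem h4) h3) h4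
      have e : (x * t)⁻¹ * (x * t * x⁻¹) * (x * t) = t := by group
      rwa [e] at h5
  obtain ⟨h3, h4⟩ := (hVd2 _).1 h1
  have h5 := ((hYd _).1 h3).resolve_left h2
  have h6 : In4 z ρ (x * t * x⁻¹ * t) := by
    refine hin _ h5 ?_
    have e : x * t * x⁻¹ * t * t * (x * t * x⁻¹ * t)⁻¹ = x * t * x⁻¹ * t * (x * t * x⁻¹)⁻¹ := by group
    rw [e]
    exact h4
  have back : ∀ {q : G}, x * t * x⁻¹ * t = q → x * t * x⁻¹ = q * t := by
    intro q hq
    rw [← hq, mul_assoc _ t t, tt1, mul_one]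
  rcases h6 with h7 | h7 | h7 | h7
  · exact hxV ((hVd2 x).2 ⟨hxY, Or.inl (by rw [back h7, one_mul])⟩)
  · exact hxV ((hVd2 x).2 ⟨hxY, Or.inr (back h7)⟩)
  · rw [back h7] at hxtZ
    exact T.notZ (hPc ρ hρP) hρρ (htw ρ hρP hρt) hxtZ
  · rw [back h7] at hxtZ
    have h8 : (ρ * z) ∈ P := mul_mem hρP (by rw [← hρρ]; exact mul_mem hρP hρP)
    have h9 : ρ * z * (ρ * z) = z := by
      calc ρ * z * (ρ * z) = ρ * (z * ρ) * z := by group
        _ = (ρ * ρ) * (z * z) := by rw [← hρz]; group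
        _ = z := by rw [hρρ, zz1, mul_one]
    refine T.notZ (hPc _ h8) h9 ?_ hxtZ
    calc t * (ρ * z) * t⁻¹ = (t * ρ * t⁻¹) * (t * z * t⁻¹) := by group
      _ = ρ * z * z := by rw [htw ρ hρP hρt, ← hc, mul_inv_cancel_right]

end TSW

end Cfsg.Agent.Cit.Nil.Comp.AO
end

-- part: Cit/Nil/Comp/AO/Uniq
section
/-!
# S1309 (6b), `r = 1`, COMP, AllOne, (M2): 2-subgroups of `C(K z)` (helper61)

`OW Z K`, `z ∈ Z` with an N-partner:

* `OW.exists_shape` : all 2-subgroups of `C(K z)` are conjugate into one of shape `Shape Z K z P`;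
* `OW.uniq` : an involution centralising `K z` is `z`;
* `OW.card_le` : a 2-subgroup of `C(K z)` has order at most 8;
* `OW.rot_two` : if an element of odd order acts non-trivially on it, it has order 8 and contains `r` with `w r ∈ Z`,
  `w ∈ K z`, moved to an anticommuting element.
-/

set_option autoImplicit false
set_option linter.style.haveILetI false
set_option linter.unusedSectionVars false

namespace Cfsg.Agent.Cit.Nil.Comp.AO

open Subgroup Cfsg Cfsg.Agent.Cit Cfsg.Agent.Cit.Nil.ROne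

variable {G : Type*} [Group G] {Z : Set G} {K : G → Subgroup G} {z t u v w g b p r x y k l m σ h ρ : G}

theorem cen_iff_mem : Cen K x z ↔ x ∈ centralizer (K z : Set G) := by
  rw [mem_centralizer_iff]
  exact ⟨fun h k hk => (h k hk).symm, fun h k hk => (h k hk).symm⟩

namespace Shape

variable {P : Subgroup G}

/-- the elements different from `1`, `z` have square `z` -/
theorem sq (S : Shape Z K z P) (zz1 : z * z = 1) (hc : ∀ p ∈ P, p * z = z * p) (hp : p ∈ P) (h1 : p ≠ 1) (h2 : p ≠ z) :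
    p * p = z := by
  have sqz : ∀ {q : G}, q * z = z * q → q * z * (q * z) = q * q := by
    intro q hq
    calc q * z * (q * z) = q * (z * q) * z := by group
      _ = q * q * (z * z) := by rw [← hq]; group
      _ = q * q := by rw [zz1, mul_one]
  rcases S with ⟨ρ, hρ, hρρ, hall⟩ | ⟨r, hr, σ, hσ, w, -, -, hrr, -, hσσ, hinv, hall⟩
  · rcases hall p hp with h3 | h3 | h3 | h3
    · exact absurd h3 h1
    · exact absurd h3 h2
    · rcases hρρ with h4 | h4
      · exact absurd (h3.trans h4) h1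
      · rw [h3, h4]
    · rcases hρρ with h4 | h4
      · exfalso; apply h2; rw [h3, h4, one_mul]
      · rw [h3, sqz (hc ρ hρ), h4]
  · have hrσ : σ * r * (σ * r) = z := by
      have e : σ * r = r⁻¹ * σ := by rw [← hinv]; group
      calc σ * r * (σ * r) = r⁻¹ * σ * (σ * r) := by rw [← e]
        _ = r⁻¹ * (σ * σ) * r := by group
        _ = z := by rw [hσσ, mul_assoc, ← hc r hr]; group
    rcases hall p hp with h3 | h3
    · rcases h3 with h3 | h3 | h3 | h3
      · exact absurd h3 h1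
      · exact absurd h3 h2
      · rw [h3, hrr]
      · rw [h3, sqz (hc r hr), hrr]
    · rcases h3 with h3 | h3 | h3 | h3
      · rw [inv_mul_eq_one] at h3
        rw [← h3, hσσ]
      · rw [inv_mul_eq_iff_eq_mul] at h3
        rw [h3, sqz (hc σ hσ), hσσ]
      · rw [inv_mul_eq_iff_eq_mul] at h3
        rw [h3, hrσ]
      · rw [inv_mul_eq_iff_eq_mul, ← mul_assoc] at h3
        rw [h3, sqz (hc _ (mul_mem hσ hr)), hrσ]

theorem card_le [Finite G] (S : Shape Z K z P) : Nat.card P ≤ 8 := by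
  classical
  have key : ∀ l : List G, (∀ p ∈ P, p ∈ l) → Nat.card P ≤ l.length := by
    intro l hl
    have h1 : (P : Set G) ⊆ (l.toFinset : Set G) := fun p hp => by
      rw [Finset.mem_coe, List.mem_toFinset]; exact hl p hp
    have h2 := Set.ncard_le_ncard h1 (Finset.finite_toSet _)
    rw [Set.ncard_coe_finset] at h2
    exact h2.trans (List.toFinset_card_le l)
  rcases S with ⟨ρ, hρ, hρρ, hall⟩ | ⟨r, hr, σ, hσ, w, -, -, hrr, -, hσσ, hinv, hall⟩
  · refine (key [1, z, ρ, ρ * z] fun p hp => ?_).trans (by simp)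
    simp only [List.mem_cons, List.not_mem_nil, or_false]
    exact hall p hp
  · refine (key [1, z, r, r * z, σ, σ * z, σ * r, σ * (r * z)] fun p hp => ?_).trans (by simp)
    simp only [List.mem_cons, List.not_mem_nil, or_false]
    rcases hall p hp with h1 | h1
    · rcases h1 with h1 | h1 | h1 | h1 <;> rw [h1] <;> simp
    · rcases h1 with h1 | h1 | h1 | h1
      · rw [inv_mul_eq_one] at h1
        rw [← h1]; simp
      · rw [inv_mul_eq_iff_eq_mul] at h1
        rw [h1]; simp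
      · rw [inv_mul_eq_iff_eq_mul] at h1
        rw [h1]; simp
      · rw [inv_mul_eq_iff_eq_mul] at h1
        rw [h1]; simp

end Shape

namespace OW

variable [Finite G] (o : OW Z K)

include o

/-- the 2-subgroups of `C(K z)` -/
theorem exists_shape (hz : z ∈ Z) (hnp : ∃ t ∈ Z, t ≠ z ∧ z * t = t * z) : ∃ P : Subgroup G, Shape Z K z P ∧
    IsPGroup 2 P ∧ (∀ p ∈ P, Cen K p z) ∧ ∀ P0 : Subgroup G, IsPGroup 2 P0 → (∀ p ∈ P0, Cen K p z) →
      ∃ h, Cen K h z ∧ cj h P0 ≤ P := by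
  haveI : Fact (Nat.Prime 2) := ⟨Nat.prime_two⟩
  have hCH : centralizer (K z : Set G) ≤ centralizer {z} := centralizer_le (by simpa using o.w.mem z hz)
  have hHC : centralizer {z} ≤ normalizer (centralizer (K z : Set G) : Set G) := by
    intro x hx
    have hxz : x * z = z * x := mem_centralizer_singleton_iff.1 hx
    refine mem_normalizer_iff.2 fun y => ?_
    rw [← cen_iff_mem, ← cen_iff_mem]
    have e : x * z * x⁻¹ = z := by rw [hxz, mul_inv_cancel_right]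
    have e' : x⁻¹ * z * x⁻¹⁻¹ = z := by rw [inv_inv, mul_assoc, ← hxz, inv_mul_cancel_left]
    constructor
    · intro h1
      have h2 := o.w.cen_conj hz x h1
      rwa [e] at h2
    · intro h1
      have h2 := o.w.cen_conj hz x⁻¹ h1
      have e2 : x⁻¹ * (x * y * x⁻¹) * x⁻¹⁻¹ = y := by group
      rwa [e', e2] at h2
  -- the Sylow group of `C(K z)` in a Sylow group `R` of `C(z)`
  have main : ∀ Q : Subgroup G, IsPGroup 2 Q → Q ≤ centralizer {z} → ∃ R : Subgroup G, IsPGroup 2 R ∧ Q ≤ R ∧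
      R ≤ centralizer {z} ∧ Syl (R ⊓ centralizer (K z : Set G)) (centralizer (K z : Set G)) := by
    intro Q hQ hQH
    obtain ⟨R, hR, hQR⟩ := LB.exists_syl_ge hQ hQH
    exact ⟨R, hR.2.1, hQR, hR.1, LB.syl_inf_normal hR hCH hHC⟩
  have conj : ∀ P : Subgroup G, Syl P (centralizer (K z : Set G)) → ∀ P0 : Subgroup G, IsPGroup 2 P0 →
      (∀ p ∈ P0, Cen K p z) → ∃ h, Cen K h z ∧ cj h P0 ≤ P := by
    intro P hP P0 hP0 hc
    obtain ⟨R0, hR0, hPR⟩ := LB.exists_syl_ge hP0 (M := centralizer (K z : Set G)) fun p hp => cen_iff_mem.1 (hc p hp)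
    obtain ⟨n, hn, h1⟩ := hR0.exists_conj hP
    exact ⟨n, cen_iff_mem.2 hn, by rw [← h1]; exact cj_mono n hPR⟩
  by_cases hTI : ∃ t ∈ Z, z ≠ t ∧ z * t = t * z ∧ TI K z t
  · obtain ⟨t, ht, hne, hc, w, g, hw, hg⟩ := hTI
    have T : TC Z K z t w g := ⟨o, hz, ht, hne, hc, hw, hg⟩
    have h1 : IsPGroup 2 (zpowers g ⊔ zpowers (w⁻¹ * t) : Subgroup G) := by
      refine OneBasic.isPGroup_sup_of_normalizes (isPGroup_zp (o.w.two ht) hg.mem) ?_ ?_
      · have e : (w⁻¹ * t) ^ 2 ^ 2 = 1 := by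
          have e1 : (w⁻¹ * t) ^ 2 ^ 2 = (w⁻¹ * t * (w⁻¹ * t)) * (w⁻¹ * t * (w⁻¹ * t)) := by
            rw [show (2 : ℕ) ^ 2 = 4 by norm_num, pow_succ, pow_succ, pow_two]; group
          rw [e1, T.r_sq, o.w.sq z hz]
        intro ⟨x, hx⟩
        obtain ⟨n, rfl⟩ := hx
        refine ⟨2, Subtype.ext ?_⟩
        change ((w⁻¹ * t) ^ n) ^ 2 ^ 2 = 1
        rw [← zpow_natCast, ← zpow_mul, mul_comm, zpow_mul, zpow_natCast, e, one_zpow]
      · rw [zpowers_le]
        refine mem_normalizer_iff_cj.2 ?_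
        have key : ∀ x ∈ zpowers (w⁻¹ * t), g * x = x * g := by
          rintro _ ⟨n, rfl⟩
          exact ((show Commute g (w⁻¹ * t) from T.r_g).zpow_right n).eq
        ext x
        rw [mem_cj]
        constructor
        · intro hx
          have h2 := key _ hx
          have e : x = g⁻¹ * x * g := by
            have h3 : g * (g⁻¹ * x * g) * g⁻¹ = g⁻¹ * x * g := by rw [h2]; group
            calc x = g * (g⁻¹ * x * g) * g⁻¹ := by group
              _ = _ := h3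
          rw [e]; exact hx
        · intro hx
          have h2 := key _ hx
          have e : g⁻¹ * x * g = x := by rw [mul_assoc, ← h2, inv_mul_cancel_left]
          rw [e]; exact hx
    have h2 : (zpowers g ⊔ zpowers (w⁻¹ * t) : Subgroup G) ≤ centralizer {z} := by
      refine sup_le (zpowers_le.2 (mem_centralizer_singleton_iff.2 T.gz)) (zpowers_le.2 ?_)
      exact mem_centralizer_singleton_iff.2 (T.r_cen z (o.w.mem z hz))
    obtain ⟨R, hR, hQR, hRH, hsyl⟩ := main _ h1 h2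
    have hgR : g ∈ R := hQR (mem_sup_left (mem_zpowers g))
    have hrR : w⁻¹ * t ∈ R := hQR (mem_sup_right (mem_zpowers _))
    refine ⟨R ⊓ centralizer (K z : Set G), T.struct (r := w⁻¹ * t) hR inf_le_left hgR ?_ ?_ rfl
      ⟨hrR, cen_iff_mem.1 T.r_cen⟩, hsyl.2.1, fun p hp => cen_iff_mem.2 hp.2, conj _ hsyl⟩
    · intro p hp
      exact mem_inf.2 ⟨mul_mem (mul_mem hgR (mem_inf.1 hp).1) (inv_mem hgR), (mem_normalizer_iff.1 (hHC (hRH hgR)) p).1 (mem_inf.1 hp).2⟩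
    · intro p hp
      exact cen_iff_mem.2 hp.2
  · have all : ∀ u ∈ Z, z ≠ u → z * u = u * z → (∃ b, Trn K u z b) ∧ ∃ b, Trn K z u b := by
      intro u hu hne hc
      rcases o.w.tri hz hu hne hc with h1 | h1 | h1
      · exact absurd h1 (o.nc z hz u hu)
      · exact absurd ⟨u, hu, hne, hc, h1⟩ hTI
      · obtain ⟨b, b', h2, h3⟩ := h1
        exact ⟨⟨b, h2⟩, b', h3⟩
    obtain ⟨t, ht, hne, hc⟩ := hnp
    obtain ⟨⟨b, hb⟩, -⟩ := all t ht hne.symm hc
    have T : TSW Z K z t b := ⟨o, hz, ht, hne.symm, hc, hb, all⟩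
    obtain ⟨R, hR, hQR, hRH, hsyl⟩ := main (zpowers t) (isPGroup_of_sq (o.w.sq t ht))
      (zpowers_le.2 (mem_centralizer_singleton_iff.2 hc.symm))
    have htR : t ∈ R := hQR (mem_zpowers t)
    refine ⟨R ⊓ centralizer (K z : Set G), T.struct hR inf_le_left htR ?_ fun p hp => cen_iff_mem.2 hp.2, hsyl.2.1,
      fun p hp => cen_iff_mem.2 hp.2, conj _ hsyl⟩
    intro p hp
    exact mem_inf.2 ⟨mul_mem (mul_mem htR (mem_inf.1 hp).1) (inv_mem htR), (mem_normalizer_iff.1 (hHC (hRH htR)) p).1 (mem_inf.1 hp).2⟩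

/-- **an involution centralising `K z` is `z`** -/
theorem uniq (hz : z ∈ Z) (hnp : ∃ t ∈ Z, t ≠ z ∧ z * t = t * z) (hb : Cen K b z) (hbb : b * b = 1) : b = 1 ∨ b = z := by
  obtain ⟨P, S, -, hPc, hall⟩ := o.exists_shape hz hnp
  have zz1 := o.w.sq z hz
  obtain ⟨h, hh, h1⟩ := hall (zpowers b) (isPGroup_of_sq hbb) (by
    rintro _ ⟨n, rfl⟩ k hk
    exact ((show Commute b k from hb k hk).zpow_left n).eq)
  have hhz : h * z = z * h := hh z (o.w.mem z hz)
  have h2 : h * b * h⁻¹ ∈ P := h1 (conj_mem_cj (mem_zpowers b))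
  have h3 : h * b * h⁻¹ * (h * b * h⁻¹) = 1 := by
    calc h * b * h⁻¹ * (h * b * h⁻¹) = h * (b * b) * h⁻¹ := by group
      _ = 1 := by rw [hbb]; group
  by_contra hcon
  push Not at hcon
  have e : h⁻¹ * z * h = z := by rw [mul_assoc, ← hhz, inv_mul_cancel_left]
  have h4 := S.sq zz1 (fun p hp => hPc p hp z (o.w.mem z hz)) h2 (fun h4 => hcon.1 (by
    calc b = h⁻¹ * (h * b * h⁻¹) * h := by group
      _ = 1 := by rw [h4]; group)) (fun h4 => hcon.2 (by
    calc b = h⁻¹ * (h * b * h⁻¹) * h := by group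
      _ = z := by rw [h4, e]))
  rw [h3] at h4
  exact o.w.ne z hz h4.symm

/-- a 2-subgroup of `C(K z)` has order at most 8 -/
theorem card_le (hz : z ∈ Z) (hnp : ∃ t ∈ Z, t ≠ z ∧ z * t = t * z) {P : Subgroup G} (hP : IsPGroup 2 P)
    (hPc : ∀ p ∈ P, Cen K p z) : Nat.card P ≤ 8 := by
  obtain ⟨P', S, -, -, hall⟩ := o.exists_shape hz hnp
  obtain ⟨h, -, h1⟩ := hall P hP hPc
  rw [← card_cj h P]
  exact (Nat.le_of_dvd Nat.card_pos (card_dvd_of_le h1)).trans S.card_le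

/-- **the odd automorphisms** -/
theorem rot_two (hz : z ∈ Z) (hnp : ∃ t ∈ Z, t ≠ z ∧ z * t = t * z) {P : Subgroup G} (hP : IsPGroup 2 P)
    (hPc : ∀ p ∈ P, Cen K p z) (hgz : g * z = z * g) (ho : Odd (orderOf g)) (hgP : ∀ p ∈ P, g * p * g⁻¹ ∈ P)
    (hne : ∃ p ∈ P, g * p ≠ p * g) : Nat.card P = 8 ∧ ∃ r ∈ P, ∃ w ∈ K z, w * w = z ∧ r * r = z ∧ w * r ∈ Z ∧
      g * r * g⁻¹ * r = z * (r * (g * r * g⁻¹)) := by
  classical
  haveI : Fact (Nat.Prime 2) := ⟨Nat.prime_two⟩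
  obtain ⟨P', S, hP', hPc', hall⟩ := o.exists_shape hz hnp
  have zz1 := o.w.sq z hz
  have z1 := o.w.ne z hz
  have hpz : ∀ p ∈ P, p * z = z * p := fun p hp => hPc p hp z (o.w.mem z hz)
  have hpz' : ∀ p ∈ P', p * z = z * p := fun p hp => hPc' p hp z (o.w.mem z hz)
  obtain ⟨h, hh, h1⟩ := hall P hP hPc
  have hhz : h * z = z * h := hh z (o.w.mem z hz)
  -- odd order
  have odd2 : ∀ {p : G}, Sm z (g * p * g⁻¹) p → g * p = p * g := by
    intro p hp
    rcases hp with h2 | h2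
    · exact mul_inv_eq_iff_eq_mul.1 h2
    · refine Three.comm_of_pow_two (n := 1) ho ?_
      have h3 : g ^ 2 ^ 1 * p * (g ^ 2 ^ 1)⁻¹ = p := by
        rw [pow_one, pow_two]
        calc g * g * p * (g * g)⁻¹ = g * (g * p * g⁻¹) * g⁻¹ := by group
          _ = g * (p * z) * g⁻¹ := by rw [h2]
          _ = (g * p * g⁻¹) * (g * z * g⁻¹) := by group
          _ = p * z * z := by rw [h2, hgz, mul_inv_cancel_right]
          _ = p := by rw [mul_assoc, zz1, mul_one]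
      exact mul_inv_eq_iff_eq_mul.1 h3
  obtain ⟨p, hp, hgp⟩ := hne
  obtain ⟨p1, hp1⟩ : ∃ p1, p1 = g * p * g⁻¹ := ⟨_, rfl⟩
  have hp1P : p1 ∈ P := by rw [hp1]; exact hgP p hp
  have hnS : ¬ Sm z p1 p := fun h2 => hgp (odd2 (by rw [← hp1]; exact h2))
  have hpn1 : p ≠ 1 := by rintro rfl; exact hgp (by group)
  have hpnz : p ≠ z := by rintro rfl; exact hgp hgz
  have hp1n1 : p1 ≠ 1 := by
    rw [hp1]
    intro h2
    apply hpn1
    calc p = g⁻¹ * (g * p * g⁻¹) * g := by group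
      _ = 1 := by rw [h2]; group
  have hp1nz : p1 ≠ z := by
    rw [hp1]
    intro h2
    apply hpnz
    calc p = g⁻¹ * (g * p * g⁻¹) * g := by group
      _ = g⁻¹ * (g * z) := by rw [h2, mul_assoc, ← hgz]
      _ = z := by group
  obtain ⟨c, hc⟩ : ∃ c : G → G, c = fun x => h * x * h⁻¹ := ⟨_, rfl⟩
  have hcinj : ∀ {a b : G}, c a = c b → a = b := by
    intro a b hab
    rw [hc] at hab
    exact mul_left_cancel (mul_right_cancel hab)
  have hcz : c z = z := by rw [hc]; change h * z * h⁻¹ = z; rw [hhz, mul_inv_cancel_right]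
  have hc1 : c 1 = 1 := by rw [hc]; change h * 1 * h⁻¹ = 1; group
  have hcm : ∀ a b : G, c (a * b) = c a * c b := by
    intro a b
    rw [hc]
    change h * (a * b) * h⁻¹ = h * a * h⁻¹ * (h * b * h⁻¹)
    group
  have hcP : ∀ {a : G}, a ∈ P → c a ∈ P' := fun {a} ha => by rw [hc]; exact h1 (conj_mem_cj ha)
  have hsq : ∀ {a : G}, a ∈ P → a ≠ 1 → a ≠ z → a * a = z := by
    intro a ha ha1 haz
    have h2 := S.sq zz1 hpz' (hcP ha) (fun h3 => ha1 (hcinj (h3.trans hc1.symm))) (fun h3 => haz (hcinj (h3.trans hcz.symm)))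
    rw [← hcm] at h2
    exact hcinj (h2.trans hcz.symm)
  have hpp := hsq hp hpn1 hpnz
  have hzP : z ∈ P := by rw [← hpp]; exact mul_mem hp hp
  -- the order of `P`
  have h5 : 5 ≤ Nat.card P := by
    have hnd : ({1, z, p, p * z, p1} : Finset G).card = 5 := by
      have e1 : p * z ≠ 1 := by
        intro e
        rw [mul_eq_one_iff_eq_inv, o.w.inv hz] at e
        exact hpnz e
      have e2 : p * z ≠ z := fun e => hpn1 (mul_eq_right.1 e)
      have e3 : p ≠ p * z := fun e => z1 (left_eq_mul.1 e)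
      have e4 : p ≠ p1 := fun e => hnS (Or.inl e.symm)
      have e5 : p * z ≠ p1 := fun e => hnS (Or.inr e.symm)
      rw [Finset.card_insert_of_notMem, Finset.card_insert_of_notMem, Finset.card_insert_of_notMem,
        Finset.card_insert_of_notMem, Finset.card_singleton]
      · simpa using e5
      · simp only [Finset.mem_insert, Finset.mem_singleton]
        push Not
        exact ⟨e3, e4⟩
      · simp only [Finset.mem_insert, Finset.mem_singleton]
        push Not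
        exact ⟨hpnz.symm, e2.symm, hp1nz.symm⟩
      · simp only [Finset.mem_insert, Finset.mem_singleton]
        push Not
        exact ⟨z1.symm, hpn1.symm, e1.symm, hp1n1.symm⟩
    have hsub : (({1, z, p, p * z, p1} : Finset G) : Set G) ⊆ (P : Set G) := by
      intro x hx
      simp only [Finset.coe_insert, Finset.coe_singleton, Set.mem_insert_iff, Set.mem_singleton_iff] at hx
      rcases hx with rfl | rfl | rfl | rfl | rfl
      · exact one_mem _
      · exact hzP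
      · exact hp
      · exact mul_mem hp hzP
      · exact hp1P
    have h6 := Set.ncard_le_ncard hsub (Set.toFinite _)
    rw [Set.ncard_coe_finset, hnd] at h6
    exact h6
  have h8 : Nat.card P ≤ 8 := o.card_le hz hnp hP hPc
  have hcard : Nat.card P = 8 := by
    obtain ⟨n, hn⟩ := IsPGroup.iff_card.1 hP
    rw [hn] at h5 h8 ⊢
    have hn2 : n = 3 := by
      have a1 : n < 4 := by
        by_contra hcon
        have := Nat.pow_le_pow_right (n := 2) (by norm_num) (show 4 ≤ n by omega)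
        omega
      have a2 : 2 < n := by
        by_contra hcon
        have := Nat.pow_le_pow_right (n := 2) (by norm_num) (show n ≤ 2 by omega)
        omega
      omega
    rw [hn2]; norm_num
  have hPP' : cj h P = P' := by
    refine Subgroup.eq_of_le_of_card_ge h1 ?_
    rw [card_cj, hcard]
    exact S.card_le
  refine ⟨hcard, ?_⟩
  have hback : ∀ {a : G}, a ∈ P' → ∃ b ∈ P, c b = a := by
    intro a ha
    rw [← hPP'] at ha
    rw [mem_cj] at ha
    refine ⟨_, ha, ?_⟩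
    rw [hc]
    change h * (h⁻¹ * a * h) * h⁻¹ = a
    group
  rcases S with ⟨ρ, hρ, hρρ, hin⟩ | ⟨r, hr, σ, hσ, w, hw, hww, hrr, hwr, hσσ, hinv, hin⟩
  · exfalso
    apply hnS
    obtain ⟨ρ0, hρ0, rfl⟩ := hback hρ
    have key : ∀ a ∈ P, a ≠ 1 → a ≠ z → Sm z a ρ0 := by
      intro a ha ha1 haz
      rcases hin _ (hcP ha) with h2 | h2 | h2 | h2
      · exact absurd (hcinj (h2.trans hc1.symm)) ha1
      · exact absurd (hcinj (h2.trans hcz.symm)) haz
      · exact Or.inl (hcinj h2)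
      · right
        apply hcinj
        rw [h2, hcm, hcz]
    exact (key p1 hp1P hp1n1 hp1nz).trans zz1 ((key p hp hpn1 hpnz).symm zz1)
  · obtain ⟨r0, hr0, hcr⟩ := hback hr
    obtain ⟨σ0, hσ0, hcσ⟩ := hback hσ
    have hci : ∀ a : G, c a⁻¹ = (c a)⁻¹ := fun a => eq_inv_of_mul_eq_one_left (by rw [← hcm, inv_mul_cancel, hc1])
    have hrr0 : r0 * r0 = z := hcinj (by rw [hcm, hcr, hcz, hrr])
    have hinv0 : σ0 * r0 * σ0⁻¹ = r0⁻¹ := hcinj (by rw [hcm, hcm, hci, hci, hcr, hcσ, hinv])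
    have hin0 : ∀ a ∈ P, In4 z r0 a ∨ In4 z r0 (σ0⁻¹ * a) := by
      have key : ∀ a : G, In4 z r (c a) → In4 z r0 a := by
        intro a ha
        rcases ha with h2 | h2 | h2 | h2
        · exact Or.inl (hcinj (h2.trans hc1.symm))
        · exact Or.inr (Or.inl (hcinj (h2.trans hcz.symm)))
        · exact Or.inr (Or.inr (Or.inl (hcinj (h2.trans hcr.symm))))
        · exact Or.inr (Or.inr (Or.inr (hcinj (by rw [h2, hcm, hcr, hcz]))))
      intro a ha
      rcases hin _ (hcP ha) with h2 | h2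
      · exact Or.inl (key a h2)
      · right
        apply key
        rw [hcm, hci, hcσ]
        exact h2
    have hwr0 : w * r0 ∈ Z := by
      have h2 := o.w.conjZ _ hwr h⁻¹
      have e : h⁻¹ * (w * r) * h⁻¹⁻¹ = w * r0 := by
        have e1 : r = h * r0 * h⁻¹ := by rw [← hcr, hc]
        have e2 : h⁻¹ * w = w * h⁻¹ := ((show Commute h w from hh w hw).inv_left).eq
        rw [e1]
        calc h⁻¹ * (w * (h * r0 * h⁻¹)) * h⁻¹⁻¹ = (h⁻¹ * w) * h * r0 := by group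
          _ = w * r0 := by rw [e2]; group
      rwa [e] at h2
    refine ⟨r0, hr0, w, hw, hww, hrr0, hwr0, ?_⟩
    have hr0z : r0 * z = z * r0 := hpz r0 hr0
    have hr0i : r0⁻¹ = z * r0 := by
      rw [inv_eq_iff_mul_eq_one, ← mul_assoc, hr0z, mul_assoc, hrr0, zz1]
    -- elements of `In4` commute with `r0`
    have i4c : ∀ {a : G}, In4 z r0 a → a * r0 = r0 * a := by
      intro a ha
      rcases ha with h2 | h2 | h2 | h2
      · rw [h2, one_mul, mul_one]
      · rw [h2, hr0z]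
      · rw [h2]
      · rw [h2, mul_assoc, ← hr0z]
    have sinv : ∀ {a : G}, In4 z r0 (σ0⁻¹ * a) → a * r0 * a⁻¹ = r0⁻¹ := by
      intro a ha
      have h2 := i4c ha
      calc a * r0 * a⁻¹ = σ0 * (σ0⁻¹ * a * r0) * a⁻¹ := by group
        _ = σ0 * r0 * σ0⁻¹ := by rw [h2]; group
        _ = r0⁻¹ := hinv0
    obtain ⟨q, hq⟩ : ∃ q, q = g * r0 * g⁻¹ := ⟨_, rfl⟩
    have hqP : q ∈ P := by rw [hq]; exact hgP r0 hr0
    have hqq : q * q = z := by
      rw [hq]
      calc g * r0 * g⁻¹ * (g * r0 * g⁻¹) = g * (r0 * r0) * g⁻¹ := by group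
        _ = z := by rw [hrr0, hgz, mul_inv_cancel_right]
    rw [← hq]
    rcases hin0 q hqP with h2 | h2
    swap
    · have h3 := sinv h2
      have h4 : q * r0 = r0⁻¹ * q := mul_inv_eq_iff_eq_mul.1 h3
      rw [h4, hr0i, mul_assoc]
    exfalso
    have hS : Sm z q r0 := by
      rcases h2 with h3 | h3 | h3 | h3
      · exfalso; rw [h3, one_mul] at hqq; exact z1 hqq.symm
      · exfalso; rw [h3, zz1] at hqq; exact z1 hqq.symm
      · exact Or.inl h3
      · exact Or.inr h3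
    have hgr : g * r0 = r0 * g := odd2 (by rw [← hq]; exact hS)
    have hg4 : ∀ {a : G}, In4 z r0 a → g * a = a * g := by
      intro a ha
      rcases ha with h2 | h2 | h2 | h2
      · rw [h2]; group
      · rw [h2, hgz]
      · rw [h2, hgr]
      · rw [h2, ← mul_assoc, hgr, mul_assoc, hgz, ← mul_assoc]
    have hpi : p * r0 * p⁻¹ = r0⁻¹ := by
      rcases hin0 p hp with h3 | h3
      · exact absurd (hg4 h3) hgp
      · exact sinv h3
    have hp1i : p1 * r0 * p1⁻¹ = r0⁻¹ := by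
      rcases hin0 p1 hp1P with h3 | h3
      · exfalso
        apply hgp
        have h4 := hg4 h3
        have e : p = p1 := by
          calc p = g⁻¹ * p1 * g := by rw [hp1]; group
            _ = g⁻¹ * (g * p1) := by rw [mul_assoc, ← h4]
            _ = p1 := by group
        rw [e]; exact h4
      · exact sinv h3
    have hq4 : In4 z r0 (p⁻¹ * p1) := by
      have hqP' : p⁻¹ * p1 ∈ P := mul_mem (inv_mem hp) hp1P
      rcases hin0 _ hqP' with h3 | h3
      · exact h3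
      · exfalso
        have h4 := sinv h3
        have h5' : p⁻¹ * p1 * r0 * (p⁻¹ * p1)⁻¹ = r0 := by
          calc p⁻¹ * p1 * r0 * (p⁻¹ * p1)⁻¹ = p⁻¹ * (p1 * r0 * p1⁻¹) * p := by group
            _ = p⁻¹ * (p * r0 * p⁻¹) * p := by rw [hp1i, hpi]
            _ = r0 := by group
        rw [h5'] at h4
        exact sq_ne_inv o.w hz hrr0 h4
    have hgpp : g * p * g⁻¹ = p * (p⁻¹ * p1) := by rw [← hp1]; group
    have fin : ∀ s : G, s * s = z → g * s = s * g → g * p * g⁻¹ = p * s → False := by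
      intro s hs hgs hps
      apply hgp
      refine Three.comm_of_pow_two (n := 2) ho ?_
      have e1 : g * g * p * (g * g)⁻¹ = p * z := by
        calc g * g * p * (g * g)⁻¹ = g * (g * p * g⁻¹) * g⁻¹ := by group
          _ = g * (p * s) * g⁻¹ := by rw [hps]
          _ = (g * p * g⁻¹) * (g * s * g⁻¹) := by group
          _ = p * (s * s) := by rw [hps, hgs, mul_inv_cancel_right, mul_assoc]
          _ = p * z := by rw [hs]
      have e2 : g ^ 2 ^ 2 * p * (g ^ 2 ^ 2)⁻¹ = p := by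
        rw [show (2 : ℕ) ^ 2 = 2 * 2 by norm_num, pow_mul, pow_two, pow_two]
        calc g * g * (g * g) * p * (g * g * (g * g))⁻¹ = (g * g) * (g * g * p * (g * g)⁻¹) * (g * g)⁻¹ := by group
          _ = (g * g) * (p * z) * (g * g)⁻¹ := by rw [e1]
          _ = (g * g * p * (g * g)⁻¹) * (g * (g * z * g⁻¹) * g⁻¹) := by group
          _ = p := by
            have e3 : g * z * g⁻¹ = z := by rw [hgz, mul_inv_cancel_right]
            rw [e1, e3, e3, mul_assoc, zz1, mul_one]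
      exact mul_inv_eq_iff_eq_mul.1 e2
    rcases hq4 with h3 | h3 | h3 | h3
    · rw [h3, mul_one] at hgpp
      exact hgp (mul_inv_eq_iff_eq_mul.1 hgpp)
    · rw [h3] at hgpp
      exact hgp (odd2 (Or.inr hgpp))
    · exact fin _ hrr0 hgr (by rw [hgpp, h3])
    · refine fin (r0 * z) ?_ ?_ (by rw [hgpp, h3])
      · calc r0 * z * (r0 * z) = r0 * (z * r0) * z := by group
          _ = (r0 * r0) * (z * z) := by rw [← hr0z]; group
          _ = z := by rw [hrr0, zz1, mul_one]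
      · rw [← mul_assoc, hgr, mul_assoc, hgz, ← mul_assoc]

end OW

end Cfsg.Agent.Cit.Nil.Comp.AO
end

-- part: Cit/Nil/Comp/AO/HQuo
section
/-!
# S1309 (6b), `r = 1`, COMP, AllOne, (M2): the group `Y = H / C_H(BG)` (helper61)

`φ : H → Y` surjective with kernel `C_H(BG)`:

* `LC.cen_of` : an element centralising `L` centralises the members;
* `LC.qh` : `φ` is injective on the members and on `Z`;
* `LC.fsimp` : the image of `L` is simple with trivial centraliser;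
* `LC.ow` : the world of one class of `Y`.
-/

set_option autoImplicit false
set_option linter.style.haveILetI false
set_option linter.unusedSectionVars false

namespace Cfsg.Agent.Cit.Nil.Comp.AO

open Subgroup Cfsg Cfsg.Agent.Cit Cfsg.Agent.Cit.Nil.ROne Nil.IndDefs

universe u

section

variable {H : Type u} [Group H] [Finite H] {Z : Set H} {K : H → Subgroup H} {L : Subgroup H} {z g x a b : H}

namespace LC

variable (l : LC Z K L)

include l

/-- an element centralising `L` centralises the members -/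
theorem cen_of (w : W Z K) (hg : ∀ y ∈ L, g * y = y * g) (hz : z ∈ Z) : Cen K g z := by
  have hgz : g * z = z * g := hg z (l.mem z hz)
  intro k hk
  have hn := l.nor
  obtain ⟨c, hc⟩ : ∃ c, c = g * k * g⁻¹ * k⁻¹ := ⟨_, rfl⟩
  have hcK : c ∈ K z := by rw [hc]; exact mul_mem (w.norm_mem hz hgz hk) (inv_mem hk)
  have hcL : ∀ y ∈ L, c * y = y * c := by
    intro y hy
    have h1 : k⁻¹ * y * k ∈ L := by
      have := hn.conj_mem y hy k⁻¹
      rwa [inv_inv] at this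
    have h2 := hg _ h1
    have h3 : g⁻¹ * y = y * g⁻¹ := by
      have := hg y hy
      calc g⁻¹ * y = g⁻¹ * (y * g) * g⁻¹ := by group
        _ = g⁻¹ * (g * y) * g⁻¹ := by rw [this]
        _ = y * g⁻¹ := by group
    calc c * y = g * k * g⁻¹ * k⁻¹ * y := by rw [hc]
      _ = g * k * g⁻¹ * (k⁻¹ * y * k) * k⁻¹ := by group
      _ = g * k * ((k⁻¹ * y * k) * g⁻¹) * k⁻¹ := by
        have h4 : g⁻¹ * (k⁻¹ * y * k) = (k⁻¹ * y * k) * g⁻¹ := by
          calc g⁻¹ * (k⁻¹ * y * k) = g⁻¹ * ((k⁻¹ * y * k) * g) * g⁻¹ := by group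
            _ = g⁻¹ * (g * (k⁻¹ * y * k)) * g⁻¹ := by rw [h2]
            _ = _ := by group
        rw [mul_assoc (g * k), h4]
      _ = (g * y) * k * g⁻¹ * k⁻¹ := by group
      _ = y * (g * k * g⁻¹ * k⁻¹) := by rw [hg y hy]; group
      _ = y * c := by rw [hc]
  have h1 : ∀ b ∈ BG Z K, c * b = b * c := l.cenB c (le_BG hz hcK) hcL
  have h2 : c = 1 := by
    rcases mem_of_cen_cases w hz hcK (fun k' hk' => h1 k' (le_BG hz hk')) with h3 | h3
    · exact h3
    · exfalso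
      obtain ⟨b, hb, hne⟩ := l.ncen z hz
      apply hne
      rw [← h3]
      exact h1 b hb
  rw [hc, mul_inv_eq_one, mul_inv_eq_iff_eq_mul] at h2
  exact h2

/-- `C_H(L) = C_H(BG)` -/
theorem cen_BG (w : W Z K) (hg : ∀ y ∈ L, g * y = y * g) (hb : b ∈ BG Z K) : g * b = b * g := by
  have h1 : BG Z K ≤ centralizer {g} := BG_le fun z hz k hk =>
    mem_centralizer_singleton_iff.2 (l.cen_of w hg hz k hk).symm
  exact (mem_centralizer_singleton_iff.1 (h1 hb)).symm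

theorem centralizer_eq (w : W Z K) : centralizer (L : Set H) = centralizer (BG Z K : Set H) := by
  refine le_antisymm ?_ (centralizer_le l.le)
  intro g hg
  rw [mem_centralizer_iff]
  intro b hb
  exact (l.cen_BG w (fun y hy => (mem_centralizer_iff.1 hg y hy).symm) hb).symm

end LC

section quot

variable {Y : Type u} [Group Y] {φ : H →* Y}

theorem mem_ker_iff (hk : φ.ker = centralizer (BG Z K : Set H)) : φ g = 1 ↔ ∀ b ∈ BG Z K, g * b = b * g := by
  rw [← MonoidHom.mem_ker, hk, mem_centralizer_iff]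
  exact ⟨fun h b hb => (h b hb).symm, fun h b hb => (h b hb).symm⟩

theorem cen_of_ker (hk : φ.ker = centralizer (BG Z K : Set H)) (h1 : φ g = 1) (hz : z ∈ Z) : Cen K g z :=
  fun _ hk' => (mem_ker_iff hk).1 h1 _ (le_BG hz hk')

theorem ker_of_cen (hk : φ.ker = centralizer (BG Z K : Set H)) (h1 : ∀ z ∈ Z, Cen K g z) : φ g = 1 := by
  rw [mem_ker_iff hk]
  intro b hb
  have h2 : BG Z K ≤ centralizer {g} := BG_le fun z hz k hk =>
    mem_centralizer_singleton_iff.2 (h1 z hz k hk).symm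
  exact (mem_centralizer_singleton_iff.1 (h2 hb)).symm

theorem LC.qh (l : LC Z K L) (w : W Z K) (nc : ∀ z ∈ Z, ∀ u ∈ Z, ¬ CP K z u) (hs : Function.Surjective φ)
    (hk : φ.ker = centralizer (BG Z K : Set H)) : QH φ Z K where
  w := w
  surj := hs
  inj := by
    intro u hu k hk' h1
    rcases mem_of_cen_cases w hu hk' (cen_of_ker hk h1 hu) with h2 | h2
    · exact h2
    · exfalso
      obtain ⟨b, hb, hne⟩ := l.ncen u hu
      apply hne
      rw [h2] at h1
      exact (mem_ker_iff hk).1 h1 b hb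
  uq := by
    intro u hu v hv h1
    by_contra hne
    have h2 : φ (u⁻¹ * v) = 1 := by rw [map_mul, map_inv, h1, inv_mul_cancel]
    have h3 := cen_of_ker hk h2 hu
    apply nc u hu v hv
    refine w.csymm hu hv hne fun k hk' => ?_
    have h4 := h3 k hk'
    calc v * k = u * ((u⁻¹ * v) * k) := by group
      _ = u * k * (u⁻¹ * v) := by rw [h4]; group
      _ = k * u * (u⁻¹ * v) := by rw [w.cent hu hk']
      _ = k * v := by group

/-- the image of `L` is simple with trivial centraliser -/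
theorem LC.fsimp (l : LC Z K L) (w : W Z K) (hs : Function.Surjective φ)
    (hk : φ.ker = centralizer (BG Z K : Set H)) : FSimp (L.map φ) := by
  have hCL : centralizer (L : Set H) = φ.ker := by rw [l.centralizer_eq w, hk]
  have hperf : Group.IsPerfect L := l.qs.1
  have hcen : centralizer ((L.map φ : Subgroup Y) : Set Y) = ⊥ := by
    rw [eq_bot_iff]
    intro y hy
    obtain ⟨g, rfl⟩ := hs y
    obtain ⟨X, hX⟩ : ∃ X : Subgroup H, X = (centralizer ((L.map φ : Subgroup Y) : Set Y)).comap φ := ⟨_, rfl⟩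
    have hgX : g ∈ X := by rw [hX]; exact hy
    have hn := l.nor
    have h1 : ⁅X, L⁆ ≤ φ.ker := by
      rw [commutator_le]
      intro y hy l' hl
      rw [hX, mem_comap, mem_centralizer_iff] at hy
      have h3 := hy (φ l') ⟨l', hl, rfl⟩
      rw [MonoidHom.mem_ker, commutatorElement_def, map_mul, map_mul, map_mul, ← h3, map_inv, map_inv]
      group
    have h3 : ⁅⁅X, L⁆, L⁆ = ⊥ := by
      rw [commutator_eq_bot_iff_le_centralizer]
      rw [hCL]
      exact h1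
    have h4 := SignalizersComponents.Components.commutator_eq_bot_of_commutator_commutator_eq_bot hperf h3
    rw [commutator_eq_bot_iff_le_centralizer, hCL] at h4
    exact MonoidHom.mem_ker.1 (h4 hgX)
  obtain ⟨g, hg⟩ : ∃ g : ↥L →* ↥(L.map φ), g = φ.subgroupMap L := ⟨_, rfl⟩
  have hgs : Function.Surjective g := by rw [hg]; exact φ.subgroupMap_surjective L
  have hgk : g.ker = center ↥L := by
    ext y
    rw [MonoidHom.mem_ker, mem_center_iff, hg]
    constructor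
    · intro h1 v
      have h3 : (y : H) ∈ φ.ker := congrArg Subtype.val h1
      rw [← hCL, mem_centralizer_iff] at h3
      exact Subtype.ext (h3 v v.2)
    · intro h1
      have h3 : (y : H) ∈ centralizer (L : Set H) := by
        rw [mem_centralizer_iff]
        intro v hv
        exact congrArg Subtype.val (h1 ⟨v, hv⟩)
      rw [hCL] at h3
      exact Subtype.ext (MonoidHom.mem_ker.1 h3)
  have hsimp : IsSimpleGroup ↥(L.map φ) := by
    have hs : IsSimpleGroup (↥L ⧸ center ↥L) := l.qs.2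
    have e : ↥(L.map φ) ≃* ↥L ⧸ center ↥L :=
      ((QuotientGroup.quotientMulEquivOfEq hgk).symm.trans (QuotientGroup.quotientKerEquivOfSurjective g hgs)).symm
    exact e.isSimpleGroup
  refine ⟨l.nor.map φ hs, hsimp, ?_, hcen⟩
  intro hcm
  have h1 : L.map φ ≤ centralizer ((L.map φ : Subgroup Y) : Set Y) := by
    intro a ha
    rw [mem_centralizer_iff]
    intro b hb
    exact hcm b hb a ha
  rw [hcen, le_bot_iff] at h1
  have h3 : Nontrivial ↥(L.map φ) := hsimp.toNontrivial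
  rw [h1] at h3
  exact not_nontrivial _ h3

/-- the world of one class of `Y` -/
theorem LC.ow (l : LC Z K L) (w : W Z K) (nc : ∀ z ∈ Z, ∀ u ∈ Z, ¬ CP K z u) (hs : Function.Surjective φ)
    (hk : φ.ker = centralizer (BG Z K : Set H)) [Finite Y] (h71 : oddCore Y = ⊥ → OneF.H1171 Y)
    (h73 : oddCore Y = ⊥ → OneF.H1173 Y) : OW (φ '' Z) (Kq φ Z K) := by
  have q := l.qh w nc hs hk
  have f := l.fsimp w hs hk
  refine ⟨q.wq, q.nc nc, fun z hz t ht hne hc b hb h1 h2 => ?_⟩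
  refine f1_of q.wq (q.nc nc) f ?_ h71 h73 hz ht hne hc hb h1 h2
  rintro _ ⟨u, hu, rfl⟩
  exact ⟨u, l.mem u hu, rfl⟩

end quot

end

end Cfsg.Agent.Cit.Nil.Comp.AO
end

-- part: Cit/Nil/Comp/AO/HTop
section
/-!
# S1309 (6b), `r = 1`, COMP, AllOne, (M2): the world `XW` in the image of `BG` (helper61)

`φ : H → Y` surjective with kernel `C_H(BG)`, `T` the image of `BG`: `LC.xw`.
-/

set_option autoImplicit false
set_option linter.style.haveILetI false
set_option linter.unusedSectionVars false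

namespace Cfsg.Agent.Cit.Nil.Comp.AO

open Subgroup Cfsg Cfsg.Agent.Cit Cfsg.Agent.Cit.Nil.ROne Nil.IndDefs

universe u

/-- no C-pairs: one class -/
theorem oneCls_of_nc {G : Type*} [Group G] [Finite G] {Z : Set G} {K : G → Subgroup G} (w : W Z K)
    (nc : ∀ z ∈ Z, ∀ u ∈ Z, ¬ CP K z u) : OneCls Z := by
  haveI : Fact (Nat.Prime 2) := ⟨Nat.prime_two⟩
  intro z hz u hu
  obtain ⟨S, hS⟩ := (w.two hz).exists_le_sylow
  obtain ⟨S', hS'⟩ := (w.two hu).exists_le_sylow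
  obtain ⟨g, hg⟩ := MulAction.exists_smul_eq G S S'
  have hS1 : (S' : Subgroup G) = cj g (S : Subgroup G) := by
    rw [← hg]
    rfl
  refine ⟨g, ?_⟩
  by_contra hne
  refine nc _ (w.conjZ z hz g) u hu (w.com (w.conjZ z hz g) hu S'.isPGroup' ?_ hS' hne)
  rw [w.conjK z hz, hS1]
  exact cj_mono g hS

/-- the restriction of `OW` -/
theorem OW.restr {G : Type*} [Group G] {Z : Set G} {K : G → Subgroup G} (o : OW Z K) {T : Subgroup G}
    (hle : ∀ u ∈ Z, K u ≤ T) : OW (Zr T Z) (Kr T K) where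
  w := wr o.w (fun _ h => h) hle fun u hu g _ => o.w.conjZ u hu g
  nc u hu v hv h := o.nc u hu v hv ((cp_r hle hu hv).1 h)
  f1 u hu v hv hne hc b hb h1 h2 := by
    refine Subtype.ext (o.f1 u hu v hv (fun h => hne (Subtype.ext h)) (congrArg Subtype.val hc) b ?_
      ((cen_r hle hu).1 h1) ((cen_r hle hv).1 h2))
    have h3 := hb.map T.subtype
    rwa [MonoidHom.map_zpowers] at h3

section quot

variable {H : Type u} [Group H] {Y : Type u} [Group Y] {φ : H →* Y} {Z : Set H} {K : H → Subgroup H}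

theorem QH.c3 (q : QH φ Z K) (h : ROne.C3 Z K) : ROne.C3 (φ '' Z) (Kq φ Z K) := by
  rintro _ ⟨u, hu, rfl⟩ y hy hyy
  rw [q.Kq_eq hu] at hy
  obtain ⟨k, hk, rfl⟩ := hy
  have hkk : k * k = u := by
    have h1 : φ (k * k * u⁻¹) = 1 := by rw [map_mul, map_mul, hyy, map_inv, mul_inv_cancel]
    have h2 := q.inj u hu _ (mul_mem (mul_mem hk hk) (inv_mem (q.w.mem u hu))) h1
    exact mul_inv_eq_one.1 h2
  obtain ⟨g, hg, h1, h2⟩ := h u hu k hk hkk
  have hinj : ∀ {a b : H}, a ∈ K u → b ∈ K u → φ a = φ b → a = b := by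
    intro a b ha hb hab
    have h3 := q.inj u hu (a * b⁻¹) (mul_mem ha (inv_mem hb)) (by rw [map_mul, map_inv, hab, mul_inv_cancel])
    exact mul_inv_eq_one.1 h3
  refine ⟨φ g, by rw [← map_mul, hg, map_mul], fun h3 => h1 ?_, fun h3 => h2 ?_⟩
  · refine hinj (q.w.norm_mem hu hg hk) hk ?_
    rw [map_mul, map_mul, map_inv, h3]
  · refine hinj (q.w.norm_mem hu hg hk) (inv_mem hk) ?_
    rw [map_mul, map_mul, map_inv, h3, map_inv]

variable [Finite H] [Finite Y] {L : Subgroup H}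

theorem Kq_le (q : QH φ Z K) : ∀ y ∈ φ '' Z, Kq φ Z K y ≤ (BG Z K).map φ := by
  rintro _ ⟨u, hu, rfl⟩
  rw [q.Kq_eq hu]
  exact Subgroup.map_mono (le_BG hu)

theorem FSimp.restr {D T : Subgroup Y} (f : FSimp D) (hD : D ≤ T) : FSimp (D.subgroupOf T) where
  nor := f.nor.subgroupOf T
  sim := by
    haveI := f.sim
    exact (subgroupOfEquivOfLe hD).isSimpleGroup
  na hcm := f.na fun x hx y hy =>
    congrArg Subtype.val (hcm ⟨x, hD hx⟩ (mem_subgroupOf.2 hx) ⟨y, hD hy⟩ (mem_subgroupOf.2 hy))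
  cen := by
    rw [eq_bot_iff]
    intro x hx
    have h1 : (x : Y) ∈ centralizer (D : Set Y) := by
      rw [mem_centralizer_iff] at hx ⊢
      intro y hy
      exact congrArg Subtype.val (hx ⟨y, hD hy⟩ (mem_subgroupOf.2 hy))
    rw [f.cen, mem_bot] at h1
    exact Subtype.ext h1

/-- an N-partner -/
theorem np_of {G : Type*} [Group G] [Finite G] {Z : Set G} {K : G → Subgroup G} {D : Subgroup G} (w : W Z K)
    (f : FSimp D) (hD : ∀ z ∈ Z, z ∈ D) : ∀ z ∈ Z, ∃ t ∈ Z, t ≠ z ∧ z * t = t * z := by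
  intro z hz
  by_contra hcon
  push Not at hcon
  obtain ⟨N, hN, hodd, hc⟩ := Parab.zstar (w.ord hz) (fun g hg => by
    by_contra hne
    exact hcon _ (w.conjZ z hz g) hne hg.symm)
  by_cases hN1 : N = ⊥
  · have h1 : z ∈ centralizer (D : Set G) := by
      rw [mem_centralizer_iff]
      intro y _
      have h2 := hc y
      rw [hN1, mem_bot, mul_inv_eq_one, mul_inv_eq_iff_eq_mul] at h2
      exact h2.symm
    rw [f.cen, mem_bot] at h1
    exact w.ne z hz h1
  · have h1 := f.le (N := N) (fun g _ n hn => hN.conj_mem n hn g) hN1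
    have h2 : (2 : ℕ) ∣ Nat.card N := by
      rw [← w.ord hz, ← Subgroup.orderOf_mk z (h1 (hD z hz))]
      exact orderOf_dvd_natCard _
    exact (Nat.not_even_iff_odd.2 hodd) (even_iff_two_dvd.2 h2)

/-- **the world `XW` in the image `T` of `BG`** -/
theorem LC.xw (l : LC Z K L) (w : W Z K) (nc : ∀ z ∈ Z, ∀ u ∈ Z, ¬ CP K z u) (c3 : ROne.C3 Z K)
    (hs : Function.Surjective φ) (hk : φ.ker = centralizer (BG Z K : Set H))
    (h71 : oddCore Y = ⊥ → OneF.H1171 Y) (h73 : oddCore Y = ⊥ → OneF.H1173 Y) :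
    XW (Zr ((BG Z K).map φ) (φ '' Z)) (Kr ((BG Z K).map φ) (Kq φ Z K)) ((L.map φ).subgroupOf ((BG Z K).map φ)) := by
  have q := l.qh w nc hs hk
  have f := l.fsimp w hs hk
  have o := l.ow w nc hs hk h71 h73
  have hle := Kq_le q
  have oT := o.restr hle
  have fT := FSimp.restr f (T := (BG Z K).map φ) (Subgroup.map_mono l.le)
  have hmem : ∀ z ∈ Zr ((BG Z K).map φ) (φ '' Z), z ∈ (L.map φ).subgroupOf ((BG Z K).map φ) := by
    rintro ⟨z, hzT⟩ ⟨u, hu, hzu⟩
    rw [mem_subgroupOf]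
    exact ⟨u, l.mem u hu, hzu⟩
  have np := np_of oT.w fT hmem
  have hTn : ((BG Z K).map φ).Normal := (BG_normal w).map φ hs
  refine ⟨oT, oneCls_of_nc oT.w oT.nc, fT, hmem, ?_, np, ?_⟩
  · -- `top`
    intro H' h1
    rw [eq_top_iff]
    rintro ⟨x, b, hb, rfl⟩ -
    have h2 : BG Z K ≤ (H'.map ((BG Z K).map φ).subtype).comap φ := BG_le fun z hz k hk' => by
      have h3 : φ k ∈ (BG Z K).map φ := ⟨k, le_BG hz hk', rfl⟩
      refine mem_comap.2 ⟨⟨φ k, h3⟩, ?_, rfl⟩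
      refine h1 ⟨φ z, z, le_BG hz (w.mem z hz), rfl⟩ ⟨z, hz, rfl⟩ ?_
      rw [mem_Kr]
      change φ k ∈ Kq φ Z K (φ z)
      rw [q.Kq_eq hz]
      exact ⟨k, hk', rfl⟩
    obtain ⟨y, hy, h3⟩ := h2 hb
    have h4 : y = ⟨φ b, ⟨b, hb, rfl⟩⟩ := Subtype.ext h3
    rwa [← h4]
  · -- `rot`
    intro z hz
    obtain ⟨t, ht, hne, hc⟩ := np z hz
    have hc' : (z : Y) * t = t * z := congrArg Subtype.val hc
    have hne' : (z : Y) ≠ t := fun h => hne (Subtype.ext h.symm)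
    have c3q := q.c3 c3
    have main : ∀ (s y : Y), s ∈ (BG Z K).map φ → s * z = z * s → y ∈ Kq φ Z K z → y * y = z →
        (s * y * s⁻¹ = y ∨ s * y * s⁻¹ = y⁻¹) → (∀ b ∈ Kq φ Z K z, b * b = z → b ≠ y → b ≠ y⁻¹ →
          s * b * s⁻¹ ≠ b ∧ s * b * s⁻¹ ≠ b⁻¹) →
        ∃ c : ↥((BG Z K).map φ), c * z = z * c ∧ Odd (orderOf c) ∧ ¬ Cen (Kr ((BG Z K).map φ) (Kq φ Z K)) c z := by
      intro s y hs' hsz hy hyy h1 h2
      obtain ⟨g, hg, hg1, hg2⟩ := c3q z hz y hy hyy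
      obtain ⟨d, hd, hdz, hdo, hdn⟩ := exists_rot_in o.w hz hTn hs' hsz hy hyy h1 h2 hg hg1 hg2
      refine ⟨⟨d, hd⟩, Subtype.ext hdz, ?_, fun h => hdn ((cen_r hle hz).1 h)⟩
      rwa [Subgroup.orderOf_mk]
    rcases o.w.tri hz ht hne' hc' with h1 | h1 | h1
    · exact absurd h1 (o.nc _ hz _ ht)
    · obtain ⟨y, y', i, i'⟩ := h1
      have hyz : y' * z = z * y' := (o.w.comm_of_inn i').symm
      obtain ⟨h2, h3⟩ := o.w.ti_act hz i i'.sq hyz
      exact main y' y (hle _ ht i'.mem) hyz i.mem i.sq (Or.inl h2) h3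
    · obtain ⟨b, b', i, -⟩ := h1
      exact main t b t.2 hc'.symm i.mem i.sq (Or.inr i.inv) i.ne

end quot

end Cfsg.Agent.Cit.Nil.Comp.AO
end

-- part: Cit/Nil/Comp/AO/HRes
section
/-!
# S1309 (6b), `r = 1`, COMP, AllOne, (M2): the results for `H` (= `C(z)`) (helper61)

* `HW.r1` : two commuting N-partners of `a` (if no member has `Three`);
* `HW.r2` : an involution `b` centralising `K a` : `b` or `b a` centralises all members;
* `HW.r3` : the commuting graph on `Z` is connected.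
-/

set_option autoImplicit false
set_option linter.style.haveILetI false
set_option linter.unusedSectionVars false

namespace Cfsg.Agent.Cit.Nil.Comp.AO

open Subgroup Cfsg Cfsg.Agent.Cit Cfsg.Agent.Cit.Nil.ROne Nil.IndDefs

universe u

/-- the external inputs -/
structure AOIn : Prop where
  hev : ∀ (G : Type u) [Group G] [Finite G], Comp.EvQ G
  h71 : ∀ (G : Type u) [Group G] [Finite G], oddCore G = ⊥ → OneF.H1171 G
  h73 : ∀ (G : Type u) [Group G] [Finite G], oddCore G = ⊥ → OneF.H1173 G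
  bend : ∀ (G : Type u) [Group G] [Finite G] [IsSimpleGroup G], CloEnd.Bend G
  c75 : ∀ (G : Type u) [Group G] [Finite G] [IsSimpleGroup G], CloEnd.Crit1175 G

/-- (P2) -/
def ConnStmt : Prop := ∀ (G : Type u) [Group G] [Finite G] (Z : Set G) (K : G → Subgroup G) (D : Subgroup G),
  XW Z K D → CloEnd.Bend ↥D → CloEnd.Crit1175 ↥D → ∀ z ∈ Z, ∀ u ∈ Z,
    Relation.ReflTransGen (fun a b => a ∈ Z ∧ b ∈ Z ∧ a * b = b * a) z u

section

variable {H : Type u} [Group H] [Finite H] {Z : Set H} {K : H → Subgroup H} {a b z t u v : H}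

/-- everything for a good quotient -/
theorem HW.exists_quot (h : HW Z K) (e : AOIn.{u}) : ∃ (L : Subgroup H) (Y : Type u) (_ : Group Y) (_ : Finite Y)
    (φ : H →* Y), LC Z K L ∧ Function.Surjective φ ∧ φ.ker = centralizer (BG Z K : Set H) ∧ QH φ Z K ∧
      OW (φ '' Z) (Kq φ Z K) ∧ FSimp (L.map φ) := by
  obtain ⟨L, l⟩ := h.exists_lc e.hev
  haveI := BG_normal h.w
  haveI hn : (centralizer (BG Z K : Set H)).Normal := inferInstance
  have hs := QuotientGroup.mk'_surjective (centralizer (BG Z K : Set H))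
  have hk := QuotientGroup.ker_mk' (centralizer (BG Z K : Set H))
  exact ⟨L, _, _, inferInstance, QuotientGroup.mk' (centralizer (BG Z K : Set H)), l, hs, hk, l.qh h.w h.nc hs hk,
    l.ow h.w h.nc hs hk (e.h71 _) (e.h73 _), l.fsimp h.w hs hk⟩

/-- **(R2)** -/
theorem HW.r2 (h : HW Z K) (e : AOIn.{u}) (ha : a ∈ Z) (hb : Cen K b a) (hbb : b * b = 1) :
    (∀ v ∈ Z, Cen K b v) ∨ ∀ v ∈ Z, Cen K (b * a) v := by
  obtain ⟨L, Y, _, _, φ, l, hs, hk, q, o, f⟩ := h.exists_quot e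
  have hnp := np_of o.w f (by
    rintro _ ⟨u, hu, rfl⟩
    exact ⟨u, l.mem u hu, rfl⟩) (φ a) ⟨a, ha, rfl⟩
  rcases o.uniq ⟨a, ha, rfl⟩ hnp (q.cen' ha hb) (by rw [← map_mul, hbb, map_one]) with h1 | h1
  · left
    exact fun v hv => cen_of_ker hk h1 hv
  · right
    have h2 : φ (b * a) = 1 := by rw [map_mul, h1, ← map_mul, h.w.sq a ha, map_one]
    exact fun v hv => cen_of_ker hk h2 hv

/-- **(R3)** -/
theorem HW.r3 (h : HW Z K) (c3 : ROne.C3 Z K) (e : AOIn.{u}) (hc : ConnStmt.{u}) : ∀ z ∈ Z, ∀ u ∈ Z,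
    Relation.ReflTransGen (fun a b => a ∈ Z ∧ b ∈ Z ∧ a * b = b * a) z u := by
  obtain ⟨L, Y, _, _, φ, l, hs, hk, q, o, f⟩ := h.exists_quot e
  have x := l.xw h.w h.nc c3 hs hk (e.h71 _) (e.h73 _)
  haveI := x.f.sim
  have h1 := hc _ _ _ _ x (e.bend _) (e.c75 _)
  intro z hz u hu
  have key : ∀ y, Relation.ReflTransGen (fun a b => a ∈ Zr ((BG Z K).map φ) (φ '' Z) ∧
      b ∈ Zr ((BG Z K).map φ) (φ '' Z) ∧ a * b = b * a) (⟨φ z, ⟨z, le_BG hz (h.w.mem z hz), rfl⟩⟩ : ↥((BG Z K).map φ)) y →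
      ∃ v ∈ Z, φ v = y ∧ Relation.ReflTransGen (fun a b => a ∈ Z ∧ b ∈ Z ∧ a * b = b * a) z v := by
    intro y hy
    induction hy with
    | refl => exact ⟨z, hz, rfl, .refl⟩
    | tail _ h3 ih =>
      obtain ⟨v, hv, hvy, h4⟩ := ih
      obtain ⟨-, ⟨v', hv', hvy'⟩, h5⟩ := h3
      refine ⟨v', hv', hvy', h4.tail ⟨hv, hv', q.comm hv' ?_⟩⟩
      rw [hvy, hvy']
      exact congrArg Subtype.val h5
  obtain ⟨v, hv, hvu, h2⟩ := key ⟨φ u, ⟨u, le_BG hu (h.w.mem u hu), rfl⟩⟩ (h1 _ ⟨z, hz, rfl⟩ _ ⟨u, hu, rfl⟩)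
  rw [q.uq v hv u hu hvu] at h2
  exact h2

/-- `T0` for `H` -/
theorem HW.t0' (h : HW Z K) : T0 (K '' Z) where
  hyp := h.w.hyp
  card := by
    rintro _ ⟨z, hz, rfl⟩
    exact h.w.card8 hz
  core := h.core

/-- `Three` in the image of `BG` lifts to `H` -/
theorem HW.three_lift (h : HW Z K) {Y : Type u} [Group Y] [Finite Y] {φ : H →* Y} {L : Subgroup H} (l : LC Z K L)
    (hs : Function.Surjective φ) (hk : φ.ker = centralizer (BG Z K : Set H)) (q : QH φ Z K) (ha : a ∈ Z)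
    (haT : φ a ∈ (BG Z K).map φ) (h3 : Three (Kr ((BG Z K).map φ) (Kq φ Z K) ⟨φ a, haT⟩)) : Three (K a) := by
  haveI := BG_normal h.w
  obtain ⟨f, hf⟩ : ∃ f : ↥(BG Z K) →* ↥((BG Z K).map φ), f = φ.subgroupMap (BG Z K) := ⟨_, rfl⟩
  have hfs : Function.Surjective f := by rw [hf]; exact φ.subgroupMap_surjective _
  have hfv : ∀ x, ((f x : ↥((BG Z K).map φ)) : Y) = φ x := fun x => by rw [hf]; rfl
  have hfk : f.ker = center ↥(BG Z K) := by
    ext x
    have e1 : x ∈ f.ker ↔ φ x = 1 := by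
      rw [MonoidHom.mem_ker, ← hfv]
      exact ⟨fun h1 => congrArg Subtype.val h1, fun h1 => Subtype.ext h1⟩
    rw [e1, mem_ker_iff hk, mem_center_iff]
    constructor
    · intro h1 b
      exact Subtype.ext (h1 b b.2).symm
    · intro h1 b hb
      exact (congrArg Subtype.val (h1 ⟨b, hb⟩)).symm
  have hmap : ((K a).subgroupOf (BG Z K)).map f = Kr ((BG Z K).map φ) (Kq φ Z K) ⟨φ a, haT⟩ := by
    ext y
    rw [mem_Kr]
    change _ ↔ (y : Y) ∈ Kq φ Z K (φ a)
    rw [q.Kq_eq ha]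
    constructor
    · rintro ⟨x, hx, rfl⟩
      exact ⟨x, mem_subgroupOf.1 hx, (hfv x).symm⟩
    · rintro ⟨k, hk', h1⟩
      exact ⟨⟨k, le_BG ha hk'⟩, mem_subgroupOf.2 hk', Subtype.ext ((hfv _).trans h1)⟩
  have h1 : Three ((K a).subgroupOf (BG Z K)) := by
    refine Ind.three_lift (f := f) (Om := restr (K '' Z) (BG Z K)) ⟨h.t0.hyp, h.t0.card⟩ hfs hfk.le ?_ ?_
      (restr_mem ha) ?_
    · rw [hfk, ← l.p2]
      exact Lib.Cores.pCore_isPGroup 2
    · intro A hA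
      obtain ⟨z, hz, rfl⟩ := mem_restr_BG hA
      rw [eq_bot_iff]
      rintro x ⟨hx1, hx2⟩
      have h2 : φ x = 1 := by rw [← hfv, MonoidHom.mem_ker.1 hx2]; rfl
      exact Subtype.ext (q.inj z hz _ (mem_subgroupOf.1 hx1) h2)
    · rw [hmap]
      exact h3
  have h2 := Ind.SubB.three_map h.t0' (BG_normal h.w).isSubnormal (restr_mem ha) h1
  rwa [map_subgroupOf_eq_of_le (le_BG ha)] at h2

/-- **(R1)** -/
theorem HW.r1 (h : HW Z K) (c3 : ROne.C3 Z K) (e : AOIn.{u}) (ha : a ∈ Z) (h3 : ¬ Three (K a)) :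
    ∃ t ∈ Z, ∃ t' ∈ Z, t ≠ a ∧ t' ≠ a ∧ t * a = a * t ∧ t' * a = a * t' ∧ t * t' = t' * t ∧ t' ≠ t ∧ t' ≠ a * t := by
  obtain ⟨L, Y, _, _, φ, l, hs, hk, q, o, f⟩ := h.exists_quot e
  have x := l.xw h.w h.nc c3 hs hk (e.h71 _) (e.h73 _)
  have haT : φ a ∈ (BG Z K).map φ := ⟨a, le_BG ha (h.w.mem a ha), rfl⟩
  have hz : (⟨φ a, haT⟩ : ↥((BG Z K).map φ)) ∈ Zr ((BG Z K).map φ) (φ '' Z) := ⟨a, ha, rfl⟩
  by_contra hcon
  push Not at hcon
  apply h3
  refine h.three_lift l hs hk q ha haT ?_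
  refine x.three_of_clique hz (fun P hP hPc => x.toOW.card_le hz (x.np _ hz) hP hPc)
    (fun P g hP hPc hgz ho hgP hne => x.toOW.rot_two hz (x.np _ hz) hP hPc hgz ho hgP hne) ?_
  rintro ⟨t, htT⟩ ⟨t0, ht0, rfl⟩ ⟨t', htT'⟩ ⟨t0', ht0', rfl⟩ hne hne' hc hc' hcc
  have k1 : t0 * a = a * t0 := q.comm ha (congrArg Subtype.val hc)
  have k2 : t0' * a = a * t0' := q.comm ha (congrArg Subtype.val hc')
  have k3 : t0 * t0' = t0' * t0 := q.comm ht0' (congrArg Subtype.val hcc)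
  have n1 : t0 ≠ a := fun h1 => hne (Subtype.ext (by change φ t0 = φ a; rw [h1]))
  have n2 : t0' ≠ a := fun h1 => hne' (Subtype.ext (by change φ t0' = φ a; rw [h1]))
  by_cases h4 : t0' = t0
  · left
    exact Subtype.ext (by change φ t0' = φ t0; rw [h4])
  · right
    have h5 := hcon t0 ht0 t0' ht0' n1 n2 k1 k2 k3 h4
    exact Subtype.ext (by change φ t0' = φ a * φ t0; rw [h5, map_mul])

end

end Cfsg.Agent.Cit.Nil.Comp.AO
end

private theorem dce_84ebf38371f8 : _root_.True := by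
  try have : _root_.True := by simp only [_root_.Cfsg.Agent.Cit.Nil.Comp.AO.Kq.eq_1]
  exact _root_.True.intro
end

-- part: Cit/Nil/RTwo/Three
section
prune_inst 0x20100400000200000000024000044052000190002f8c0194000a400686350000040f20c4a0180310280a0c0034004813c400800010000000000c000119008080a840003200010406001f801005500000000000000000000000000000041004000000000
set_option linter.all false
open scoped Cfsg.Agent.FastGrp

-- part: Cit/Nil/RTwo/OFour
section
/-!
# S1309, `r = 2`, `m = 1`: (10.4) of the blueprint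

* `Lab.mem_Y` : `Y_V = C(⟨R_z, R_t⟩)` depends only on the label (for the lines on `z`);
* `DC.of_U` : if every translation is in `D_0` then all labels have the same directions;
* `CC.exists_kappa` : distinct commuting labels `c, c'`: an element of `X_z` inducing the cycle `c → c' → zcc' → c`;
* `CC.exists_conj_U` : all labels are conjugate under `X_z`.
-/

set_option autoImplicit false
set_option linter.style.haveILetI false
set_option linter.unusedSectionVars false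
set_option maxHeartbeats 400000

namespace Cfsg.Agent.Cit.Nil.RTwo

open Subgroup Cfsg Cit

variable {G : Type*} [Group G]

theorem rf_sub (i j k : Fin 3) : rf i (rf j k) = k + (j - i) := by revert i j k; decide

section

variable [Finite G] {Om : Set (Subgroup G)} {K K1 K2 L L1 L2 : Subgroup G} {z t t' g g' x y w c c' : G}
  {a b : Fin 3 → G} {v v' : Fin 3 × Fin 3}

/-- `C(⟨R_z, R_t⟩) ≤ C(c)` -/
theorem Lab.comm_of_Y (h : W2 Om) (l : Lab Om z t c) (hx : x ∈ CX Om z) (hxt : x ∈ CX Om t) : x * c = c * x :=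
  (l.comm_iff h hx).2 (CX_le l.ti.2.1 h hxt)

/-- `C(⟨R_z, R_t⟩)` is the same for all lines on `z` over `c` -/
theorem Lab.mem_Y (h : W2 Om) (l : Lab Om z t c) (l' : Lab Om z t' c) (hx : x ∈ CX Om z) (hxt : x ∈ CX Om t) :
    x ∈ CX Om t' := by
  obtain ⟨K1, K2, a, b, F⟩ := l.ti.1.exists_frame h
  obtain ⟨-, i, j, -, -, -, -, hp, -⟩ := l.theta h F
  obtain ⟨-, i', j', -, -, -, -, hq, -⟩ := l'.theta h F
  have hp' : (i, j) ∈ DC Om z a b c := ⟨t, l, hp⟩
  have hq' : (i', j') ∈ DC Om z a b c := ⟨t', l', hq⟩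
  obtain ⟨d, hd, -, hdc, hdX⟩ := DC.exists_tra h F hp' hq'
  have hxc := l.comm_of_Y h hx hxt
  have h1 := hdX x hx hxc
  have h2 : Dir z a b (d * t * d⁻¹ * c) (i', j').1 (i', j').2 := by
    have h3 := hd.dir F (p := (i, j)) hp
    rw [add_sub_cancel] at h3
    have e : d * (t * c) * d⁻¹ = d * t * d⁻¹ * c := by
      calc d * (t * c) * d⁻¹ = d * t * d⁻¹ * (d * c * d⁻¹) := by group
        _ = _ := by rw [hdc, mul_inv_cancel_right]
    rwa [e] at h3
  have h3 : x ∈ CX Om (d * t * d⁻¹) := by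
    have h4 := (CX_conj h d).2 hxt
    rwa [h1, mul_inv_cancel_right] at h4
  rcases F.eq_of_dir (p := (i', j')) h2 hq with h4 | h4
  · rw [h4]; exact h3
  · -- `t' = z (d t d⁻¹)`
    have l2 := l.conj_comm h hd.comm
    obtain ⟨u, hu, hu1⟩ := l2.ti.exists_R h
    rw [h4, ← hu1]
    have h5 := (CX_conj h u).2 h3
    have h6 : x * u = u * x := CX_comm hu hx
    rwa [← h6, mul_inv_cancel_right] at h5

/-- `C(⟨R_z, R_t⟩)` -/
theorem Lab.Y_eq (h : W2 Om) (l : Lab Om z t c) (l' : Lab Om z t' c) : CX Om z ⊓ CX Om t = CX Om z ⊓ CX Om t' :=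
  le_antisymm (fun _ hx => ⟨hx.1, l.mem_Y h l' hx.1 hx.2⟩) (fun _ hx => ⟨hx.1, l'.mem_Y h l hx.1 hx.2⟩)

/-- if every translation is in `D_0` then all labels have the same directions -/
theorem DC.of_U (h : W2 Om) (F : Frame Om z K1 K2 a b) (hU : ∀ g v, Tra z a b g v → v ∈ D0 Om z a b)
    (hc : c ∈ CC Om z) {q : Fin 3 × Fin 3} (hq : q ∈ DC Om z a b c') : q ∈ DC Om z a b c := by
  obtain ⟨p, hp⟩ := CC.exists_dir h F hc
  obtain ⟨t, l, hd⟩ := id hp
  obtain ⟨t', l', hd'⟩ := hq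
  obtain ⟨e1, -, z1, -, -, a1, b1, -⟩ := l.exists_theta h F hd
  obtain ⟨e2, -, z2, -, -, a2, b2, -⟩ := l'.exists_theta h F hd'
  have hz2 := l.z2 h
  have hgz : (e1 * e2) * z = z * (e1 * e2) := by rw [mul_assoc, z2, ← mul_assoc, z1, mul_assoc]
  have hT : Tra z a b (e1 * e2) (q - p) := by
    refine ⟨hgz, ?_, ?_⟩
    · have h1 := a2.comp hz2 a1 z1
      have e : rf p.1 * rf q.1 = Equiv.addRight (q - p).1 := Equiv.ext fun i => rf_sub _ _ i
      rwa [e] at h1
    · have h1 := b2.comp hz2 b1 z1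
      have e : rf p.2 * rf q.2 = Equiv.addRight (q - p).2 := Equiv.ext fun i => rf_sub _ _ i
      rwa [e] at h1
  have h1 := (D0.iff h F hp).1 (hU _ _ hT)
  rwa [add_sub_cancel] at h1

/-- the `X_z`-part of an element acting trivially on the directions -/
theorem Tra.exists_X (h : W2 Om) (F : Frame Om z K1 K2 a b) (ht : Tra z a b g 0) :
    ∃ r ∈ RZ Om z, ∃ x ∈ CX Om z, g = r * x := by
  have hz2 := F.k1.inZ.z2 h
  have e : Equiv.addRight (0 : Fin 3) = 1 := by ext i; simp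
  have hi : Inn Om z g := by
    intro K hK
    have h1 := ht.a
    have h2 := ht.b
    rw [show ((0 : Fin 3 × Fin 3)).1 = 0 from rfl, e] at h1
    rw [show ((0 : Fin 3 × Fin 3)).2 = 0 from rfl, e] at h2
    rcases F.k1.cases F.k2 h F.ne hK with rfl | rfl
    · exact h1.inner F.qa ht.comm
    · exact h2.inner F.qb ht.comm
  obtain ⟨u, hu, v, hv, -, -, hx⟩ := hi.exists_mul F.k1 F.k2 h F.ne F.qa F.qb
  exact ⟨u * v, mul_mem (F.k1.le_RZ hu) (F.k2.le_RZ hv), _, hx, by group⟩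

/-- the action of the `X_z`-part -/
theorem conj_of_RX {r : G} (hr : r ∈ RZ Om z) (hx : x ∈ CX Om z) (hy : y ∈ CX Om z) :
    r * x * y * (r * x)⁻¹ = x * y * x⁻¹ := by
  have h1 : (x * y * x⁻¹) * r = r * (x * y * x⁻¹) := CX_comm hr (mul_mem (mul_mem hx hy) (inv_mem hx))
  calc r * x * y * (r * x)⁻¹ = r * (x * y * x⁻¹) * r⁻¹ := by group
    _ = (x * y * x⁻¹) * r * r⁻¹ := by rw [h1]
    _ = _ := by group

/-- **(10.4)** -/
theorem CC.exists_kappa (h : W2 Om) (F : Frame Om z K1 K2 a b) (hU : ∀ g v, Tra z a b g v → v ∈ D0 Om z a b)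
    (hc : c ∈ CC Om z) (hc' : c' ∈ CC Om z) (hcc : c * c' = c' * c) (hne : c ≠ c') :
    ∃ k ∈ CX Om z, k * c * k⁻¹ = c' ∧ k * c' * k⁻¹ = z * c * c' ∧ k * (z * c * c') * k⁻¹ = c ∧
      ∀ x ∈ CX Om z, (∀ t, Lab Om z t c → x ∈ CX Om t) → (∀ t, Lab Om z t c' → x ∈ CX Om t) → k * x = x * k := by
  obtain ⟨p, hp⟩ := CC.exists_dir h F hc'
  obtain ⟨t, l, hd⟩ := DC.of_U h F hU hc hp
  obtain ⟨t', l', hd'⟩ := hp
  obtain ⟨e1, -, z1, c1, -, a1, b1, x1⟩ := l.exists_theta h F hd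
  obtain ⟨e2, -, z2, c2, -, a2, b2, x2⟩ := l'.exists_theta h F hd'
  have hz2 := l.z2 h
  have hcz := l.comm_z h
  have hcz' := l'.comm_z h
  have hcs := l.sq
  have hcs' := l'.sq
  have hgz : (e1 * e2) * z = z * (e1 * e2) := by rw [mul_assoc, z2, ← mul_assoc, z1, mul_assoc]
  have hT : Tra z a b (e1 * e2) 0 := by
    refine ⟨hgz, ?_, ?_⟩
    · have h1 := a2.comp hz2 a1 z1
      have e : rf p.1 * rf p.1 = Equiv.addRight (0 : Fin 3 × Fin 3).1 := Equiv.ext fun i => by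
        show rf p.1 (rf p.1 i) = i + 0
        rw [rf_sub, sub_self]
      rwa [e] at h1
    · have h1 := b2.comp hz2 b1 z1
      have e : rf p.2 * rf p.2 = Equiv.addRight (0 : Fin 3 × Fin 3).2 := Equiv.ext fun i => by
        show rf p.2 (rf p.2 i) = i + 0
        rw [rf_sub, sub_self]
      rwa [e] at h1
  obtain ⟨r, hr, k, hk, hrk⟩ := hT.exists_X h F
  -- the actions
  have hX1 : c' ∈ CX Om z := l'.cz
  have hX : c ∈ CX Om z := l.cz
  have s1 : e1 * c' * e1⁻¹ = z * c * c' := by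
    rcases x1 c' hX1 hcc.symm with ⟨h1, -⟩ | ⟨-, h1⟩
    · exact ((l.sw h hc' hcc hne).not_fx l.ti.2.1 h1).elim
    · rw [h1, hcz', mul_assoc, ← hcc, mul_assoc]
  have s2 : e2 * c * e2⁻¹ = z * c * c' := by
    rcases x2 c hX hcc with ⟨h1, -⟩ | ⟨-, h1⟩
    · exact ((l'.sw h hc hcc.symm (Ne.symm hne)).not_fx l'.ti.2.1 h1).elim
    · rw [h1, hcz]
  have s1' : e1 * c * e1⁻¹ = c := by rw [c1, mul_inv_cancel_right]
  have s2' : e2 * c' * e2⁻¹ = c' := by rw [c2, mul_inv_cancel_right]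
  have s1z : e1 * z * e1⁻¹ = z := by rw [z1, mul_inv_cancel_right]
  have s2z : e2 * z * e2⁻¹ = z := by rw [z2, mul_inv_cancel_right]
  have s1'' : e1 * (z * c * c') * e1⁻¹ = c' := by
    calc e1 * (z * c * c') * e1⁻¹ = (e1 * z * e1⁻¹) * (e1 * c * e1⁻¹) * (e1 * c' * e1⁻¹) := by group
      _ = z * c * (z * c * c') := by rw [s1z, s1', s1]
      _ = z * (c * z) * c * c' := by group
      _ = (z * z) * (c * c) * c' := by rw [hcz]; group
      _ = c' := by rw [hz2, hcs, one_mul, one_mul]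
  have s2'' : e2 * (z * c * c') * e2⁻¹ = c := by
    calc e2 * (z * c * c') * e2⁻¹ = (e2 * z * e2⁻¹) * (e2 * c * e2⁻¹) * (e2 * c' * e2⁻¹) := by group
      _ = z * (z * c * c') * c' := by rw [s2z, s2, s2']
      _ = (z * z) * c * (c' * c') := by group
      _ = c := by rw [hz2, hcs', one_mul, mul_one]
  have hact : ∀ y ∈ CX Om z, k * y * k⁻¹ = e1 * (e2 * y * e2⁻¹) * e1⁻¹ := by
    intro y hy
    rw [← conj_of_RX hr hk hy, ← hrk]; group
  have hX2 : z * c * c' ∈ CX Om z := mul_mem (mul_mem (z_mem_CX h) hX) hX1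
  refine ⟨k, hk, ?_, ?_, ?_, ?_⟩
  · rw [hact c hX, s2, s1'']
  · rw [hact c' hX1, s2', s1]
  · rw [hact _ hX2, s2'', s1']
  · intro x hx h1 h2
    have h1' := h1 t l
    have h2' := h2 t' l'
    have q2 : e2 * x * e2⁻¹ = x := by
      rcases x2 x hx (l'.comm_of_Y h hx h2') with ⟨-, h3⟩ | ⟨h3, -⟩
      · exact h3
      · exact (h3.not_fx l'.ti.2.1 ((Inn.of_CX h2').fx h)).elim
    have q1 : e1 * x * e1⁻¹ = x := by
      rcases x1 x hx (l.comm_of_Y h hx h1') with ⟨-, h3⟩ | ⟨h3, -⟩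
      · exact h3
      · exact (h3.not_fx l.ti.2.1 ((Inn.of_CX h1').fx h)).elim
    have h3 := hact x hx
    rw [q2, q1, mul_inv_eq_iff_eq_mul] at h3
    exact h3

/-- all labels are conjugate under `X_z` -/
theorem CC.exists_conj_U (h : W2 Om) (F : Frame Om z K1 K2 a b) (hU : ∀ g v, Tra z a b g v → v ∈ D0 Om z a b)
    (hc : c ∈ CC Om z) (hc' : c' ∈ CC Om z) : ∃ x ∈ CX Om z, x * c * x⁻¹ = c' := by
  obtain ⟨T, hT⟩ := Hyp.exists_syl (CX Om z)
  obtain ⟨c0, hc0, hc0T, hc0'⟩ := CC.exists_comm_of h hT hT.2.1 (fun s hs => CX_le F.k1.inZ h (hT.1 hs))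
    (fun s hs => mem_normalizer_iff_cj.1 (le_normalizer hs)) ⟨c, hc⟩
  have key : ∀ c ∈ CC Om z, ∃ x ∈ CX Om z, x * c * x⁻¹ = c0 := by
    intro c hc
    obtain ⟨x, hx, hx1, hx2⟩ := CC.exists_conj h hT hc
    by_cases hne : x * c * x⁻¹ = c0
    · exact ⟨x, hx, hne⟩
    obtain ⟨k, hk, hk1, -⟩ := CC.exists_kappa h F hU hx1 hc0 (hc0' _ hx2) hne
    exact ⟨k * x, mul_mem hk hx, by rw [← hk1]; group⟩
  obtain ⟨x, hx, hx1⟩ := key c hc
  obtain ⟨y, hy, hy1⟩ := key c' hc'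
  refine ⟨y⁻¹ * x, mul_mem (inv_mem hy) hx, ?_⟩
  calc y⁻¹ * x * c * (y⁻¹ * x)⁻¹ = y⁻¹ * (x * c * x⁻¹) * y := by group
    _ = y⁻¹ * (y * c' * y⁻¹) * y := by rw [hx1, hy1]
    _ = c' := by group

end

end Cfsg.Agent.Cit.Nil.RTwo
end

-- part: Cit/Nil/RTwo/OSeven
section
/-!
# S1309, `r = 2`, `m = 1`: (10.7) of the blueprint

* `OY Om z` : `O(C(⟨R_z, R_t⟩)) = 1` for the lines `⟨z, t⟩` on `z` ((10.6));
* `Lab.cent_Y` : `C(⟨R_z, R_t⟩)`, `⟨z, t⟩` over `c`, centralises the labels commuting with `c`;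
* `OO_CE` : `O(C_X(⟨z, c, c'⟩)) = 1`;
* `T3 Om z c g` : `g` is a 3-element centralising `C_X(c)`; `T3.of_comm` : the same for commuting labels.
-/

set_option autoImplicit false
set_option linter.style.haveILetI false
set_option linter.unusedSectionVars false
set_option maxHeartbeats 400000

namespace Cfsg.Agent.Cit.Nil.RTwo

open Subgroup Cfsg Cit

variable {G : Type*} [Group G]

/-- `O(C(⟨R_z, R_t⟩)) = 1` for the lines on `z` -/
def OY (Om : Set (Subgroup G)) (z : G) : Prop := ∀ t c, Lab Om z t c → OO (CX Om z ⊓ CX Om t) = ⊥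

theorem perm_three (σ : Equiv.Perm (Fin 3)) (h : σ * σ * σ = 1) : ∃ i : Fin 3, σ = Equiv.addRight i := by
  revert σ; decide +kernel

theorem perm_two_or (σ : Equiv.Perm (Fin 3)) : σ * σ = 1 ∨ σ * σ * σ = 1 := by
  revert σ; decide +kernel

theorem perm_three_of (σ : Equiv.Perm (Fin 3)) {n : ℕ} (h : σ ^ 3 ^ n = 1) : ∃ i : Fin 3, σ = Equiv.addRight i := by
  apply perm_three
  rcases perm_two_or σ with h2 | h2
  · have h3 : orderOf σ ∣ 2 := orderOf_dvd_of_pow_eq_one (by rw [pow_two, h2])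
    have h4 : orderOf σ ∣ 3 ^ n := orderOf_dvd_of_pow_eq_one h
    have h5 : orderOf σ = 1 := Nat.Coprime.eq_one_of_dvd
      (Nat.Coprime.coprime_dvd_left h3 (Nat.Coprime.pow_right n (by norm_num))) h4
    rw [orderOf_eq_one_iff.1 h5]; rfl
  · exact h2

section

variable [Finite G] {Om : Set (Subgroup G)} {K K1 K2 L L1 L2 : Subgroup G} {z t t' g g' x y w c c' c0 d : G}
  {a b p q : Fin 3 → G} {v v' : Fin 3 × Fin 3}

/-! ### elements of odd order of `C_X(c)` -/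

theorem Cf.pow_four (C : Cf Om z t K1 K2 L1 L2 a b p q) (h : W2 Om) (hxz : x * z = z * x) (hxt : x * t = t * x)
    (hxa : x * a 0 = a 0 * x) (hx : cj x L1 = L1) : ∀ k ∈ L1, x ^ 4 * k = k * x ^ 4 := by
  obtain ⟨h1, h2⟩ := C.pow_or h hxz hxt hxa hx
  have h01 : p 0 * p 1 = p 2 := C.qc.mul 0
  have h02 : p 0 * p 2 = t * p 1 := C.qc.mul2' 0
  have hxt' : x * t * x⁻¹ = t := by rw [hxt, mul_inv_cancel_right]
  have htt : ∀ u, t * (t * u) = u := C.qc.zzx
  have hxm : ∀ k : G, x * (t * k) * x⁻¹ = t * (x * k * x⁻¹) := by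
    intro k
    calc x * (t * k) * x⁻¹ = (x * t * x⁻¹) * (x * k * x⁻¹) := by group
      _ = _ := by rw [hxt']
  have htp : ∀ k : G, p 0 * (t * k) = t * (p 0 * k) := by
    intro k; rw [← mul_assoc, ← C.qc.zc, mul_assoc]
  have hx2' : x * p 2 * x⁻¹ = p 0 * (x * p 1 * x⁻¹) := by
    rw [← h01]
    calc x * (p 0 * p 1) * x⁻¹ = (x * p 0 * x⁻¹) * (x * p 1 * x⁻¹) := by group
      _ = _ := by rw [h1]
  have h3 : x * (x * p 1 * x⁻¹) * x⁻¹ = p 1 ∨ x * (x * p 1 * x⁻¹) * x⁻¹ = t * p 1 := by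
    rcases h2 with (h2 | h2) | (h2 | h2)
    · left; rw [h2, h2]
    · left; rw [h2, hxm, h2, htt]
    · right; rw [h2, hx2', h2, h02]
    · right; rw [h2, hxm, hx2', h2, htp, h02, htt]
  have e4 : ∀ k : G, x ^ 4 * k * (x ^ 4)⁻¹ = x * (x * (x * (x * k * x⁻¹) * x⁻¹) * x⁻¹) * x⁻¹ := by
    intro k
    have : x ^ 4 = x * x * x * x := by simp only [pow_succ, pow_zero, one_mul]
    rw [this]; group
  have h4 : x ^ 4 * p 1 * (x ^ 4)⁻¹ = p 1 := by
    rw [e4]
    rcases h3 with h3 | h3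
    · rw [h3, h3]
    · rw [h3, hxm, hxm, h3, htt]
  have h5 : x ^ 4 * p 0 * (x ^ 4)⁻¹ = p 0 := by
    rw [e4, h1, h1, h1, h1]
  intro k hk
  rw [mul_inv_eq_iff_eq_mul] at h4 h5
  exact C.qc.comm_of h5 h4 hk

/-- an element of odd order of `C_X(c)` centralises `R_t` -/
theorem Lab.mem_of_odd (h : W2 Om) (l : Lab Om z t c) (hx : x ∈ CX Om z) (hxc : x * c = c * x)
    (ho : ¬ 2 ∣ orderOf x) : x ∈ CX Om t := by
  obtain ⟨K1, K2, L1, L2, a, b, p, q, C⟩ := l.ti.exists_cf h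
  have key : ∀ y ∈ CX Om z, y * c = c * y → y ^ 8 ∈ CX Om t := by
    intro y hy hyc
    have hyt := (l.comm_iff h hy).1 hyc
    have hw : y ^ 2 ∈ CX Om z := pow_mem hy 2
    have hwz : y ^ 2 * z = z * y ^ 2 := CX_le l.ti.1 h hw
    have hwt : y ^ 2 * t = t * y ^ 2 := ((show Commute y t from hyt).pow_left 2).eq
    have hwa : y ^ 2 * a 0 = a 0 * y ^ 2 := mem_CX.1 hw _ C.k1 _ (C.qa.mem 0)
    have hfix : cj (y ^ 2) L1 = L1 ∧ cj (y ^ 2) L2 = L2 := by
      have h5 : cj y L1 ≠ cj y L2 := fun e => C.lne (cj_inj.1 e)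
      rw [pow_two, cj_mul, cj_mul]
      rcases C.l1.cases C.l2 h C.lne (C.l1.cj_comm h hyt) with h1 | h1 <;>
      rcases C.l1.cases C.l2 h C.lne (C.l2.cj_comm h hyt) with h2 | h2
      · exact absurd (h1.trans h2.symm) h5
      · exact ⟨by rw [h1, h1], by rw [h2, h2]⟩
      · exact ⟨by rw [h1, h2], by rw [h2, h1]⟩
      · exact absurd (h1.trans h2.symm) h5
    have h8 : y ^ 8 = (y ^ 2) ^ 4 := by rw [← pow_mul]
    rw [h8, mem_CX]
    intro K hK
    rcases C.l1.cases C.l2 h C.lne hK with rfl | rfl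
    · exact C.pow_four h hwz hwt hwa hfix.1
    · exact C.swl.pow_four h hwz hwt hwa hfix.2
  have hcop : Nat.Coprime (orderOf x) 8 := by
    have : (8 : ℕ) = 2 ^ 3 := by norm_num
    rw [this]
    exact Nat.Coprime.pow_right 3 (Nat.Coprime.symm ((Nat.Prime.coprime_iff_not_dvd Nat.prime_two).2 ho))
  obtain ⟨m, hm⟩ := exists_pow_eq_self_of_coprime (x := x) (n := 8) hcop.symm
  rw [← hm]
  exact pow_mem (key x hx hxc) m

/-! ### (10.7), first part -/

theorem CC.conj_CX (h : W2 Om) (hc : c ∈ CC Om z) (hx : x ∈ CX Om z) : x * c * x⁻¹ ∈ CC Om z :=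
  CC.conj_comm h hc (CX_le (CC.inZ hc) h hx)

/-- `C(⟨R_z, R_t⟩)` centralises the labels commuting with `c` -/
theorem Lab.cent_Y (h : W2 Om) (l : Lab Om z t c) (hO : OO (CX Om z ⊓ CX Om t) = ⊥) (hc' : c' ∈ CC Om z)
    (hcc : c * c' = c' * c) (hne : c ≠ c') (hn1 : c' ≠ 1) (hx : x ∈ CX Om z) (hxt : x ∈ CX Om t) :
    x * c' = c' * x := by
  have hc : c ∈ CC Om z := l.mem_CC
  have hX' : c' ∈ CX Om z := CC.mem_CX hc'
  have ht' : c' * t = t * c' := (l.comm_iff h hX').1 hcc.symm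
  have hcjY : ∀ y ∈ CX Om z ⊓ CX Om t, c' * y * c'⁻¹ ∈ CX Om z ⊓ CX Om t := fun y hy =>
    ⟨(CX Om z).mul_mem ((CX Om z).mul_mem hX' hy.1) ((CX Om z).inv_mem hX'), CX_conj_comm h ht' hy.2⟩
  have hn : zpowers c' ≤ normalizer ((CX Om z ⊓ CX Om t : Subgroup G) : Set G) := by
    rw [zpowers_le, mem_normalizer_iff]
    intro y
    refine ⟨hcjY y, fun hy => ?_⟩
    have h1 := hcjY _ hy
    have e : c' * (c' * y * c'⁻¹) * c'⁻¹ = y := by
      calc c' * (c' * y * c'⁻¹) * c'⁻¹ = (c' * c') * y * (c' * c')⁻¹ := by group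
        _ = y := by rw [CC.sq hc']; group
    rwa [e] at h1
  rcases zstar_sub (X := (CX Om z ⊓ CX Om t) ⊔ zpowers c') (u := c') (mem_sup_right (mem_zpowers c')) (CC.sq hc')
    hn1 with ⟨g, hg, hne', hcm⟩ | ⟨N, hNX, hodd, hNn, hN⟩
  · exfalso
    obtain ⟨y, hy, u, hu, rfl⟩ := LB.exists_mul_of_mem_sup hn hg
    have hut : u * c' * u⁻¹ = c' := by
      obtain ⟨k, rfl⟩ := mem_zpowers_iff.1 hu
      rw [← ((Commute.refl c').zpow_right k).eq, mul_inv_cancel_right]
    have h1 : y * u * c' * (y * u)⁻¹ = y * c' * y⁻¹ := by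
      calc y * u * c' * (y * u)⁻¹ = y * (u * c' * u⁻¹) * y⁻¹ := by group
        _ = _ := by rw [hut]
    rw [h1] at hne' hcm
    have hyc := l.comm_of_Y h hy.1 hy.2
    have hc1 : y * c' * y⁻¹ ∈ CC Om z := CC.conj_CX h hc' hy.1
    have h14 : c * (y * c' * y⁻¹) = y * c' * y⁻¹ * c := by
      have e : c = y * c * y⁻¹ := by rw [hyc, mul_inv_cancel_right]
      calc c * (y * c' * y⁻¹) = (y * c * y⁻¹) * (y * c' * y⁻¹) := by rw [← e]
        _ = y * (c * c') * y⁻¹ := by group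
        _ = y * (c' * c) * y⁻¹ := by rw [hcc]
        _ = (y * c' * y⁻¹) * (y * c * y⁻¹) := by group
        _ = _ := by rw [← e]
    have n14 : c ≠ y * c' * y⁻¹ := by
      intro e
      apply hne
      have e1 : y * c * y⁻¹ = y * c' * y⁻¹ := by rw [← e, hyc, mul_inv_cancel_right]
      exact mul_left_cancel (mul_right_cancel e1)
    have h2 := CC.eq_three h hc hc' hc1 hcc h14 hcm hne n14 hne'.symm
    -- the action on `R_t`
    obtain ⟨L, hL⟩ := l.ti.2.1
    have hL' : Mem Om t (cj c' L) := hL.cj_comm h ht'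
    apply l.ne_zt
    refine l.ti.1.eq_of_cent hL' h fun m hm => ?_
    obtain ⟨k, hk, rfl⟩ := hm
    change z * (c' * k * c'⁻¹) = c' * k * c'⁻¹ * z
    have hm' : c' * k * c'⁻¹ ∈ cj c' L := conj_mem_cj hk
    have h3 : (y * c' * y⁻¹) * k * (y * c' * y⁻¹)⁻¹ = c' * k * c'⁻¹ := by
      have e1 : y⁻¹ * k * y = k := by
        rw [mul_assoc, ← mem_CX.1 hy.2 L hL k hk, inv_mul_cancel_left]
      have e2 := mem_CX.1 hy.2 _ hL' _ hm'
      calc (y * c' * y⁻¹) * k * (y * c' * y⁻¹)⁻¹ = y * (c' * (y⁻¹ * k * y) * c'⁻¹) * y⁻¹ := by group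
        _ = y * (c' * k * c'⁻¹) * y⁻¹ := by rw [e1]
        _ = _ := by rw [e2, mul_inv_cancel_right]
    rw [h2] at h3
    have e3 := mem_CX.1 l.ct _ hL' _ hm'
    have e4 : (z * c * c') * k * (z * c * c')⁻¹ = z * (c * (c' * k * c'⁻¹) * c⁻¹) * z⁻¹ := by group
    rw [e4, e3, mul_inv_cancel_right, mul_inv_eq_iff_eq_mul] at h3
    exact h3
  · have h1 : N ⊓ (CX Om z ⊓ CX Om t) = ⊥ := by
      rw [eq_bot_iff, ← hO]
      refine le_OO inf_le_right ?_ ?_
      · intro g hg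
        rw [mem_normalizer_iff_cj, cj_inf, mem_normalizer_iff_cj.1 (le_normalizer hg)]
        congr 1
        refine le_antisymm ?_ ?_
        · rintro _ ⟨n, hn, rfl⟩
          exact hNn g (mem_sup_left hg) n hn
        · intro n hn
          rw [mem_cj]
          have := hNn g⁻¹ (mem_sup_left (inv_mem hg)) n hn
          rwa [inv_inv] at this
      · intro h2
        have h3 := h2.trans (card_dvd_of_le (inf_le_left : N ⊓ (CX Om z ⊓ CX Om t) ≤ N))
        rw [← Nat.not_even_iff_odd, even_iff_two_dvd] at hodd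
        exact hodd h3
    have hxx : x ∈ CX Om z ⊓ CX Om t := ⟨hx, hxt⟩
    have h2 : c' * x * c'⁻¹ * x⁻¹ ∈ N ⊓ (CX Om z ⊓ CX Om t) :=
      ⟨hN x (mem_sup_left hxx), (CX Om z ⊓ CX Om t).mul_mem (hcjY x hxx) ((CX Om z ⊓ CX Om t).inv_mem hxx)⟩
    rw [h1, Subgroup.mem_bot, mul_inv_eq_one, mul_inv_eq_iff_eq_mul] at h2
    exact h2.symm

/-- `C_X(⟨z, c, c'⟩)` -/
def CE (Om : Set (Subgroup G)) (z c c' : G) : Subgroup G := CX Om z ⊓ (centralizer {c} ⊓ centralizer {c'})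

theorem mem_CE : x ∈ CE Om z c c' ↔ x ∈ CX Om z ∧ x * c = c * x ∧ x * c' = c' * x := by
  rw [CE, mem_inf, mem_inf, mem_centralizer_singleton_iff, mem_centralizer_singleton_iff]

/-- `O(C_X(⟨z, c, c'⟩)) = 1` -/
theorem OO_CE (h : W2 Om) (hn : (1 : G) ∉ CC Om z) (hO : OY Om z) (hc : c ∈ CC Om z) (hc' : c' ∈ CC Om z)
    (hcc : c * c' = c' * c) : OO (CE Om z c c') = ⊥ := by
  obtain ⟨t, l⟩ := hc
  have hn1 : c' ≠ 1 := by rintro rfl; exact hn hc'
  have hY : CX Om z ⊓ CX Om t ≤ CE Om z c c' := by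
    intro y hy
    rw [mem_CE]
    have h1 := l.comm_of_Y h hy.1 hy.2
    refine ⟨hy.1, h1, ?_⟩
    by_cases hne : c = c'
    · rw [← hne]; exact h1
    · exact l.cent_Y h (hO t c l) hc' hcc hne hn1 hy.1 hy.2
  rw [eq_bot_iff, ← hO t c l]
  have hN : OO (CE Om z c c') ≤ CX Om z ⊓ CX Om t := by
    intro y hy
    have h1 := mem_CE.1 (OO_le _ hy)
    refine ⟨h1.1, l.mem_of_odd h h1.1 h1.2.1 fun h2 => ?_⟩
    exact odd_OO _ (h2.trans ((OO (CE Om z c c')).orderOf_dvd_natCard hy))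
  refine le_OO hN (fun g hg => ?_) (odd_OO _)
  exact le_normalizer_OO _ (hY hg)

theorem OO_Cc (h : W2 Om) (hn : (1 : G) ∉ CC Om z) (hO : OY Om z) (hc : c ∈ CC Om z) :
    OO (CE Om z c c) = ⊥ := OO_CE h hn hO hc hc rfl

/-- a central element of a group without odd core is a 2-element -/
theorem two_of_central {H : Subgroup G} (hO : OO H = ⊥) (hx : x ∈ H) (hc : ∀ y ∈ H, x * y = y * x) :
    ∃ k : ℕ, x ^ 2 ^ k = 1 := by
  obtain ⟨k, m, hm, hk⟩ := Nat.exists_eq_pow_mul_and_not_dvd (orderOf_pos x).ne' 2 (by norm_num)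
  refine ⟨k, ?_⟩
  have h1 : zpowers (x ^ 2 ^ k) ≤ OO H := by
    refine le_OO (zpowers_le.2 (pow_mem hx _)) ?_ ?_
    · intro y hy
      rw [mem_normalizer_iff]
      have key : ∀ u ∈ zpowers (x ^ 2 ^ k), y * u * y⁻¹ = u := by
        rintro _ ⟨j, rfl⟩
        have h2 : Commute x y := hc y hy
        have h3 : Commute ((x ^ 2 ^ k) ^ j) y := (h2.pow_left _).zpow_left j
        show y * (x ^ 2 ^ k) ^ j * y⁻¹ = (x ^ 2 ^ k) ^ j
        rw [← h3.eq, mul_inv_cancel_right]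
      intro u
      constructor
      · intro hu; rw [key u hu]; exact hu
      · intro hu
        have h2 := key _ hu
        have h3 : y * u * y⁻¹ = u := mul_left_cancel (mul_right_cancel h2)
        rwa [h3] at hu
    · rw [Nat.card_zpowers, orderOf_pow, hk, Nat.gcd_eq_right (Dvd.intro _ rfl),
        Nat.mul_div_cancel_left _ (by positivity)]
      exact hm
  rw [hO, zpowers_le, Subgroup.mem_bot] at h1
  exact h1

/-! ### `T3` -/

/-- `g` is a 3-element centralising `C_X(c)` -/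
def T3 (Om : Set (Subgroup G)) (z c g : G) : Prop :=
  (∃ n : ℕ, g ^ 3 ^ n = 1) ∧ ∀ x ∈ CX Om z, x * c = c * x → g * x = x * g

/-- a 3-element of `C(z)` acts as a translation on the directions -/
theorem exists_tra_of_three (h : W2 Om) (F : Frame Om z K1 K2 a b) (hg : g * z = z * g) {n : ℕ}
    (hgn : g ^ 3 ^ n = 1) : ∃ v, Tra z a b g v := by
  have hz2 := F.k1.inZ.z2 h
  rcases F.act_cases h hg with ⟨-, -, σ, τ, h1, h2⟩ | ⟨hK, hK', -⟩
  · have key : ∀ {K : Subgroup G} {x : Fin 3 → G} {σ : Equiv.Perm (Fin 3)}, Q3 K z x → Act z x x g σ →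
        σ ^ 3 ^ n = 1 := by
      intro K x σ Q h1
      have h3 := h1.pow hz2 hg (3 ^ n)
      rw [hgn] at h3
      exact h3.unique Q (Act.one x z)
    obtain ⟨i, rfl⟩ := perm_three_of σ (key F.qa h1)
    obtain ⟨j, rfl⟩ := perm_three_of τ (key F.qb h2)
    exact ⟨(i, j), hg, h1, h2⟩
  · exfalso
    have key : ∀ m : ℕ, cj (g ^ (2 * m + 1)) K1 = K2 := by
      intro m
      induction m with
      | zero => rw [mul_zero, zero_add, pow_one]; exact hK
      | succ m ih =>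
        have e : g ^ (2 * (m + 1) + 1) = g * g * g ^ (2 * m + 1) := by
          rw [← pow_two, ← pow_add]; congr 1; ring
        rw [e, cj_mul, ih, cj_mul, hK', hK]
    obtain ⟨m, hm⟩ : Odd (3 ^ n) := Odd.pow (by decide)
    have h1 := key m
    rw [← hm, hgn] at h1
    apply F.ne
    rw [← h1]
    ext y
    rw [mem_cj]
    simp

theorem T3.comm_z (h : W2 Om) (hc : c ∈ CC Om z) (ht : T3 Om z c g) : g * z = z * g :=
  ht.2 z (z_mem_CX h) (by rw [CC.comm_z h hc])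

theorem T3.conj (h : W2 Om) (ht : T3 Om z c g) (hy : y * z = z * y) : T3 Om z (y * c * y⁻¹) (y * g * y⁻¹) := by
  obtain ⟨⟨n, hn⟩, h1⟩ := ht
  refine ⟨⟨n, by rw [conj_pow, hn]; group⟩, fun x hx hxc => ?_⟩
  have hy' : y⁻¹ * z = z * y⁻¹ := by
    rw [inv_mul_eq_iff_eq_mul, ← mul_assoc, hy, mul_inv_cancel_right]
  have h2 := h1 _ (CX_conj_comm h hy' hx) (by
    calc y⁻¹ * x * y⁻¹⁻¹ * c = y⁻¹ * (x * (y * c * y⁻¹)) * y := by group
      _ = y⁻¹ * (y * c * y⁻¹ * x) * y := by rw [hxc]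
      _ = _ := by group)
  calc y * g * y⁻¹ * x = y * (g * (y⁻¹ * x * y⁻¹⁻¹)) * y⁻¹ := by group
    _ = y * ((y⁻¹ * x * y⁻¹⁻¹) * g) * y⁻¹ := by rw [h2]
    _ = _ := by group

/-- the splitting of a product of commuting elements -/
theorem pow_split {s u : G} (hc : s * u = u * s) {n k : ℕ} (hg : (s * u) ^ 3 ^ n = 1) (hu : u ^ 2 ^ k = 1) :
    ∃ N : ℕ, s * u = s ^ N := by
  obtain ⟨N, h1, h2⟩ := Nat.chineseRemainder (n := 3 ^ n) (m := 2 ^ k)
    (Nat.Coprime.pow _ _ (by norm_num)) 1 0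
  refine ⟨N, ?_⟩
  have e1 : (s * u) ^ N = s * u := by
    conv_rhs => rw [← pow_one (s * u)]
    rw [pow_eq_pow_iff_modEq]
    exact h1.of_dvd (orderOf_dvd_of_pow_eq_one hg)
  have e2 : u ^ N = 1 := by
    rw [← pow_zero u, pow_eq_pow_iff_modEq]
    exact h2.of_dvd (orderOf_dvd_of_pow_eq_one hu)
  rw [← e1, (show Commute s u from hc).mul_pow, e2, mul_one]

/-- **(10.7)** : a 3-element centralising `C_X(⟨z, c, c'⟩)` centralises `C_X(c)` -/
theorem T3.of_CE (h : W2 Om) (F : Frame Om z K1 K2 a b) (hU : ∀ g v, Tra z a b g v → v ∈ D0 Om z a b)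
    (hn : (1 : G) ∉ CC Om z) (hO : OY Om z) (hc : c ∈ CC Om z) (hc' : c' ∈ CC Om z) (hcc : c * c' = c' * c)
    {n : ℕ} (hgn : g ^ 3 ^ n = 1) (hg : ∀ x ∈ CE Om z c c', g * x = x * g) : T3 Om z c g := by
  have hz := F.k1.inZ
  have hz2 := hz.z2 h
  have hgz : g * z = z * g := hg z (mem_CE.2 ⟨z_mem_CX h, (CC.comm_z h hc).symm, (CC.comm_z h hc').symm⟩)
  obtain ⟨v, hv⟩ := exists_tra_of_three h F hgz hgn
  obtain ⟨p, hp⟩ := CC.exists_dir h F hc
  have hq := (D0.iff h F hp).1 (hU g v hv)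
  obtain ⟨d, hd, -, hdc, hdX⟩ := DC.exists_tra h F hp hq
  rw [add_sub_cancel_left] at hd
  have h1 : Tra z a b (g * d⁻¹) 0 := by
    have h2 := (hd.inv hz2).mul hz2 hv
    rwa [neg_add_cancel] at h2
  obtain ⟨r, hr, x, hx, hrx⟩ := h1.exists_X h F
  -- `x` is central in `C_X(E)`
  have hxc : ∀ y ∈ CE Om z c c', x * y = y * x := by
    intro y hy
    obtain ⟨hy1, hy2, hy3⟩ := mem_CE.1 hy
    have c1 : Commute g y := hg y hy
    have c2 : Commute d y := hdX y hy1 hy2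
    have c3 : Commute r y := (CX_comm hr hy1).symm
    have e : x = r⁻¹ * (g * d⁻¹) := by rw [hrx, inv_mul_cancel_left]
    rw [e]
    exact (c3.inv_left.mul_left (c1.mul_left c2.inv_left)).eq
  have hxE : x ∈ CE Om z c c' := by
    refine mem_CE.2 ⟨hx, hxc c (mem_CE.2 ⟨CC.mem_CX hc, rfl, hcc⟩), hxc c' (mem_CE.2 ⟨CC.mem_CX hc', hcc.symm, rfl⟩)⟩
  obtain ⟨k, hk⟩ := two_of_central (OO_CE h hn hO hc hc' hcc) hxE hxc
  have hxd : d * x = x * d := hdX x hx (mem_CE.1 hxE).2.1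
  have hxr : x * r = r * x := CX_comm hr hx
  have hg' : g = (r * d) * x := by
    have e : g = r * x * d := by rw [← hrx, inv_mul_cancel_right]
    rw [e, mul_assoc, ← hxd, mul_assoc]
  have hcom : (r * d) * x = x * (r * d) := by rw [mul_assoc, hxd, ← mul_assoc, ← hxr, mul_assoc]
  obtain ⟨N, hN⟩ := pow_split hcom (by rw [← hg']; exact hgn) hk
  refine ⟨⟨n, hgn⟩, fun y hy hyc => ?_⟩
  rw [hg', hN]
  have c2 : Commute d y := hdX y hy hyc
  have c3 : Commute r y := (CX_comm hr hy).symm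
  exact ((c3.mul_left c2).pow_left N).eq

/-- **(10.7)** : `T3` is the same for commuting labels -/
theorem T3.of_comm (h : W2 Om) (F : Frame Om z K1 K2 a b) (hU : ∀ g v, Tra z a b g v → v ∈ D0 Om z a b)
    (hn : (1 : G) ∉ CC Om z) (hO : OY Om z) (hc : c ∈ CC Om z) (hc' : c' ∈ CC Om z) (hcc : c * c' = c' * c)
    (ht : T3 Om z c' g) : T3 Om z c g := by
  obtain ⟨n, hn'⟩ := ht.1
  refine T3.of_CE h F hU hn hO hc hc' hcc hn' fun x hx => ?_
  obtain ⟨h1, h2, h3⟩ := mem_CE.1 hx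
  exact ht.2 x h1 h3

end

end Cfsg.Agent.Cit.Nil.RTwo
end

-- part: Cit/Nil/RTwo/AutFix
section
/-!
# Automorphisms of order `3^n` of a Bender group centralising a Sylow 2-subgroup

* `fix_of_isSplit`, `fix_of_sylow` : such an automorphism is trivial (the Sylow 2-subgroup is regular on the other
  cosets of its normaliser).
-/

set_option autoImplicit false
set_option linter.unusedSectionVars false
set_option linter.style.haveILetI false

namespace Cfsg.Agent.Cit.Nil.RTwo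

open Subgroup Cfsg
open Cfsg.Agent.StrongEmb.Split Cfsg.Agent.StrongEmb.Frame Cfsg.Agent.TwoFusion.StronglyEmbeddedBasic

section

variable {M : Type*} [Group M] [Finite M] {H Q : Subgroup M}

/-- an automorphism of order `3^n` which centralises the regular normal 2-subgroup is trivial -/
theorem fix_of_isSplit (hH : IsStronglyEmbedded H) (hQ : IsSplit H Q) (hQ2 : IsPGroup 2 Q)
    (hcore : H.normalCore = ⊥) (β : MulAut M) {n : ℕ} (hβ : β ^ 3 ^ n = 1) (hfix : ∀ q ∈ Q, β q = q) : β = 1 := by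
  obtain ⟨z, hz, hz2⟩ := exists_involution hH
  have hzQ : z ∈ Q := mem_of_two_element hH hQ hz ⟨1, by rw [hz2, pow_one]⟩
  have hz1 : z ≠ 1 := by
    rintro rfl
    rw [orderOf_one] at hz2
    omega
  have hconj : ∀ g, g ∈ H ↔ g * z * g⁻¹ ∈ Q := by
    intro g
    constructor
    · exact fun hg => hQ.conj_mem hg hzQ
    · intro hg
      by_contra hgH
      have h1 : g⁻¹ ∉ H := fun h => hgH (by simpa using H.inv_mem h)
      apply hz1
      refine hQ.reg g⁻¹ h1 z hzQ ?_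
      rw [inv_inv, ← mul_assoc]
      exact hQ.le hg
  have hfix' : ∀ y, β y ∈ Q ↔ y ∈ Q := by
    intro y
    constructor
    · intro hy
      have h1 := hfix _ hy
      have h2 : β y = y := β.injective h1
      rwa [h2] at hy
    · intro hy
      rw [hfix y hy]; exact hy
  have hβH : ∀ g, β g ∈ H ↔ g ∈ H := by
    intro g
    rw [hconj, hconj g, ← hfix' (g * z * g⁻¹), map_mul, map_mul, map_inv, hfix z hzQ]
  -- the cosets are fixed
  have key : ∀ g, g⁻¹ * β g ∈ H := by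
    intro g
    by_cases hg : g ∈ H
    · exact H.mul_mem (H.inv_mem hg) ((hβH g).2 hg)
    · have hg' : β g ∉ H := fun h => hg ((hβH g).1 h)
      obtain ⟨v, hv, hvg⟩ := hQ.trans g (β g) hg hg'
      -- `β^k g ∈ v^k g H`
      have hpow : ∀ k : ℕ, ((β ^ k) g)⁻¹ * (v ^ k * g) ∈ H := by
        intro k
        induction k with
        | zero => simp
        | succ k ih =>
          have h1 : (β ^ (k + 1)) g = β ((β ^ k) g) := by rw [pow_succ']; rfl
          have h2 : β (((β ^ k) g)⁻¹ * (v ^ k * g)) ∈ H := (hβH _).2 ih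
          rw [map_mul, map_inv, map_mul, map_pow, hfix v hv] at h2
          rw [h1]
          have h3 : (β ((β ^ k) g))⁻¹ * (v ^ (k + 1) * g) =
              ((β ((β ^ k) g))⁻¹ * (v ^ k * β g)) * ((β g)⁻¹ * (v * g)) := by
            rw [pow_succ]; group
          rw [h3]
          exact H.mul_mem h2 hvg
      have h1 := hpow (3 ^ n)
      rw [hβ] at h1
      have h2 : v ^ 3 ^ n = 1 := hQ.reg g hg _ (Q.pow_mem hv _) (by simpa only [_root_.MulAut.one_apply] using h1)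
      have h3 : v = 1 := by
        obtain ⟨m, hm⟩ := IsPGroup.iff_orderOf.mp hQ2 ⟨v, hv⟩
        rw [Subgroup.orderOf_mk] at hm
        have h4 : orderOf v ∣ 3 ^ n := orderOf_dvd_of_pow_eq_one h2
        have h5 : Nat.Coprime (2 ^ m) (3 ^ n) := Nat.Coprime.pow _ _ (by norm_num)
        rw [← orderOf_eq_one_iff]
        exact Nat.Coprime.eq_one_of_dvd (by rw [hm]; exact h5) h4
      rw [h3, one_mul] at hvg
      have h6 := H.inv_mem hvg
      have h7 : ((β g)⁻¹ * g)⁻¹ = g⁻¹ * β g := by group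
      rwa [h7] at h6
  ext g
  have h1 : g⁻¹ * β g ∈ H.normalCore := by
    intro x
    have h2 := key (g * x⁻¹)
    have h3 := key x⁻¹
    rw [map_mul] at h2
    have h4 : x * (g⁻¹ * β g) * x⁻¹ = ((g * x⁻¹)⁻¹ * (β g * β x⁻¹)) * (x⁻¹⁻¹ * β x⁻¹)⁻¹ := by group
    rw [h4]
    exact H.mul_mem h2 (H.inv_mem h3)
  rw [hcore, Subgroup.mem_bot, inv_mul_eq_one] at h1
  exact h1.symm

theorem sylow_of_isSplit (hH : IsStronglyEmbedded H) (hQ : IsSplit H Q) (hQ2 : IsPGroup 2 Q) :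
    ∃ P : Sylow 2 M, (P : Subgroup M) = Q := by
  obtain ⟨t, ht, ht2⟩ := exists_involution_notMem hH
  have hS := setup_of_isSplit hH hQ ht ht2
  have hidx : Odd Q.index := Cfsg.Agent.SuzukiRankOne.Reduction.odd_index_of_le hS le_rfl
  haveI : Fact (Nat.Prime 2) := ⟨Nat.prime_two⟩
  refine ⟨hQ2.toSylow ?_, rfl⟩
  rwa [← even_iff_two_dvd, Nat.not_even_iff_odd]

/-- **an automorphism of order `3^n` of a simple group with a strongly embedded subgroup which centralises a Sylow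
2-subgroup is trivial** -/
theorem fix_of_sylow [IsSimpleGroup M] (hna : ∃ a b : M, a * b ≠ b * a) (hH : IsStronglyEmbedded H)
    (T : Sylow 2 M) (α : MulAut M) {n : ℕ} (hα : α ^ 3 ^ n = 1) (hfix : ∀ t ∈ T, α t = t) : α = 1 := by
  haveI : Fact (Nat.Prime 2) := ⟨Nat.prime_two⟩
  obtain ⟨Q, hQ, hQ2⟩ := Cfsg.Agent.StrongEmb.Strong.exists_isSplit hna H hH
  obtain ⟨P, hP⟩ := sylow_of_isSplit hH hQ hQ2
  obtain ⟨g, hg⟩ := MulAction.exists_smul_eq M T P
  have hβ : (MulAut.conj g * α * (MulAut.conj g)⁻¹) ^ 3 ^ n = 1 := by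
    rw [conj_pow, hα, mul_one, mul_inv_cancel]
  have h1 : MulAut.conj g * α * (MulAut.conj g)⁻¹ = 1 := by
    refine fix_of_isSplit hH hQ hQ2 (normalCore_eq_bot_of_simple hH.1) _ hβ ?_
    intro q hq
    rw [← hP, ← hg] at hq
    have h2 : g⁻¹ * q * g ∈ T := by
      have h3 : q ∈ (g • T : Sylow 2 M) := hq
      rw [← SetLike.mem_coe, Sylow.coe_smul, Set.mem_smul_set_iff_inv_smul_mem] at h3
      have h4 : g⁻¹ * q * g = (MulAut.conj g)⁻¹ • q := by
        rw [← map_inv]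
        show _ = g⁻¹ * q * g⁻¹⁻¹
        rw [inv_inv]
      rw [h4]; exact h3
    have h3 := hfix _ h2
    have h4 : (MulAut.conj g)⁻¹ q = g⁻¹ * q * g := by
      rw [← map_inv, MulAut.conj_apply, inv_inv]
    rw [MulAut.mul_apply, MulAut.mul_apply, h4, h3, MulAut.conj_apply]
    group
  rw [mul_inv_eq_one, mul_eq_left] at h1
  exact h1

end

end Cfsg.Agent.Cit.Nil.RTwo
end

-- part: Cit/Nil/RTwo/LamFix
section
/-!
# S1309, `r = 2`, `m = 1`: (10.8), the abstract form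

`X` is a finite group with `O(X) = 1`, `z` a central involution (or `1`), `C` an invariant set of involutions `≠ z`
such that `z c c' ∈ C` for distinct commuting `c, c' ∈ C`; `c₀ ∈ C` is central in the Sylow 2-subgroup `T`.

* `Lam.XL` : the stabiliser in `X` of the component of `c₀` in the commuting graph on `C`;
* `Lam.fix` : an automorphism of order `3^n` of `X` trivial on `XL` is trivial.
-/

set_option autoImplicit false
set_option linter.unusedSectionVars false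
set_option linter.style.haveILetI false
set_option maxHeartbeats 400000

namespace Cfsg.Agent.Cit.Nil.RTwo.Lam

open Subgroup Cfsg Cfsg.Agent.Cit
open Cfsg.Agent.SignalizersComponents.Components

variable {X : Type*} [Group X]

/-- the abstract set of labels -/
structure Labs (z : X) (C : Set X) : Prop where
  z2 : z * z = 1
  zc : ∀ x, x * z = z * x
  sq : ∀ c ∈ C, c * c = 1
  ne1 : ∀ c ∈ C, c ≠ 1
  nez : ∀ c ∈ C, c ≠ z
  conj : ∀ c ∈ C, ∀ x : X, x * c * x⁻¹ ∈ C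
  third : ∀ c ∈ C, ∀ c' ∈ C, c * c' = c' * c → c ≠ c' → z * c * c' ∈ C

/-- commuting labels -/
def Rel (C : Set X) (u v : X) : Prop := u ∈ C ∧ v ∈ C ∧ u * v = v * u

/-- connected in the commuting graph on the labels -/
def Conn (C : Set X) (u v : X) : Prop := Relation.ReflTransGen (Rel C) u v

section

variable {z c c0 x y : X} {C : Set X}

theorem Rel.symm {u v : X} (h : Rel C u v) : Rel C v u := ⟨h.2.1, h.1, h.2.2.symm⟩

theorem Conn.symm {u v : X} (h : Conn C u v) : Conn C v u := by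
  induction h with
  | refl => exact Relation.ReflTransGen.refl
  | tail _ h2 ih => exact Relation.ReflTransGen.head h2.symm ih

theorem Conn.trans {u v w : X} (h : Conn C u v) (h' : Conn C v w) : Conn C u w :=
  Relation.ReflTransGen.trans h h'

theorem Conn.mem {u v : X} (hu : u ∈ C) (h : Conn C u v) : v ∈ C := by
  induction h with
  | refl => exact hu
  | tail _ h2 _ => exact h2.2.1

theorem Conn.tail {u v w : X} (h : Conn C u v) (h' : Rel C v w) : Conn C u w :=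
  Relation.ReflTransGen.tail h h'

theorem Labs.conn_conj (h : Labs z C) {u v : X} (hc : Conn C u v) (x : X) : Conn C (x * u * x⁻¹) (x * v * x⁻¹) := by
  induction hc with
  | refl => exact Relation.ReflTransGen.refl
  | tail _ h2 ih =>
    refine ih.tail ⟨h.conj _ h2.1 x, h.conj _ h2.2.1 x, ?_⟩
    have h3 := h2.2.2
    rename_i b c _
    calc x * b * x⁻¹ * (x * c * x⁻¹) = x * (b * c) * x⁻¹ := by group
      _ = x * (c * b) * x⁻¹ := by rw [h3]
      _ = _ := by group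

/-- the stabiliser of the component of `c0` -/
def XL (h : Labs z C) (c0 : X) : Subgroup X where
  carrier := {x | Conn C c0 (x * c0 * x⁻¹)}
  mul_mem' := by
    intro x y hx hy
    have h1 := h.conn_conj hy x
    have e : x * (y * c0 * y⁻¹) * x⁻¹ = (x * y) * c0 * (x * y)⁻¹ := by group
    rw [e] at h1
    exact Conn.trans hx h1
  one_mem' := by
    show Conn C c0 (1 * c0 * 1⁻¹)
    have e : 1 * c0 * (1 : X)⁻¹ = c0 := by group
    rw [e]; exact Relation.ReflTransGen.refl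
  inv_mem' := by
    intro x hx
    have h1 := h.conn_conj hx x⁻¹
    have e : x⁻¹ * (x * c0 * x⁻¹) * x⁻¹⁻¹ = c0 := by group
    rw [e] at h1
    exact h1.symm

/-- `C_X(c) ≤ X_Λ` for `c ∈ Λ` -/
theorem mem_XL_of_comm (h : Labs z C) (hc : Conn C c0 c) (hx : x * c = c * x) : x ∈ XL h c0 := by
  have h1 := h.conn_conj hc x
  have e : x * c * x⁻¹ = c := by rw [hx, mul_inv_cancel_right]
  rw [e] at h1
  exact hc.trans h1.symm

theorem mem_XL_of_conj (h : Labs z C) (hc : Conn C c0 c) (hx : Conn C c0 (x * c * x⁻¹)) : x ∈ XL h c0 :=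
  hx.trans (h.conn_conj hc x).symm

/-- (2.3), abstract form -/
theorem Labs.odd_of [Finite X] (h : Labs z C) {B : Set X} (hB : B ⊆ C) (hn : B.Nonempty)
    (hcj : ∀ c ∈ B, ∀ c' ∈ B, c * c' * c⁻¹ ∈ B)
    (h3 : ∀ c ∈ B, ∀ c' ∈ B, c * c' = c' * c → c ≠ c' → z * c * c' ∈ B) : Odd (Nat.card B) := by
  classical
  obtain ⟨c0, hc0⟩ := hn
  have hzz : z * z = 1 := h.z2
  have h0z : c0 * z = z * c0 := h.zc c0
  have h00 := h.sq _ (hB hc0)
  -- the involution
  obtain ⟨f, hf⟩ : ∃ f : B → B, ∀ c : B, ((f c : B) : X) =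
      if (c : X) = c0 then c0 else if c0 * c = c * c0 then z * c0 * c else c0 * c * c0⁻¹ := by
    have : ∀ c : B, ∃ d : B, (d : X) =
        if (c : X) = c0 then c0 else if c0 * c = c * c0 then z * c0 * c else c0 * c * c0⁻¹ := by
      intro c
      by_cases h1 : (c : X) = c0
      · exact ⟨⟨c0, hc0⟩, by rw [if_pos h1]⟩
      by_cases h2 : c0 * c = c * c0
      · exact ⟨⟨_, h3 c0 hc0 c c.2 h2 (Ne.symm h1)⟩, by rw [if_neg h1, if_pos h2]⟩
      · exact ⟨⟨_, hcj c0 hc0 c c.2⟩, by rw [if_neg h1, if_neg h2]⟩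
    choose f hf using this
    exact ⟨f, hf⟩
  refine odd_card f ?_ ⟨c0, hc0⟩ ?_
  · intro c
    apply Subtype.ext
    by_cases h1 : (c : X) = c0
    · have h2 : f c = c := Subtype.ext (by rw [hf, if_pos h1, h1])
      rw [h2, h2]
    by_cases h2 : c0 * c = c * c0
    · have h4 : (f c : X) = z * c0 * c := by rw [hf, if_neg h1, if_pos h2]
      rw [hf, h4, if_neg, if_pos]
      · calc z * c0 * (z * c0 * c) = z * (c0 * z) * c0 * c := by group
          _ = (z * z) * (c0 * c0) * c := by rw [h0z]; group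
          _ = c := by rw [hzz, h00]; group
      · calc c0 * (z * c0 * c) = (c0 * z) * c0 * c := by group
          _ = z * c0 * (c0 * c) := by rw [h0z]; group
          _ = _ := by rw [h2]; group
      · intro e
        apply h.nez _ (hB c.2)
        have e1 : z * (c0 * c) = z * (c0 * z) := by rw [← mul_assoc, e, h0z, ← mul_assoc, hzz, one_mul]
        exact mul_left_cancel (mul_left_cancel e1)
    · have h4 : (f c : X) = c0 * c * c0⁻¹ := by rw [hf, if_neg h1, if_neg h2]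
      rw [hf, h4, if_neg, if_neg]
      · calc c0 * (c0 * c * c0⁻¹) * c0⁻¹ = (c0 * c0) * c * (c0 * c0)⁻¹ := by group
          _ = c := by rw [h00]; group
      · intro e
        apply h2
        have e1 : c0 * (c0 * c * c0⁻¹) * c0⁻¹ = c0 * c * c0⁻¹ := by rw [e]; group
        have e2 : c0 * c * c0⁻¹ = c := mul_left_cancel (mul_right_cancel e1)
        rw [mul_inv_eq_iff_eq_mul] at e2
        exact e2
      · intro e
        rw [mul_inv_eq_iff_eq_mul] at e
        exact h1 (mul_left_cancel e)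
  · intro c
    constructor
    · intro e
      have e1 := congrArg Subtype.val e
      rw [hf] at e1
      by_contra hne
      have h1 : (c : X) ≠ c0 := fun e2 => hne (Subtype.ext e2)
      rw [if_neg h1] at e1
      by_cases h2 : c0 * c = c * c0
      · rw [if_pos h2] at e1
        apply h.nez _ (hB hc0)
        have e2 : z * c0 = 1 := mul_eq_right.1 e1
        have e3 : c0 = z⁻¹ := eq_inv_of_mul_eq_one_right e2
        rw [e3]
        exact inv_eq_of_mul_eq_one_right hzz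
      · rw [if_neg h2] at e1
        apply h2
        rw [mul_inv_eq_iff_eq_mul] at e1
        exact e1
    · rintro rfl
      apply Subtype.ext
      rw [hf, if_pos rfl]

end

/-- distinct components commute elementwise -/
theorem comm_of_comp_ne {X : Type*} [Group X] {E F : Subgroup X} (hE : IsComponent E) (hF : IsComponent F)
    (hne : E ≠ F) {x y : X} (hx : x ∈ E) (hy : y ∈ F) : x * y = y * x :=
  (mem_centralizer_iff.1 (component_le_centralizer_of_ne hF hE hne.symm hy) x hx)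

/-! ### The context -/

/-- the context -/
structure Ctx (z : X) (C : Set X) (c0 : X) (T : Subgroup X) : Prop where
  labs : Labs z C
  mem : c0 ∈ C
  syl : Syl T ⊤
  comm : ∀ t ∈ T, t * c0 = c0 * t
  core : pPrimeCore 2 X = ⊥

namespace Ctx

variable [Finite X] {z c c0 x y : X} {C : Set X} {T L : Subgroup X} (h : Ctx z C c0 T)

include h

theorem T_le : T ≤ XL h.labs c0 := fun _ ht => mem_XL_of_comm h.labs Relation.ReflTransGen.refl (h.comm _ ht)

/-- (h2') -/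
theorem mem_of (hc : Conn C c0 c) (hx : x * c * x⁻¹ ∈ XL h.labs c0) : x ∈ XL h.labs c0 := by
  have hcC : c ∈ C := hc.mem h.mem
  have hT : Syl T (XL h.labs c0) := ⟨h.T_le, h.syl.2.1, fun h2 => h.syl.2.2 (h2.trans (by
    rw [relIndex_top_right]
    exact relIndex_dvd_index_of_le h.T_le))⟩
  obtain ⟨n, hn, h1⟩ := LB.exists_conj_mem hT hx (isPGroup_zpowers_of_sq (h.labs.sq _ (h.labs.conj _ hcC x)))
  have e : n * (x * c * x⁻¹) * n⁻¹ = (n * x) * c * (n * x)⁻¹ := by group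
  rw [e] at h1
  have h2 : (n * x) ∈ XL h.labs c0 := by
    refine mem_XL_of_conj h.labs hc (Relation.ReflTransGen.single ⟨h.mem, h.labs.conj _ hcC _, ?_⟩)
    exact (h.comm _ h1).symm
  have h3 := (XL h.labs c0).mul_mem ((XL h.labs c0).inv_mem hn) h2
  rwa [inv_mul_cancel_left] at h3

/-! ### A component -/

theorem comp_two (hL : IsComponent L) : 2 ∣ Nat.card L := by
  by_contra h2
  have h1 : L ≤ pPrimeCore 2 X := SignalizersComponents.CompBasic.subnormal_coprime_le_pPrimeCore hL.1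
    ((Nat.Prime.coprime_iff_not_dvd Nat.prime_two).2 h2).symm
  rw [h.core, le_bot_iff] at h1
  exact component_ne_bot hL h1

/-- `T ∩ L` is a Sylow 2-subgroup of the component `L` -/
theorem exists_syl (hL : IsComponent L) : ∃ P : Sylow 2 L, (P : Subgroup L) = T.subgroupOf L := by
  have h1 : IsPGroup 2 (T.subgroupOf L) := h.syl.2.1.comap_subtype
  have h2 : ¬ 2 ∣ (T.subgroupOf L).index := by
    intro h2
    have h3 : T.relIndex L ∣ T.index := SignalizersComponents.PCompCore.relIndex_dvd_index_of_subnormal T hL.1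
    apply h.syl.2.2
    rw [relIndex_top_right]
    exact h2.trans h3
  haveI : Fact (Nat.Prime 2) := ⟨Nat.prime_two⟩
  exact ⟨h1.toSylow h2, rfl⟩

/-- a non-central element of `T ∩ L` -/
theorem exists_nc (hL : IsComponent L) : ∃ t ∈ T, t ∈ L ∧ ∃ l ∈ L, l * t ≠ t * l := by
  haveI : Fact (Nat.Prime 2) := ⟨Nat.prime_two⟩
  obtain ⟨P, hP⟩ := h.exists_syl hL
  have h1 := SignalizersComponents.CompBasic.sylow_not_le_center_of_perfect hL.2.1 2 (h.comp_two hL) P
  obtain ⟨t, ht, htc⟩ := SetLike.not_le_iff_exists.1 h1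
  rw [mem_center_iff] at htc
  push Not at htc
  obtain ⟨l, hl⟩ := htc
  rw [hP, mem_subgroupOf] at ht
  exact ⟨t, ht, t.2, l, l.2, fun e => hl (Subtype.ext e)⟩

/-- `c0` normalises the components -/
theorem norm (hL : IsComponent L) : cj c0 L = L := by
  by_contra hne
  obtain ⟨t, ht, htL, l, hl, hne'⟩ := h.exists_nc hL
  apply hne'
  refine comm_of_comp_ne hL (isComponent_conj c0 hL) (fun e => hne e.symm) hl ?_
  change t ∈ cj c0 L
  rw [mem_cj]
  have h1 := h.comm t ht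
  rw [mul_assoc, h1, inv_mul_cancel_left]
  exact htL

theorem norm_mem (hL : IsComponent L) {l : X} (hl : l ∈ L) : c0 * l * c0⁻¹ ∈ L := by
  have h1 := conj_mem_cj (g := c0) hl
  rwa [h.norm hL] at h1

/-- `c0` commutes with a conjugate under `L` -/
theorem exists_conj (hL : IsComponent L) (hne : ¬ L ≤ XL h.labs c0) :
    ∃ g ∈ L, g * c0 * g⁻¹ ≠ c0 ∧ c0 * (g * c0 * g⁻¹) = g * c0 * g⁻¹ * c0 := by
  have hc02 := h.labs.sq _ h.mem
  have hn : zpowers c0 ≤ normalizer (L : Set X) := by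
    rw [zpowers_le, mem_normalizer_iff_cj]; exact h.norm hL
  rcases zstar_sub (X := L ⊔ zpowers c0) (u := c0) (mem_sup_right (mem_zpowers c0)) hc02 (h.labs.ne1 _ h.mem) with
    ⟨g, hg, hne, hc⟩ | ⟨N, hNX, hodd, hNn, hN⟩
  · obtain ⟨y, hy, u, hu, rfl⟩ := LB.exists_mul_of_mem_sup hn hg
    have hut : u * c0 * u⁻¹ = c0 := by
      obtain ⟨k, rfl⟩ := mem_zpowers_iff.1 hu
      rw [← ((Commute.refl c0).zpow_right k).eq, mul_inv_cancel_right]
    have h1 : y * u * c0 * (y * u)⁻¹ = y * c0 * y⁻¹ := by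
      calc y * u * c0 * (y * u)⁻¹ = y * (u * c0 * u⁻¹) * y⁻¹ := by group
        _ = _ := by rw [hut]
    rw [h1] at hne hc
    exact ⟨y, hy, hne, hc⟩
  · exfalso
    apply hne
    have h1 : N ⊓ L = ⊥ := by
      have h2 : ((N ⊓ L).subgroupOf L).Normal := by
        refine (normal_subgroupOf_iff_le_normalizer inf_le_right).2 fun g hg => ?_
        rw [mem_normalizer_iff_cj, cj_inf, mem_normalizer_iff_cj.1 (le_normalizer hg)]
        congr 1
        refine le_antisymm ?_ ?_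
        · rintro _ ⟨n, hn, rfl⟩
          exact hNn g (mem_sup_left hg) n hn
        · intro n hn
          rw [mem_cj]
          have := hNn g⁻¹ (mem_sup_left (L.inv_mem hg)) n hn
          rwa [inv_inv] at this
      have h3 : (N ⊓ L).IsSubnormal := IsSubnormal.step _ _ inf_le_right hL.1 h2
      have h4 : (N ⊓ L) ≤ pPrimeCore 2 X := by
        refine SignalizersComponents.CompBasic.subnormal_coprime_le_pPrimeCore h3 ?_
        refine Nat.Coprime.symm ((Nat.Prime.coprime_iff_not_dvd Nat.prime_two).2 fun h5 => ?_)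
        rw [← Nat.not_even_iff_odd, even_iff_two_dvd] at hodd
        exact hodd (h5.trans (card_dvd_of_le inf_le_left))
      rwa [h.core, le_bot_iff] at h4
    intro l hl
    refine mem_XL_of_comm h.labs Relation.ReflTransGen.refl ?_
    have h2 : c0 * l * c0⁻¹ * l⁻¹ ∈ N ⊓ L := ⟨hN l (mem_sup_left hl), L.mul_mem (h.norm_mem hL hl) (L.inv_mem hl)⟩
    rw [h1, Subgroup.mem_bot, mul_inv_eq_one, mul_inv_eq_iff_eq_mul] at h2
    exact h2.symm

/-- a label in `z L` -/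
theorem exists_cthree (hL : IsComponent L) (hne : ¬ L ≤ XL h.labs c0) : ∃ c ∈ C, Conn C c0 c ∧ z * c ∈ L := by
  obtain ⟨g, hg, hne', hc⟩ := h.exists_conj hL hne
  have h1 := h.labs.third _ h.mem _ (h.labs.conj _ h.mem g) hc hne'.symm
  have hzz : ∀ u, z * (z * u) = u := fun u => by rw [← mul_assoc, h.labs.z2, one_mul]
  refine ⟨_, h1, Relation.ReflTransGen.single ⟨h.mem, h1, ?_⟩, ?_⟩
  · have h0 := h.labs.zc c0
    calc c0 * (z * c0 * (g * c0 * g⁻¹)) = (c0 * z) * (c0 * (g * c0 * g⁻¹)) := by group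
      _ = (z * c0) * (g * c0 * g⁻¹ * c0) := by rw [h0, hc]
      _ = _ := by group
  · rw [mul_assoc z, hzz]
    have e : c0 * (g * c0 * g⁻¹) = (c0 * g * c0⁻¹) * (c0 * c0) * g⁻¹ := by group
    rw [e, h.labs.sq _ h.mem, mul_one]
    exact L.mul_mem (h.norm_mem hL hg) (L.inv_mem hg)

theorem comm_of_mem_zL {c x : X} (hc : z * c ∈ L) (h1 : ∀ l ∈ L, x * l = l * x) : x * c = c * x := by
  have hzz : ∀ u, z * (z * u) = u := fun u => by rw [← mul_assoc, h.labs.z2, one_mul]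
  have h2 := h1 _ hc
  have h3 := h.labs.zc x
  have e : c = z * (z * c) := (hzz c).symm
  rw [e]
  calc x * (z * (z * c)) = (x * z) * (z * c) := by group
    _ = z * (x * (z * c)) := by rw [h3]; group
    _ = z * ((z * c) * x) := by rw [h2]
    _ = _ := by group

/-- `T` normalises `L` -/
theorem T_norm (hL : IsComponent L) (hne : ¬ L ≤ XL h.labs c0) {t : X} (ht : t ∈ T) : cj t L = L := by
  by_contra hne'
  obtain ⟨c, hc, hcc, hcL⟩ := h.exists_cthree hL hne
  apply hne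
  have h1 : cj t L ≤ XL h.labs c0 := by
    intro x hx
    refine mem_XL_of_comm h.labs hcc ?_
    exact h.comm_of_mem_zL hcL fun l hl => comm_of_comp_ne (isComponent_conj t hL) hL hne' hx hl
  intro l hl
  have h2 := h1 (conj_mem_cj (g := t) hl)
  have h3 := (XL h.labs c0).mul_mem ((XL h.labs c0).mul_mem ((XL h.labs c0).inv_mem (h.T_le ht)) h2) (h.T_le ht)
  have e : t⁻¹ * (t * l * t⁻¹) * t = l := by group
  rwa [e] at h3

/-- a label in `z L` central in `T` -/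
theorem exists_cfour (hL : IsComponent L) (hne : ¬ L ≤ XL h.labs c0) :
    ∃ c ∈ C, Conn C c0 c ∧ z * c ∈ L ∧ c ∈ T ∧ ∀ t ∈ T, t * c = c * t := by
  obtain ⟨c, hc, hcc, hcL⟩ := h.exists_cthree hL hne
  have hzz : ∀ u, z * (z * u) = u := fun u => by rw [← mul_assoc, h.labs.z2, one_mul]
  have hzT : z ∈ T := by
    obtain ⟨n, hn, h1⟩ := LB.exists_conj_mem h.syl (Subgroup.mem_top z) (isPGroup_zpowers_of_sq h.labs.z2)
    rwa [h.labs.zc, mul_inv_cancel_right] at h1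
  have hTL : Syl (T ⊓ L) L := by
    obtain ⟨P, hP⟩ := h.exists_syl hL
    refine ⟨inf_le_right, h.syl.2.1.to_le inf_le_left, ?_⟩
    rw [inf_relIndex_right]
    have := P.not_dvd_index
    rwa [hP] at this
  let B : Set X := {c | c ∈ C ∧ c ∈ T ∧ z * c ∈ L}
  have hzcj : ∀ c x : X, z * (x * c * x⁻¹) = x * (z * c) * x⁻¹ := by
    intro c x
    have := h.labs.zc x
    calc z * (x * c * x⁻¹) = (z * x) * c * x⁻¹ := by group
      _ = (x * z) * c * x⁻¹ := by rw [this]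
      _ = _ := by group
  have hBn : B.Nonempty := by
    obtain ⟨n, hn, h1⟩ := LB.exists_conj_mem hTL hcL (isPGroup_zpowers_of_sq (by
      have h2 := h.labs.zc c
      calc z * c * (z * c) = z * (c * z) * c := by group
        _ = (z * z) * (c * c) := by rw [h2]; group
        _ = 1 := by rw [h.labs.z2, h.labs.sq c hc, one_mul]))
    rw [← hzcj] at h1
    refine ⟨n * c * n⁻¹, h.labs.conj _ hc _, ?_, h1.2⟩
    have h2 := T.mul_mem hzT h1.1
    rwa [hzz] at h2
  have hBo : Odd (Nat.card B) := by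
    refine h.labs.odd_of (fun c hc => hc.1) hBn ?_ ?_
    · rintro c ⟨h1, h2, h3⟩ c' ⟨h1', h2', h3'⟩
      refine ⟨h.labs.conj _ h1' _, T.mul_mem (T.mul_mem h2 h2') (T.inv_mem h2), ?_⟩
      have e : c * c' * c⁻¹ = (z * c) * c' * (z * c)⁻¹ := by
        have := h.labs.zc (c * c' * c⁻¹)
        symm
        calc z * c * c' * (z * c)⁻¹ = z * (c * c' * c⁻¹) * z⁻¹ := by group
          _ = (c * c' * c⁻¹ * z) * z⁻¹ := by rw [this]
          _ = _ := by group
      rw [e, hzcj]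
      exact L.mul_mem (L.mul_mem h3 h3') (L.inv_mem h3)
    · rintro c ⟨h1, h2, h3⟩ c' ⟨h1', h2', h3'⟩ hcc hne
      refine ⟨h.labs.third _ h1 _ h1' hcc hne, T.mul_mem (T.mul_mem hzT h2) h2', ?_⟩
      have e : z * (z * c * c') = (z * c) * (z * c') := by
        have := h.labs.zc c
        calc z * (z * c * c') = z * (z * c) * c' := by group
          _ = z * (c * z) * c' := by rw [this]
          _ = _ := by group
      rw [e]
      exact L.mul_mem h3 h3'
  obtain ⟨c4, ⟨h1, h2, h3⟩, h4⟩ := exists_fixed_of_odd (B := B) h.syl.2.1 (by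
    rintro t ht c ⟨h1, h2, h3⟩
    refine ⟨h.labs.conj _ h1 _, T.mul_mem (T.mul_mem ht h2) (T.inv_mem ht), ?_⟩
    rw [hzcj]
    have h5 := conj_mem_cj (g := t) h3
    rwa [h.T_norm hL hne ht] at h5) hBo
  exact ⟨c4, h1, Relation.ReflTransGen.single ⟨h.mem, h1, (h.comm _ h2).symm⟩, h3, h2, h4⟩

end Ctx

end Cfsg.Agent.Cit.Nil.RTwo.Lam
end

-- part: Cit/Nil/RTwo/LamEnd
section
/-!
# S1309, `r = 2`, `m = 1`: (10.8), the abstract form, end

* `Ctx.fix_comp` : an automorphism of order `3^n` trivial on `X_Λ` is trivial on the components;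
* `Ctx.fix` : it is trivial.
-/

set_option autoImplicit false
set_option linter.unusedSectionVars false
set_option linter.style.haveILetI false
set_option maxHeartbeats 400000

namespace Cfsg.Agent.Cit.Nil.RTwo.Lam

open Subgroup Cfsg Cfsg.Agent.Cit
open Cfsg.Agent.SignalizersComponents.Components

variable {X : Type*} [Group X]

section

variable {L : Type*} [Group L] [Finite L]

/-- an automorphism of a perfect group trivial modulo the centre is trivial -/
theorem eq_one_of_center (hp : Group.IsPerfect L) (α : MulAut L) (h : ∀ x, x⁻¹ * α x ∈ center L) : α = 1 := by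
  let f : L →* center L :=
    { toFun := fun x => ⟨x⁻¹ * α x, h x⟩
      map_one' := Subtype.ext (by simp only [_root_.inv_one, _root_.map_one, _root_.mul_one, _root_.OneMemClass.coe_one])
      map_mul' := fun x y => Subtype.ext (by
        show (x * y)⁻¹ * α (x * y) = (x⁻¹ * α x) * (y⁻¹ * α y)
        have h1 := mem_center_iff.1 (h x) y⁻¹
        rw [map_mul]
        calc (x * y)⁻¹ * (α x * α y) = (y⁻¹ * (x⁻¹ * α x)) * α y := by group
          _ = ((x⁻¹ * α x) * y⁻¹) * α y := by rw [h1]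
          _ = _ := by group) }
  have hcc : ∀ x y : center L, x * y = y * x := fun x y => Subtype.ext (mem_center_iff.1 y.2 x)
  letI : CommGroup (center L) := { (inferInstance : Group (center L)) with mul_comm := hcc }
  have h2 : ∀ x, f x = 1 := fun x => SignalizersComponents.CompBasic.hom_eq_one_of_perfect hp f x
  ext x
  have h3 : x⁻¹ * α x = 1 := congrArg Subtype.val (h2 x)
  rw [inv_mul_eq_one] at h3
  exact h3.symm

end

namespace Ctx

variable [Finite X] {z c c0 x y : X} {C : Set X} {T L : Subgroup X} (h : Ctx z C c0 T)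

include h

/-- the strongly embedded subgroup of `L/Z(L)` -/
theorem exists_se (hL : IsComponent L) (hne : ¬ L ≤ XL h.labs c0) :
    ∃ H : Subgroup (L ⧸ center L), IsStronglyEmbedded H := by
  haveI : Fact (Nat.Prime 2) := ⟨Nat.prime_two⟩
  haveI : IsSimpleGroup (L ⧸ center L) := hL.2.2
  obtain ⟨c4, h1, h2, h3, h4, h5⟩ := h.exists_cfour hL hne
  have hzz : ∀ u, z * (z * u) = u := fun u => by rw [← mul_assoc, h.labs.z2, one_mul]
  have hzc : ∀ u, u * z = z * u := h.labs.zc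
  have hc4 : c4 * c4 = 1 := h.labs.sq _ h1
  -- `Z(L) ≤ X_Λ`
  have hcen : ∀ y : L, y ∈ center L → (y : X) ∈ XL h.labs c0 := by
    intro y hy
    refine mem_XL_of_comm h.labs h2 (h.comm_of_mem_zL h3 fun l hl => ?_)
    exact (congrArg Subtype.val (mem_center_iff.1 hy ⟨l, hl⟩)).symm
  -- the involution
  obtain ⟨m, hm⟩ : ∃ m : L, (m : X) = z * c4 := ⟨⟨_, h3⟩, rfl⟩
  have hmc : c4 = z * m := by rw [hm, hzz]
  have hm2 : m * m = 1 := by
    apply Subtype.ext
    show (m : X) * m = 1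
    rw [hm]
    calc z * c4 * (z * c4) = z * (c4 * z) * c4 := by group
      _ = (z * z) * (c4 * c4) := by rw [hzc]; group
      _ = 1 := by rw [h.labs.z2, hc4, one_mul]
  have hmn : m ∉ center L := by
    intro hmc
    apply hne
    intro l hl
    refine mem_XL_of_comm h.labs h2 ?_
    have h6 : l * (z * c4) = (z * c4) * l := by
      have := congrArg Subtype.val (mem_center_iff.1 hmc ⟨l, hl⟩)
      rw [← hm]; exact this
    have h7 : z * (l * c4) = z * (c4 * l) := by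
      calc z * (l * c4) = (z * l) * c4 := by group
        _ = l * (z * c4) := by rw [← hzc]; group
        _ = _ := by rw [h6]; group
    exact mul_left_cancel h7
  obtain ⟨H, hH⟩ : ∃ H, H = (XL h.labs c0).subgroupOf L := ⟨_, rfl⟩
  have hmem : ∀ x : L, (QuotientGroup.mk' (center L) x) ∈ H.map (QuotientGroup.mk' (center L)) ↔
      (x : X) ∈ XL h.labs c0 := by
    intro x
    rw [hH]
    constructor
    · rintro ⟨y, hy, hyx⟩
      have h6 : y⁻¹ * x ∈ center L := by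
        rw [← QuotientGroup.ker_mk' (center L), MonoidHom.mem_ker, map_mul, map_inv, hyx, inv_mul_cancel]
      have h7 := (XL h.labs c0).mul_mem (mem_subgroupOf.1 hy) (hcen _ h6)
      have e : (y : X) * ((y⁻¹ * x : L) : X) = x := by
        rw [Subgroup.coe_mul, Subgroup.coe_inv, mul_inv_cancel_left]
      rwa [e] at h7
    · intro hx
      exact ⟨x, mem_subgroupOf.2 hx, rfl⟩
  have hmX : (m : X) ∈ XL h.labs c0 := by
    refine mem_XL_of_comm h.labs h2 ?_
    rw [hm]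
    calc z * c4 * c4 = (z * c4) * c4 := rfl
      _ = (c4 * z) * c4 := by rw [hzc]
      _ = _ := by group
  have hcx : ∀ x : L, (x : X) * c4 * (x : X)⁻¹ = z * ((x * m * x⁻¹ : L) : X) := by
    intro x
    rw [hmc, Subgroup.coe_mul, Subgroup.coe_mul, Subgroup.coe_inv]
    calc (x : X) * (z * m) * (x : X)⁻¹ = ((x : X) * z) * m * (x : X)⁻¹ := by group
      _ = (z * x) * m * (x : X)⁻¹ := by rw [hzc]
      _ = _ := by group
  have hzX : z ∈ XL h.labs c0 := mem_XL_of_comm h.labs h2 (hzc c4).symm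
  have key2 : ∀ x : L, ((x * m * x⁻¹ : L) : X) ∈ XL h.labs c0 → (x : X) ∈ XL h.labs c0 := by
    intro x hx
    refine h.mem_of h2 ?_
    rw [hcx]
    exact (XL h.labs c0).mul_mem hzX hx
  have hπ : Function.Surjective (QuotientGroup.mk' (center L)) := QuotientGroup.mk'_surjective _
  refine Cfsg.Agent.S1175.result (H.map (QuotientGroup.mk' (center L))) ?_ (QuotientGroup.mk' (center L) m) ?_
    ((hmem m).2 hmX) ?_ ?_ ?_
  · intro htop
    apply hne
    intro l hl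
    have h6 : QuotientGroup.mk' (center L) (⟨l, hl⟩ : L) ∈ H.map (QuotientGroup.mk' (center L)) := by
      rw [htop]; exact mem_top _
    exact (hmem _).1 h6
  · refine orderOf_eq_prime ?_ ?_
    · rw [← map_pow, pow_two, hm2, map_one]
    · intro h6
      rw [← MonoidHom.mem_ker, QuotientGroup.ker_mk'] at h6
      exact hmn h6
  · obtain ⟨P, hP⟩ := h.exists_syl hL
    have hmP : ∀ p : L, p ∈ P ↔ (p : X) ∈ T := by
      intro p
      have : p ∈ (P : Subgroup L) ↔ (p : X) ∈ T := by rw [hP, mem_subgroupOf]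
      exact this
    have hzT : z ∈ T := by
      obtain ⟨n, hn, h1⟩ := LB.exists_conj_mem h.syl (Subgroup.mem_top z) (isPGroup_zpowers_of_sq h.labs.z2)
      rwa [h.labs.zc, mul_inv_cancel_right] at h1
    refine ⟨P.mapSurjective hπ, ?_, ?_⟩
    · have h6 : QuotientGroup.mk' (center L) m ∈ (P : Subgroup L).map (QuotientGroup.mk' (center L)) :=
        ⟨m, (hmP m).2 (by rw [hm]; exact T.mul_mem hzT h4), rfl⟩
      rw [← Sylow.coe_mapSurjective hπ] at h6
      exact h6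
    · intro s hs
      have h6 : s ∈ (P : Subgroup L).map (QuotientGroup.mk' (center L)) := by
        rw [← Sylow.coe_mapSurjective hπ]; exact hs
      obtain ⟨t, ht, rfl⟩ := h6
      have ht' : (t : X) ∈ T := (hmP t).1 ht
      have h7 : t * m = m * t := by
        apply Subtype.ext
        show (t : X) * m = m * t
        rw [hm]
        have h8 := h5 _ ht'
        calc (t : X) * (z * c4) = ((t : X) * z) * c4 := by group
          _ = z * ((t : X) * c4) := by rw [hzc]; group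
          _ = _ := by rw [h8]; group
      show QuotientGroup.mk' (center L) t * QuotientGroup.mk' (center L) m = _
      rw [← map_mul, h7, map_mul]
  · intro g hg
    obtain ⟨x, rfl⟩ := hπ g
    rw [← map_inv, ← map_mul, ← map_mul, hmem] at hg
    exact (hmem x).2 (key2 x hg)
  · intro g hg hgne
    obtain ⟨x, rfl⟩ := hπ g
    rw [← map_inv, ← map_mul, ← map_mul] at hg hgne ⊢
    obtain ⟨m', hm'⟩ : ∃ m', m' = x * m * x⁻¹ := ⟨_, rfl⟩
    rw [← hm'] at hg hgne ⊢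
    have hne' : m' ≠ m := fun e => hgne (by rw [e])
    -- the commutator
    have hζ : m' * m * m'⁻¹ * m⁻¹ ∈ center L := by
      rw [← QuotientGroup.ker_mk' (center L), MonoidHom.mem_ker, map_mul, map_mul, map_mul, map_inv, map_inv]
      have h6 := hg.eq
      rw [← h6]; group
    obtain ⟨ζ, hζe⟩ : ∃ ζ, ζ = m' * m * m'⁻¹ * m⁻¹ := ⟨_, rfl⟩
    rw [← hζe] at hζ
    have hc4' : z * (m' : X) = (x : X) * c4 * (x : X)⁻¹ := by rw [hcx, hm']
    have hc4C : z * (m' : X) ∈ C := by rw [hc4']; exact h.labs.conj _ h1 _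
    by_cases hζ1 : ζ = 1
    · -- commuting
      have hcm : m' * m = m * m' := by
        rw [hζ1] at hζe
        have h6 := hζe.symm
        rw [mul_inv_eq_one, mul_inv_eq_iff_eq_mul] at h6
        exact h6
      have hcmX : (m' : X) * m = m * m' := congrArg Subtype.val hcm
      have h6 : c4 * (z * (m' : X)) = z * (m' : X) * c4 := by
        rw [hmc]
        calc z * (m : X) * (z * m') = z * ((m : X) * z) * m' := by group
          _ = (z * z) * ((m : X) * m') := by rw [hzc]; group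
          _ = (z * z) * ((m' : X) * m) := by rw [hcmX]
          _ = z * (z * (m' : X)) * m := by group
          _ = z * ((m' : X) * z) * m := by rw [hzc]
          _ = _ := by group
      have h7 : c4 ≠ z * (m' : X) := by
        intro e
        rw [hmc] at e
        exact hne' (Subtype.ext (mul_left_cancel e)).symm
      have h8 := h.labs.third _ h1 _ hc4C h6 h7
      have h9 : Conn C c0 (z * c4 * (z * (m' : X))) := by
        refine h2.tail ⟨h1, h8, ?_⟩
        calc c4 * (z * c4 * (z * (m' : X))) = (c4 * z) * (c4 * (z * m')) := by group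
          _ = (z * c4) * (z * m' * c4) := by rw [hzc, h6]
          _ = _ := by group
      have he5 : z * c4 * (z * (m' : X)) = z * ((m * m' : L) : X) := by
        rw [hmc, hzz, Subgroup.coe_mul, ← mul_assoc, hzc, mul_assoc]
      rw [he5] at h9 h8
      intro g hg2
      obtain ⟨y, rfl⟩ := hπ g
      rw [mem_centralizer_singleton_iff, ← map_mul, ← map_mul, ← map_mul] at hg2
      apply (hmem y).2
      refine h.mem_of h9 ?_
      -- `y (m m') y⁻¹ = ζ' (m m')`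
      have h10 : y * (m * m') * (m * m' * y)⁻¹ ∈ center L := by
        rw [← QuotientGroup.ker_mk' (center L), MonoidHom.mem_ker, map_mul, map_inv, hg2, mul_inv_cancel]
      have e : (y : X) * (z * ((m * m' : L) : X)) * (y : X)⁻¹ =
          ((y * (m * m') * (m * m' * y)⁻¹ : L) : X) * (z * ((m * m' : L) : X)) := by
        have e1 : (y : X) * (z * ((m * m' : L) : X)) * (y : X)⁻¹ = z * ((y * (m * m') * y⁻¹ : L) : X) := by
          push_cast
          calc (y : X) * (z * ((m : X) * m')) * (y : X)⁻¹ = ((y : X) * z) * ((m : X) * m') * (y : X)⁻¹ := by group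
            _ = (z * y) * ((m : X) * m') * (y : X)⁻¹ := by rw [hzc]
            _ = _ := by group
        have e3 : y * (m * m') * y⁻¹ = (y * (m * m') * (m * m' * y)⁻¹) * (m * m') := by
          group
        rw [e1, e3]
        obtain ⟨A, hA⟩ : ∃ A, A = y * (m * m') * (m * m' * y)⁻¹ := ⟨_, rfl⟩
        obtain ⟨B, hB⟩ : ∃ B, B = m * m' := ⟨_, rfl⟩
        rw [← hA, ← hB, Subgroup.coe_mul]
        calc z * ((A : X) * B) = (z * A) * B := by group
          _ = ((A : X) * z) * B := by rw [hzc]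
          _ = _ := by group
      rw [e]
      refine (XL h.labs c0).mul_mem (hcen _ h10) ?_
      exact mem_XL_of_comm h.labs h9 rfl
    · -- not commuting: contradiction
      exfalso
      apply hne
      have hζX : ∀ l ∈ L, l * (ζ : X) = ζ * l := fun l hl => congrArg Subtype.val (mem_center_iff.1 hζ ⟨l, hl⟩)
      have hζc : c4 * (ζ : X) = ζ * c4 := by
        rw [hmc]
        calc z * (m : X) * ζ = z * ((m : X) * ζ) := by group
          _ = z * ((ζ : X) * m) := by rw [hζX _ m.2]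
          _ = (z * ζ) * m := by group
          _ = (ζ * z) * m := by rw [← hzc]
          _ = _ := by group
      have h6 : (m' : X) * c4 * (m' : X)⁻¹ = ζ * c4 := by
        rw [hcx]
        have e1 : m' * m * m'⁻¹ = ζ * m := by rw [hζe, inv_mul_cancel_right]
        rw [e1, hmc, Subgroup.coe_mul, ← mul_assoc, ← hzc, mul_assoc]
      have h7 := h.labs.conj _ h1 (m' : X)
      rw [h6] at h7
      have h8 : c4 * (ζ * c4) = ζ * c4 * c4 := by rw [← mul_assoc, hζc]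
      have h9 : c4 ≠ ζ * c4 := by
        intro e
        exact hζ1 (Subtype.ext (mul_eq_right.1 e.symm))
      have h10 := h.labs.third _ h1 _ h7 h8 h9
      have e : z * c4 * (ζ * c4) = z * ζ := by
        calc z * c4 * (ζ * c4) = z * (c4 * ζ) * c4 := by group
          _ = z * ζ * (c4 * c4) := by rw [hζc]; group
          _ = _ := by rw [hc4, mul_one]
      rw [e] at h10
      intro l hl
      refine mem_XL_of_comm h.labs (h2.tail ⟨h1, h10, ?_⟩) ?_
      · calc c4 * (z * ζ) = (c4 * z) * ζ := by group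
          _ = z * (c4 * ζ) := by rw [hzc]; group
          _ = _ := by rw [hζc]; group
      · calc l * (z * ζ) = (l * z) * ζ := by group
          _ = z * (l * ζ) := by rw [hzc]; group
          _ = _ := by rw [hζX l hl]; group

/-- the action of an automorphism on `L/Z(L)` -/
theorem fix_comp (hL : IsComponent L) (α : MulAut X) {n : ℕ} (hα : α ^ 3 ^ n = 1)
    (hfix : ∀ x ∈ XL h.labs c0, α x = x) : ∀ l ∈ L, α l = l := by
  haveI : Fact (Nat.Prime 2) := ⟨Nat.prime_two⟩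
  by_cases hne : L ≤ XL h.labs c0
  · exact fun l hl => hfix l (hne hl)
  haveI : IsSimpleGroup (L ⧸ center L) := hL.2.2
  obtain ⟨H, hH⟩ := h.exists_se hL hne
  obtain ⟨t, ht, htL, l0, hl0, hne0⟩ := h.exists_nc hL
  -- `α L = L`
  have hαL : L.map α.toMonoidHom = L := by
    by_contra hne'
    apply hne0
    refine comm_of_comp_ne hL (isComponent_map_equiv α hL) (fun e => hne' e.symm) hl0 ?_
    exact ⟨t, htL, hfix t (h.T_le ht)⟩
  have hαL' : ∀ x, α x ∈ L ↔ x ∈ L := by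
    intro x
    constructor
    · intro hx
      rw [← hαL] at hx
      obtain ⟨y, hy, hyx⟩ := hx
      have : y = x := α.injective hyx
      rwa [← this]
    · intro hx
      rw [← hαL]; exact ⟨x, hx, rfl⟩
  -- the restriction
  obtain ⟨β, hβ⟩ : ∃ β : MulAut L, ∀ x : L, ((β x : L) : X) = α x := by
    refine ⟨{ toFun := fun x => ⟨α x, (hαL' x).2 x.2⟩
              invFun := fun x => ⟨α.symm x, (hαL' _).1 (by rw [MulEquiv.apply_symm_apply]; exact x.2)⟩
              left_inv := fun x => Subtype.ext (by simp)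
              right_inv := fun x => Subtype.ext (by simp)
              map_mul' := fun x y => Subtype.ext (by simp) }, fun x => rfl⟩
  have hβk : ∀ (k : ℕ) (x : L), (((β ^ k) x : L) : X) = (α ^ k) x := by
    intro k
    induction k with
    | zero => intro x; simp
    | succ k ih =>
      intro x
      have e1 : (β ^ (k + 1)) x = β ((β ^ k) x) := by rw [pow_succ']; rfl
      have e2 : (α ^ (k + 1)) (x : X) = α ((α ^ k) x) := by rw [pow_succ']; rfl
      rw [e1, e2, hβ, ih]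
  have hβn : β ^ 3 ^ n = 1 := by
    ext x
    rw [hβk, hα]; rfl
  have hcen : (center L).map β.toMonoidHom = center L :=
    Subgroup.characteristic_iff_map_eq.1 (inferInstance : (center L).Characteristic) β
  obtain ⟨γ, hγ⟩ : ∃ γ : MulAut (L ⧸ center L), ∀ x : L, γ (QuotientGroup.mk' (center L) x) =
      QuotientGroup.mk' (center L) (β x) := ⟨QuotientGroup.congr (center L) (center L) β hcen, fun x => rfl⟩
  have hγk : ∀ (k : ℕ) (x : L), (γ ^ k) (QuotientGroup.mk' (center L) x) =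
      QuotientGroup.mk' (center L) ((β ^ k) x) := by
    intro k
    induction k with
    | zero => intro x; simp only [_root_.pow_zero, _root_.QuotientGroup.mk'_apply, _root_.MulAut.one_apply]
    | succ k ih =>
      intro x
      have e1 : (β ^ (k + 1)) x = β ((β ^ k) x) := by rw [pow_succ']; rfl
      have e2 : (γ ^ (k + 1)) (QuotientGroup.mk' (center L) x) = γ ((γ ^ k) (QuotientGroup.mk' (center L) x)) := by
        rw [pow_succ']; rfl
      rw [e1, e2, ih, hγ]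
  have hπ : Function.Surjective (QuotientGroup.mk' (center L)) := QuotientGroup.mk'_surjective _
  have hγn : γ ^ 3 ^ n = 1 := by
    ext y
    obtain ⟨x, rfl⟩ := hπ y
    rw [hγk, hβn]; rfl
  have hna : ∃ a b : L ⧸ center L, a * b ≠ b * a := by
    by_contra hcon
    push Not at hcon
    letI : CommGroup (L ⧸ center L) := { (inferInstance : Group (L ⧸ center L)) with mul_comm := hcon }
    have h1 : ∀ x : L, QuotientGroup.mk' (center L) x = 1 := fun x =>
      SignalizersComponents.CompBasic.hom_eq_one_of_perfect hL.2.1 (QuotientGroup.mk' (center L)) x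
    obtain ⟨a, b, hab⟩ := exists_pair_ne (L ⧸ center L)
    obtain ⟨a, rfl⟩ := hπ a
    obtain ⟨b, rfl⟩ := hπ b
    exact hab ((h1 a).trans (h1 b).symm)
  obtain ⟨P, hP⟩ := h.exists_syl hL
  have h1 : γ = 1 := by
    refine fix_of_sylow hna hH (P.mapSurjective hπ) γ hγn ?_
    intro s hs
    have h6 : s ∈ (P : Subgroup L).map (QuotientGroup.mk' (center L)) := by
      rw [← Sylow.coe_mapSurjective hπ]; exact hs
    obtain ⟨t, ht, rfl⟩ := h6
    have ht' : (t : X) ∈ T := by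
      have h7 : t ∈ (P : Subgroup L) := ht
      rwa [hP, mem_subgroupOf] at h7
    rw [hγ]
    congr 1
    exact Subtype.ext (by rw [hβ]; exact hfix _ (h.T_le ht'))
  have h2 : β = 1 := by
    refine eq_one_of_center hL.2.1 β fun x => ?_
    rw [← QuotientGroup.ker_mk' (center L), MonoidHom.mem_ker, map_mul, map_inv, ← hγ, h1]
    simp only [_root_.QuotientGroup.mk'_apply, _root_.MulAut.one_apply, _root_.inv_mul_cancel]
  intro l hl
  have h3 := hβ ⟨l, hl⟩
  rw [h2] at h3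
  exact h3.symm

/-- **(10.8), abstract form** -/
theorem fix (α : MulAut X) {n : ℕ} (hα : α ^ 3 ^ n = 1) (hfix : ∀ x ∈ XL h.labs c0, α x = x) : α = 1 := by
  haveI : Fact (Nat.Prime 2) := ⟨Nat.prime_two⟩
  -- `F*(X)`
  have hF : ∀ x ∈ generalizedFittingSubgroup X, α x = x := by
    let M : Subgroup X := { carrier := {x | α x = x}
                            mul_mem' := fun {a b} ha hb => by
                              show α (a * b) = a * b
                              rw [map_mul, ha, hb]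
                            one_mem' := map_one α
                            inv_mem' := fun {a} ha => by
                              show α a⁻¹ = a⁻¹
                              rw [map_inv, ha] }
    have hM : generalizedFittingSubgroup X ≤ M := by
      refine sup_le (sSup_le fun L hL l hl => h.fix_comp hL α hα hfix l hl) ?_
      rw [SignalizersComponents.PConstrained.fittingSubgroup_eq_pCore_of_pPrimeCore_eq_bot 2 h.core]
      intro x hx
      refine hfix x (h.T_le ?_)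
      -- `O_2(X) ≤ T`
      have h1 : IsPGroup 2 (pCore 2 X) := Lib.Cores.pCore_isPGroup (G := X) 2
      have h2 : (pCore 2 X).Normal := inferInstance
      have h3 : IsPGroup 2 (T ⊔ pCore 2 X : Subgroup X) := h.syl.2.1.to_sup_of_normal_right h1
      have h4 := LB.syl_eq_of_le h.syl h3 le_top le_sup_left
      rw [h4]
      exact mem_sup_right hx
    exact fun x hx => hM hx
  have hn : (generalizedFittingSubgroup X).Normal := Lib.GenFitting.genFitting_normal
  -- `x⁻¹ α x` centralises `F*(X)`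
  have key : ∀ x, x⁻¹ * α x ∈ generalizedFittingSubgroup X ∧ ∀ f ∈ generalizedFittingSubgroup X,
      (x⁻¹ * α x) * f = f * (x⁻¹ * α x) := by
    intro x
    have h1 : ∀ f ∈ generalizedFittingSubgroup X, (x⁻¹ * α x) * f = f * (x⁻¹ * α x) := by
      intro f hf
      have h2 := hF _ (hn.conj_mem f hf x)
      rw [map_mul, map_mul, map_inv, hF f hf] at h2
      calc x⁻¹ * α x * f = x⁻¹ * (α x * f * (α x)⁻¹) * α x := by group
        _ = x⁻¹ * (x * f * x⁻¹) * α x := by rw [h2]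
        _ = _ := by group
    refine ⟨?_, h1⟩
    apply Lib.GenFitting.centralizer_genFitting_le
    rw [mem_centralizer_iff]
    exact fun f hf => (h1 f hf).symm
  -- the odd part of the centre of `F*(X)`
  have hodd : ∀ u ∈ generalizedFittingSubgroup X, (∀ f ∈ generalizedFittingSubgroup X, u * f = f * u) →
      u ^ 3 ^ n = 1 → u = 1 := by
    intro u hu huc hun
    let N : Subgroup X := { carrier := {u | u ∈ generalizedFittingSubgroup X ∧
                              (∀ f ∈ generalizedFittingSubgroup X, u * f = f * u) ∧ ∃ k : ℕ, u ^ 3 ^ k = 1}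
                            mul_mem' := by
                              rintro a b ⟨h1, h2, k, h3⟩ ⟨h1', h2', k', h3'⟩
                              refine ⟨mul_mem h1 h1', fun f hf => ?_, k + k', ?_⟩
                              · rw [mul_assoc, h2' f hf, ← mul_assoc, h2 f hf, mul_assoc]
                              · have h4 : Commute a b := h2 b h1'
                                rw [h4.mul_pow, pow_add, pow_mul, h3, one_pow, one_mul, mul_comm, pow_mul, h3',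
                                  one_pow]
                            one_mem' := ⟨one_mem _, fun f _ => by group, 0, by simp⟩
                            inv_mem' := by
                              rintro a ⟨h1, h2, k, h3⟩
                              refine ⟨inv_mem h1, fun f hf => ?_, k, by rw [inv_pow, h3, inv_one]⟩
                              rw [inv_mul_eq_iff_eq_mul, ← mul_assoc, h2 f hf, mul_inv_cancel_right] }
    have hN : N.Normal := ⟨by
      rintro a ⟨h1, h2, k, h3⟩ g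
      refine ⟨hn.conj_mem a h1 g, fun f hf => ?_, k, by rw [conj_pow, h3]; group⟩
      have h4 := h2 _ (hn.conj_mem f hf g⁻¹)
      calc g * a * g⁻¹ * f = g * (a * (g⁻¹ * f * g⁻¹⁻¹)) * g⁻¹ := by group
        _ = g * ((g⁻¹ * f * g⁻¹⁻¹) * a) * g⁻¹ := by rw [h4]
        _ = _ := by group⟩
    have hN3 : IsPGroup 3 N := by
      rintro ⟨a, h1, h2, k, h3⟩
      exact ⟨k, Subtype.ext h3⟩
    have h1 : N ≤ pPrimeCore 2 X := by
      refine Lib.Cores.le_pPrimeCore hN ?_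
      haveI : Fact (Nat.Prime 3) := ⟨Nat.prime_three⟩
      obtain ⟨k, hk⟩ := IsPGroup.iff_card.1 hN3
      rw [hk]
      exact Nat.Coprime.pow_left k (by norm_num)
    rw [h.core] at h1
    exact Subgroup.mem_bot.1 (h1 (show u ∈ N from ⟨hu, huc, n, hun⟩))
  ext x
  obtain ⟨h1, h2⟩ := key x
  have h3 : ∀ k : ℕ, (α ^ k) x = x * (x⁻¹ * α x) ^ k := by
    intro k
    induction k with
    | zero => simp
    | succ k ih =>
      have e1 : (α ^ (k + 1)) x = α ((α ^ k) x) := by rw [pow_succ']; rfl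
      rw [e1, ih, map_mul, map_pow, hF _ h1]
      rw [pow_succ', ← mul_assoc x, mul_inv_cancel_left]
  have h4 := h3 (3 ^ n)
  rw [hα] at h4
  have h5 : (x⁻¹ * α x) ^ 3 ^ n = 1 := mul_eq_left.1 h4.symm
  have h6 := hodd _ h1 h2 h5
  rw [inv_mul_eq_one] at h6
  exact h6.symm

end Ctx

end Cfsg.Agent.Cit.Nil.RTwo.Lam
end

-- part: Cit/Nil/RTwo/OEight
section
/-!
# S1309, `r = 2`, `m = 1`: (10.8), (10.9) of the blueprint

In the case (U) (every translation is in `D_0`), with `O(C(⟨R_z, R_t⟩)) = 1` (`OY Om z`, (10.6)):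

* `exists_T3_cent` : for a suitable label `c₀` the elements of `T3 Om z c₀` centralise `X_z`;
* `exists_tra_cent` : every `v ∈ D_0` is the translation of a 3-element centralising `X_z`;
* `sl_end_of_U` : if `D_0` contains a vector of weight one then S1310 applies.
-/

set_option autoImplicit false
set_option linter.style.haveILetI false
set_option linter.unusedSectionVars false
set_option maxHeartbeats 400000

namespace Cfsg.Agent.Cit.Nil.RTwo

open Subgroup Cfsg Cit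

variable {G : Type*} [Group G]

/-- conjugation by an element of `C(z)` as an automorphism of `X_z` -/
def conjX [Finite G] {Om : Set (Subgroup G)} {z g : G} (h : W2 Om) (hg : g * z = z * g) : MulAut (CX Om z) where
  toFun x := ⟨g * x * g⁻¹, CX_conj_comm h hg x.2⟩
  invFun x := ⟨g⁻¹ * x * g, by
    have hg' : g⁻¹ * z = z * g⁻¹ := by rw [inv_mul_eq_iff_eq_mul, ← mul_assoc, hg, mul_inv_cancel_right]
    have := CX_conj_comm h hg' x.2
    rwa [inv_inv] at this⟩
  left_inv x := Subtype.ext (by show g⁻¹ * (g * x * g⁻¹) * g = x; group)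
  right_inv x := Subtype.ext (by show g * (g⁻¹ * x * g) * g⁻¹ = x; group)
  map_mul' x y := Subtype.ext (by
    show g * (x * y) * g⁻¹ = (g * x * g⁻¹) * (g * y * g⁻¹)
    group)

section

variable [Finite G] {Om : Set (Subgroup G)} {K K1 K2 L L1 L2 : Subgroup G} {z t t' g g' x y w c c' c0 d : G}
  {a b p q : Fin 3 → G} {v v' : Fin 3 × Fin 3}

theorem coe_conjX (h : W2 Om) (hg : g * z = z * g) (x : CX Om z) : ((conjX h hg x : CX Om z) : G) = g * x * g⁻¹ := rfl

theorem conjX_pow (h : W2 Om) (hg : g * z = z * g) (n : ℕ) (x : CX Om z) :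
    (((conjX h hg ^ n) x : CX Om z) : G) = g ^ n * x * (g ^ n)⁻¹ := by
  induction n with
  | zero => simp
  | succ n ih =>
    have e : (conjX h hg ^ (n + 1)) x = conjX h hg ((conjX h hg ^ n) x) := by rw [pow_succ']; rfl
    rw [e, coe_conjX, ih, pow_succ']
    group

/-- the labels as elements of `X_z` -/
def CCX (Om : Set (Subgroup G)) (z : G) : Set (CX Om z) := {c | (c : G) ∈ CC Om z}

theorem labs (h : W2 Om) (hz : InZ Om z) (hn : (1 : G) ∉ CC Om z) :
    Lam.Labs (⟨z, z_mem_CX h⟩ : CX Om z) (CCX Om z) where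
  z2 := Subtype.ext (hz.z2 h)
  zc x := Subtype.ext (CX_le hz h x.2)
  sq c hc := Subtype.ext (CC.sq hc)
  ne1 c hc e := hn (by
    have h1 : (c : G) = 1 := congrArg Subtype.val e
    have h2 : (c : G) ∈ CC Om z := hc
    rwa [h1] at h2)
  nez c hc e := CC.ne_z h hc (congrArg Subtype.val e)
  conj c hc x := CC.conj_CX h hc x.2
  third c hc c' hc' hcc hne := by
    obtain ⟨K1, K2, a, b, F⟩ := hz.exists_frame h
    exact CC.third h F hc hc' (congrArg Subtype.val hcc) (fun e => hne (Subtype.ext e))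

theorem T3.of_conn (h : W2 Om) (F : Frame Om z K1 K2 a b) (hU : ∀ g v, Tra z a b g v → v ∈ D0 Om z a b)
    (hn : (1 : G) ∉ CC Om z) (hO : OY Om z) {c0 c : CX Om z} (hc : Lam.Conn (CCX Om z) c0 c)
    (ht : T3 Om z c0 g) : T3 Om z c g := by
  induction hc with
  | refl => exact ht
  | tail _ h2 ih => exact T3.of_comm h F hU hn hO h2.2.1 h2.1 (congrArg Subtype.val h2.2.2).symm ih

/-- the stabiliser of the component of `c0` centralises the elements of `T3 c0` -/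
theorem T3.comm_of_XL (h : W2 Om) (F : Frame Om z K1 K2 a b) (hU : ∀ g v, Tra z a b g v → v ∈ D0 Om z a b)
    (hn : (1 : G) ∉ CC Om z) (hO : OY Om z) {c0 x : CX Om z} (hc0 : c0 ∈ CCX Om z)
    (hx : Lam.Conn (CCX Om z) c0 (x * c0 * x⁻¹)) (ht : T3 Om z c0 g) : g * x = x * g := by
  have hz := F.k1.inZ
  have hc0' : (c0 : G) ∈ CC Om z := hc0
  have hxz : (x : G) * z = z * x := CX_le hz h x.2
  have hxz' : (x : G)⁻¹ * z = z * (x : G)⁻¹ := by
    rw [inv_mul_eq_iff_eq_mul, ← mul_assoc, hxz, mul_inv_cancel_right]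
  have h1 : T3 Om z ((x : G) * c0 * (x : G)⁻¹) g := T3.of_conn h F hU hn hO hx ht
  have h2 := h1.conj h hxz'
  have e1 : (x : G)⁻¹ * ((x : G) * c0 * (x : G)⁻¹) * (x : G)⁻¹⁻¹ = c0 := by group
  rw [e1, inv_inv] at h2
  have hgz := ht.comm_z h hc0'
  -- `y = x⁻¹ g x g⁻¹`
  obtain ⟨y, hy⟩ : ∃ y, y = (x : G)⁻¹ * g * x * g⁻¹ := ⟨_, rfl⟩
  have hyX : y ∈ CX Om z := by
    have e : y = (x : G)⁻¹ * (g * x * g⁻¹) := by rw [hy]; group
    rw [e]
    exact mul_mem (inv_mem x.2) (CX_conj_comm h hgz x.2)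
  have hyc : ∀ u ∈ CE Om z c0 c0, y * u = u * y := by
    intro u hu
    obtain ⟨hu1, hu2, -⟩ := mem_CE.1 hu
    have c1 : Commute g u := ht.2 u hu1 hu2
    have c2 : Commute ((x : G)⁻¹ * g * x) u := h2.2 u hu1 hu2
    rw [hy]
    exact (c2.mul_left c1.inv_left).eq
  have hyE : y ∈ CE Om z c0 c0 := by
    have h3 := hyc c0 (mem_CE.2 ⟨CC.mem_CX hc0', rfl, rfl⟩)
    exact mem_CE.2 ⟨hyX, h3, h3⟩
  obtain ⟨k, hk⟩ := two_of_central (OO_Cc h hn hO hc0') hyE hyc
  obtain ⟨-, hyc0, -⟩ := mem_CE.1 hyE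
  have hgy : Commute g y := ht.2 y hyX hyc0
  obtain ⟨n, hgn⟩ := ht.1
  obtain ⟨m, hm⟩ := h2.1
  have e2 : (x : G)⁻¹ * g * x = g * y := by rw [hgy.eq, hy, inv_mul_cancel_right]
  -- `y = 1`
  have h3 : y ^ 3 ^ (n + m) = 1 := by
    have h4 : (g * y) ^ 3 ^ (n + m) = 1 := by rw [← e2, pow_add, mul_comm, pow_mul, hm, one_pow]
    have h5 : g ^ 3 ^ (n + m) = 1 := by rw [pow_add, pow_mul, hgn, one_pow]
    rwa [hgy.mul_pow, h5, one_mul] at h4
  have h4 : y = 1 := by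
    rw [← orderOf_eq_one_iff]
    exact Nat.Coprime.eq_one_of_dvd (Nat.Coprime.coprime_dvd_left (orderOf_dvd_of_pow_eq_one h3)
      (Nat.Coprime.pow _ _ (by norm_num))) (orderOf_dvd_of_pow_eq_one hk)
  rw [h4, mul_one, mul_assoc, inv_mul_eq_iff_eq_mul] at e2
  exact e2

/-- **(10.8)** -/
theorem exists_T3_cent (h : W2 Om) (hF : CF Om) (F : Frame Om z K1 K2 a b)
    (hU : ∀ g v, Tra z a b g v → v ∈ D0 Om z a b) (hn : (1 : G) ∉ CC Om z) (hO : OY Om z) (hne : (CC Om z).Nonempty) :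
    ∃ c0 ∈ CC Om z, ∀ g, T3 Om z c0 g → ∀ x ∈ CX Om z, g * x = x * g := by
  have hz := F.k1.inZ
  obtain ⟨T, hT⟩ := Hyp.exists_syl (CX Om z)
  obtain ⟨c0, hc0, hc0T, hc0'⟩ := CC.exists_comm_of h hT hT.2.1 (fun s hs => CX_le hz h (hT.1 hs))
    (fun s hs => mem_normalizer_iff_cj.1 (le_normalizer hs)) hne
  refine ⟨c0, hc0, fun g hg x hx => ?_⟩
  have hcore : pPrimeCore 2 (CX Om z) = ⊥ := by
    have h1 : OO (CX Om z) = ⊥ := CX_odd h hF hz (OO_le _) (le_normalizer_OO _) (odd_OO _)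
    rw [OO, Subgroup.map_eq_bot_iff_of_injective _ (CX Om z).subtype_injective] at h1
    exact h1
  have hctx : Lam.Ctx (⟨z, z_mem_CX h⟩ : CX Om z) (CCX Om z) (⟨c0, CC.mem_CX hc0⟩ : CX Om z)
      (T.subgroupOf (CX Om z)) :=
    { labs := labs h hz hn
      mem := hc0
      syl := ⟨le_top, hT.2.1.comap_subtype, by
        rw [relIndex_top_right]; exact hT.2.2⟩
      comm := fun t ht => Subtype.ext (hc0' t (mem_subgroupOf.1 ht))
      core := hcore }
  have hgz := hg.comm_z h hc0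
  obtain ⟨n, hgn⟩ := hg.1
  have h1 := hctx.fix (conjX h hgz) (n := n) (by
    ext y
    rw [conjX_pow, hgn]
    show (1 : G) * y * (1 : G)⁻¹ = y
    group) (fun y hy => by
      apply Subtype.ext
      rw [coe_conjX]
      have h2 := T3.comm_of_XL h F hU hn hO (c0 := ⟨c0, CC.mem_CX hc0⟩) hc0 hy hg
      rw [h2, mul_inv_cancel_right])
  have h2 : ((conjX h hgz ⟨x, hx⟩ : CX Om z) : G) = x := by rw [h1]; rfl
  rw [coe_conjX, mul_inv_eq_iff_eq_mul] at h2
  exact h2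

/-- **(10.8)** : the translations in `D_0` come from 3-elements centralising `X_z` -/
theorem exists_tra_cent (h : W2 Om) (hF : CF Om) (F : Frame Om z K1 K2 a b)
    (hU : ∀ g v, Tra z a b g v → v ∈ D0 Om z a b) (hn : (1 : G) ∉ CC Om z) (hO : OY Om z) (hv : v ∈ D0 Om z a b) :
    ∃ d, Tra z a b d v ∧ (∃ n : ℕ, d ^ 3 ^ n = 1) ∧ ∀ x ∈ CX Om z, d * x = x * d := by
  obtain ⟨c, p, hp, -⟩ := id hv
  obtain ⟨c0, hc0, h1⟩ := exists_T3_cent h hF F hU hn hO ⟨c, DC.mem_CC hp⟩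
  obtain ⟨p0, hp0⟩ := CC.exists_dir h F hc0
  have hq := (D0.iff h F hp0).1 hv
  obtain ⟨d, hd, h3, -, hdX⟩ := DC.exists_tra h F hp0 hq
  rw [add_sub_cancel_left] at hd
  exact ⟨d, hd, h3, h1 d ⟨h3, hdX⟩⟩

/-- **(10.9)** : case (U) and `D_0` contains a vector of weight one -/
theorem sl_end_of_U (h : W2 Om) (hF : CF Om) (F : Frame Om z K1 K2 a b)
    (hU : ∀ g v, Tra z a b g v → v ∈ D0 Om z a b) (hn : (1 : G) ∉ CC Om z) (hO : OY Om z) (hv : v ∈ D0 Om z a b)
    (hw : WOne v) : SLSub z := by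
  obtain ⟨d, hd, h3, hX⟩ := exists_tra_cent h hF F hU hn hO hv
  exact sl_end' h hF F hd hw h3 hX

end

end Cfsg.Agent.Cit.Nil.RTwo
end

-- part: Cit/Nil/RTwo/OSix
section
/-!
# S1309, `r = 2`, `m = 1`: (10.6) of the blueprint

`U10.oy` : `O(C(⟨R_z, R_t⟩)) = 1` for the lines `⟨z, t⟩` over `c`, if `O(C(c)) = 1` and the components of `C(c)` lie in
`M_c` ((O')).
-/

set_option autoImplicit false
set_option linter.style.haveILetI false
set_option linter.unusedSectionVars false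
set_option maxHeartbeats 400000

namespace Cfsg.Agent.Cit.Nil.RTwo

open Subgroup Cfsg Cit

variable {G : Type*} [Group G] [Finite G] {Om : Set (Subgroup G)} {K K1 K2 L L1 L2 : Subgroup G}
  {z z' t t' g g' x y w c c' c0 d : G} {a b p q : Fin 3 → G} {v v' : Fin 3 × Fin 3}

/-- `C(⟨R_z, R_t⟩)` depends only on the component of `z` in `Z_c` -/
theorem DelC.Y_eq (h : W2 Om) (hd : DelC Om c z z') (l : Lab Om z t c) (l' : Lab Om z' t' c) :
    CX Om z ⊓ CX Om t = CX Om z' ⊓ CX Om t' := by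
  induction hd generalizing t' with
  | refl => exact l.Y_eq h l'
  | tail _ h2 ih =>
    rw [ih h2, inf_comm]
    exact (h2.symm h).Y_eq h l'

theorem cj_CX' (h : W2 Om) (g : G) : cj g (CX Om z) = CX Om (g * z * g⁻¹) := by
  ext y
  rw [mem_cj]
  have h1 := CX_conj h g (x := g⁻¹ * y * g) (z := z)
  have e : g * (g⁻¹ * y * g) * g⁻¹ = y := by group
  rw [e] at h1
  exact h1.symm

/-- `M_c` normalises `C(⟨R_z, R_t⟩)` -/
theorem MC_cj_Y (h : W2 Om) (l : Lab Om z t c) (hg : g ∈ MC h c z) :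
    cj g (CX Om z ⊓ CX Om t) = CX Om z ⊓ CX Om t := by
  rw [cj_inf, cj_CX' h, cj_CX' h]
  have h1 := l.conj h g
  have e : g * c * g⁻¹ = c := by rw [(mem_MC.1 hg).1, mul_inv_cancel_right]
  rw [e] at h1
  exact ((mem_MC.1 hg).2.Y_eq h l h1).symm

theorem MC_cj_OY (h : W2 Om) (l : Lab Om z t c) (hg : g ∈ MC h c z) :
    cj g (OO (CX Om z ⊓ CX Om t)) = OO (CX Om z ⊓ CX Om t) := LB.cj_OO_eq (MC_cj_Y h l hg)

/-- **(10.6)** -/
theorem Lab.oo_eq_bot (h : W2 Om) (l : Lab Om z t c) (hO : OO (centralizer {c}) = ⊥)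
    (hE : ∀ L : Subgroup (centralizer ({c} : Set G)), IsComponent L → L.map (centralizer ({c} : Set G)).subtype ≤ MC h c z) :
    OO (CX Om z ⊓ CX Om t) = ⊥ := by
  haveI : Fact (Nat.Prime 2) := ⟨Nat.prime_two⟩
  have hz := l.ti.1
  obtain ⟨N, hN⟩ : ∃ N, N = OO (CX Om z ⊓ CX Om t) := ⟨_, rfl⟩
  rw [← hN]
  have hNY : N ≤ CX Om z ⊓ CX Om t := by rw [hN]; exact OO_le _
  have hNH : N ≤ centralizer {c} := fun x hx =>
    mem_centralizer_singleton_iff.2 (l.comm_of_Y h (hNY hx).1 (hNY hx).2)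
  have hodd : ¬ 2 ∣ Nat.card N := by rw [hN]; exact odd_OO _
  have hcj : ∀ g ∈ MC h c z, ∀ x ∈ N, g * x * g⁻¹ ∈ N := by
    intro g hg x hx
    have h1 := MC_cj_OY h l hg
    rw [← hN] at h1
    rw [← h1]
    exact conj_mem_cj hx
  have hzc : z ∈ centralizer ({c} : Set G) := mem_centralizer_singleton_iff.2 (l.comm_z h).symm
  have hcore : pPrimeCore 2 (centralizer ({c} : Set G)) = ⊥ := by
    rw [OO, Subgroup.map_eq_bot_iff_of_injective _ (centralizer ({c} : Set G)).subtype_injective] at hO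
    exact hO
  obtain ⟨W, hW⟩ : ∃ W, W = N.subgroupOf (centralizer ({c} : Set G)) := ⟨_, rfl⟩
  have hmW : ∀ x : centralizer ({c} : Set G), x ∈ W ↔ (x : G) ∈ N := by
    intro x; rw [hW, mem_subgroupOf]
  have hWodd : ¬ 2 ∣ Nat.card W := by
    rw [hW, Nat.card_congr (subgroupOfEquivOfLe hNH).toEquiv]; exact hodd
  have hWc : (Nat.card W).Coprime 2 := ((Nat.Prime.coprime_iff_not_dvd Nat.prime_two).2 hWodd).symm
  -- the components centralise `W`
  have hcomp : ∀ L : Subgroup (centralizer ({c} : Set G)), IsComponent L → ∀ w ∈ W, w ∈ centralizer (L : Set _) := by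
    intro L hL w hw
    have hn : L ≤ normalizer (W : Set (centralizer ({c} : Set G))) := by
      have key : ∀ l ∈ L, ∀ x ∈ W, l * x * l⁻¹ ∈ W := by
        intro l hl x hx
        rw [hmW] at hx ⊢
        exact hcj l (hE L hL ⟨l, hl, rfl⟩) x hx
      intro l hl
      rw [mem_normalizer_iff]
      intro x
      refine ⟨key l hl x, fun hx => ?_⟩
      have h1 := key l⁻¹ (inv_mem hl) _ hx
      have e : l⁻¹ * (l * x * l⁻¹) * l⁻¹⁻¹ = x := by group
      rwa [e] at h1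
    rcases SignalizersComponents.Components.component_le_or_commutator_eq_bot_of_le_normalizer hL hn with h1 | h1
    · exfalso
      have h2 : L ≤ pPrimeCore 2 (centralizer ({c} : Set G)) := by
        refine SignalizersComponents.CompBasic.subnormal_coprime_le_pPrimeCore hL.1 ?_
        exact ((Nat.Prime.coprime_iff_not_dvd Nat.prime_two).2 fun h2 =>
          hWodd (h2.trans (card_dvd_of_le h1))).symm
      rw [hcore, le_bot_iff] at h2
      exact SignalizersComponents.Components.component_ne_bot hL h2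
    · rw [commutator_comm, commutator_eq_bot_iff_le_centralizer] at h1
      exact h1 hw
  -- `O_2(C(c))` centralises `W`
  have hpc : W ≤ centralizer (pCore 2 (centralizer ({c} : Set G)) : Set _) := by
    have hpn : (pCore 2 (centralizer ({c} : Set G))).Normal := inferInstance
    refine SolvTwo.le_cent (z := (⟨z, hzc⟩ : centralizer ({c} : Set G))) (Subtype.ext (hz.z2 h))
      (Lib.Cores.pCore_isPGroup 2) hWc ?_ ?_
    · intro w hw
      apply Subtype.ext
      exact CX_le hz h (hNY ((hmW w).1 hw)).1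
    · intro x hx hxz w hw
      have hxc : (x : G) * c = c * x := mem_centralizer_singleton_iff.1 x.2
      have hxM : (x : G) ∈ MC h c z := mem_MC_of_comm h hxc (congrArg Subtype.val hxz)
      have h1 : x * w * x⁻¹ * w⁻¹ ∈ W := by
        refine W.mul_mem ?_ (W.inv_mem hw)
        rw [hmW]
        exact hcj x hxM w ((hmW w).1 hw)
      have h2 : x * w * x⁻¹ * w⁻¹ ∈ pCore 2 (centralizer ({c} : Set G)) := by
        have h3 := hpn.conj_mem x⁻¹ (inv_mem hx) w
        have e : x * w * x⁻¹ * w⁻¹ = x * (w * x⁻¹ * w⁻¹) := by group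
        rw [e]
        exact mul_mem hx h3
      have h3 := eq_one_of_mem_odd (Lib.Cores.pCore_isPGroup 2) hWodd h2 h1
      rw [mul_inv_eq_one, mul_inv_eq_iff_eq_mul] at h3
      exact h3
  have hWb : W = ⊥ := by
    rw [eq_bot_iff]
    intro w hw
    have h1 := OneComp.centralizer_genFit_le hcore
      (OneComp.mem_centralizer_genFit hcore (fun L hL => hcomp L hL w hw) (hpc hw))
    exact Subgroup.mem_bot.2 (eq_one_of_mem_odd (Lib.Cores.pCore_isPGroup 2) hWodd h1 hw)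
  rw [eq_bot_iff]
  intro x hx
  have h1 : (⟨x, hNH hx⟩ : centralizer ({c} : Set G)) ∈ W := (hmW _).2 hx
  rw [hWb, Subgroup.mem_bot] at h1
  exact Subgroup.mem_bot.2 (congrArg Subtype.val h1)

end Cfsg.Agent.Cit.Nil.RTwo
end

-- part: Cit/Nil/RTwo/ONine
section
/-!
# S1309, `r = 2`, `m = 1`: the case (U), `k = 2`

* `U10.of` : the world of section 10;
* `U10.oy` : `O(C(⟨R_z, R_t⟩)) = 1` for all lines ((10.6));
* `U10.sl` : `C(z)` has a subnormal subgroup `SL(2,3)` containing `z` if `D_0` contains a vector of weight one.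
-/

set_option autoImplicit false
set_option linter.style.haveILetI false
set_option linter.unusedSectionVars false
set_option maxHeartbeats 400000

namespace Cfsg.Agent.Cit.Nil.RTwo

open Subgroup Cfsg Cit

universe u

variable {G : Type u} [Group G] [Finite G] {Om : Set (Subgroup G)} {K K1 K2 L L1 L2 : Subgroup G}
  {z t c : G} {a b : Fin 3 → G} {v : Fin 3 × Fin 3}

/-- the world of section 10 -/
theorem U10.of (h : W2 Om) (hn : NE Om)
    (hD : ∀ z K1 K2 a b, Frame Om z K1 K2 a b → (CC Om z).Nonempty → ∃ v, v ≠ 0 ∧ v ∈ D0 Om z a b) : U10 Om where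
  w := h
  ne := hn
  diag z K1 K2 a b F c p hp := by
    obtain ⟨v, hv0, hv⟩ := hD z K1 K2 a b F ⟨c, DC.mem_CC hp⟩
    obtain ⟨t, l, -⟩ := id hp
    exact D0.diag h F (exists_swap_of_ne h l (fun e => hn z (e ▸ DC.mem_CC hp))) hv hv0 hp

/-- **(10.6)** for all lines -/
theorem U10.oy (hB : ∀ (X : Type u) [Group X] [Finite X] [IsSimpleGroup X], CloEnd.Bend X)
    (hC : ∀ (X : Type u) [Group X] [Finite X] [IsSimpleGroup X], CloEnd.Crit1175 X) (U : U10 Om) (hA : CFA G)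
    (z : G) : OY Om z := by
  intro t c l
  have hc : c ∈ CC Om z := ⟨t, l⟩
  have hO : OO (centralizer {c}) = ⊥ := hA c (CC.sq hc) (fun e => U.ne z (e ▸ hc))
  exact l.oo_eq_bot U.w hO (fun L hL => U.comp_le' hB hC hc hO L hL)

/-- **the case (U), `k = 2`** -/
theorem U10.sl (hB : ∀ (X : Type u) [Group X] [Finite X] [IsSimpleGroup X], CloEnd.Bend X)
    (hC : ∀ (X : Type u) [Group X] [Finite X] [IsSimpleGroup X], CloEnd.Crit1175 X) (U : U10 Om) (hA : CFA G)
    (hU : UU Om z) (F : Frame Om z K1 K2 a b) (hv : v ∈ D0 Om z a b) (hw : WOne v) : SLSub z :=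
  sl_end_of_U U.w (hA.cf U.w) F (fun _ _ ht => hU _ _ _ _ _ _ F ht) (U.ne z) (U.oy hB hC hA z) hv hw

end Cfsg.Agent.Cit.Nil.RTwo
end

-- part: Cit/Nil/RTwo/SBase
section
/-!
# The world (S): section 4 of the blueprint

* `Lab.fx_or_sw` : the action of `X_V` on `R_t` in the presence of a commuting swap;
* `SB.noOne`, `SB.cen`, `SB.third`, `SB.three`, `SB.disj`;
* `SB.cx` (4.0) : `X_z = {1, z, c, z c : c ∈ CC} N_z`;
* `FT.mul_label` (4.1), `SB.ti` (4.2).
-/

set_option autoImplicit false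
set_option linter.style.haveILetI false
set_option linter.unusedSectionVars false
set_option maxHeartbeats 400000

namespace Cfsg.Agent.Cit.Nil.RTwo

open Subgroup Cfsg Cit

variable {G : Type*} [Group G]

/-- an element rotating `L` by a quarter does not commute with an element inverting `p 0` -/
theorem quarter_excl {L : Subgroup G} {t x u : G} {p : Fin 3 → G} (Q : Q3 L t p) (hxt : x * t = t * x)
    (hut : u * t = t * u) (hxu : x * u = u * x) (hx0 : x * p 0 * x⁻¹ = p 0) (hu0 : u * p 0 * u⁻¹ = t * p 0)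
    (huL : u * p 1 * u⁻¹ ∈ L) (hx1 : x * p 1 * x⁻¹ = p 2 ∨ x * p 1 * x⁻¹ = t * p 2) : False := by
  have h01 : p 0 * p 1 = p 2 := Q.mul 0
  have hxm : ∀ k : G, x * (t * k) * x⁻¹ = t * (x * k * x⁻¹) := by
    intro k
    calc x * (t * k) * x⁻¹ = (x * t) * k * x⁻¹ := by group
      _ = (t * x) * k * x⁻¹ := by rw [hxt]
      _ = _ := by group
  have hum : ∀ k : G, u * (t * k) * u⁻¹ = t * (u * k * u⁻¹) := by
    intro k
    calc u * (t * k) * u⁻¹ = (u * t) * k * u⁻¹ := by group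
      _ = (t * u) * k * u⁻¹ := by rw [hut]
      _ = _ := by group
  have hzz := Q.zzx
  have htp : ∀ k : G, p 0 * (t * k) = t * (p 0 * k) := fun k => by rw [← mul_assoc, ← Q.zc, mul_assoc]
  -- `x p 1 x⁻¹ = e p 0 p 1`, `e ∈ {1, t}`
  obtain ⟨e, he, hx1'⟩ : ∃ e, (e = 1 ∨ e = t) ∧ x * p 1 * x⁻¹ = e * (p 0 * p 1) := by
    rcases hx1 with h1 | h1
    · exact ⟨1, Or.inl rfl, by rw [h1, h01, one_mul]⟩
    · exact ⟨t, Or.inr rfl, by rw [h1, h01]⟩
  have hxe : ∀ k : G, x * (e * k) * x⁻¹ = e * (x * k * x⁻¹) := by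
    rcases he with rfl | rfl
    · intro k; rw [one_mul, one_mul]
    · exact hxm
  have hue : ∀ k : G, u * (e * k) * u⁻¹ = e * (u * k * u⁻¹) := by
    rcases he with rfl | rfl
    · intro k; rw [one_mul, one_mul]
    · exact hum
  have hpe : ∀ k : G, p 0 * (e * k) = e * (p 0 * k) := by
    rcases he with rfl | rfl
    · intro k; rw [one_mul, one_mul]
    · exact htp
  have hte : ∀ k : G, t * (e * k) = e * (t * k) := by
    rcases he with rfl | rfl
    · intro k; rw [one_mul, one_mul]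
    · intro k; rfl
  have hx2' : x * p 2 * x⁻¹ = e * (p 0 * p 2) := by
    have : x * p 2 * x⁻¹ = (x * p 0 * x⁻¹) * (x * p 1 * x⁻¹) := by rw [← h01]; group
    rw [this, hx0, hx1', hpe, h01]
  -- `k1 = u p 1 u⁻¹`
  obtain ⟨k1, hk1⟩ : ∃ k1, k1 = u * p 1 * u⁻¹ := ⟨_, rfl⟩
  have hk1sq : k1 * k1 = t := by
    rw [hk1]
    calc u * p 1 * u⁻¹ * (u * p 1 * u⁻¹) = u * (p 1 * p 1) * u⁻¹ := by group
      _ = t := by rw [Q.sq, hut, mul_inv_cancel_right]
  have hk1L : k1 ∈ L := by rw [hk1]; exact huL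
  have hA : x * k1 * x⁻¹ = e * (t * (p 0 * k1)) := by
    calc x * k1 * x⁻¹ = (x * u) * p 1 * (x * u)⁻¹ := by rw [hk1]; group
      _ = (u * x) * p 1 * (u * x)⁻¹ := by rw [hxu]
      _ = u * (x * p 1 * x⁻¹) * u⁻¹ := by group
      _ = u * (e * (p 0 * p 1)) * u⁻¹ := by rw [hx1']
      _ = e * ((u * p 0 * u⁻¹) * (u * p 1 * u⁻¹)) := by rw [hue]; group
      _ = _ := by rw [hu0, ← hk1, mul_assoc]
  have hB : x * k1 * x⁻¹ = e * (p 0 * k1) := by
    obtain ⟨i, hi⟩ := Q.of_sq hk1L hk1sq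
    fin_cases i
    · exfalso
      -- `k1 = ± p 0` commutes with `t p 0`, but `p 1` does not commute with `p 0`
      have h1 : k1 * (t * p 0) = t * p 0 * k1 := by
        rcases hi with rfl | rfl
        · show p 0 * (t * p 0) = t * p 0 * p 0
          rw [htp, mul_assoc]
        · rfl
      rw [hk1, ← hu0] at h1
      have h2 : p 1 * p 0 = p 0 * p 1 := by
        have : u * (p 1 * p 0) * u⁻¹ = u * (p 0 * p 1) * u⁻¹ := by
          calc u * (p 1 * p 0) * u⁻¹ = u * p 1 * u⁻¹ * (u * p 0 * u⁻¹) := by group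
            _ = _ := by rw [h1]; group
        exact mul_left_cancel (mul_right_cancel this)
      have h3 := Q.sw (show (0 : Fin 3) ≠ 1 by decide)
      rw [h2] at h3
      exact Q.zne _ h3.symm
    · rcases hi with hi | hi
      · change k1 = p 1 at hi
        rw [hi, hx1']
      · change k1 = t * p 1 at hi
        rw [hi, hxm, hx1', htp, hte]
    · rcases hi with hi | hi
      · change k1 = p 2 at hi
        rw [hi, hx2']
      · change k1 = t * p 2 at hi
        rw [hi, hxm, hx2', htp, hte]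
  rw [hA] at hB
  exact Q.zne _ (mul_left_cancel hB)

section

variable [Finite G] {Om : Set (Subgroup G)} {K K1 K2 L M L1 L2 : Subgroup G} {z t g s x y w c c' u d : G}
  {a b p q : Fin 3 → G}

namespace Cf

variable (C : Cf Om z t K1 K2 L1 L2 a b p q) (h : W2 Om)

include C h

/-- `v = a 1 b 1` interchanges `L1` and `L2`: its action on `p 0` -/
theorem v_p0 (l : Lab Om z t c) (hv : cj (a 1 * b 1) L1 = L2) :
    (a 1 * b 1) * p 0 * (a 1 * b 1)⁻¹ = t * (z * c) * p 0 := by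
  have hzz := C.qa.zzx
  have e1 : (a 1 * b 1) * p 0 * (a 1 * b 1)⁻¹ = a 0 * b 0 * p 0 ∨ (a 1 * b 1) * p 0 * (a 1 * b 1)⁻¹ =
      z * (a 0 * b 0 * p 0) := by
    have e2 := C.conj_ac h
    have e3 := C.swk.conj_ac h
    have e4 : (a 1 * b 1) * p 0 * (a 1 * b 1)⁻¹ = a 1 * (b 1 * p 0 * (b 1)⁻¹) * (a 1)⁻¹ := by group
    have e5 : a 1 * b 0 = b 0 * a 1 := C.k1.comm C.k2 h C.kne (C.qa.mem 1) (C.qb.mem 0)
    have e6 : a 0 * b 0 = b 0 * a 0 := C.ab h
    have e7 : a 1 * (b 0 * p 0) * (a 1)⁻¹ = b 0 * (a 1 * p 0 * (a 1)⁻¹) := by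
      calc a 1 * (b 0 * p 0) * (a 1)⁻¹ = (a 1 * b 0) * p 0 * (a 1)⁻¹ := by group
        _ = _ := by rw [e5]; group
    have e8 : ∀ k : G, a 1 * (z * k) * (a 1)⁻¹ = z * (a 1 * k * (a 1)⁻¹) := by
      intro k
      calc a 1 * (z * k) * (a 1)⁻¹ = (a 1 * z) * k * (a 1)⁻¹ := by group
        _ = _ := by rw [C.a1z]; group
    have e9 : ∀ k : G, b 0 * (z * k) = z * (b 0 * k) := fun k => by rw [← mul_assoc, ← C.qb.zc, mul_assoc]
    rw [e4]
    rcases e3 with e3 | e3 <;> rcases e2 with e2 | e2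
    · left; rw [e3, e7, e2, ← mul_assoc, ← e6]
    · right; rw [e3, e7, e2, e9, ← mul_assoc (b 0), ← e6]
    · right; rw [e3, e8, e7, e2, ← mul_assoc (b 0), ← e6]
    · left; rw [e3, e8, e7, e2, e9, hzz, ← mul_assoc, ← e6]
  have e2 : (a 1 * b 1) * p 0 * (a 1 * b 1)⁻¹ = t * c * p 0 ∨ (a 1 * b 1) * p 0 * (a 1 * b 1)⁻¹ =
      z * (t * c * p 0) := by
    rcases C.tc_eq h l with e3 | e3 <;> rcases e1 with e1 | e1 <;> rw [e1, e3]
    · left; rfl
    · right; rfl
    · right; rw [mul_assoc z, hzz]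
    · left; rw [mul_assoc z]
  have e3 : t * (z * c) * p 0 = z * (t * c * p 0) := by
    calc t * (z * c) * p 0 = (t * z) * c * p 0 := by group
      _ = _ := by rw [← C.comm]; group
  rcases e2 with e2 | e2
  · exfalso
    have hm1 : t * c * p 0 ∈ L2 := by
      rw [← e2, ← hv]; exact conj_mem_cj (C.qc.mem 0)
    have hm2 : z * (t * c * p 0) ∈ L2 := by
      rw [← e3]
      have e4 : p 0 * q 0 * p 0 = q 0 * t := by
        rw [C.symm.ab h, mul_assoc, C.qc.sq]
      rcases C.symm.tc_eq h (l.symm h) with e5 | e5 <;> rw [e5]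
      · have : t * (p 0 * q 0) * p 0 = t * (q 0 * t) := by rw [mul_assoc, e4]
        rw [this]
        exact mul_mem C.qd.zmem (mul_mem (C.qd.mem 0) C.qd.zmem)
      · have : t * (t * (p 0 * q 0)) * p 0 = t * (t * (q 0 * t)) := by rw [mul_assoc, mul_assoc, e4]
        rw [this]
        exact mul_mem C.qd.zmem (mul_mem C.qd.zmem (mul_mem (C.qd.mem 0) C.qd.zmem))
    have hz : z ∈ L2 := by
      have := mul_mem hm2 (inv_mem hm1)
      rwa [mul_inv_cancel_right] at this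
    rcases C.qd.invol hz C.z2 with h1 | h1
    · exact C.qa.z1 h1
    · exact C.ne h1
  · rw [e2, e3]

/-- the action on `L1` of an element commuting with a swap -/
theorem inner_or (l : Lab Om z t c) (hv : cj (a 1 * b 1) L1 = L2) (hs : s ∈ CX Om z) (hsc : s * c = c * s)
    (hs1 : cj s L1 = L2) (hs2 : cj s L2 = L1) (hx : x ∈ CX Om z) (hxc : x * c = c * x) (hxs : x * s = s * x)
    (hx1 : cj x L1 = L1) : (∀ k ∈ L1, x * k = k * x) ∨ (∀ k ∈ L1, (z * x) * k = k * (z * x)) := by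
  have hxt := (l.comm_iff h hx).1 hxc
  have hst := (l.comm_iff h hs).1 hsc
  have hxz : x * z = z * x := CX_le l.ti.1 h hx
  have hsz : s * z = z * s := CX_le l.ti.1 h hs
  have hxa : x * a 0 = a 0 * x := mem_CX.1 hx K1 C.k1 _ (C.qa.mem 0)
  obtain ⟨h1, h2⟩ := C.pow_or h hxz hxt hxa hx1
  have hz0 := C.symm.ta0
  have hz1 := C.symm.ta1
  rcases h2 with (h2 | h2) | h2
  · left
    intro k hk
    rw [mul_inv_eq_iff_eq_mul] at h1 h2
    exact C.qc.comm_of h1 h2 hk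
  · right
    intro k hk
    rw [mul_inv_eq_iff_eq_mul] at h1 h2 hz1
    refine C.qc.comm_of ?_ ?_ hk
    · rw [mul_assoc, h1, ← mul_assoc, hz0, mul_assoc]
    · calc z * x * p 1 = z * (x * p 1) := by group
        _ = (z * t) * p 1 * x := by rw [h2]; group
        _ = t * (z * p 1) * x := by rw [C.comm]; group
        _ = (t * t) * p 1 * (z * x) := by rw [hz1]; group
        _ = _ := by rw [C.t2, one_mul]
  · exfalso
    obtain ⟨u, hu⟩ : ∃ u, u = s⁻¹ * (a 1 * b 1) := ⟨_, rfl⟩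
    have hvR : a 1 * b 1 ∈ RZ Om z := mul_mem (C.k1.le_RZ (C.qa.mem 1)) (C.k2.le_RZ (C.qb.mem 1))
    have hxv : x * (a 1 * b 1) = a 1 * b 1 * x := CX_comm hvR hx
    have hxu : x * u = u * x := by
      have e1 : Commute x s := hxs
      have e2 : Commute x (a 1 * b 1) := hxv
      rw [hu]; exact (e1.inv_right.mul_right e2).eq
    have hut : u * t = t * u := by
      have e1 : Commute s t := hst
      have e2 : Commute (a 1 * b 1) t := C.vt h
      rw [hu]; exact (e1.inv_left.mul_left e2).eq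
    have hs0 : s⁻¹ * p 0 * s = z * c * p 0 := by
      have e1 := C.theta_sw h l hs hsc hs1 hs2
      calc s⁻¹ * p 0 * s = s⁻¹ * (p 0 * s * (p 0)⁻¹) * p 0 := by group
        _ = _ := by rw [e1]; group
    have hzc2 : z * c * (z * c) = 1 := by
      calc z * c * (z * c) = z * (c * z) * c := by group
        _ = (z * z) * (c * c) := by rw [l.comm_z h]; group
        _ = 1 := by rw [C.z2, l.sq, one_mul]
    have hu0 : u * p 0 * u⁻¹ = t * p 0 := by
      have e1 : s⁻¹ * t = t * s⁻¹ := by rw [inv_mul_eq_iff_eq_mul, ← mul_assoc, hst, mul_inv_cancel_right]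
      have e2 : s⁻¹ * (z * c) = z * c * s⁻¹ := by
        rw [inv_mul_eq_iff_eq_mul, ← mul_assoc, ← mul_assoc, hsz, mul_assoc z, hsc]; group
      calc u * p 0 * u⁻¹ = s⁻¹ * ((a 1 * b 1) * p 0 * (a 1 * b 1)⁻¹) * s := by rw [hu]; group
        _ = s⁻¹ * (t * (z * c) * p 0) * s := by rw [C.v_p0 h l hv]
        _ = (s⁻¹ * t) * (z * c) * p 0 * s := by group
        _ = t * (s⁻¹ * (z * c)) * p 0 * s := by rw [e1]; group
        _ = t * (z * c) * (s⁻¹ * p 0 * s) := by rw [e2]; group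
        _ = t * (z * c * (z * c)) * p 0 := by rw [hs0]; group
        _ = _ := by rw [hzc2, mul_one]
    have huL : u * p 1 * u⁻¹ ∈ L1 := by
      have e1 : cj u L1 = L1 := by rw [hu, cj_mul, hv, ← hs1, cj_inv_cj]
      rw [← e1]; exact conj_mem_cj (C.qc.mem 1)
    exact quarter_excl C.qc hxt hut hxu h1 hu0 huL h2

end Cf

/-- elements of `X_V` commuting with a swap `s ∈ X_V` -/
theorem Lab.fx_or_sw (h : W2 Om) (l : Lab Om z t c) (hc1 : c ≠ 1) (hs : s ∈ CX Om z) (hsc : s * c = c * s)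
    (hsw : Sw Om t s) (hx : x ∈ CX Om z) (hxc : x * c = c * x) (hxs : x * s = s * x) (hfx : Fx Om t x) :
    x ∈ CX Om t ∨ z * x ∈ CX Om t := by
  obtain ⟨K1, K2, L1, L2, a, b, p, q, C⟩ := l.ti.exists_cf h
  have hP : PTwo Om z t := by
    by_contra h2
    exact hc1 (l.eq_one h h2)
  have hst := (l.comm_iff h hs).1 hsc
  have hv := (C.pTwo_iff h).1 hP
  have hv1 : cj (a 1 * b 1) L1 = L2 := by
    rcases C.l1.cases C.l2 h C.lne (C.l1.cj_comm h (C.vt h)) with h1 | h1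
    · exact absurd h1 (hv L1 C.l1)
    · exact h1
  have hv2 : cj (a 1 * b 1) L2 = L1 := by
    rcases C.l1.cases C.l2 h C.lne (C.l2.cj_comm h (C.vt h)) with h1 | h1
    · exact h1
    · exact absurd h1 (hv L2 C.l2)
  have hs1 : cj s L1 = L2 := by
    rcases C.l1.cases C.l2 h C.lne (C.l1.cj_comm h hst) with h1 | h1
    · exact absurd h1 (hsw L1 C.l1)
    · exact h1
  have hs2 : cj s L2 = L1 := by
    rcases C.l1.cases C.l2 h C.lne (C.l2.cj_comm h hst) with h1 | h1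
    · exact h1
    · exact absurd h1 (hsw L2 C.l2)
  rcases C.inner_or h l hv1 hs hsc hs1 hs2 hx hxc hxs (hfx _ C.l1) with h1 | h1 <;>
  rcases C.swl.inner_or h l hv2 hs hsc hs2 hs1 hx hxc hxs (hfx _ C.l2) with h2 | h2
  · left
    rw [mem_CX]
    intro K hK
    rcases C.l1.cases C.l2 h C.lne hK with rfl | rfl
    · exact h1
    · exact h2
  · exact (C.swl.no_mix h hx h2 h1).elim
  · exact (C.no_mix h hx h1 h2).elim
  · right
    rw [mem_CX]
    intro K hK
    rcases C.l1.cases C.l2 h C.lne hK with rfl | rfl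
    · exact h1
    · exact h2

/-! ### The world (S) -/

theorem CaseS.disj {a b : Fin 3 → G} {c0 c1 c2 : G} (S : CaseS Om z a b c0 c1 c2) (h : W2 Om)
    (F : Frame Om z K1 K2 a b) {p : Fin 3 × Fin 3} (hp : p ∈ DC Om z a b c) (hp' : p ∈ DC Om z a b c') : c = c' := by
  obtain ⟨g, v, hg, h01, h12, h20, hv, -⟩ := S.ex
  have key : ∀ {c c' : G}, g * c * g⁻¹ = c' → p ∈ DC Om z a b c → p ∈ DC Om z a b c' → False := by
    rintro c c' rfl h1 h2
    have h3 := hg.dc h F h1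
    exact hv ((D0.iff h F h2).2 h3)
  have m1 := DC.mem_CC hp
  have m2 := DC.mem_CC hp'
  rw [S.cc] at m1 m2
  simp only [Set.mem_insert_iff, Set.mem_singleton_iff] at m1 m2
  rcases m1 with rfl | rfl | rfl <;> rcases m2 with rfl | rfl | rfl
  · rfl
  · exact (key h01 hp hp').elim
  · exact (key h20 hp' hp).elim
  · exact (key h01 hp' hp).elim
  · rfl
  · exact (key h12 hp hp').elim
  · exact (key h20 hp hp').elim
  · exact (key h12 hp' hp).elim
  · rfl

namespace SB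

variable (W : SB Om)

include W

theorem cen (hc : c ∈ CC Om z) (hx : x ∈ CX Om z) : x * c = c * x := by
  obtain ⟨K1, K2, a, b, c0, c1, c2, F, S⟩ := W.s z (CC.inZ hc)
  exact S.cen c hc x hx

theorem comm (hc : c ∈ CC Om z) (hc' : c' ∈ CC Om z) : c * c' = c' * c := W.cen hc' (CC.mem_CX hc)

theorem noOne : NoOne Om := by
  rintro z c hc rfl
  obtain ⟨K1, K2, a, b, c0, c1, c2, F, S⟩ := W.s z (CC.inZ hc)
  have h0 : c0 ∈ CC Om z := by rw [S.cc]; simp
  have h1 : c1 ∈ CC Om z := by rw [S.cc]; simp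
  exact S.n01 ((CC.eq_one W.w hc h0).trans (CC.eq_one W.w hc h1).symm)

theorem third (hc : c ∈ CC Om z) (hc' : c' ∈ CC Om z) (hne : c ≠ c') : z * c * c' ∈ CC Om z := by
  obtain ⟨K1, K2, a, b, F⟩ := (CC.inZ hc).exists_frame W.w
  exact CC.third W.w F hc hc' (W.comm hc hc') hne

theorem three {c'' : G} (hc : c ∈ CC Om z) (hc' : c' ∈ CC Om z) (hc'' : c'' ∈ CC Om z) (hne : c ≠ c') :
    c'' = c ∨ c'' = c' ∨ c'' = z * c * c' := by
  by_cases h1 : c'' = c
  · exact Or.inl h1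
  by_cases h2 : c'' = c'
  · exact Or.inr (Or.inl h2)
  right; right
  exact CC.eq_three W.w hc hc' hc'' (W.comm hc hc') (W.comm hc hc'') (W.comm hc' hc'') hne (Ne.symm h1) (Ne.symm h2)

theorem exists_cc (hz : InZ Om z) : ∃ c0 c1 c2, CC Om z = {c0, c1, c2} ∧ c0 ≠ c1 ∧ c0 ≠ c2 ∧ c1 ≠ c2 ∧
    c0 * c1 * c2 = z := by
  obtain ⟨K1, K2, a, b, c0, c1, c2, F, S⟩ := W.s z hz
  exact ⟨c0, c1, c2, S.cc, S.n01, S.n02, S.n12, S.mul⟩

theorem exists_ne (hc : c ∈ CC Om z) : ∃ c' ∈ CC Om z, c' ≠ c := by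
  obtain ⟨c0, c1, c2, hcc, n01, -, -, -⟩ := W.exists_cc (CC.inZ hc)
  by_cases h1 : c = c0
  · exact ⟨c1, by rw [hcc]; simp, by rw [h1]; exact Ne.symm n01⟩
  · exact ⟨c0, by rw [hcc]; simp, Ne.symm h1⟩

theorem mul_three {c'' : G} (hc : c ∈ CC Om z) (hc' : c' ∈ CC Om z) (hc'' : c'' ∈ CC Om z) (n1 : c ≠ c') (n2 : c ≠ c'')
    (n3 : c' ≠ c'') : z * c * c' = c'' := by
  rcases W.three hc hc' hc'' n1 with h1 | h1 | h1
  · exact absurd h1.symm n2
  · exact absurd h1.symm n3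
  · exact h1.symm

/-- the direction determines the label -/
theorem disj {t' : G} (l : Lab Om z t c) (l' : Lab Om z t' c') (hd : t * c = t' * c' ∨ t * c = z * (t' * c')) :
    c = c' := by
  obtain ⟨K1, K2, a, b, c0, c1, c2, F, S⟩ := W.s z l.ti.1
  obtain ⟨th, i, j, -, -, -, -, hp, -⟩ := l'.theta W.w F
  have h1 : Dir z a b (t * c) i j := by
    rcases hd with e1 | e1 <;> rcases hp with e2 | e2 <;> rw [Dir, e1, e2]
    · left; rfl
    · right; rfl
    · right; rfl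
    · left; rw [F.qa.zzx]
  exact S.disj W.w F (p := (i, j)) ⟨t, l, h1⟩ ⟨t', l', hp⟩

/-- a swap over the neighbours over `c` -/
theorem sw (l : Lab Om z t c) (hc' : c' ∈ CC Om z) (hne : c ≠ c') : Sw Om t c' :=
  l.sw W.w hc' (W.comm l.mem_CC hc') hne

/-- `Y_V` depends on the label only -/
theorem cx_same {t' : G} (l : Lab Om z t c) (l' : Lab Om z t' c) (hx : x ∈ CX Om z) (hxt : x ∈ CX Om t) :
    x ∈ CX Om t' := by
  have h := W.w
  obtain ⟨K1, K2, a, b, c0, c1, c2, F, S⟩ := W.s z l.ti.1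
  obtain ⟨th, i, j, -, -, -, -, hp, -⟩ := l.theta h F
  obtain ⟨th', i', j', -, -, -, -, hp', -⟩ := l'.theta h F
  obtain ⟨d, hd, -, hdc, hdX⟩ := DC.exists_tra h F (p := (i, j)) (q := (i', j')) ⟨t, l, hp⟩ ⟨t', l', hp'⟩
  have hdx : d * x = x * d := hdX x hx (W.cen l.mem_CC hx)
  have l2 := l.conj_comm h hd.comm
  have hdc' : d * c * d⁻¹ = c := by rw [hdc, mul_inv_cancel_right]
  rw [hdc'] at l2
  have hdir : Dir z a b (d * t * d⁻¹ * c) i' j' := by
    have h1 := hd.dir F (p := (i, j)) hp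
    have e1 : d * (t * c) * d⁻¹ = d * t * d⁻¹ * c := by
      calc d * (t * c) * d⁻¹ = d * t * d⁻¹ * (d * c * d⁻¹) := by group
        _ = _ := by rw [hdc']
    have e2 : ((i, j) : Fin 3 × Fin 3) + ((i', j') - (i, j)) = (i', j') := add_sub_cancel _ _
    rw [e1, e2] at h1
    exact h1
  have hx2 : x ∈ CX Om (d * t * d⁻¹) := by
    have h1 := (CX_conj h d).2 hxt
    have e : d * x * d⁻¹ = x := by rw [hdx, mul_inv_cancel_right]
    rwa [e] at h1
  rcases F.eq_of_dir (p := (i', j')) hdir hp' with h1 | h1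
  · rw [h1]; exact hx2
  · obtain ⟨v, hv, hv1⟩ := l2.ti.exists_R h
    rw [h1, ← hv1]
    have h2 := (CX_conj h v).2 hx2
    have e : v * x * v⁻¹ = x := by rw [← CX_comm hv hx, mul_inv_cancel_right]
    rwa [e] at h2

/-- the action of `X_z` on `R_t` -/
theorem fx_or (l : Lab Om z t c) (hx : x ∈ CX Om z) (hfx : Fx Om t x) : x ∈ CX Om t ∨ z * x ∈ CX Om t := by
  obtain ⟨c', hc', hne⟩ := W.exists_ne l.mem_CC
  exact l.fx_or_sw W.w (W.noOne z c l.mem_CC) (CC.mem_CX hc') (W.comm hc' l.mem_CC) (W.sw l hc' (Ne.symm hne)) hx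
    (W.cen l.mem_CC hx) (W.cen hc' hx) hfx

theorem theta_fix (l : Lab Om z t c) (hx : x ∈ CX Om z) (hfx : Fx Om t x) (hc' : c' ∈ CC Om z) (hne : c ≠ c')
    (hx' : ∀ t', Lab Om z t' c' → x ∈ CX Om t') : ∃ t', Lab Om z t' (z * c * c') ∧ x ∈ CX Om t' := by
  have h := W.w
  obtain ⟨K1, K2, a, b, c0, c1, c2, F, S⟩ := W.s z l.ti.1
  obtain ⟨th, i, j, -, hz, hcc, -, -, -, -, hact⟩ := l.theta h F
  obtain ⟨s, l'⟩ := hc'
  have hc' := l'.mem_CC
  have hx1 : th * x * th⁻¹ = x := by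
    rcases hact x hx (W.cen l.mem_CC hx) with ⟨-, h1⟩ | ⟨h1, -⟩
    · exact h1
    · exact (fx_sw_false l.ti.2.1 hfx h1).elim
  have hc1 : th * c' * th⁻¹ = z * c * c' := by
    rcases hact c' l'.cz (W.cen l.mem_CC l'.cz) with ⟨h1, -⟩ | ⟨-, h1⟩
    · exact (fx_sw_false l.ti.2.1 h1 (W.sw l hc' hne)).elim
    · rw [h1, l'.comm_z h, mul_assoc, W.comm hc' l.mem_CC, mul_assoc]
  have l2 := l'.conj_comm h hz
  rw [hc1] at l2
  refine ⟨_, l2, ?_⟩
  have h3 := (CX_conj h th).2 (hx' s l')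
  rwa [hx1] at h3

/-- **(4.0)** -/
theorem cx (hx : x ∈ CX Om z) (hz : InZ Om z) :
    ∃ u, (u = 1 ∨ u = z ∨ u ∈ CC Om z ∨ z * u ∈ CC Om z) ∧ u * x ∈ NI Om z := by
  have h := W.w
  obtain ⟨c0, c1, c2, hcc, n01, n02, n12, hmul⟩ := W.exists_cc hz
  have m0 : c0 ∈ CC Om z := by rw [hcc]; simp
  have m1 : c1 ∈ CC Om z := by rw [hcc]; simp
  have m2 : c2 ∈ CC Om z := by rw [hcc]; simp
  obtain ⟨t0, l0⟩ := id m0
  obtain ⟨t1, l1⟩ := id m1
  have hzX : z ∈ CX Om z := z_mem_CX h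
  have hz2 := hz.z2 h
  -- the final step
  have fin : ∀ y ∈ CX Om z, y ∈ CX Om t0 → Fx Om t1 y → y ∈ NI Om z := by
    intro y hy hy0 hy1
    have a0 : ∀ t', Lab Om z t' c0 → y ∈ CX Om t' := fun t' l' => W.cx_same l0 l' hy hy0
    have e2 : z * c1 * c0 = c2 := W.mul_three m1 m0 m2 (Ne.symm n01) n12 n02
    obtain ⟨s, ls, hs⟩ := W.theta_fix l1 hy hy1 m0 (Ne.symm n01) a0
    rw [e2] at ls
    have a2 : ∀ t', Lab Om z t' c2 → y ∈ CX Om t' := fun t' l' => W.cx_same ls l' hy hs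
    have hf0 : Fx Om t0 y := (Inn.of_CX hy0).fx h
    have e1 : z * c0 * c2 = c1 := W.mul_three m0 m2 m1 n02 n01 (Ne.symm n12)
    obtain ⟨s', ls', hs'⟩ := W.theta_fix l0 hy hf0 m2 n02 a2
    rw [e1] at ls'
    have a1 : ∀ t', Lab Om z t' c1 → y ∈ CX Om t' := fun t' l' => W.cx_same ls' l' hy hs'
    rw [mem_NI]
    refine ⟨hy, fun s hs => ?_⟩
    obtain ⟨c, l⟩ := hs.exists_lab h
    have hc := l.mem_CC
    rw [hcc] at hc
    simp only [Set.mem_insert_iff, Set.mem_singleton_iff] at hc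
    rcases hc with rfl | rfl | rfl
    · exact a0 s l
    · exact a1 s l
    · exact a2 s l
  -- `y ∈ CX t0`: the last factor is `1` or `c0`
  have step2 : ∀ y ∈ CX Om z, y ∈ CX Om t0 → y ∈ NI Om z ∨ c0 * y ∈ NI Om z := by
    intro y hy hy0
    have hyt1 : y * t1 = t1 * y := (l1.comm_iff h hy).1 (W.cen m1 hy)
    have hc0t1 : c0 * t1 = t1 * c0 := (l1.comm_iff h (CC.mem_CX m0)).1 (W.comm m0 m1)
    rcases Cfsg.Agent.Cit.Nil.RTwo.fx_or_sw h l1.ti.2.1 hyt1 with h1 | h1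
    · exact Or.inl (fin y hy hy0 h1)
    · right
      exact fin _ (mul_mem (CC.mem_CX m0) hy) (mul_mem l0.ct hy0) ((W.sw l1 m0 (Ne.symm n01)).mul h h1 hc0t1 hyt1)
  -- first factor `1, z, c1, z c1`
  have hxt0 : x * t0 = t0 * x := (l0.comm_iff h hx).1 (W.cen m0 hx)
  have hc1t0 : c1 * t0 = t0 * c1 := (l0.comm_iff h (CC.mem_CX m1)).1 (W.comm m1 m0)
  have hzz : ∀ u : G, z * (z * u) = u := fun u => by rw [← mul_assoc, hz2, one_mul]
  rcases Cfsg.Agent.Cit.Nil.RTwo.fx_or_sw h l0.ti.2.1 hxt0 with h1 | h1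
  · rcases W.fx_or l0 hx h1 with h2 | h2
    · rcases step2 x hx h2 with h3 | h3
      · exact ⟨1, Or.inl rfl, by rwa [one_mul]⟩
      · exact ⟨c0, Or.inr (Or.inr (Or.inl m0)), h3⟩
    · rcases step2 _ (mul_mem hzX hx) h2 with h3 | h3
      · exact ⟨z, Or.inr (Or.inl rfl), h3⟩
      · refine ⟨z * c0, Or.inr (Or.inr (Or.inr ?_)), ?_⟩
        · rw [hzz]; exact m0
        · rwa [← CC.comm_z h m0, mul_assoc]
  · have h1' := (W.sw l0 m1 n01).mul h h1 hc1t0 hxt0
    have hx' := mul_mem (CC.mem_CX m1) hx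
    rcases W.fx_or l0 hx' h1' with h2 | h2
    · rcases step2 _ hx' h2 with h3 | h3
      · exact ⟨c1, Or.inr (Or.inr (Or.inl m1)), h3⟩
      · refine ⟨c0 * c1, Or.inr (Or.inr (Or.inr ?_)), ?_⟩
        · rw [← mul_assoc]; exact W.third m0 m1 n01
        · rwa [mul_assoc]
    · rcases step2 _ (mul_mem hzX hx') h2 with h3 | h3
      · refine ⟨z * c1, Or.inr (Or.inr (Or.inr ?_)), ?_⟩
        · rw [hzz]; exact m1
        · rwa [mul_assoc]
      · refine ⟨z * (c0 * c1), Or.inr (Or.inr (Or.inl ?_)), ?_⟩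
        · rw [← mul_assoc]; exact W.third m0 m1 n01
        · have e : z * (c0 * c1) * x = c0 * (z * (c1 * x)) := by
            calc z * (c0 * c1) * x = (z * c0) * (c1 * x) := by group
              _ = _ := by rw [← CC.comm_z h m0]; group
          rw [e]; exact h3

end SB

end

end Cfsg.Agent.Cit.Nil.RTwo
end

-- part: Cit/Nil/RTwo/SConn
section
/-!
# The world (S): (4.1), (4.2), the diagonal transversal

* `Frame.comm_of_dir_ne`, `Frame.dir_ne` : elements with directions differing in both coordinates commute, and conversely;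
* `FT.mul_label` (4.1); `SB.four'` (4.2);
* `Tra.change` : a translation is a translation in every frame; `SB.caseS` : `CaseS` in every frame;
* `CaseS.diag` : the diagonal transversal.
-/

set_option autoImplicit false
set_option linter.style.haveILetI false
set_option linter.unusedSectionVars false
set_option maxHeartbeats 400000

namespace Cfsg.Agent.Cit.Nil.RTwo

open Subgroup Cfsg Cit

variable {G : Type*} [Group G]

section

variable [Finite G] {Om : Set (Subgroup G)} {K K1 K2 K1' K2' L M L1 L2 : Subgroup G}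
  {z t g s x y w w' c c' u d : G} {a b a' b' : Fin 3 → G} {v v' p q : Fin 3 × Fin 3}

/-! ### Directions -/

theorem Frame.dir_swap (F : Frame Om z K1 K2 a b) (h : W2 Om) {i j : Fin 3} (hw : Dir z a b w i j) :
    Dir z b a w j i := by
  rcases hw with rfl | rfl
  · left; exact F.ab h i j
  · right; rw [F.ab h i j]

theorem Frame.dir_signs (F : Frame Om z K1 K2 a b) {i j i' j' : Fin 3} (hw : Dir z a b w i j)
    (hw' : Dir z a b w' i' j') : ∃ e, (w * w' = e * ((a i * b j) * (a i' * b j')) ∧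
      w' * w = e * ((a i' * b j') * (a i * b j))) := by
  have hz : ∀ i j, (a i * b j) * z = z * (a i * b j) := by
    intro i j
    calc (a i * b j) * z = a i * (b j * z) := by group
      _ = (a i * z) * b j := by rw [← F.qb.zc]; group
      _ = _ := by rw [← F.qa.zc]; group
  rcases hw with rfl | rfl <;> rcases hw' with rfl | rfl
  · exact ⟨1, by rw [one_mul], by rw [one_mul]⟩
  · refine ⟨z, ?_, by rw [mul_assoc]⟩
    rw [← mul_assoc, hz, mul_assoc]
  · refine ⟨z, by rw [mul_assoc], ?_⟩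
    rw [← mul_assoc, hz, mul_assoc]
  · refine ⟨z * z, ?_, ?_⟩
    · calc z * (a i * b j) * (z * (a i' * b j')) = z * ((a i * b j) * z) * (a i' * b j') := by group
        _ = _ := by rw [hz]; group
    · calc z * (a i' * b j') * (z * (a i * b j)) = z * ((a i' * b j') * z) * (a i * b j) := by group
        _ = _ := by rw [hz]; group

theorem Frame.prod (F : Frame Om z K1 K2 a b) (h : W2 Om) (i j i' j' : Fin 3) :
    (a i * b j) * (a i' * b j') = (a i * a i') * (b j * b j') := by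
  calc (a i * b j) * (a i' * b j') = a i * (b j * a i') * b j' := by group
    _ = a i * (a i' * b j) * b j' := by rw [F.ab h i' j]
    _ = _ := by group

/-- elements with directions differing in both coordinates commute -/
theorem Frame.comm_of_dir_ne (F : Frame Om z K1 K2 a b) (h : W2 Om) (hw : Dir z a b w p.1 p.2)
    (hw' : Dir z a b w' q.1 q.2) (h1 : p.1 ≠ q.1) (h2 : p.2 ≠ q.2) : w * w' = w' * w := by
  obtain ⟨e, e1, e2⟩ := F.dir_signs hw hw'
  rw [e1, e2, F.prod h, F.prod h, F.qa.anti h1, F.qb.anti h2]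
  have e3 : z * a q.1 * a p.1 * (z * b q.2 * b p.2) = (a q.1 * a p.1) * (b q.2 * b p.2) := by
    have hz : (a q.1 * a p.1) * z = z * (a q.1 * a p.1) := (F.qa.zcomm (mul_mem (F.qa.mem _) (F.qa.mem _))).symm
    calc z * a q.1 * a p.1 * (z * b q.2 * b p.2) = z * ((a q.1 * a p.1) * z) * (b q.2 * b p.2) := by group
      _ = z * (z * (a q.1 * a p.1)) * (b q.2 * b p.2) := by rw [hz]
      _ = _ := by rw [F.qa.zzx]
  rw [e3]

theorem Frame.dir_anti (F : Frame Om z K1 K2 a b) (h : W2 Om) {i j j' : Fin 3} (hw : Dir z a b w i j)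
    (hw' : Dir z a b w' i j') (h2 : j ≠ j') : w * w' ≠ w' * w := by
  obtain ⟨e, e1, e2⟩ := F.dir_signs hw hw'
  rw [e1, e2, F.prod h, F.prod h, F.qb.anti h2]
  intro e3
  have e4 := mul_left_cancel (mul_left_cancel e3)
  rw [mul_assoc] at e4
  exact F.qb.zne _ e4

/-- commuting elements with different directions differ in both coordinates -/
theorem Frame.dir_ne (F : Frame Om z K1 K2 a b) (h : W2 Om) (hw : Dir z a b w p.1 p.2)
    (hw' : Dir z a b w' q.1 q.2) (hc : w * w' = w' * w) (hne : p ≠ q) : p.1 ≠ q.1 ∧ p.2 ≠ q.2 := by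
  obtain ⟨i, j⟩ := p
  obtain ⟨i', j'⟩ := q
  constructor
  · intro e
    change i = i' at e
    subst e
    exact F.dir_anti h hw hw' (fun e => hne (Prod.ext rfl e)) hc
  · intro e
    change j = j' at e
    subst e
    exact F.swap.dir_anti h (F.dir_swap h hw) (F.dir_swap h hw') (fun e => hne (Prod.ext e rfl)) hc

/-! ### (4.1) and (4.2) -/

/-- **(4.1)** -/
theorem FT.mul_label (h : W2 Om) (hf : FT Om s t) (htz : t * z = z * t) (l : Lab Om z s c) : InZ Om (t * (z * c)) := by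
  obtain ⟨K1, K2, L1, L2, a, b, p, q, C⟩ := l.ti.exists_cf h
  obtain ⟨h1, r, hr, hrt⟩ := C.star h hf htz
  obtain ⟨h2, r', hr', hrt'⟩ := C.swl.star h hf htz
  have hpq : ∀ {m : G}, m ∈ L2 → m * p 0 = p 0 * m := fun {m} hm => (C.l1.comm C.l2 h C.lne (C.qc.mem 0) hm).symm
  -- `t (q 0 p 0)`
  have h3 : InZ Om (t * (q 0 * p 0)) := by
    have h4 := (hf.fr.ht.conj h r).conj h r'
    have e : r' * (r * t * r⁻¹) * r'⁻¹ = t * (q 0 * p 0) := by
      rw [hrt]
      calc r' * (t * p 0) * r'⁻¹ = (r' * t * r'⁻¹) * (r' * p 0 * r'⁻¹) := by group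
        _ = t * q 0 * p 0 := by rw [hrt', hpq hr', mul_inv_cancel_right]
        _ = _ := by group
    rwa [e] at h4
  have hqp : q 0 * p 0 = p 0 * q 0 := hpq (C.qd.mem 0)
  rw [hqp] at h3
  rcases C.symm.tc_eq h (l.symm h) with h4 | h4
  · rw [h4]; exact h3
  · rw [h4]
    -- conjugate by `(p 0)⁻¹`
    have h5 : (p 0)⁻¹ * t * p 0 = s * t := by
      rw [mul_inv_eq_iff_eq_mul] at h1
      rw [mul_assoc, h1, C.qc.zc]; group
    have h6 := h3.conj h (p 0)⁻¹
    have e : (p 0)⁻¹ * (t * (p 0 * q 0)) * (p 0)⁻¹⁻¹ = t * (s * (p 0 * q 0)) := by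
      have hst : s * t = t * s := hf.fr.comm
      calc (p 0)⁻¹ * (t * (p 0 * q 0)) * (p 0)⁻¹⁻¹ = ((p 0)⁻¹ * t * p 0) * (q 0 * p 0) := by group
        _ = (s * t) * (p 0 * q 0) := by rw [h5, hqp]
        _ = _ := by rw [hst]; group
    rwa [e] at h6

/-- an element `w c ∈ Z`, `w ∈ R_z`, `c` a label -/
theorem lab_of_inZ (h : W2 Om) (hn : NoOne Om) (hw : w ∈ RZ Om z) (hc : c ∈ CC Om z) (hu : InZ Om (w * c)) :
    Lab Om z (w * c) c := by
  have hz := CC.inZ hc
  have hcX := CC.mem_CX hc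
  have hcz := CC.comm_z h hc
  have hz2 := hz.z2 h
  have hcw : c * w = w * c := CX_comm hw hcX
  have hwz : w * z = z * w := RZ_le_centralizer h hw
  have hne : z ≠ w * c := by
    intro e
    have h1 : w ∈ CX Om z := by
      have : w = z * c := by rw [e, mul_assoc, CC.sq hc, mul_one]
      rw [this]; exact mul_mem (z_mem_CX h) hcX
    rcases RZ_inf_CX h hz hw h1 with h2 | h2
    · rw [h2, one_mul] at e
      exact CC.ne_z h hc e.symm
    · rw [h2] at e
      exact hn z c hc (mul_eq_left.1 e.symm)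
  have hti : TI Om z (w * c) := by
    refine ⟨hz, hu, hne, ?_, (Inn.of_RZ hz h hw).mul (Inn.of_CX hcX) hz h⟩
    calc z * (w * c) = (z * w) * c := by group
      _ = (w * z) * c := by rw [hwz]
      _ = w * (z * c) := by group
      _ = w * (c * z) := by rw [hcz]
      _ = _ := by group
  obtain ⟨c', l⟩ := hti.exists_lab h
  have h1 : c * c' ∈ RZ Om z := by
    have := mul_mem (inv_mem hw) l.wz
    have e : w⁻¹ * (w * c * c') = c * c' := by group
    rwa [e] at this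
  have h2 : c * c' ∈ CX Om z := mul_mem hcX l.cz
  have h3 : c' = c * (c * c') := by rw [← mul_assoc, CC.sq hc, one_mul]
  rcases RZ_inf_CX h hz h1 h2 with h4 | h4
  · rw [h4, mul_one] at h3
    rwa [h3] at l
  · rw [h4, hcz] at h3
    exfalso
    refine CC.not_mul h hc ?_
    rw [← h3]; exact l.mem_CC

namespace SB

variable (W : SB Om)

include W

theorem pTwo (hti : TI Om z s) : PTwo Om z s := by
  by_contra h2
  obtain ⟨c, l⟩ := hti.exists_lab W.w
  exact W.noOne z c l.mem_CC (l.eq_one W.w h2)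

/-- `z2` fixes the members over `z1` -/
theorem four_fx {z1 z2 c1 c2 : G} (l1 : Lab Om z z1 c1) (l2 : Lab Om z z2 c2) (hne : c1 ≠ c2)
    (hc : z1 * z2 = z2 * z1) : Fx Om z1 z2 := by
  have h := W.w
  obtain ⟨K1, K2, L1, L2, a, b, p, q, C⟩ := l1.ti.exists_cf h
  have F : Frame Om z K1 K2 a b := ⟨C.k1, C.k2, C.kne, C.qa, C.qb⟩
  have hsw := W.sw l1 l2.mem_CC hne
  have hc12 : c1 * c2 = c2 * c1 := W.comm l1.mem_CC l2.mem_CC
  have e1 : c2 * z1 = z1 * c2 := (l1.comm_iff h l2.cz).1 hc12.symm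
  have e2 : c1 * z2 = z2 * c1 := (l2.comm_iff h l1.cz).1 hc12
  -- the direction of `z2 c2`
  obtain ⟨th, i, j, -, -, -, -, hd, -⟩ := l2.theta h F
  have hd1 : Dir z a b (z1 * c1) 0 0 := C.tc_eq h l1
  have hww : (z1 * c1) * (z2 * c2) = (z2 * c2) * (z1 * c1) := by
    calc (z1 * c1) * (z2 * c2) = z1 * (c1 * z2) * c2 := by group
      _ = (z1 * z2) * (c1 * c2) := by rw [e2]; group
      _ = (z2 * z1) * (c2 * c1) := by rw [hc, hc12]
      _ = z2 * (z1 * c2) * c1 := by group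
      _ = z2 * (c2 * z1) * c1 := by rw [e1]
      _ = _ := by group
  have hpq : ((0, 0) : Fin 3 × Fin 3) ≠ (i, j) := by
    intro e
    obtain ⟨rfl, rfl⟩ := Prod.mk.injEq _ _ _ _ ▸ e
    refine hne (W.disj l1 l2 ?_)
    rcases hd1 with h3 | h3 <;> rcases hd with h4 | h4 <;> rw [h3, h4]
    · left; rfl
    · right; rw [F.qa.zzx]
    · right; rfl
    · left; rfl
  obtain ⟨n1, n2⟩ := F.dir_ne h (p := (0, 0)) (q := (i, j)) hd1 hd hww hpq
  change (0 : Fin 3) ≠ i at n1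
  change (0 : Fin 3) ≠ j at n2
  have hia : z1 * a i * z1⁻¹ = z * a i := by rw [C.ta _ (C.qa.mem i), C.qa.conj_ne n1]
  have hjb : z1 * b j * z1⁻¹ = z * b j := by rw [C.tb _ (C.qb.mem j), C.qb.conj_ne n2]
  have h5 : Sw Om z1 (a i * b j) := (C.sw_iff_of_inv h (C.qa.mem i) (C.qb.mem j) hia hjb).2 (W.pTwo l1.ti)
  have h6 : Sw Om z1 (z2 * c2) := by
    rcases hd with h4 | h4 <;> rw [h4]
    · exact h5
    · exact (C.fx_z h).mul_sw h5
  have hw1 : (z2 * c2) * z1 = z1 * (z2 * c2) := by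
    rw [mul_assoc, e1, ← mul_assoc, ← hc, mul_assoc]
  have h7 := h6.mul h hsw hw1 e1
  have e : z2 * c2 * c2 = z2 := by rw [mul_assoc, l2.sq, mul_one]
  rwa [e] at h7

/-- **(4.2)** -/
theorem four' {z1 z2 c1 c2 : G} (l1 : Lab Om z z1 c1) (l2 : Lab Om z z2 c2) (hne : c1 ≠ c2)
    (hc : z1 * z2 = z2 * z1) : TI Om z1 z2 := by
  have h := W.w
  have hn : z1 ≠ z2 := by
    rintro rfl
    exact hne (l1.unique h l2)
  rcases tcases h l1.ti.2.1 l2.ti.2.1 hn hc with h1 | h1 | h1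
  · exact (fx_sw_false l1.ti.2.1 (W.four_fx l1 l2 hne hc) h1.sw).elim
  · exfalso
    have hc12 : c1 * c2 = c2 * c1 := W.comm l1.mem_CC l2.mem_CC
    have h3 := h1.mul_label h (l2.ti.2.2.2.1.symm) l1
    have m3 := W.third l1.mem_CC l2.mem_CC hne
    have hz2' := l2.zt
    have e : z2 * (z * c1) = z2 * c2 * (z * c1 * c2) := by
      have e1 : c2 * z = z * c2 := l2.comm_z h
      calc z2 * (z * c1) = z2 * z * c1 * (c2 * c2) := by rw [l2.sq]; group
        _ = z2 * z * (c1 * c2) * c2 := by group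
        _ = z2 * (z * c2) * c1 * c2 := by rw [hc12]; group
        _ = z2 * (c2 * z) * c1 * c2 := by rw [e1]
        _ = _ := by group
    rw [e] at h3
    have l3 := lab_of_inZ h W.noOne l2.wz m3 h3
    have h4 : z * c1 * c2 = c2 := by
      refine W.disj l3 l2 (Or.inl ?_)
      rw [mul_assoc, CC.sq m3, mul_one]
    have h5 : z * c1 = 1 := mul_eq_right.1 h4
    have h6 : c1 = z := by
      have := eq_inv_of_mul_eq_one_right h5
      rwa [l1.ti.1.inv h] at this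
    exact l1.ne_z h h6
  · exact h1

end SB

/-! ### Change of frame -/

theorem change_key : ∀ (σ : Equiv.Perm (Fin 3)) (i : Fin 3), ∃ j, σ⁻¹ * (Equiv.addRight i * σ) = Equiv.addRight j := by
  decide +kernel

theorem Act.change {K : Subgroup G} {i : Fin 3} (qa : Q3 K z a) (qa' : Q3 K z a') (hg : g * z = z * g)
    (ha : Act z a a g (Equiv.addRight i)) : ∃ j, Act z a' a' g (Equiv.addRight j) := by
  have h1 : (1 : G) * z = z * 1 := by rw [one_mul, mul_one]
  obtain ⟨σ, hσ⟩ := qa'.exists_act qa (cj_one K) h1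
  obtain ⟨j, hj⟩ := change_key σ i
  refine ⟨j, ?_⟩
  have h2 := hσ.comp qa.z2 ha hg
  have h3 := hσ.inv qa.z2 h1
  rw [inv_one] at h3
  have h4 := h2.comp qa.z2 h3 h1
  rw [one_mul, mul_one, hj] at h4
  exact h4

theorem Tra.change (h : W2 Om) (F : Frame Om z K1 K2 a b) (F' : Frame Om z K1' K2' a' b') (ht : Tra z a b g v) :
    ∃ v', Tra z a' b' g v' := by
  have key : ∀ {K1 K2 : Subgroup G} {a b : Fin 3 → G} {i j : Fin 3}, Frame Om z K1 K2 a b → K1' = K1 →
      Act z a a g (Equiv.addRight i) → Act z b b g (Equiv.addRight j) → ∃ v', Tra z a' b' g v' := by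
    intro K1 K2 a b i j F e ha hb
    subst e
    have e2 : K2' = K2 := by
      rcases F.k1.cases F.k2 h F.ne F'.k2 with h2 | h2
      · exact absurd h2.symm F'.ne
      · exact h2
    subst e2
    obtain ⟨i', hi'⟩ := Act.change F.qa F'.qa ht.comm ha
    obtain ⟨j', hj'⟩ := Act.change F.qb F'.qb ht.comm hb
    exact ⟨(i', j'), ht.comm, hi', hj'⟩
  rcases F.k1.cases F.k2 h F.ne F'.k1 with h1 | h1
  · exact key F h1 ht.a ht.b
  · exact key F.swap h1 ht.b ht.a

namespace SB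

variable (W : SB Om)

include W

theorem uniq (hp : p ∈ DC Om z a b c) (hp' : p ∈ DC Om z a b c') (hz : z * z = 1) : c = c' := by
  obtain ⟨t, l, hd⟩ := hp
  obtain ⟨t', l', hd'⟩ := hp'
  refine W.disj l l' ?_
  rcases hd with h3 | h3 <;> rcases hd' with h4 | h4 <;> rw [h3, h4]
  · left; rfl
  · right; rw [← mul_assoc, hz, one_mul]
  · right; rfl
  · left; rfl

/-- `CaseS` in every frame -/
theorem caseS (F : Frame Om z K1 K2 a b) : ∃ c0 c1 c2, CaseS Om z a b c0 c1 c2 := by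
  have h := W.w
  obtain ⟨K1', K2', a', b', c0, c1, c2, F', S⟩ := W.s z F.k1.inZ
  have m0 : c0 ∈ CC Om z := by rw [S.cc]; simp
  rcases thm_one h W.cf F ⟨c0, m0⟩ with h1 | h1
  · exfalso
    obtain ⟨g, v, hg, h01, -⟩ := S.ex
    obtain ⟨v', hg'⟩ := hg.change h F' F
    obtain ⟨p, hp⟩ := CC.exists_dir h F m0
    have h2 := hg'.dc h F hp
    rw [h01] at h2
    have h3 := (D0.iff h F hp).1 (h1 g v' hg')
    exact S.n01 (W.uniq h3 h2 F.qa.z2)
  · exact h1

end SB

/-! ### The transversal -/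

/-- the diagonal transversal -/
theorem CaseS.diag {c0 c1 c2 : G} (S : CaseS Om z a b c0 c1 c2) (h : W2 Om) (F : Frame Om z K1 K2 a b)
    (hsw : ∃ g, g * z = z * g ∧ Sw Om z g) : ∃ v : Fin 3 × Fin 3, v.1 ≠ 0 ∧ v.2 ≠ 0 ∧ v ∉ D0 Om z a b ∧
      ∀ c p, p ∈ DC Om z a b c → ∃ c' c'', c' ≠ c ∧ c'' ≠ c ∧ c' ≠ c'' ∧ p + v ∈ DC Om z a b c' ∧
        p - v ∈ DC Om z a b c'' := by
  have hz2 := F.qa.z2
  have m0 : c0 ∈ CC Om z := by rw [S.cc]; simp
  have hn : (CC Om z).Nonempty := ⟨c0, m0⟩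
  obtain ⟨g, u, hg, h01, h12, h20, hu, -⟩ := S.ex
  obtain ⟨g', hg1, hg2⟩ := hsw
  obtain ⟨f, e, hf, he, hD, hDT⟩ := D0.swp h F hg1 hg2
  -- differences of directions
  have hdiff : ∀ p ∈ DT Om z a b, ∀ q ∈ DT Om z a b, q - p ∈ D0 Om z a b ∨ q - p - u ∈ D0 Om z a b ∨
      q - p + u ∈ D0 Om z a b := by
    rintro p ⟨c, hp⟩ q ⟨c', hq⟩
    have kA : c = c' → q - p ∈ D0 Om z a b := by
      rintro rfl; exact D0.sub_mem hp hq
    have kB : g * c * g⁻¹ = c' → q - p - u ∈ D0 Om z a b := by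
      rintro rfl
      have h1 := D0.sub_mem (hg.dc h F hp) hq
      have e1 : q - (p + u) = q - p - u := by abel
      rwa [e1] at h1
    have kC : g * c' * g⁻¹ = c → q - p + u ∈ D0 Om z a b := by
      rintro rfl
      have h1 := D0.sub_mem hp (hg.dc h F hq)
      have e1 : q + u - p = q - p + u := by abel
      rwa [e1] at h1
    have m1 := DC.mem_CC hp
    have m2 := DC.mem_CC hq
    rw [S.cc] at m1 m2
    simp only [Set.mem_insert_iff, Set.mem_singleton_iff] at m1 m2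
    rcases m1 with rfl | rfl | rfl <;> rcases m2 with rfl | rfl | rfl
    · exact Or.inl (kA rfl)
    · exact Or.inr (Or.inl (kB h01))
    · exact Or.inr (Or.inr (kC h20))
    · exact Or.inr (Or.inr (kC h01))
    · exact Or.inl (kA rfl)
    · exact Or.inr (Or.inl (kB h12))
    · exact Or.inr (Or.inl (kB h20))
    · exact Or.inr (Or.inr (kC h12))
    · exact Or.inl (kA rfl)
  obtain ⟨p0, hp0⟩ := CC.exists_dir h F m0
  have hp1 := hg.dc h F hp0
  have hE : (f u.2, e u.1) ∈ D0 Om z a b ∨ (f u.2, e u.1) - u ∈ D0 Om z a b ∨ (f u.2, e u.1) + u ∈ D0 Om z a b := by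
    obtain ⟨p', hp', q', hq', h1⟩ := hDT p0 ⟨_, hp0⟩ (p0 + u) ⟨_, hp1⟩
    rw [add_sub_cancel_left] at h1
    rw [← h1]
    exact hdiff p' hp' q' hq'
  obtain ⟨w, hw, n1, n2⟩ := diag_key (D0.sub h F hn) u hu hf he hD hE
  have hv : u + w ∉ D0 Om z a b := by
    intro h1
    apply hu
    have h2 := (D0.sub h F hn).sub_mem h1 hw
    rwa [add_sub_cancel_right] at h2
  refine ⟨u + w, n1, n2, hv, ?_⟩
  intro c p hp
  have h1 : p + (u + w) ∈ DC Om z a b (g * c * g⁻¹) := by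
    have h2 := hg.dc h F hp
    rw [← add_assoc]
    exact (D0.iff h F h2).1 hw
  have h3 : p - (u + w) ∈ DC Om z a b (g⁻¹ * c * g⁻¹⁻¹) := by
    have h2 := (hg.inv hz2).dc h F hp
    have h4 := (D0.iff h F h2).1 (D0.neg hw)
    have e1 : p + -u + -w = p - (u + w) := by abel
    rwa [e1] at h4
  have hneg : ∀ {x : Fin 3 × Fin 3}, -x ∈ D0 Om z a b → x ∈ D0 Om z a b := fun {x} hx => by
    have := D0.neg hx; rwa [neg_neg] at this
  refine ⟨_, _, ?_, ?_, ?_, h1, h3⟩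
  · intro e1
    rw [e1] at h1
    exact hv ((D0.iff h F hp).2 h1)
  · intro e1
    rw [e1] at h3
    apply hv
    apply hneg
    refine (D0.iff h F hp).2 ?_
    rwa [← sub_eq_add_neg]
  · intro e1
    rw [← e1] at h3
    apply hv
    have h4 := D0.sub_mem h1 h3
    have e2 : p - (u + w) - (p + (u + w)) = u + w := by
      have key : ∀ x y : Fin 3 × Fin 3, x - y - (x + y) = y := by decide +kernel
      exact key _ _
    rwa [e2] at h4

end

end Cfsg.Agent.Cit.Nil.RTwo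
end

-- part: Cit/Nil/RTwo/SProd
section
/-!
# The world (S): (6.9), `k = 2`, and the structure `SW`

* `exists_of_e8` : OCT for three commuting involutions;
* `SB.di` (6.9) : commuting members of `Z` are connected by type I edges;
* `SB.exists_D0` : `k = 2`;
* `SB.toSW` : the world of section 12.
-/

set_option autoImplicit false
set_option linter.style.haveILetI false
set_option linter.unusedSectionVars false
set_option maxHeartbeats 400000

namespace Cfsg.Agent.Cit.Nil.RTwo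

open Subgroup Cfsg Cit

variable {G : Type*} [Group G]

/-! ### Three commuting involutions -/

/-- the group generated by three commuting involutions -/
def EE8 (u v w : G) (huv : u * v = v * u) (huw : u * w = w * u) (hvw : v * w = w * v) (hu : u * u = 1)
    (hv : v * v = 1) (hw : w * w = 1) : Subgroup G where
  carrier := {x | ∃ i j k : ℕ, x = u ^ i * v ^ j * w ^ k}
  mul_mem' := by
    rintro _ _ ⟨i, j, k, rfl⟩ ⟨i', j', k', rfl⟩
    refine ⟨i + i', j + j', k + k', ?_⟩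
    have c1 : Commute (w ^ k) (u ^ i' * v ^ j') :=
      ((show Commute w u from huw.symm).pow_pow k i').mul_right ((show Commute w v from hvw.symm).pow_pow k j')
    have c2 : Commute (v ^ j) (u ^ i') := (show Commute v u from huv.symm).pow_pow j i'
    rw [c1.mul_mul_mul_comm, c2.mul_mul_mul_comm, ← pow_add, ← pow_add, ← pow_add]
  one_mem' := ⟨0, 0, 0, by simp⟩
  inv_mem' := by
    rintro _ ⟨i, j, k, rfl⟩
    refine ⟨i, j, k, inv_eq_of_mul_eq_one_right ?_⟩
    have c1 : Commute (w ^ k) (u ^ i * v ^ j) :=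
      ((show Commute w u from huw.symm).pow_pow k i).mul_right ((show Commute w v from hvw.symm).pow_pow k j)
    have c2 : Commute (v ^ j) (u ^ i) := (show Commute v u from huv.symm).pow_pow j i
    have key : ∀ (x : G) (n : ℕ), x * x = 1 → x ^ n * x ^ n = 1 := by
      intro x n hx
      rw [← pow_add, ← two_mul, pow_mul, pow_two, hx, one_pow]
    rw [c1.mul_mul_mul_comm, c2.mul_mul_mul_comm, key u i hu, key v j hv, key w k hw, one_mul, one_mul]

theorem pow_or_of_sq {x : G} (hx : x * x = 1) (n : ℕ) : x ^ n = 1 ∨ x ^ n = x := by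
  induction n with
  | zero => left; exact pow_zero x
  | succ n ih =>
    rw [pow_succ]
    rcases ih with h | h
    · right; rw [h, one_mul]
    · left; rw [h, hx]

section

variable [Finite G] {Om : Set (Subgroup G)} {K K1 K2 K1' K2' L M L1 L2 : Subgroup G}
  {z t g s s' x y w c c' u d : G} {a b a' b' : Fin 3 → G} {v v' p q : Fin 3 × Fin 3}

theorem exists_of_e8 (h : W2 Om) {Q : G → Prop} (hQ : ∀ a, Q a → InZ Om a) {u v w : G} (q1 : Q u) (q2 : Q v)
    (q3 : Q (u * v)) (q4 : Q w) (q5 : Q (u * w)) (q6 : Q (v * w)) (q7 : Q (u * v * w)) (huv : u * v = v * u)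
    (huw : u * w = w * u) (hvw : v * w = w * v) (nvu : v ≠ u) (nwu : w ≠ u) (nwv : w ≠ v) (nwuv : w ≠ u * v)
    (ht : InZ Om t) (htu : t * u = u * t) (htv : t * v = v * t) (htw : t * w = w * t) :
    ∃ a, Q a ∧ (t = a ∨ TI Om t a) := by
  have hu2 := (hQ _ q1).z2 h
  have hv2 := (hQ _ q2).z2 h
  have hw2 := (hQ _ q4).z2 h
  obtain ⟨A, hA⟩ : ∃ A, A = EE8 u v w huv huw hvw hu2 hv2 hw2 := ⟨_, rfl⟩
  have hmem : ∀ x, x ∈ A ↔ ∃ i j k : ℕ, x = u ^ i * v ^ j * w ^ k := fun x => by rw [hA]; exact Iff.rfl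
  have hAQ : ∀ a ∈ A, a ≠ 1 → Q a := by
    intro a ha ha1
    obtain ⟨i, j, k, rfl⟩ := (hmem a).1 ha
    rcases pow_or_of_sq hu2 i with e1 | e1 <;> rcases pow_or_of_sq hv2 j with e2 | e2 <;>
    rcases pow_or_of_sq hw2 k with e3 | e3 <;> rw [e1, e2, e3] at ha1 ⊢ <;>
    (try simp only [one_mul, mul_one] at ha1 ⊢)
    · exact absurd rfl ha1
    · exact q4
    · exact q2
    · exact q6
    · exact q1
    · exact q5
    · exact q3
    · exact q7
  have hcomm : ∀ x : G, x * u = u * x → x * v = v * x → x * w = w * x → ∀ a ∈ A, x * a = a * x := by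
    intro x h1 h2 h3 a ha
    obtain ⟨i, j, k, rfl⟩ := (hmem a).1 ha
    have c1 : Commute x (u ^ i) := (show Commute x u from h1).pow_right i
    have c2 : Commute x (v ^ j) := (show Commute x v from h2).pow_right j
    have c3 : Commute x (w ^ k) := (show Commute x w from h3).pow_right k
    exact ((c1.mul_right c2).mul_right c3).eq
  have hAc : ∀ a ∈ A, ∀ b ∈ A, a * b = b * a := by
    intro a ha b hb
    have k1 := hcomm u rfl huv huw a ha
    have k2 := hcomm v huv.symm rfl hvw a ha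
    have k3 := hcomm w huw.symm hvw.symm rfl a ha
    exact hcomm a k1.symm k2.symm k3.symm b hb
  by_cases htA : t ∈ A
  · exact ⟨t, hAQ t htA (ht.z1 h), Or.inl rfl⟩
  · have mu : u ∈ A := (hmem u).2 ⟨1, 0, 0, by simp⟩
    have mv : v ∈ A := (hmem v).2 ⟨0, 1, 0, by simp⟩
    have mw : w ∈ A := (hmem w).2 ⟨0, 0, 1, by simp⟩
    obtain ⟨a, ha, ha1, hti⟩ := oct h (fun a ha ha1 => hQ a (hAQ a ha ha1)) hAc mu mv mw ((hQ _ q1).z1 h)
      ((hQ _ q2).z1 h) nvu ((hQ _ q4).z1 h) nwu nwv nwuv ht htA (hcomm t htu htv htw)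
    exact ⟨a, hAQ a ha ha1, Or.inr hti⟩

theorem sprod_key' : ∀ v u x : Fin 3 × Fin 3, v ≠ 0 → u ∉ ({0, v, -v} : Finset (Fin 3 × Fin 3)) →
    x ∈ ({0, v, -v} : Finset (Fin 3 × Fin 3)) ∨ x - u ∈ ({0, v, -v} : Finset (Fin 3 × Fin 3)) ∨
      x + u ∈ ({0, v, -v} : Finset (Fin 3 × Fin 3)) := by
  decide +kernel

theorem sprod_key (v u x : Fin 3 × Fin 3) (h1 : v ≠ 0) (h2 : u ≠ 0) (h3 : u ≠ v) (h4 : u ≠ -v) :
    (x = 0 ∨ x = v ∨ x = -v) ∨ (x - u = 0 ∨ x - u = v ∨ x - u = -v) ∨ (x + u = 0 ∨ x + u = v ∨ x + u = -v) := by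
  have h5 := sprod_key' v u x h1
  simp only [Finset.mem_insert, Finset.mem_singleton] at h5
  exact h5 (by rintro (e | e | e); exacts [h2 e, h3 e, h4 e])

theorem rf_key : ∀ σ : Equiv.Perm (Fin 3), σ 0 = 0 → ∀ x y : Fin 3, x ≠ 0 → y ≠ 0 → σ x ≠ y →
    (σ * rf 0) 0 = 0 ∧ (σ * rf 0) x = y := by decide

/-- neighbours of `z` with commuting labels and directions -/
theorem Lab.nb_comm (h : W2 Om) (F : Frame Om z K1 K2 a b) (l : Lab Om z s c) (l' : Lab Om z s' c')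
    (hc : c * c' = c' * c) (hd : Dir z a b (s * c) p.1 p.2) (hd' : Dir z a b (s' * c') q.1 q.2) (h1 : p.1 ≠ q.1)
    (h2 : p.2 ≠ q.2) : s * s' = s' * s := by
  have e0 := F.comm_of_dir_ne h hd hd' h1 h2
  have e1 : c' * s = s * c' := (l.comm_iff h l'.cz).1 hc.symm
  have e2 : c * s' = s' * c := (l'.comm_iff h l.cz).1 hc
  have e3 : s * s' * (c * c') = s' * s * (c * c') := by
    calc s * s' * (c * c') = s * (s' * c) * c' := by group
      _ = s * (c * s') * c' := by rw [e2]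
      _ = (s * c) * (s' * c') := by group
      _ = (s' * c') * (s * c) := e0
      _ = s' * (c' * s) * c := by group
      _ = s' * (s * c') * c := by rw [e1]
      _ = s' * s * (c' * c) := by group
      _ = _ := by rw [hc]
  exact mul_right_cancel e3

/-- all type I lines on `z` have different labels and commute -/
def KOne (Om : Set (Subgroup G)) (z : G) : Prop :=
  ∀ s c s' c', Lab Om z s c → Lab Om z s' c' → (c = c' → s' = s ∨ s' = z * s) ∧ (c ≠ c' → s * s' = s' * s)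

theorem KOne.conj (h : W2 Om) (hk : KOne Om z) (g : G) : KOne Om (g * z * g⁻¹) := by
  intro s c s' c' l l'
  have e0 : g⁻¹ * (g * z * g⁻¹) * g⁻¹⁻¹ = z := conj_conj_inv g z
  have l1 := l.conj h g⁻¹
  have l2 := l'.conj h g⁻¹
  rw [e0] at l1 l2
  obtain ⟨k1, k2⟩ := hk _ _ _ _ l1 l2
  have inj : ∀ x y : G, g⁻¹ * x * g⁻¹⁻¹ = g⁻¹ * y * g⁻¹⁻¹ → x = y := fun x y e =>
    mul_left_cancel (mul_right_cancel e)
  constructor
  · intro e
    rcases k1 (by rw [e]) with h1 | h1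
    · left; exact inj _ _ h1
    · right
      apply inj
      rw [h1]; group
  · intro hne
    have h1 := k2 (fun e => hne (inj _ _ e))
    apply inj
    calc g⁻¹ * (s * s') * g⁻¹⁻¹ = (g⁻¹ * s * g⁻¹⁻¹) * (g⁻¹ * s' * g⁻¹⁻¹) := by group
      _ = (g⁻¹ * s' * g⁻¹⁻¹) * (g⁻¹ * s * g⁻¹⁻¹) := h1
      _ = _ := by group

namespace SB

variable (W : SB Om)

include W

/-! ### (6.9) -/

theorem di_of_cent (l : Lab Om z s c) (l' : Lab Om z s' c') (hne : c ≠ c') (hss : s * s' = s' * s) (ht : InZ Om t)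
    (htz : t * z = z * t) (hts : t * s = s * t) (hts' : t * s' = s' * t) : DI Om z t := by
  have h := W.w
  have hzs := l.zt
  have hzs' := l'.zt
  have t1 : TI Om s s' := W.four' l l' hne hss
  have c2 : (z * s) * s' = s' * (z * s) := by
    rw [mul_assoc, hss, ← mul_assoc, hzs', mul_assoc]
  have t2 : TI Om (z * s) s' := W.four' (l.mul h) l' hne c2
  have t3 := t1.mul h
  have t4 := t2.mul h
  obtain ⟨a, ⟨-, ha⟩, h1⟩ := exists_of_e8 h (Q := fun a => InZ Om a ∧ DI Om z a) (fun a ha => ha.1) (u := z) (v := s)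
    (w := s') (t := t) ⟨l.ti.1, Relation.ReflTransGen.refl⟩ ⟨l.ti.2.1, l.ti.di⟩ ⟨(l.mul h).ti.2.1, (l.mul h).ti.di⟩
    ⟨l'.ti.2.1, l'.ti.di⟩ ⟨(l'.mul h).ti.2.1, (l'.mul h).ti.di⟩ ⟨t3.2.1, l.ti.di.trans t3.di⟩
    ⟨t4.2.1, (l.mul h).ti.di.trans t4.di⟩ hzs hzs' hss (Ne.symm l.ti.2.2.1) (Ne.symm l'.ti.2.2.1)
    (Ne.symm t1.2.2.1) (Ne.symm t2.2.2.1) ht htz hts hts'
  rcases h1 with rfl | h1
  · exact ha
  · exact ha.trans (h1.symm h).di

/-- `t` interchanges the members over `z` and centralises a diagonal transversal -/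
theorem di_diag (F : Frame Om z K1 K2 a b) (l : Lab Om z s c) (hd : Dir z a b (s * c) 0 0)
    (hv : v ∈ DC Om z a b c') (hne : c' ≠ c) (n1 : v.1 ≠ 0) (n2 : v.2 ≠ 0) (ht : InZ Om t) (htz : t * z = z * t)
    (hts : t * s = s * t) (hsw : Sw Om z t) {σ : Equiv.Perm (Fin 3)} (hσ : Act z a b t σ)
    (h1 : σ v.1 = v.2) : DI Om z t := by
  have h := W.w
  have hni : ¬ Inn Om z t := fun h2 => fx_sw_false l.ti.1 (h2.fx h) hsw
  rcases F.act_cases h htz with ⟨h2, -⟩ | ⟨-, -, σ', τ, h3, h4⟩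
  · exact absurd h2 (hsw K1 F.k1)
  have e1 : σ' = σ := h3.unique F.qb hσ
  subst e1
  have e2 : τ * σ' = 1 := by
    have h5 := h3.comp F.qa.z2 h4 htz
    rw [ht.z2 h] at h5
    exact h5.unique F.qa (Act.one a z)
  have e3 : τ v.2 = v.1 := by
    rw [← h1]
    show (τ * σ') v.1 = v.1
    rw [e2]; rfl
  obtain ⟨s', l', hd'⟩ := hv
  have h6 := F.dir_conj' h htz h3 h4 hd'
  rw [e3, h1] at h6
  have h7 : t * (s' * c') = s' * c' * t := cent_dir h F ht htz.symm hni hd' h6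
  have h8 : t * c' * t⁻¹ = c' := by
    refine W.disj (l'.conj_comm h htz) l' (Or.inl ?_)
    calc t * s' * t⁻¹ * (t * c' * t⁻¹) = t * (s' * c') * t⁻¹ := by group
      _ = _ := by rw [h7, mul_inv_cancel_right]
  have h9 : t * c' = c' * t := by rwa [mul_inv_eq_iff_eq_mul] at h8
  have h10 : t * s' = s' * t := by
    have e : s' = s' * c' * c' := by rw [mul_assoc, l'.sq, mul_one]
    calc t * s' = t * (s' * c' * c') := by rw [← e]
      _ = (t * (s' * c')) * c' := by group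
      _ = s' * c' * (t * c') := by rw [h7]; group
      _ = s' * (c' * c') * t := by rw [h9]; group
      _ = _ := by rw [l'.sq, mul_one]
  have hcc : c * c' = c' * c := W.comm l.mem_CC l'.mem_CC
  have hss := Lab.nb_comm h F l l' hcc (p := (0, 0)) (q := v) hd hd' (Ne.symm n1) (Ne.symm n2)
  exact W.di_of_cent l l' (Ne.symm hne) hss ht htz hts h10

theorem swap_z (hz : InZ Om z) : ∃ g, g * z = z * g ∧ Sw Om z g := by
  obtain ⟨c0, c1, c2, hcc, -⟩ := W.exists_cc hz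
  have m0 : c0 ∈ CC Om z := by rw [hcc]; simp
  obtain ⟨t, l⟩ := id m0
  exact exists_swap_of_ne W.w l (W.noOne z c0 m0)

/-- (6.9), main case -/
theorem di_aux (hti : TI Om z s) (hp : PR Om z t) (hf : FT Om s t) : DI Om z t := by
  have h := W.w
  obtain ⟨K1, K2, L1, L2, a, b, p, q, C⟩ := hti.exists_cf h
  have F : Frame Om z K1 K2 a b := ⟨C.k1, C.k2, C.kne, C.qa, C.qb⟩
  obtain ⟨c, l⟩ := hti.exists_lab h
  have hd : Dir z a b (s * c) 0 0 := C.tc_eq h l
  have htz : t * z = z * t := hp.comm.symm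
  have hts : t * s = s * t := hf.fr.comm.symm
  obtain ⟨c0, c1, c2, S⟩ := W.caseS F
  obtain ⟨v, n1, n2, -, hv⟩ := S.diag h F (W.swap_z hti.1)
  obtain ⟨c', -, hne, -, -, hv', -⟩ := hv c (0, 0) ⟨s, l, hd⟩
  have e0 : ((0, 0) : Fin 3 × Fin 3) + v = v := zero_add v
  rw [e0] at hv'
  have htc : t * c * t⁻¹ = c := by
    have l1 := l.conj_comm h htz
    rw [hts, mul_inv_cancel_right] at l1
    exact (l.unique h l1).symm
  rcases F.act_cases h htz with ⟨h2, -⟩ | ⟨-, -, σ, τ, h3, h4⟩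
  · exact absurd h2 (hp.sw K1 C.k1)
  have hσ0 : σ 0 = 0 := by
    have h5 := F.dir_conj' h htz h3 h4 hd
    have e : t * (s * c) * t⁻¹ = s * c := by
      calc t * (s * c) * t⁻¹ = (t * s * t⁻¹) * (t * c * t⁻¹) := by group
        _ = _ := by rw [hts, mul_inv_cancel_right, htc]
    rw [e] at h5
    exact (F.dir_unique h h5 hd).2
  by_cases hσ : σ v.1 = v.2
  · exact W.di_diag F l hd hv' hne n1 n2 hp.ht htz hts hp.sw h3 hσ
  · obtain ⟨k1, k2⟩ := rf_key σ hσ0 v.1 v.2 n1 n2 hσ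
    rw [C.star_di h hf htz hti]
    have h5 := (C.act_p0 h).comp C.z2 h3 htz
    exact W.di_diag F l hd hv' hne n1 n2 (C.star_inZ h hf htz) (C.star_z h htz) (C.star_s h hts)
      (hp.sw'.mul_fx (C.symm.fx_a0 h)) h5 k2

/-- **(6.9)** -/
theorem di (hz : InZ Om z) (ht : InZ Om t) (hc : z * t = t * z) : DI Om z t := by
  by_contra hnd
  have h := W.w
  have hline : HasLine Om := hasLine h (fun z hz => by
    obtain ⟨c0, c1, c2, hcc, -⟩ := W.exists_cc hz
    exact ⟨c0, by rw [hcc]; simp⟩)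
  obtain ⟨s, hti, hst⟩ := hline z t hz ht hc
  rcases (status h hti ht hc hst hnd).2 (W.pTwo hti) with ⟨h1, h2, h3⟩ | ⟨h1, h2, h3⟩ | ⟨h1, h2, h3⟩
  · exact hnd (W.di_aux (hti.mul h) h1 h3)
  · exact hnd (W.di_aux hti h1 h2)
  · exact hnd (hti.di.trans (W.di_aux (hti.symm h) h2 h1))

/-! ### `k = 2` -/

theorem kOne_of (F : Frame Om z K1 K2 a b) (hD : ∀ v ∈ D0 Om z a b, v = 0) : KOne Om z := by
  have h := W.w
  obtain ⟨c0, c1, c2, S⟩ := W.caseS F
  obtain ⟨v, n1, n2, -, hv⟩ := S.diag h F (W.swap_z F.k1.inZ)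
  intro s c s' c' l l'
  obtain ⟨th, i, j, -, -, -, -, hd, -⟩ := l.theta h F
  obtain ⟨th', i', j', -, -, -, -, hd', -⟩ := l'.theta h F
  have hp : (i, j) ∈ DC Om z a b c := ⟨s, l, hd⟩
  have hq : (i', j') ∈ DC Om z a b c' := ⟨s', l', hd'⟩
  have hcc : c * c' = c' * c := W.comm l.mem_CC l'.mem_CC
  constructor
  · rintro rfl
    have h1 := sub_eq_zero.1 (hD _ (D0.sub_mem hp hq))
    rw [Prod.mk.injEq] at h1
    rw [h1.1, h1.2] at hd'
    exact F.eq_of_dir (p := (i, j)) hd hd'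
  · intro hne
    obtain ⟨d, d', k1, k2, k3, h1, h2⟩ := hv c (i, j) hp
    have key : ∀ x : Fin 3 × Fin 3, x.1 ≠ 0 → x.2 ≠ 0 → ∀ e, (i, j) + x ∈ DC Om z a b e → c' = e → s * s' = s' * s := by
      rintro x m1 m2 e he rfl
      have h3 := sub_eq_zero.1 (hD _ (D0.sub_mem he hq))
      refine Lab.nb_comm h F l l' hcc (p := (i, j)) (q := (i', j')) hd hd' ?_ ?_
      · rw [h3]
        intro e
        exact m1 (left_eq_add.1 e)
      · rw [h3]
        intro e
        exact m2 (left_eq_add.1 e)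
    rcases W.three l.mem_CC (DC.mem_CC h1) l'.mem_CC (Ne.symm k1) with h3 | h3 | h3
    · exact absurd h3.symm hne
    · exact key v n1 n2 d h1 h3
    · have h4 := W.mul_three l.mem_CC (DC.mem_CC h1) (DC.mem_CC h2) (Ne.symm k1) (Ne.symm k2) k3
      rw [h4] at h3
      refine key (-v) (neg_ne_zero.2 n1) (neg_ne_zero.2 n2) d' ?_ h3
      rwa [← sub_eq_add_neg]

theorem AS_le' (hk : KOne Om z) (hti : TI Om z s) : AS Om z ≤ AS Om s := by
  have h := W.w
  rw [AS, closure_le]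
  rintro x (rfl | hx)
  · exact (hti.symm h).mem_AS
  · obtain ⟨c, l⟩ := hti.exists_lab h
    obtain ⟨c', l'⟩ := hx.exists_lab h
    obtain ⟨k1, k2⟩ := hk _ _ _ _ l l'
    by_cases hc : c = c'
    · rcases k1 hc with rfl | rfl
      · exact z_mem_AS
      · exact mul_mem (hti.symm h).mem_AS z_mem_AS
    · exact (W.four' l l' hc (k2 hc)).mem_AS

/-- **`k = 2`** -/
theorem exists_D0 (hSC : SCe Om) (F : Frame Om z K1 K2 a b) : ∃ v ∈ D0 Om z a b, v ≠ 0 := by
  have h := W.w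
  by_contra hcon
  push Not at hcon
  have hk : ∀ t, InZ Om t → KOne Om t := by
    intro t ht
    obtain ⟨g, rfl⟩ := W.cls z t F.k1.inZ ht
    exact (W.kOne_of F hcon).conj h g
  have hle : ∀ z t, DI Om z t → AS Om z ≤ AS Om t := by
    intro z t hd
    induction hd with
    | refl => exact le_rfl
    | tail _ h2 ih => exact ih.trans (W.AS_le' (hk _ h2.1) h2)
  have h1 := hSC (AS Om) (fun g z _ => (AS_conj h g).symm) (fun z hz => by
    rw [AS, closure_le]
    rintro x (rfl | hx)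
    · exact mem_centralizer_singleton_iff.2 rfl
    · exact mem_centralizer_singleton_iff.2 hx.2.2.2.1.symm) (fun z t hz ht hc =>
      le_antisymm (hle z t (W.di hz ht hc)) (hle t z ((W.di hz ht hc).symm h))) z F.k1.inZ
  have h2 : z ∈ AS Om z := z_mem_AS
  rw [h1, mem_bot] at h2
  exact F.qa.z1 h2

/-- `N_z = 1` -/
theorem NI_eq (hSC : SCe Om) (hz : InZ Om z) : NI Om z = ⊥ := by
  have h := W.w
  exact hSC (NI Om) (fun g z _ => NI_conj h g z) (fun z hz => NI_le h hz)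
    (fun z t hz ht hc => NI_const_di h (W.di hz ht hc)) z hz

/-- `D0 = {0, v, -v}`, `v` diagonal -/
theorem exists_diag_D0 (hSC : SCe Om) (F : Frame Om z K1 K2 a b) : ∃ v : Fin 3 × Fin 3, v.1 ≠ 0 ∧ v.2 ≠ 0 ∧
    ∀ u, u ∈ D0 Om z a b ↔ u = 0 ∨ u = v ∨ u = -v := by
  have h := W.w
  obtain ⟨c0, c1, c2, S⟩ := W.caseS F
  obtain ⟨g, u0, -, -, -, -, hu0, -⟩ := S.ex
  have m0 : c0 ∈ CC Om z := by rw [S.cc]; simp
  have hn : (CC Om z).Nonempty := ⟨c0, m0⟩
  rcases D0.cases h F hn (W.swap_z F.k1.inZ) with h1 | h1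
  · exact absurd (h1 u0) hu0
  obtain ⟨v, hv, hv0⟩ := W.exists_D0 hSC F
  rcases h1 v hv with h2 | ⟨n1, n2⟩
  · exact absurd h2 hv0
  refine ⟨v, n1, n2, fun u => ?_⟩
  have hno : ∀ x ∈ D0 Om z a b, ¬ WOne x := by
    intro x hx hw
    rcases h1 x hx with rfl | ⟨m1, m2⟩
    · rcases hw with ⟨h3, -⟩ | ⟨-, h3⟩
      · exact h3 rfl
      · exact h3 rfl
    · rcases hw with ⟨-, h3⟩ | ⟨h3, -⟩
      · exact m2 h3
      · exact m1 h3
  constructor
  · intro hu
    by_contra hcon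
    push Not at hcon
    obtain ⟨e1, e2, e3⟩ := hcon
    rcases wOne_key v u hv0 e1 e2 e3 with h3 | h3 | h3 | h3
    · exact hno _ hv h3
    · exact hno _ hu h3
    · exact hno _ (D0.add h F hu hv) h3
    · exact hno _ (by rw [sub_eq_add_neg]; exact D0.add h F hu (D0.neg hv)) h3
  · rintro (rfl | rfl | rfl)
    · exact D0.zero h F hn
    · exact hv
    · exact D0.neg hv

theorem line (hSC : SCe Om) (F : Frame Om z K1 K2 a b) : ∃ v : Fin 3 × Fin 3, v.1 ≠ 0 ∧ v.2 ≠ 0 ∧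
    ∀ p, ∃ c, ∀ q, q ∈ DC Om z a b c ↔ q = p ∨ q = p + v ∨ q = p - v := by
  have h := W.w
  obtain ⟨v, n1, n2, hD⟩ := W.exists_diag_D0 hSC F
  refine ⟨v, n1, n2, fun p => ?_⟩
  obtain ⟨c0, c1, c2, S⟩ := W.caseS F
  obtain ⟨u, -, -, hu, hdiag⟩ := S.diag h F (W.swap_z F.k1.inZ)
  have m0 : c0 ∈ CC Om z := by rw [S.cc]; simp
  obtain ⟨p0, hp0⟩ := CC.exists_dir h F m0
  obtain ⟨d, d', -, -, -, h1, h2⟩ := hdiag c0 p0 hp0
  have hu' := fun e => hu ((hD u).2 e)
  have hv0 : v ≠ 0 := fun e => n1 (by rw [e]; rfl)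
  -- `p` lies on one of the three lines
  have hp : ∃ c, p ∈ DC Om z a b c := by
    rcases sprod_key v u (p - p0) hv0 (fun e => hu' (Or.inl e)) (fun e => hu' (Or.inr (Or.inl e)))
      (fun e => hu' (Or.inr (Or.inr e))) with h3 | h3 | h3
    · refine ⟨c0, ?_⟩
      have h4 := (D0.iff h F hp0).1 ((hD _).2 h3)
      rwa [add_sub_cancel] at h4
    · refine ⟨d, ?_⟩
      have h4 := (D0.iff h F h1).1 ((hD _).2 h3)
      have e : p0 + u + (p - p0 - u) = p := by abel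
      rwa [e] at h4
    · refine ⟨d', ?_⟩
      have h4 := (D0.iff h F h2).1 ((hD _).2 h3)
      have e : p0 - u + (p - p0 + u) = p := by abel
      rwa [e] at h4
  obtain ⟨c, hp⟩ := hp
  refine ⟨c, fun q => ?_⟩
  have e : p + (q - p) = q := by abel
  have h3 := D0.iff h F hp (v := q - p)
  rw [e] at h3
  rw [← h3, hD]
  constructor
  · rintro (h4 | h4 | h4)
    · left; exact sub_eq_zero.1 h4
    · right; left; rw [← h4]; abel
    · right; right; rw [sub_eq_add_neg, ← h4]; abel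
  · rintro (rfl | rfl | rfl)
    · left; abel
    · right; left; abel
    · right; right; abel

/-- **the world (S)** -/
theorem toSW (hSC : SCe Om) : SW Om where
  w := W.w
  ne := W.noOne
  three := fun z hz => by
    obtain ⟨c0, c1, c2, h1, h2, h3, h4, h5⟩ := W.exists_cc hz
    exact ⟨c0, c1, c2, h1, h2, h3, h4, h5⟩
  cx := fun z hz x hx => by
    obtain ⟨u, hu, h1⟩ := W.cx hx hz
    rw [W.NI_eq hSC hz, mem_bot] at h1
    have hz2 := hz.z2 W.w
    have hu2 : u * u = 1 := by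
      rcases hu with rfl | rfl | hu | hu
      · rw [mul_one]
      · exact hz2
      · exact CC.sq hu
      · have h2 := CC.sq hu
        have h3 := CC.comm_z W.w hu
        have h4 : u * z = z * u := by
          have e : z * u * z = z * (z * u) := h3
          rw [mul_assoc] at e
          exact mul_left_cancel e
        calc u * u = (z * z) * (u * u) := by rw [hz2, one_mul]
          _ = z * (z * u) * u := by group
          _ = z * (u * z) * u := by rw [h4]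
          _ = z * u * (z * u) := by group
          _ = 1 := h2
    have h2 : x = u := by
      have : x = u⁻¹ := eq_inv_of_mul_eq_one_right h1
      rw [this]; exact inv_eq_of_mul_eq_one_right hu2
    rw [h2]; exact hu
  uniq := fun z K1 K2 a b F c c' p hp hp' => W.uniq hp hp' F.qa.z2
  line := fun z K1 K2 a b F => W.line hSC F
  four := fun z z1 z2 c1 c2 l1 l2 hne hc => W.four' l1 l2 hne hc
  tr := fun z c c' hc hc' => by
    obtain ⟨K1, K2, a, b, c0, c1, c2, F, S⟩ := W.s z (CC.inZ hc)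
    obtain ⟨g, v, hg, h01, h12, h20, -⟩ := S.ex
    have hgz := hg.comm
    have hgz' : g⁻¹ * z = z * g⁻¹ := by
      rw [inv_mul_eq_iff_eq_mul, ← mul_assoc, hgz, mul_inv_cancel_right]
    have kA : c = c' → ∃ g, g * z = z * g ∧ g * c * g⁻¹ = c' := fun e => ⟨1, by simp, by rw [e]; group⟩
    have kB : g * c * g⁻¹ = c' → ∃ g, g * z = z * g ∧ g * c * g⁻¹ = c' := fun e => ⟨g, hgz, e⟩
    have kC : g * c' * g⁻¹ = c → ∃ g, g * z = z * g ∧ g * c * g⁻¹ = c' := fun e => ⟨g⁻¹, hgz', by rw [← e]; group⟩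
    rw [S.cc] at hc hc'
    simp only [Set.mem_insert_iff, Set.mem_singleton_iff] at hc hc'
    rcases hc with rfl | rfl | rfl <;> rcases hc' with rfl | rfl | rfl
    · exact kA rfl
    · exact kB h01
    · exact kC h20
    · exact kC h01
    · exact kA rfl
    · exact kB h12
    · exact kB h20
    · exact kC h12
    · exact kA rfl

end SB

end

end Cfsg.Agent.Cit.Nil.RTwo
end

-- part: Cit/Nil/RTwo/ElevenC
section
/-!
# `r = 2`, `m = 1`: (11.5), the sign is a homomorphism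

If `EqEps` then the kernel `N` of the sign (9.0) contains all members, no element of `N` swaps two members over the same
involution, so `One` holds for an `N`-class of members in the group `N`; THEOREM N1 in the group `N`.

* `exists_ker` : the kernel `N`;
* `one_of_ker` : `One (cls (K.subgroupOf N))`;
* `fstar_subgroupOf` : `F*(N) = F*(G)` for `F*(G) ≤ N`;
* `concl_of_eqEps` : **(11.5)**.
-/

set_option autoImplicit false
set_option linter.style.haveILetI false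
set_option linter.unusedSectionVars false

namespace Cfsg.Agent.Cit.Nil.RTwo

open Subgroup Cfsg Cfsg.Agent.Cit

universe u

/-- the external inputs of (11.5) -/
structure CIn : Prop where
  /-- S0483 -/
  gw : OddHalf.RankOne.GW.{u}
  /-- S1173 -/
  h1173 : ∀ (G : Type u) [Group G] [Finite G], oddCore G = ⊥ → OneF.H1173 G
  /-- `Cit.OneF.h1171` -/
  h1171 : ∀ (G : Type u) [Group G] [Finite G], OneF.H1171 G
  /-- S0506 -/
  p0506 : NoHomo.S0506Stmt.{u}
  /-- S0507 -/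
  p0507 : ∀ (X : Type u) [Group X] [Finite X] [IsSimpleGroup X], Ident.St0507 X
  /-- S0523 -/
  p0523 : ∀ (X : Type u) [Group X] [Finite X] [IsSimpleGroup X], Ident.St0523 X
  /-- S1742 -/
  p1742 : ∀ (X : Type u) [Group X] [Finite X] [IsSimpleGroup X], Ident.St1742 X

section

variable {G : Type u} [Group G] [Finite G] {Om : Set (Subgroup G)} {K L N : Subgroup G}

/-- the kernel of the sign -/
theorem exists_ker (h : W2 Om) (hne : Om.Nonempty) (he : EqEps Om) : ∃ N : Subgroup G, N.Normal ∧ (∀ K ∈ Om, K ≤ N) ∧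
    ∀ K ∈ Om, ∀ n ∈ N, n * zz K = zz K * n → cj n K = K := by
  obtain ⟨f, hf⟩ := exists_eps h hne he
  refine ⟨f.ker, inferInstance, ?_, ?_⟩
  · intro K hK k hk
    rw [MonoidHom.mem_ker]
    have hm : Mem Om (zz K) K := ⟨hK, rfl⟩
    have h2 : IsPGroup 2 (zpowers k) := isPGroup_zpowers (h.isPGroup hK) hk
    rcases Int.units_eq_one_or (f k) with h3 | h3
    · exact h3
    · exfalso
      exact ((hf _ _ ⟨K, hm⟩ (hm.comm_z h hk) h2).1 h3) K hm (mem_normalizer_iff_cj.1 (le_normalizer hk))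
  · intro K hK n hn hc
    have hm : Mem Om (zz K) K := ⟨hK, rfl⟩
    rcases fx_or_sw h ⟨K, hm⟩ hc with h3 | h3
    · exact h3 K hm
    · exfalso
      obtain ⟨m, hm', h2⟩ := exists_odd_pow n
      have h4 := sw_pow_odd h ⟨K, hm⟩ hc h3 hm'
      have h5 : n ^ m * zz K = zz K * n ^ m := (show Commute n (zz K) from hc).pow_left m
      have h6 := (hf _ _ ⟨K, hm⟩ h5 h2).2 h4
      rw [map_pow, (MonoidHom.mem_ker).1 hn, one_pow] at h6
      exact absurd h6 (by decide)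

/-- `One` for an `N`-class -/
theorem one_of_ker (h : W2 Om) (hle : ∀ K ∈ Om, K ≤ N) (hfix : ∀ K ∈ Om, ∀ n ∈ N, n * zz K = zz K * n → cj n K = K)
    (hK : K ∈ Om) : One (cls (K.subgroupOf N)) := by
  have hyp0 := h.hyp.restr N
  have hK0 : K.subgroupOf N ∈ restr Om N := subgroupOf_mem_restr hK (hle K hK)
  have hyp := hyp0.of_cls hK0
  have hsub := hyp0.cls_subset hK0
  refine ⟨hyp, fun S hS A hA B hB => ?_⟩
  by_contra hne
  -- members are 2-groups
  have hp : ∀ A ∈ cls (K.subgroupOf N), IsPGroup 2 A := by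
    intro A hA
    have h1 : A.map N.subtype ∈ Om := hsub hA
    exact (h.isPGroup h1).of_equiv (A.equivMapOfInjective _ N.subtype_injective).symm
  have hAS : A ⊓ S = A := (syl_inf hS hA).eq_of_le inf_le_left le_rfl (hp A hA.1)
  have hBS : B ⊓ S = B := (syl_inf hS hB).eq_of_le inf_le_left le_rfl (hp B hB.1)
  have hA' : A.map N.subtype ∈ Om := hsub hA.1
  have hB' : B.map N.subtype ∈ Om := hsub hB.1
  have hz : zz (A.map N.subtype) = zz (B.map N.subtype) := by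
    refine h.one _ hA' _ hB' ?_
    rintro _ ⟨a, ha, rfl⟩ _ ⟨b, hb, rfl⟩
    have ha' : a ∈ A ⊓ S := by rw [hAS]; exact ha
    have hb' : b ∈ B ⊓ S := by rw [hBS]; exact hb
    have := hyp.comm hS hA hB hne ha' hb'
    exact congrArg Subtype.val this
  obtain ⟨a, ha⟩ := hA.1
  obtain ⟨b, hb⟩ := hB.1
  have hAB : cj (b * a⁻¹) A = B := by rw [ha, hb, cj_mul, cj_inv_cj]
  have hAB' : cj ((b * a⁻¹ : N) : G) (A.map N.subtype) = B.map N.subtype := by
    rw [← hAB]
    exact (cj_map N.subtype (b * a⁻¹) A).symm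
  have hc : ((b * a⁻¹ : N) : G) * zz (A.map N.subtype) = zz (A.map N.subtype) * ((b * a⁻¹ : N) : G) := by
    rw [← mul_inv_eq_iff_eq_mul, ← h.hyp.zz_cj hA', hAB', hz]
  have h1 := hfix _ hA' _ (b * a⁻¹ : N).2 hc
  rw [h1] at hAB'
  exact hne (Subgroup.map_injective N.subtype_injective hAB')

/-- `F*(N) = F*(G)` -/
theorem fstar_subgroupOf (hs : IsSimpleGroup ↥(generalizedFittingSubgroup G))
    (hna : ¬ IsMulCommutative ↥(generalizedFittingSubgroup G)) (hN : generalizedFittingSubgroup G ≤ N) :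
    generalizedFittingSubgroup ↥N = (generalizedFittingSubgroup G).subgroupOf N := by
  have hX : (generalizedFittingSubgroup G).Normal := Lib.GenFitting.genFitting_normal (G := G)
  have e : ↥((generalizedFittingSubgroup G).subgroupOf N) ≃* ↥(generalizedFittingSubgroup G) := subgroupOfEquivOfLe hN
  refine FixBN.BTheorem.genFitting_eq (hX.comap _) ?_ ?_ ?_
  · haveI : Nontrivial ↥((generalizedFittingSubgroup G).subgroupOf N) := e.toEquiv.nontrivial
    exact IsSimpleGroup.isSimpleGroup_of_surjective e.symm.toMonoidHom e.symm.surjective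
  · intro hc
    apply hna
    refine ⟨⟨fun a b => e.symm.injective ?_⟩⟩
    rw [map_mul, map_mul]
    exact hc.is_comm.comm _ _
  · rw [eq_bot_iff]
    intro x hx
    have h1 : (x : G) ∈ centralizer (generalizedFittingSubgroup G : Set G) := by
      rw [mem_centralizer_iff]
      intro y hy
      exact congrArg Subtype.val (mem_centralizer_iff.mp hx ⟨y, hN hy⟩ hy)
    rw [End.centralizer_fstar hs hna, mem_bot] at h1
    exact Subtype.ext h1

theorem ident_concl_congr {X Y : Type u} [Group X] [Group Y] (e : X ≃* Y) (h : Ident.Concl X) : AssemblyNil.Concl Y := by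
  rcases h with ⟨p, hp, hp2, h⟩ | ⟨⟨f⟩⟩ | ⟨⟨f⟩⟩
  · exact Or.inl ⟨p, hp, hp2, OddHalf.Known.isLieTypeChar_congr e h⟩
  · exact Or.inr (Or.inl ⟨e.symm.trans f⟩)
  · exact Or.inr (Or.inr (Or.inl ⟨e.symm.trans f⟩))

/-- **(11.5)** -/
theorem concl_of_eqEps (i : CIn.{u}) (hs : IsSimpleGroup ↥(generalizedFittingSubgroup G))
    (hna : ¬ IsMulCommutative ↥(generalizedFittingSubgroup G)) (h2 : 2 ∣ Nat.card ↥(generalizedFittingSubgroup G))
    (h : W2 Om) (hne : Om.Nonempty) (he : EqEps Om) : AssemblyNil.Concl ↥(generalizedFittingSubgroup G) := by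
  obtain ⟨N, hN, hle, hfix⟩ := exists_ker h hne he
  obtain ⟨K, hK⟩ := hne
  have hNb : N ≠ ⊥ := by
    rintro rfl
    have h1 := card_dvd_of_le (hle K hK)
    rw [h.card K hK, card_bot] at h1
    omega
  have hXN := End.fstar_le hs hna hN hNb
  have hF := fstar_subgroupOf hs hna hXN
  have e : ↥(generalizedFittingSubgroup ↥N) ≃* ↥(generalizedFittingSubgroup G) :=
    (MulEquiv.subgroupCongr hF).trans (subgroupOfEquivOfLe hXN)
  have hs' : IsSimpleGroup ↥(generalizedFittingSubgroup ↥N) := by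
    haveI : Nontrivial ↥(generalizedFittingSubgroup ↥N) := e.toEquiv.nontrivial
    exact IsSimpleGroup.isSimpleGroup_of_surjective e.symm.toMonoidHom e.symm.surjective
  have hna' : ¬ IsMulCommutative ↥(generalizedFittingSubgroup ↥N) := by
    intro hc
    apply hna
    refine ⟨⟨fun a b => e.symm.injective ?_⟩⟩
    rw [map_mul, map_mul]
    exact hc.is_comm.comm _ _
  have h2' : 2 ∣ Nat.card ↥(generalizedFittingSubgroup ↥N) := by
    rw [Nat.card_congr e.toEquiv]; exact h2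
  have hO : oddCore ↥N = ⊥ := by
    by_contra hb
    have h3 := End.fstar_le hs' hna' (Lib.Cores.pPrimeCore_normal 2 (G := ↥N)) hb
    have h4 := h2'.trans (card_dvd_of_le h3)
    have h5 := Lib.Cores.pPrimeCore_coprime (G := ↥N) 2
    have h6 := Nat.dvd_gcd h4 (dvd_refl 2)
    rw [h5] at h6
    omega
  have h0483 : Ident.St0483 ↥(generalizedFittingSubgroup ↥N) := by
    intro S n hn2 hS
    haveI : Group.IsPerfect ↥(generalizedFittingSubgroup ↥N) := ⟨End.commutator_eq_top hs' hna'⟩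
    exact i.gw _ S n hn2 hS
  have hone := one_of_ker h hle hfix hK
  have hnil : NilOm (cls (K.subgroupOf N)) := by
    rintro A hA Q hQ
    have h1 : IsPGroup 2 A := by
      have h3 : A.map N.subtype ∈ Om := (h.hyp.restr N).cls_subset (subgroupOf_mem_restr hK (hle K hK)) hA
      exact (h.isPGroup h3).of_equiv (A.equivMapOfInjective _ N.subtype_injective).symm
    have h4 := hQ.eq_of_le hQ.1 le_rfl h1
    rw [h4]
    exact le_sup_right
  haveI := hs'
  exact ident_concl_congr e (End.main hs' hna' h2' (i.h1173 _ hO) (i.h1171 _) i.p0506 h0483 (i.p0507 _) (i.p0523 _)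
    (i.p1742 _) hone ⟨_, self_mem_cls _⟩ hnil)

end

end Cfsg.Agent.Cit.Nil.RTwo
end

-- part: Cit/Nil/RTwo/Leaf
section
/-!
# `r = 2`, `m = 1`: `LeafR2One`

* `u10_of_U` : (U) is a world of section 10;
* `leafR2One` : **`LeafR2One`** from the external inputs `LIn` (S1169, Bender, S1175, S1173) and `CIn` (S0483, S1173, h1171,
  S0506, S0507, S0523, S1742).
-/

set_option autoImplicit false
set_option linter.style.haveILetI false
set_option linter.unusedSectionVars false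

namespace Cfsg.Agent.Cit.Nil.RTwo

open Subgroup Cfsg Cfsg.Agent.Cit

universe u

/-- (U) is a world of section 10 -/
theorem u10_of_U {G : Type*} [Group G] [Finite G] {Om : Set (Subgroup G)} (h : W2 Om) (hn : NoOne Om) (hr : Rot Om)
    (hUU : ∀ z, InZ Om z → UU Om z) : U10 Om := by
  refine U10.of h (fun z h1 => hn z 1 h1 rfl) ?_
  intro z K1 K2 a b F _
  obtain ⟨g, v, ht, hv⟩ := exists_tra h hr F
  exact ⟨v, fun e => hv (by rw [e]; rfl), hUU z F.k1.inZ K1 K2 a b g v F ht⟩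

/-- **the leaf `r = 2`, `m = 1`** -/
theorem leafR2One (i : LIn.{u}) (j : CIn.{u}) : LeafR2One.{u} := by
  intro G _ _ K w hf h2 hm
  have hr := fun h => rot_cls (K := K) h w.c3
  refine main_of i w hf h2 hm ?_ ?_ ?_
  · intro h he
    exact concl_of_eqEps j w.simple w.na w.even h ⟨K, self_mem_cls K⟩ he
  · intro h hF hn hUU z K1 K2 a b F hall
    have U := u10_of_U h hn (hr h) hUU
    have hz := F.k1.inZ
    have hs : SLSub z := U10.sl i.bend i.crit U hF (hUU z hz) F (hall (1, 0)) (Or.inl ⟨by decide, rfl⟩)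
    exact hs.cl h hz (hf z (hz.orderOf h))
  · intro W _ _ hSC
    exact W.toSW hSC

end Cfsg.Agent.Cit.Nil.RTwo
end

-- part: Cit/Nil/RTwo/Three
section
/-!
# `r = 2`, `m = 1`, the form for the frame: no hypothesis `¬ Cl G`

* `c3e_of_rot` : elementwise (C3) from `Rot`;
* `exists_three` : weight one ==> a member with `IndDefs.Three`;
* `main_three` : **a member with `Three`, or `EqEps Om`, or `SB Om`** (`SB Om` ==> `SW Om`: `main_three'`);
* `not_eqEps` : `EqEps Om` is impossible if the members generate `G`;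
* `main_three_top`.
-/

set_option autoImplicit false
set_option linter.style.haveILetI false
set_option linter.unusedSectionVars false

namespace Cfsg.Agent.Cit.Nil.RTwo

open Subgroup Cfsg Cfsg.Agent.Cit

universe u

variable {G : Type u} [Group G] [Finite G] {Om : Set (Subgroup G)} {K K1 K2 L M X : Subgroup G} {g g' t x y z s d k c : G}
  {a b : Fin 3 → G} {v : Fin 3 × Fin 3}

/-- elementwise (C3) -/
theorem c3e_of_rot (h : W2 Om) (hr : Rot Om) : C3E Om := by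
  intro z K hK y hy hyy
  obtain ⟨c, hcK, hc3, hq⟩ := hr K hK.1
  have hcK' := mem_normalizer_iff_cj.1 hcK
  have hcz := hK.of_cj h hcK'
  obtain ⟨x, Q⟩ := h.exists_q3 hK
  obtain ⟨σ, hσ, hσ0⟩ := exists_rot Q hcz hcK' hc3 hq
  obtain ⟨i, hi⟩ := Q.of_sq hy hyy
  have e3 : ∀ i, c * (z * x i) * c⁻¹ = z * (c * x i * c⁻¹) := by
    intro i
    calc c * (z * x i) * c⁻¹ = (c * z) * x i * c⁻¹ := by group
      _ = (z * c) * x i * c⁻¹ := by rw [hcz]
      _ = _ := by group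
  have h5 : c * y * c⁻¹ = x (σ i) ∨ c * y * c⁻¹ = z * x (σ i) := by
    rcases hi with rfl | rfl
    · exact hσ i
    · rw [e3]
      rcases hσ i with h6 | h6
      · right; rw [h6]
      · left; rw [h6, Q.zzx]
  have key : ∀ w, (w = x i ∨ w = z * x i) → c * y * c⁻¹ = w → False := by
    intro w hw hcy
    rw [hcy] at h5
    apply hσ0 i
    rcases hw with rfl | rfl <;> rcases h5 with h5 | h5
    · exact (Q.inj (Or.inl h5)).symm
    · exact (Q.inj (Or.inr h5)).symm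
    · exact Q.inj (Or.inr h5.symm)
    · exact (Q.inj (Or.inl (mul_left_cancel h5))).symm
  refine ⟨c, hcz, hcK', fun h6 => key y hi h6, fun h6 => key (z * y) ?_ h6⟩
  rcases hi with rfl | rfl
  · exact Or.inr rfl
  · left; exact Q.zzx _

theorem three_add : ∀ v : Fin 3, Equiv.addRight v * Equiv.addRight v * Equiv.addRight v = 1 := by decide

theorem addRight_ne_one : ∀ v : Fin 3, v ≠ 0 → Equiv.addRight v ≠ 1 := by decide

/-- weight one gives `Three` -/
theorem exists_three (h : W2 Om) (hF : CF Om) (F : Frame Om z K1 K2 a b) (hd : Tra z a b d v) (hv : WOne v)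
    (hX : ∀ x ∈ CX Om z, d * x = x * d) : ∃ K ∈ Om, IndDefs.Three K := by
  have key : ∀ {K1 K2 : Subgroup G} {a b : Fin 3 → G} {v : Fin 3 × Fin 3}, Frame Om z K1 K2 a b → Tra z a b d v →
      v.1 ≠ 0 → v.2 = 0 → ∃ K ∈ Om, IndDefs.Three K := by
    intro K1 K2 a b v F hd h1 h2
    have e : Equiv.addRight (0 : Fin 3) = 1 := by ext i; simp
    have hb := hd.b
    rw [h2, e] at hb
    exact Wt.three (K := K1) (K' := K2) (x := a) (g := d) (σ := Equiv.addRight v.1)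
      ⟨F.k1, F.k2, F.ne, F.qa, hd.a, three_add _, addRight_ne_one _ h1, hd.comm, hX,
        hb.inner F.qb hd.comm⟩ h hF
  rcases hv with ⟨h1, h2⟩ | ⟨h1, h2⟩
  · exact key F hd h1 h2
  · exact key F.swap hd.swap h2 h1

/-- **the assembly for the frame** -/
theorem main_three (i : LIn.{u}) (h : W2 Om) (hc : OneCls Om) (hr : Rot Om) (hF : CFA G) (hne : Om.Nonempty)
    (f : ROne.FSimp X) (h2 : 2 ∣ Nat.card X) : (∃ K ∈ Om, IndDefs.Three K) ∨ EqEps Om ∨ (SB Om ∧ SCe Om) := by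
  by_cases h3 : ∃ K ∈ Om, IndDefs.Three K
  · exact Or.inl h3
  right
  have hcls : ∀ z t, InZ Om z → InZ Om t → ∃ g, g * z * g⁻¹ = t := fun z t hz ht => hc.conj h hz ht
  have c3 := c3e_of_rot h hr
  have cf := hF.cf h
  haveI := f.sim
  have gold : Cit.ROne.Gold ↥X := fun S A h1 h2 h3 => i.gold _ S A h1 h2 h3
  have h1173 : OneF.H1173 G := i.h1173 G (oddCore_eq_bot f h2)
  obtain ⟨hab, hSC⟩ := closer h hc c3 hr hne f gold (i.bend _) h1173 cf h2
  by_cases hT : TO Om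
  · exact (t_world_three h hT cf hne (fun K hK h4 => h3 ⟨K, hK, h4⟩) (fun z hz => h.mem_of_fsimp f h2 hz) hab).elim
  unfold TO at hT
  push Not at hT
  obtain ⟨z, t, hz, ht, hi, hne'⟩ := hT
  have hti : TI Om z t := ⟨hz, ht, hne'.symm, (hi.comm_z hz h).symm, hi⟩
  -- no weight one vectors over a central label
  have hno : ∀ z K1 K2 a b c, Frame Om z K1 K2 a b → c ∈ CC Om z → (∀ x ∈ CX Om z, x * c = c * x) →
      ∀ v ∈ D0 Om z a b, ¬ WOne v := by
    intro z K1 K2 a b c F hc hcX v hv hw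
    apply h3
    obtain ⟨p, hp⟩ := CC.exists_dir h F hc
    have hq := (D0.iff h F hp).1 hv
    obtain ⟨d, hd, -, -, hX⟩ := DC.exists_tra h F hp hq
    rw [add_sub_cancel_left] at hd
    exact exists_three h cf F hd hw (fun x hx => hX x hx (hcX x hx))
  by_cases hA : ∃ z, (1 : G) ∈ CC Om z
  · left
    obtain ⟨y, hy⟩ := hA
    have hA1 : ∀ t, InZ Om t → (1 : G) ∈ CC Om t := by
      intro t ht
      obtain ⟨k, rfl⟩ := hcls y t (CC.inZ hy) ht
      have h2 := (CC.cj_iff h k).2 hy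
      rwa [mul_one, mul_inv_cancel] at h2
    have hA : ∀ t, InZ Om t → CC Om t = {1} := fun t ht => CC.eq_singleton h (hA1 t ht)
    have hD : ∀ z K1 K2 a b, Frame Om z K1 K2 a b → ∃ v, v ≠ 0 ∧ v ∈ D0 Om z a b := by
      intro z K1 K2 a b F
      obtain ⟨g, v, ht, hv⟩ := exists_tra h hr F
      refine ⟨v, fun e => hv (by rw [e]; rfl), ?_⟩
      obtain ⟨p, hp⟩ := CC.exists_dir h F (hA1 z F.k1.inZ)
      have h2 := ht.dc h F hp
      rw [mul_one, mul_inv_cancel] at h2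
      exact (D0.iff h F hp).2 h2
    exact (AW.of h hcls hA hD (fun z K1 K2 a b F => hno z K1 K2 a b 1 F (hA1 z F.k1.inZ)
      (fun x _ => by rw [mul_one, one_mul]))).eqEps hSC hz
  have hn : NoOne Om := by
    intro y c hc e
    exact hA ⟨y, e ▸ hc⟩
  rcases dichotomy h cf hcls ⟨z, t, hti⟩ with hUU | hSB
  · exfalso
    have U := u10_of_U h hn hr hUU
    refine case_U h cf hn hcls hti hSC hUU fun z K1 K2 a b F hall => h3 ?_
    have hO := U.oy i.bend i.crit hF z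
    obtain ⟨d, hd, -, hX⟩ := exists_tra_cent (v := (1, 0)) h cf F
      (fun g v ht => hUU z F.k1.inZ K1 K2 a b g v F ht) (U.ne z) hO (hall (1, 0))
    exact exists_three h cf F hd (Or.inl ⟨by decide, rfl⟩) hX
  · exact Or.inr ⟨hSB, hSC⟩

/-- `EqEps` is impossible if the members generate `G` -/
theorem not_eqEps (h : W2 Om) (hc : OneCls Om) (hne : Om.Nonempty) (htop : sSup Om = ⊤) : ¬ EqEps Om := by
  intro he
  obtain ⟨N, -, hle, hfix⟩ := exists_ker h hne he
  have hN : N = ⊤ := by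
    rw [eq_top_iff, ← htop]
    exact sSup_le hle
  obtain ⟨K, hK⟩ := hne
  have hm : Mem Om (zz K) K := ⟨hK, rfl⟩
  obtain ⟨L, hL, hne, -⟩ := hm.other h
  obtain ⟨g, hgz, hg⟩ := hc.exists h hm hL
  exact hne ((hfix K hK g (by rw [hN]; exact mem_top g) hgz).symm.trans hg)

/-- **the assembly for the frame, `G = ⟨Om⟩`** -/
theorem main_three_top (i : LIn.{u}) (h : W2 Om) (hc : OneCls Om) (hr : Rot Om) (hF : CFA G) (hne : Om.Nonempty)
    (f : ROne.FSimp X) (h2 : 2 ∣ Nat.card X) (htop : sSup Om = ⊤) : (∃ K ∈ Om, IndDefs.Three K) ∨ SW Om := by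
  rcases main_three i h hc hr hF hne f h2 with h1 | h1 | ⟨h1, h3⟩
  · exact Or.inl h1
  · exact absurd h1 (not_eqEps h hc hne htop)
  · exact Or.inr (h1.toSW h3)

end Cfsg.Agent.Cit.Nil.RTwo
end

private theorem dce_cf30bfbebc89 : _root_.True := by
  try have : _root_.True := by simp only [_root_.Cfsg.Agent.Cit.Nil.RTwo.CE.eq_1]
  try have : _root_.True := by simp only [_root_.Cfsg.Agent.Cit.Nil.RTwo.conjX.congr_simp]
  exact _root_.True.intro
end

-- part: Cit/Nil/Two/Uniq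
section
set_option linter.all false
open scoped Cfsg.Agent.FastGrp

/-!
# S1309 (n3): the centre of a Sylow 2-subgroup of `F*(G)` if `|Om(S)| = 1`

* `U1 T` : the group `T` has at most one central involution; `U1` for groups with a cyclic subgroup of index 2 (not
  commutative), wreathed groups, `TG2`;
* `UZ X` : the Sylow 2-subgroups `T` of `X` have at most one central involution;
* `uz_of_one` : `One Om` (members 2-nilpotent) implies `UZ F*(G)`;
* `uz_of_eqEps` : `EqEps Om` (`r = 2`, `m = 1`) implies `UZ F*(G)`.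
-/

set_option autoImplicit false
set_option linter.style.haveILetI false
set_option linter.unusedSectionVars false

namespace Cfsg.Agent.Cit.Nil.Two

open Subgroup Cfsg Cfsg.Agent.Cit Cfsg.Agent.Cit.Nil.RTwo

universe u

/-- at most one central involution -/
def U1 (T : Type*) [Group T] : Prop := ∀ s t : T, s * s = 1 → s ≠ 1 → t * t = 1 → t ≠ 1 → (∀ x, s * x = x * s) →
  (∀ x, t * x = x * t) → s = t

section u1

variable {T : Type*} [Group T]

/-- a cyclic group has at most one involution -/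
theorem cyc_uniq [Finite T] {x s t : T} (hs : s ∈ zpowers x) (ht : t ∈ zpowers x) (s2 : s * s = 1) (s1 : s ≠ 1)
    (t2 : t * t = 1) (t1 : t ≠ 1) : s = t := by
  obtain ⟨a, rfl⟩ := mem_zpowers_iff.1 hs
  obtain ⟨b, rfl⟩ := mem_zpowers_iff.1 ht
  have key : ∀ a : ℤ, x ^ a * x ^ a = 1 → x ^ a ≠ 1 → ∃ k : ℤ, (orderOf x : ℤ) * (2 * k + 1) = 2 * a := by
    intro a h1 h2
    rw [← zpow_add, ← orderOf_dvd_iff_zpow_eq_one] at h1
    rw [ne_eq, ← orderOf_dvd_iff_zpow_eq_one] at h2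
    obtain ⟨c, hc⟩ := h1
    rcases Int.even_or_odd' c with ⟨k, rfl | rfl⟩
    · exfalso
      apply h2
      exact ⟨k, by linarith⟩
    · exact ⟨k, by linarith⟩
  obtain ⟨k, hk⟩ := key a s2 s1
  obtain ⟨l, hl⟩ := key b t2 t1
  have h1 : x ^ (a - b) = 1 := by
    rw [← orderOf_dvd_iff_zpow_eq_one]
    exact ⟨k - l, by linarith⟩
  rw [zpow_sub, mul_inv_eq_one] at h1
  exact h1

/-- a cyclic subgroup of index 2 -/
theorem u1_of_index [Finite T] {x : T} (hi : (zpowers x).index = 2) {y : T} (hy : y * x ≠ x * y) : U1 T := by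
  have key : ∀ s : T, (∀ x, s * x = x * s) → s ∈ zpowers x := by
    intro s hs
    by_contra hn
    have hy' : y ∉ zpowers x := by
      intro h1
      obtain ⟨k, rfl⟩ := mem_zpowers_iff.1 h1
      exact hy ((Commute.refl x).zpow_left k)
    have h1 : y * s ∈ zpowers x := by
      rw [mul_mem_iff_of_index_two hi]
      exact ⟨fun h => absurd h hy', fun h => absurd h hn⟩
    obtain ⟨k, hk⟩ := mem_zpowers_iff.1 h1
    apply hy
    have h2 : y * s * x = x * (y * s) := by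
      rw [← hk]
      exact ((Commute.refl x).zpow_left k)
    have h3 : y * x * s = x * y * s := by
      calc y * x * s = y * (x * s) := by group
        _ = y * (s * x) := by rw [hs x]
        _ = y * s * x := by group
        _ = x * (y * s) := h2
        _ = _ := by group
    exact mul_right_cancel h3
  intro s t s2 s1 t2 t1 hs ht
  exact cyc_uniq (key s hs) (key t ht) s2 s1 t2 t1

theorem index_of_card [Finite T] {H : Subgroup T} {m : ℕ} (h : Nat.card T = 2 * m) (hH : Nat.card H = m) (hm : 0 < m) :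
    H.index = 2 := by
  have h1 := H.card_mul_index
  rw [h, hH, mul_comm] at h1
  exact Nat.eq_of_mul_eq_mul_right hm h1

theorem u1_quasi [Finite T] (h : Cfsg.IsQuasiDihedral T) : U1 T := by
  obtain ⟨n, hn, hc, x, y, hx, -, hxy⟩ := h
  refine u1_of_index (x := x) (y := y) (index_of_card (m := 2 ^ n) (by rw [hc, pow_succ]; ring)
    (by rw [Nat.card_zpowers, hx]) (by positivity)) ?_
  intro e
  have h1 : y * x * y⁻¹ = x := by rw [e, mul_inv_cancel_right]
  rw [h1] at hxy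
  have h2 : x ^ (2 ^ (n - 1) - 2) = 1 := by
    have h3 : 2 ^ (n - 1) - 1 = (2 ^ (n - 1) - 2) + 1 := by
      have : 4 ≤ 2 ^ (n - 1) := by
        calc 4 = 2 ^ 2 := by norm_num
          _ ≤ 2 ^ (n - 1) := Nat.pow_le_pow_right (by norm_num) (by omega)
      omega
    rw [h3, pow_succ] at hxy
    exact (mul_eq_right.1 hxy.symm)
  have h3 := orderOf_dvd_of_pow_eq_one h2
  rw [hx] at h3
  have h4 : 4 ≤ 2 ^ (n - 1) := by
    calc 4 = 2 ^ 2 := by norm_num
      _ ≤ 2 ^ (n - 1) := Nat.pow_le_pow_right (by norm_num) (by omega)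
  have h5 := Nat.le_of_dvd (by omega) h3
  have h6 : 2 ^ n = 2 * 2 ^ (n - 1) := by
    rw [← pow_succ']
    congr 1
    omega
  omega

theorem u1_wreathed [Finite T] (h : Cfsg.IsWreathed T) : U1 T := by
  obtain ⟨n, hn, hc, x, y, z, hx, hxy, hd, hz, hzx⟩ := h
  have hz2 : z * z = 1 := by rw [← pow_two, ← hz, pow_orderOf_eq_one]
  have hzi : z⁻¹ = z := inv_eq_of_mul_eq_one_right hz2
  have hy : orderOf y = 2 ^ n := by
    rw [← hzx, ← hx]
    exact (MulAut.conj z).orderOf_eq x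
  have hx1 : x ≠ 1 := by
    intro e
    rw [e, orderOf_one] at hx
    have : 1 < 2 ^ n := Nat.one_lt_two_pow (by omega)
    omega
  have hxney : x ≠ y := by
    intro e
    apply hx1
    have : x ∈ zpowers x ⊓ zpowers y := ⟨mem_zpowers x, by rw [← e]; exact mem_zpowers x⟩
    rwa [hd, mem_bot] at this
  have hzy : z * y * z⁻¹ = x := by
    rw [← hzx, hzi]
    calc z * (z * x * z) * z = (z * z) * x * (z * z) := by group
      _ = x := by rw [hz2, one_mul, mul_one]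
  -- the subgroup `A = ⟨x, y⟩`
  have hcomm : ∀ i j : ℤ, x ^ i * y ^ j = y ^ j * x ^ i := fun i j => ((show Commute x y from hxy).zpow_zpow i j).eq
  let A : Subgroup T :=
    { carrier := {g | ∃ i j : ℤ, g = x ^ i * y ^ j}
      one_mem' := ⟨0, 0, by simp⟩
      mul_mem' := by
        rintro _ _ ⟨i, j, rfl⟩ ⟨k, l, rfl⟩
        refine ⟨i + k, j + l, ?_⟩
        rw [zpow_add, zpow_add]
        calc x ^ i * y ^ j * (x ^ k * y ^ l) = x ^ i * (y ^ j * x ^ k) * y ^ l := by group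
          _ = x ^ i * (x ^ k * y ^ j) * y ^ l := by rw [hcomm]
          _ = _ := by group
      inv_mem' := by
        rintro _ ⟨i, j, rfl⟩
        refine ⟨-i, -j, ?_⟩
        rw [mul_inv_rev, ← zpow_neg, ← zpow_neg, hcomm] }
  have hA : ∀ g, g ∈ A ↔ ∃ i j : ℤ, g = x ^ i * y ^ j := fun g => Iff.rfl
  have hAx : zpowers x ≤ A := by
    rw [zpowers_le]; exact ⟨1, 0, by simp⟩
  have hAcard : Nat.card A = 2 ^ (2 * n) := by
    have e : (zpowers x × zpowers y) ≃ A := by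
      refine Equiv.ofBijective (fun p => ⟨(p.1 : T) * (p.2 : T), ?_⟩) ⟨?_, ?_⟩
      · obtain ⟨i, hi⟩ := mem_zpowers_iff.1 p.1.2
        obtain ⟨j, hj⟩ := mem_zpowers_iff.1 p.2.2
        exact ⟨i, j, by rw [hi, hj]⟩
      · rintro ⟨⟨a, ha⟩, ⟨b, hb⟩⟩ ⟨⟨a', ha'⟩, ⟨b', hb'⟩⟩ e
        have e1 : a * b = a' * b' := congrArg Subtype.val e
        have e2 : a'⁻¹ * a = b' * b⁻¹ := by
          rw [inv_mul_eq_iff_eq_mul, ← mul_assoc, ← e1, mul_inv_cancel_right]
        have e3 : a'⁻¹ * a ∈ zpowers x ⊓ zpowers y :=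
          mem_inf.2 ⟨(zpowers x).mul_mem ((zpowers x).inv_mem ha') ha, by
            rw [e2]; exact (zpowers y).mul_mem hb' ((zpowers y).inv_mem hb)⟩
        rw [hd, mem_bot] at e3
        have e4 : a = a' := (inv_mul_eq_one.1 e3).symm
        subst e4
        have e5 : b = b' := mul_left_cancel e1
        subst e5
        rfl
      · rintro ⟨g, i, j, rfl⟩
        exact ⟨⟨⟨x ^ i, zpow_mem (mem_zpowers x) i⟩, ⟨y ^ j, zpow_mem (mem_zpowers y) j⟩⟩, rfl⟩
    rw [← Nat.card_congr e, Nat.card_prod, Nat.card_zpowers, Nat.card_zpowers, hx, hy, ← pow_add, two_mul]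
  have hi : A.index = 2 := index_of_card (m := 2 ^ (2 * n)) (by rw [hc, pow_succ]; ring) hAcard (by positivity)
  have hAc : ∀ g ∈ A, g * x = x * g := by
    rintro _ ⟨i, j, rfl⟩
    have h1 := hcomm 1 j
    rw [zpow_one] at h1
    calc x ^ i * y ^ j * x = x ^ i * (y ^ j * x) := by group
      _ = x ^ i * (x * y ^ j) := by rw [h1]
      _ = x * (x ^ i * y ^ j) := by group
  have hzA : z ∉ A := by
    intro h1
    apply hxney
    rw [← hzx, hAc z h1, mul_inv_cancel_right]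
  have key : ∀ s : T, (∀ x, s * x = x * s) → s ∈ zpowers (x * y) := by
    intro s hs
    have hsA : s ∈ A := by
      by_contra hn
      have h1 : z * s ∈ A := by
        rw [mul_mem_iff_of_index_two hi]
        exact ⟨fun h => absurd h hzA, fun h => absurd h hn⟩
      have h2 := hAc _ h1
      apply hxney
      have h3 : z * x * s = x * z * s := by
        calc z * x * s = z * (x * s) := by group
          _ = z * (s * x) := by rw [hs x]
          _ = z * s * x := by group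
          _ = x * (z * s) := h2
          _ = _ := by group
      have h4 := mul_right_cancel h3
      rw [← hzx, h4, mul_inv_cancel_right]
    obtain ⟨i, j, rfl⟩ := hsA
    have h1 : z * (x ^ i * y ^ j) * z⁻¹ = x ^ i * y ^ j := by rw [← hs z, mul_inv_cancel_right]
    have h2 : z * (x ^ i * y ^ j) * z⁻¹ = (z * x * z⁻¹) ^ i * (z * y * z⁻¹) ^ j := by
      rw [conj_zpow, conj_zpow]; group
    rw [h2, hzx, hzy, ← hcomm] at h1
    have h3 : x ^ (j - i) = y ^ (j - i) := by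
      rw [zpow_sub, zpow_sub, mul_inv_eq_iff_eq_mul]
      have h4 : x ^ j = x ^ i * y ^ j * (y ^ i)⁻¹ := by rw [← h1]; group
      rw [h4]
      have h5 := hcomm i (j - i)
      calc x ^ i * y ^ j * (y ^ i)⁻¹ = x ^ i * y ^ (j - i) := by rw [zpow_sub]; group
        _ = y ^ (j - i) * x ^ i := h5
        _ = _ := by rw [zpow_sub]
    have h4 : x ^ (j - i) = 1 := by
      have : x ^ (j - i) ∈ zpowers x ⊓ zpowers y :=
        ⟨zpow_mem (mem_zpowers x) _, by rw [h3]; exact zpow_mem (mem_zpowers y) _⟩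
      rwa [hd, mem_bot] at this
    have h5 : y ^ j = y ^ i := by
      rw [h3, zpow_sub, mul_inv_eq_one] at h4
      exact h4
    rw [h5, ← (show Commute x y from hxy).mul_zpow]
    exact zpow_mem (mem_zpowers _) _
  intro s t s2 s1 t2 t1 hs ht
  exact cyc_uniq (key s hs) (key t ht) s2 s1 t2 t1

theorem u1_congr {T' : Type*} [Group T'] (e : T ≃* T') (h : U1 T) : U1 T' := by
  intro s t s2 s1 t2 t1 hs ht
  apply e.symm.injective
  refine h _ _ ?_ ?_ ?_ ?_ ?_ ?_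
  · rw [← map_mul, s2, map_one]
  · intro h1; exact s1 (e.symm.injective (by rw [h1, map_one]))
  · rw [← map_mul, t2, map_one]
  · intro h1; exact t1 (e.symm.injective (by rw [h1, map_one]))
  · intro x
    apply e.injective
    rw [map_mul, map_mul, e.apply_symm_apply]
    exact hs _
  · intro x
    apply e.injective
    rw [map_mul, map_mul, e.apply_symm_apply]
    exact ht _

theorem u1_dihedral {m : ℕ} (hm : 3 ≤ m) : U1 (DihedralGroup m) := by
  haveI : NeZero m := ⟨by omega⟩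
  refine u1_of_index (x := DihedralGroup.r 1) (y := DihedralGroup.sr 0)
    (index_of_card (m := m) DihedralGroup.nat_card (by rw [Nat.card_zpowers, DihedralGroup.orderOf_r_one]) (by omega)) ?_
  intro e
  rw [DihedralGroup.sr_mul_r, DihedralGroup.r_mul_sr] at e
  have h1 : (0 + 1 : ZMod m) = 0 - 1 := DihedralGroup.sr.inj e
  have h2 : ((2 : ℕ) : ZMod m) = 0 := by
    push_cast
    linear_combination h1
  rw [ZMod.natCast_eq_zero_iff] at h2
  have := Nat.le_of_dvd (by norm_num) h2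
  omega

end u1

section tg2

variable {G : Type*} [Group G]

theorem u1_tg2 {S : Subgroup G} {m : ℕ} {v : ZMod (2 ^ m) → ZMod (2 ^ m) → G} {r s : G}
    (h : SylowG2.Coord.TG2 S m v r s) : U1 ↥S := by
  have hm := h.hm
  have h4 : 4 ≤ 2 ^ m := by
    calc 4 = 2 ^ 2 := by norm_num
      _ ≤ 2 ^ m := Nat.pow_le_pow_right (by norm_num) hm
  have inj : ∀ i j k l, v i j = v k l → i = k ∧ j = l := by
    intro i j k l e
    have h1 : v i j * v (-k) (-l) = 1 := by
      rw [e, h.v_mul, add_neg_cancel, add_neg_cancel, h.v_zero]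
    rw [h.v_mul] at h1
    obtain ⟨h2, h3⟩ := h.v_inj _ _ h1
    exact ⟨by linear_combination h2, by linear_combination h3⟩
  have n1 : (1 : ZMod (2 ^ m)) ≠ 0 := by
    intro e
    have h1 : ((1 : ℕ) : ZMod (2 ^ m)) = 0 := by exact_mod_cast e
    rw [ZMod.natCast_eq_zero_iff] at h1
    have := Nat.le_of_dvd (by norm_num) h1
    omega
  have n2 : (2 : ZMod (2 ^ m)) ≠ 0 := by
    intro e
    have h1 : ((2 : ℕ) : ZMod (2 ^ m)) = 0 := by exact_mod_cast e
    rw [ZMod.natCast_eq_zero_iff] at h1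
    have := Nat.le_of_dvd (by norm_num) h1
    omega
  -- central elements of order 2
  have key : ∀ g : G, g ∈ S → g ≠ 1 → g * g = 1 → (∀ x ∈ S, g * x = x * g) → ∃ i : ZMod (2 ^ m), i ≠ 0 ∧ i + i = 0 ∧
      g = v i i := by
    intro g hg g1 g2 hc
    have hv := hc _ (h.v_mem 1 0)
    obtain ⟨i, j, h1⟩ := h.cases g hg
    rcases h1 with rfl | rfl | rfl | rfl
    · have e1 := hc r h.r_mem
      rw [h.r_v] at e1
      obtain ⟨e2, -⟩ := inj _ _ _ _ (mul_right_cancel e1)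
      subst e2
      have e3 := g2
      rw [h.v_mul] at e3
      obtain ⟨e4, -⟩ := h.v_inj _ _ e3
      refine ⟨i, ?_, e4, rfl⟩
      rintro rfl
      exact g1 h.v_zero
    · exfalso
      rw [mul_assoc, h.r_v, ← mul_assoc, ← mul_assoc, h.v_mul, h.v_mul] at hv
      obtain ⟨e1, -⟩ := inj _ _ _ _ (mul_right_cancel hv)
      exact n1 (by linear_combination -e1)
    · exfalso
      rw [mul_assoc, h.s_v, ← mul_assoc, ← mul_assoc, h.v_mul, h.v_mul] at hv
      obtain ⟨e1, -⟩ := inj _ _ _ _ (mul_right_cancel hv)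
      exact n2 (by linear_combination -e1)
    · exfalso
      have e0 : v i j * (r * s) * v 1 0 = v i j * v (-0) (-1) * (r * s) := by
        calc v i j * (r * s) * v 1 0 = v i j * r * (s * v 1 0) := by group
          _ = v i j * r * (v (-1) (-0) * s) := by rw [h.s_v]
          _ = v i j * (r * v (-1) (-0)) * s := by group
          _ = v i j * (v (-0) (-1) * r) * s := by rw [h.r_v]
          _ = _ := by group
      rw [e0, ← mul_assoc (v 1 0), h.v_mul, h.v_mul] at hv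
      obtain ⟨e1, -⟩ := inj _ _ _ _ (mul_right_cancel hv)
      exact n1 (by linear_combination -e1)
  have uniq : ∀ i j : ZMod (2 ^ m), i ≠ 0 → i + i = 0 → j ≠ 0 → j + j = 0 → i = j := by
    have hne : NeZero (2 ^ m) := ⟨by positivity⟩
    have key2 : ∀ i : ZMod (2 ^ m), i ≠ 0 → i + i = 0 → i.val = 2 ^ (m - 1) := by
      intro i hi hii
      have h1 : ((i.val + i.val : ℕ) : ZMod (2 ^ m)) = 0 := by
        push_cast
        rw [ZMod.natCast_zmod_val]
        exact hii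
      rw [ZMod.natCast_eq_zero_iff] at h1
      have h2 : i.val ≠ 0 := by
        intro e; exact hi ((ZMod.val_eq_zero i).1 e)
      have h3 := ZMod.val_lt i
      obtain ⟨c, hc⟩ := h1
      have h4 : 2 ^ m = 2 * 2 ^ (m - 1) := by
        rw [← pow_succ']; congr 1; omega
      have hc1 : c = 1 := by
        have h5 : 0 < c := by
          rcases Nat.eq_zero_or_pos c with h6 | h6
          · rw [h6, mul_zero] at hc; omega
          · exact h6
        have h7 : c < 2 := by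
          by_contra hcc
          push Not at hcc
          have := Nat.mul_le_mul_left (2 ^ m) hcc
          omega
        omega
      rw [hc1, mul_one] at hc
      omega
    intro i j hi hii hj hjj
    apply ZMod.val_injective
    rw [key2 i hi hii, key2 j hj hjj]
  intro a b a2 a1 b2 b1 ha hb
  obtain ⟨i, hi, hii, hiv⟩ := key a a.2 (fun e => a1 (Subtype.ext e)) (congrArg Subtype.val a2) fun x hx =>
    congrArg Subtype.val (ha ⟨x, hx⟩)
  obtain ⟨j, hj, hjj, hjv⟩ := key b b.2 (fun e => b1 (Subtype.ext e)) (congrArg Subtype.val b2) fun x hx =>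
    congrArg Subtype.val (hb ⟨x, hx⟩)
  apply Subtype.ext
  rw [hiv, hjv, uniq i j hi hii hj hjj]

end tg2

section uz

variable {G : Type u} [Group G] [Finite G] {Om : Set (Subgroup G)} {K N X T : Subgroup G}

/-- the Sylow 2-subgroups of `X` have at most one central involution -/
def UZ (X : Subgroup G) : Prop := ∀ T, Syl T X → U1 ↥T

theorem uz_of_syl (hT : Syl T X) (h : U1 ↥T) : UZ X := by
  intro T' hT'
  obtain ⟨k, -, rfl⟩ := hT.exists_conj hT'
  exact u1_congr (T.equivMapOfInjective _ (MulAut.conj k).injective) h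

/-- `|Om(S)| = 1` -/
theorem uz_of_one (hs : IsSimpleGroup ↥(generalizedFittingSubgroup G))
    (hna : ¬ IsMulCommutative ↥(generalizedFittingSubgroup G))
    (h2 : 2 ∣ Nat.card ↥(generalizedFittingSubgroup G))
    (h1173 : OneF.H1173 G) (h1171 : OneF.H1171 G) (h0506 : NoHomo.S0506Stmt.{u})
    (h : One Om) (hne : Om.Nonempty) (hn : NilOm Om) : UZ (generalizedFittingSubgroup G) := by
  have hX : (generalizedFittingSubgroup G).Normal := Lib.GenFitting.genFitting_normal (G := G)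
  have hC := End.centralizer_fstar hs hna
  have hN : ∀ N : Subgroup G, N.Normal → N ≠ ⊥ → centralizer (N : Set G) = ⊥ := by
    intro N hN hb
    rw [eq_bot_iff, ← hC]
    exact centralizer_le (End.fstar_le hs hna hN hb)
  have hO : oddCore G = ⊥ := by
    by_contra hb
    have h3 := End.fstar_le hs hna (Lib.Cores.pPrimeCore_normal 2 (G := G)) hb
    have h4 := h2.trans (card_dvd_of_le h3)
    have h5 := Lib.Cores.pPrimeCore_coprime (G := G) 2
    have h6 := Nat.dvd_gcd h4 (dvd_refl 2)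
    rw [h5] at h6
    omega
  have hF : Ker.FOne Om := fun b hb hw => OneF.eq_one_of_WW_nil h (l1_nil h hn) h1173 h1171 hO hN hb hw
  have hZX : ∀ K ∈ Om, zz K ∈ generalizedFittingSubgroup G := fun K hK => ZMem.zz_mem_simple h hX hs h2 hC hK
  have hP : Ker.HPair Om := ZMem.hPair h hX (ZMem.hodd_simple hs h2) hC hne
  have hperf : ⁅generalizedFittingSubgroup G, generalizedFittingSubgroup G⁆ = generalizedFittingSubgroup G := by
    rw [← map_subtype_commutator, End.commutator_eq_top hs hna, ← MonoidHom.range_eq_map, range_subtype]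
  by_cases hW : Ker.HW Om
  · obtain ⟨T, hT, hout⟩ := WWorld.main h hF hW hX hperf hZX
    rcases hout with h1 | ⟨m, v, r, s, h1⟩ | h1
    · exact uz_of_syl hT (u1_wreathed h1)
    · exact uz_of_syl hT (u1_tg2 h1)
    · exact absurd h1 (NoHomo.not_homo h0506 hs hna hT)
  · rcases SdEnd.main h hF hP hW hX hZX (End.index_ne_two hs hna) with ⟨T, hT, h1⟩ | ⟨T, n, c, t, v, hD⟩
    · exact uz_of_syl hT (u1_quasi h1)
    · obtain ⟨f⟩ := hD.equiv
      refine uz_of_syl hD.syl (u1_congr f.symm (u1_dihedral ?_))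
      calc 3 ≤ 2 ^ 2 := by norm_num
        _ ≤ 2 ^ (n + 2) := Nat.pow_le_pow_right (by norm_num) (by omega)

theorem uz_of_subgroupOf (hXN : X ≤ N) (h : UZ (X.subgroupOf N)) : UZ X := by
  intro T hT
  have h1 : Syl (T.subgroupOf N) (X.subgroupOf N) := by
    have e1 : (T.subgroupOf N).map N.subtype = T := map_subgroupOf_eq_of_le (hT.1.trans hXN)
    have e2 : (X.subgroupOf N).map N.subtype = X := map_subgroupOf_eq_of_le hXN
    have h2 : Syl ((T.subgroupOf N).map N.subtype) ((X.subgroupOf N).map N.subtype) := by rw [e1, e2]; exact hT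
    refine ⟨comap_mono hT.1, (h2.2.1).of_equiv ((T.subgroupOf N).equivMapOfInjective _ N.subtype_injective).symm, ?_⟩
    intro h3
    apply h2.2.2
    rwa [relIndex_map_map_of_injective _ _ N.subtype_injective]
  exact u1_congr (subgroupOfEquivOfLe (hT.1.trans hXN)) (h _ h1)

/-- `r = 2`, `m = 1`, `EqEps` -/
theorem uz_of_eqEps (hs : IsSimpleGroup ↥(generalizedFittingSubgroup G))
    (hna : ¬ IsMulCommutative ↥(generalizedFittingSubgroup G))
    (h2 : 2 ∣ Nat.card ↥(generalizedFittingSubgroup G))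
    (h1173 : ∀ (G : Type u) [Group G] [Finite G], oddCore G = ⊥ → OneF.H1173 G)
    (h1171 : ∀ (G : Type u) [Group G] [Finite G], OneF.H1171 G) (h0506 : NoHomo.S0506Stmt.{u})
    (h : W2 Om) (hne : Om.Nonempty) (he : EqEps Om) : UZ (generalizedFittingSubgroup G) := by
  obtain ⟨N, hN, hle, hfix⟩ := exists_ker h hne he
  obtain ⟨K, hK⟩ := hne
  have hNb : N ≠ ⊥ := by
    rintro rfl
    have h1 := card_dvd_of_le (hle K hK)
    rw [h.card K hK, card_bot] at h1
    omega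
  have hXN := End.fstar_le hs hna hN hNb
  have hF := fstar_subgroupOf hs hna hXN
  have e : ↥(generalizedFittingSubgroup ↥N) ≃* ↥(generalizedFittingSubgroup G) :=
    (MulEquiv.subgroupCongr hF).trans (subgroupOfEquivOfLe hXN)
  have hs' : IsSimpleGroup ↥(generalizedFittingSubgroup ↥N) := by
    haveI : Nontrivial ↥(generalizedFittingSubgroup ↥N) := e.toEquiv.nontrivial
    exact IsSimpleGroup.isSimpleGroup_of_surjective e.symm.toMonoidHom e.symm.surjective
  have hna' : ¬ IsMulCommutative ↥(generalizedFittingSubgroup ↥N) := by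
    intro hc
    apply hna
    refine ⟨⟨fun a b => e.symm.injective ?_⟩⟩
    rw [map_mul, map_mul]
    exact hc.is_comm.comm _ _
  have h2' : 2 ∣ Nat.card ↥(generalizedFittingSubgroup ↥N) := by
    rw [Nat.card_congr e.toEquiv]; exact h2
  have hO : oddCore ↥N = ⊥ := by
    by_contra hb
    have h3 := End.fstar_le hs' hna' (Lib.Cores.pPrimeCore_normal 2 (G := ↥N)) hb
    have h4 := h2'.trans (card_dvd_of_le h3)
    have h5 := Lib.Cores.pPrimeCore_coprime (G := ↥N) 2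
    have h6 := Nat.dvd_gcd h4 (dvd_refl 2)
    rw [h5] at h6
    omega
  have hone := one_of_ker h hle hfix hK
  have hnil : NilOm (cls (K.subgroupOf N)) := by
    rintro A hA Q hQ
    have h1 : IsPGroup 2 A := by
      have h3 : A.map N.subtype ∈ Om := (h.hyp.restr N).cls_subset (subgroupOf_mem_restr hK (hle K hK)) hA
      exact (h.isPGroup h3).of_equiv (A.equivMapOfInjective _ N.subtype_injective).symm
    have h4 := hQ.eq_of_le hQ.1 le_rfl h1
    rw [h4]
    exact le_sup_right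
  have h6 := uz_of_one hs' hna' h2' (h1173 _ hO) (h1171 _) h0506 hone ⟨_, self_mem_cls _⟩ hnil
  rw [hF] at h6
  exact uz_of_subgroupOf hXN h6

end uz

end Cfsg.Agent.Cit.Nil.Two
end

-- part: Cit/Nil/RTwo/Inner
section
set_option linter.all false
open scoped Cfsg.Agent.FastGrp

/-!
# `r = 2`, `m = 1`: INNER `SL(2,3)`

`IThree Om` : some member `K` over `z` lies in `J ≃ SL(2,3)`, `J ≤ ⟨Om⟩`, `J` subnormal in `C(z)`.

* `W2.sub` : the world of a subgroup `B` containing all members;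
* `ClM.ithree` : `ClM` in a normal subgroup `B ≤ ⟨Om⟩`;
* `Wt.ithree` : an inner element of weight one;
* `exists_inner_wt` : weight one and a type I pair give an inner element of weight one;
* `t_world_inner` : the T-only world is empty, without inner `SL(2,3)`.
-/

set_option autoImplicit false
set_option linter.style.haveILetI false
set_option linter.unusedSectionVars false

namespace Cfsg.Agent.Cit.Nil.RTwo

open Subgroup Cfsg Cfsg.Agent.Cit

variable {G : Type*} [Group G]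

/-- an inner `SL(2,3)` over a member -/
def IThree (Om : Set (Subgroup G)) : Prop :=
  ∃ (z : G) (K J : Subgroup G), Mem Om z K ∧ K ≤ J ∧ J ≤ sSup Om ∧ J ≤ centralizer ({z} : Set G) ∧
    (J.subgroupOf (centralizer ({z} : Set G))).IsSubnormal ∧ oddCore ↥J = ⊥ ∧
    Nonempty (↥J ≃* Matrix.SpecialLinearGroup (Fin 2) (ZMod 3))

variable [Finite G] {Om : Set (Subgroup G)} {B K K1 K2 L M J : Subgroup G} {z t g x y d : G}
  {a b : Fin 3 → G} {v : Fin 3 × Fin 3} {σ : Equiv.Perm (Fin 3)}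

theorem sSup_conj_mem (h : Hyp Om) (g : G) (hx : x ∈ sSup Om) : g * x * g⁻¹ ∈ sSup Om := by
  have h1 : sSup Om ≤ (sSup Om).comap (MulAut.conj g).toMonoidHom := by
    refine sSup_le fun K hK k hk => ?_
    exact (le_sSup (h.conj K hK g)) (conj_mem_cj hk)
  exact h1 hx

theorem sSup_normal (h : Hyp Om) : (sSup Om).Normal := ⟨fun _ hx g => sSup_conj_mem h g hx⟩

/-! ### the world of a subgroup -/

theorem mem_restr_iff (h : Hyp Om) {z : B} {K : Subgroup B} :
    Mem (restr Om B) z K ↔ Mem Om (z : G) (K.map B.subtype) := by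
  constructor
  · rintro ⟨h1, h2⟩
    exact ⟨h1, by rw [← zz_map h h1, h2]⟩
  · rintro ⟨h1, h2⟩
    exact ⟨h1, Subtype.ext (by rw [zz_map h h1, h2])⟩

theorem Mem.restr (h : Hyp Om) {z : B} (hK : Mem Om (z : G) K) (hKB : K ≤ B) :
    Mem (restr Om B) z (K.subgroupOf B) := by
  rw [mem_restr_iff h, map_subgroupOf_eq_of_le hKB]; exact hK

theorem InZ.of_restr (h : Hyp Om) {z : B} (hz : InZ (restr Om B) z) : InZ Om (z : G) := by
  obtain ⟨K, hK⟩ := hz
  exact ⟨_, (mem_restr_iff h).1 hK⟩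

theorem InZ.mem_of_le (hz : InZ Om z) (h : W2 Om) (hB : ∀ K ∈ Om, K ≤ B) : z ∈ B := by
  obtain ⟨K, hK⟩ := hz
  exact hB K hK.1 (hK.zmem h)

theorem InZ.restr (h : Hyp Om) (hB : ∀ K ∈ Om, K ≤ B) {z : B} (hz : InZ Om (z : G)) : InZ (restr Om B) z := by
  obtain ⟨K, hK⟩ := hz
  exact ⟨_, hK.restr h (hB K hK.1)⟩

theorem W2.sub (h : W2 Om) (hB : ∀ K ∈ Om, K ≤ B) : W2 (restr Om B) where
  hyp := h.hyp.restr B
  card K hK := by
    rw [← h.card _ hK, card_map_of_injective B.subtype_injective]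
  two K hK := by
    obtain ⟨L, hL, hne, hz, hall⟩ := h.two _ hK
    have hLB := hB L hL
    have e : (L.subgroupOf B).map B.subtype = L := map_subgroupOf_eq_of_le hLB
    have hL' : L.subgroupOf B ∈ restr Om B := subgroupOf_mem_restr hL hLB
    refine ⟨L.subgroupOf B, hL', fun h1 => hne (by rw [← e, h1]), Subtype.ext ?_, fun M hM hMz => ?_⟩
    · rw [zz_map h.hyp hL', zz_map h.hyp hK, e, hz]
    · have h1 : zz (M.map B.subtype) = zz (K.map B.subtype) := by
        rw [← zz_map h.hyp hM, ← zz_map h.hyp hK, hMz]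
      rcases hall _ hM h1 with h2 | h2
      · left; exact Subgroup.map_injective B.subtype_injective h2
      · right
        rw [← e] at h2
        exact Subgroup.map_injective B.subtype_injective h2
  one K hK L hL hc := by
    apply Subtype.ext
    rw [zz_map h.hyp hK, zz_map h.hyp hL]
    refine h.one _ hK _ hL ?_
    rintro _ ⟨k, hk, rfl⟩ _ ⟨l, hl, rfl⟩
    exact congrArg Subtype.val (hc k hk l hl)

theorem map_centralizer_subtype (z : B) :
    (centralizer ({z} : Set B)).map B.subtype = centralizer ({(z : G)} : Set G) ⊓ B := by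
  ext x
  constructor
  · rintro ⟨y, hy, rfl⟩
    refine ⟨mem_centralizer_singleton_iff.2 ?_, y.2⟩
    exact congrArg Subtype.val (mem_centralizer_singleton_iff.1 hy)
  · rintro ⟨h1, h2⟩
    refine ⟨⟨x, h2⟩, mem_centralizer_singleton_iff.2 (Subtype.ext ?_), rfl⟩
    exact mem_centralizer_singleton_iff.1 h1

theorem CF.sub (h : W2 Om) (hF : CF Om) (hn : B.Normal) : CF (restr Om B) := by
  intro z hz
  have e1 := OO_map B.subtype B.subtype_injective (centralizer ({z} : Set B))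
  have e2 : OO ((centralizer ({z} : Set B)).map B.subtype) ≤ OO (centralizer ({(z : G)} : Set G)) := by
    refine le_OO ((OO_le _).trans ?_) ?_ (odd_OO _)
    · rw [map_centralizer_subtype]; exact inf_le_left
    · intro g hg
      rw [mem_normalizer_iff_cj]
      refine LB.cj_OO_eq ?_
      rw [map_centralizer_subtype]
      have hgz := mem_centralizer_singleton_iff.1 hg
      have key : ∀ g : G, g * z = z * g → cj g (centralizer ({(z : G)} : Set G) ⊓ B) ≤
          centralizer ({(z : G)} : Set G) ⊓ B := by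
        rintro g hg _ ⟨x, hx, rfl⟩
        have hx1 := mem_centralizer_singleton_iff.1 hx.1
        refine ⟨mem_centralizer_singleton_iff.2 ?_, hn.conj_mem x hx.2 g⟩
        show g * x * g⁻¹ * z = z * (g * x * g⁻¹)
        have h1 : Commute g (z : G) := hg
        have h2 : Commute x (z : G) := hx1
        exact ((h1.mul_left h2).mul_left h1.inv_left).eq
      exact le_antisymm (key g hgz) (by
        have h1 := cj_mono g (key g⁻¹ (by
          have h1 : Commute g (z : G) := hgz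
          exact h1.inv_left.eq))
        rwa [cj_cj_inv] at h1)
  rw [hF _ (hz.of_restr h.hyp), e1, le_bot_iff, Subgroup.map_eq_bot_iff_of_injective _ B.subtype_injective] at e2
  exact e2

/-- `ClM` in a normal subgroup -/
theorem ClM.ithree (h : W2 Om) (hn : B.Normal) (hB : B ≤ sSup Om) (c : ClM (restr Om B)) : IThree Om := by
  obtain ⟨z, K, J, hK, hKJ, h1, h2, h4, ⟨e⟩⟩ := c
  have hJz : J.map B.subtype ≤ centralizer ({(z : G)} : Set G) := by
    refine (Subgroup.map_mono h1).trans ?_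
    rw [map_centralizer_subtype]; exact inf_le_left
  refine ⟨z, K.map B.subtype, J.map B.subtype, (mem_restr_iff h.hyp).1 hK, Subgroup.map_mono hKJ,
    (map_subtype_le J).trans hB, hJz, ?_, ?_,
    ⟨(J.equivMapOfInjective _ B.subtype_injective).symm.trans e⟩⟩
  swap
  · have h5 := Lib.Cores.map_equiv_pPrimeCore (J.equivMapOfInjective _ B.subtype_injective) 2
    rw [oddCore] at h4 ⊢
    rw [← h5, h4, Subgroup.map_bot]
  -- `C_B(z)` is normal in `C(z)`
  let C : Subgroup G := centralizer ({(z : G)} : Set G)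
  let D : Subgroup C := B.subgroupOf C
  have hD : D.Normal := Subgroup.normal_subgroupOf
  have hJD : (J.map B.subtype).subgroupOf C ≤ D := by
    intro x hx
    exact map_subtype_le J (mem_subgroupOf.1 hx)
  refine IsSubnormal.trans hJD ?_ hD.isSubnormal
  -- the map `D → C_B(z)`
  let f : D →* centralizer ({z} : Set B) :=
    { toFun := fun x => ⟨⟨((x : C) : G), mem_subgroupOf.1 x.2⟩, by
        rw [mem_centralizer_singleton_iff]
        apply Subtype.ext
        exact mem_centralizer_singleton_iff.1 (x : C).2⟩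
      map_one' := rfl
      map_mul' := fun x y => rfl }
  convert h2.comap f using 1
  ext x
  simp only [mem_subgroupOf, mem_comap, mem_map]
  constructor
  · rintro ⟨y, hy, hyx⟩
    have : y = ((f x : centralizer ({z} : Set B)) : B) := Subtype.ext hyx
    rwa [← this]
  · intro hx
    exact ⟨_, hx, rfl⟩

theorem Q3.sub {x : Fin 3 → G} {z : B} (hq : Q3 K (z : G) x) (hKB : K ≤ B) :
    Q3 (K.subgroupOf B) z (fun i => (⟨x i, hKB (hq.mem i)⟩ : B)) where
  mem i := mem_subgroupOf.2 (hq.mem i)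
  sq i := Subtype.ext (hq.sq i)
  mul i := Subtype.ext (hq.mul i)
  z2 := Subtype.ext hq.z2
  z1 h1 := hq.z1 (congrArg Subtype.val h1)
  cov k hk := by
    rcases hq.cov _ (mem_subgroupOf.1 hk) with h1 | h1 | ⟨i, h1 | h1⟩
    · exact Or.inl (Subtype.ext h1)
    · exact Or.inr (Or.inl (Subtype.ext h1))
    · exact Or.inr (Or.inr ⟨i, Or.inl (Subtype.ext h1)⟩)
    · exact Or.inr (Or.inr ⟨i, Or.inr (Subtype.ext h1)⟩)

/-- an inner element of weight one -/
theorem Wt.ithree {x : Fin 3 → G} (w : Wt Om z K L x g σ) (h : W2 Om) (hF : CF Om) (hg : g ∈ sSup Om) : IThree Om := by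
  have hB : ∀ K ∈ Om, K ≤ sSup Om := fun K hK => le_sSup hK
  have hn := sSup_normal h.hyp
  have hzB : z ∈ sSup Om := w.hK.inZ.mem_of_le h hB
  obtain ⟨z', hz'⟩ : ∃ z' : ↥(sSup Om), (z' : G) = z := ⟨⟨z, hzB⟩, rfl⟩
  subst hz'
  refine ClM.ithree h hn le_rfl (Wt.clm (K := K.subgroupOf (sSup Om)) (K' := L.subgroupOf (sSup Om))
    (x := fun i => (⟨x i, hB K w.hK.1 (w.q.mem i)⟩ : ↥(sSup Om))) (g := ⟨g, hg⟩) (σ := σ)
    ⟨w.hK.restr h.hyp (hB K w.hK.1), w.hK'.restr h.hyp (hB L w.hK'.1), fun h1 => w.ne ?_, w.q.sub (hB K w.hK.1),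
      fun i => ?_, w.s3, w.s1, Subtype.ext w.gz, fun y hy => Subtype.ext ?_, fun k hk => ?_⟩
    (h.sub hB) (CF.sub h hF hn))
  · rw [← map_subgroupOf_eq_of_le (hB K w.hK.1), ← map_subgroupOf_eq_of_le (hB L w.hK'.1), h1]
  · rcases w.act i with h1 | h1
    · exact Or.inl (Subtype.ext h1)
    · exact Or.inr (Subtype.ext h1)
  · refine w.gX y ?_
    rw [mem_CX] at hy ⊢
    intro M hM k hk
    exact congrArg Subtype.val (hy _ (hM.restr h.hyp (hB M hM.1)) ⟨k, hB M hM.1 hk⟩ (mem_subgroupOf.2 hk))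
  · rcases w.inn _ (mem_subgroupOf.1 hk) with h1 | h1
    · exact Or.inl (Subtype.ext h1)
    · exact Or.inr (Subtype.ext h1)

/-! ### weight one and a type I pair -/

theorem rf_comm_key : ∀ (i w : Fin 3), w ≠ 0 →
    rf i * (Equiv.addRight w)⁻¹ * (rf i)⁻¹ * Equiv.addRight w * (rf i * (Equiv.addRight w)⁻¹ * (rf i)⁻¹ *
      Equiv.addRight w) * (rf i * (Equiv.addRight w)⁻¹ * (rf i)⁻¹ * Equiv.addRight w) = 1 ∧
      rf i * (Equiv.addRight w)⁻¹ * (rf i)⁻¹ * Equiv.addRight w ≠ 1 := by decide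

theorem TI.exists_cf_of (h : W2 Om) (hti : TI Om z t) (hK1 : Mem Om z K1) (hK2 : Mem Om z K2) (hne : K1 ≠ K2) :
    ∃ L1 L2 a' b' p q, Cf Om z t K1 K2 L1 L2 a' b' p q := by
  obtain ⟨M1, M2, L1, L2, a', b', p, q, C⟩ := hti.exists_cf h
  rcases C.k1.cases C.k2 h C.kne hK1 with h1 | h1 <;> rcases C.k1.cases C.k2 h C.kne hK2 with h2 | h2
  · exact absurd (h1.trans h2.symm) hne
  · subst h1; subst h2; exact ⟨L1, L2, a', b', p, q, C⟩
  · subst h1; subst h2; exact ⟨L1, L2, b', a', p, q, C.swk⟩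
  · exact absurd (h1.trans h2.symm) hne

/-- weight one and a type I pair: an inner element of weight one -/
theorem exists_inner_wt (h : W2 Om) (F : Frame Om z K1 K2 a b) (hd : Tra z a b d v) (h1 : v.1 ≠ 0) (h2 : v.2 = 0)
    (hX : ∀ x ∈ CX Om z, d * x = x * d) (hti : TI Om z t) : ∃ g σ, g ∈ sSup Om ∧ Wt Om z K1 K2 a g σ := by
  obtain ⟨L1, L2, a', b', p, q, C⟩ := hti.exists_cf_of h F.k1 F.k2 F.ne
  obtain ⟨i, -, hi⟩ := C.act_theta h F.qa
  obtain ⟨j, -, hj⟩ := C.swk.act_theta h F.qb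
  have z2 := F.qa.z2
  have hpz : p 0 * z = z * p 0 := C.p0z h
  have hdz := hd.comm
  have cpz : Commute (p 0) z := hpz
  have cdz : Commute d z := hdz
  obtain ⟨g, hg⟩ : ∃ g, g = p 0 * d⁻¹ * (p 0)⁻¹ * d := ⟨_, rfl⟩
  have e0 : Equiv.addRight (0 : Fin 3) = 1 := by ext i; simp
  have hgz : g * z = z * g := by
    rw [hg]; exact (((cpz.mul_left cdz.inv_left).mul_left cpz.inv_left).mul_left cdz).eq
  -- the action on `K1`
  have A : Act z a a g (rf i * (Equiv.addRight v.1)⁻¹ * (rf i)⁻¹ * Equiv.addRight v.1) := by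
    have i1 := hd.a.inv z2 hdz
    have i2 := hi.inv z2 hpz
    have c1 := hd.a.comp z2 i2 cpz.inv_left.eq
    have c2 := c1.comp z2 i1 cdz.inv_left.eq
    have c3 := c2.comp z2 hi hpz
    have e1 : p 0 * (d⁻¹ * ((p 0)⁻¹ * d)) = g := by rw [hg]; group
    rw [e1] at c3
    simpa only [mul_assoc] using c3
  have A' : Act z b b g 1 := by
    have hdb := hd.b
    rw [h2, e0] at hdb
    have i1 := hdb.inv z2 hdz
    have i2 := hj.inv z2 hpz
    have c1 := hdb.comp z2 i2 cpz.inv_left.eq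
    have c2 := c1.comp z2 i1 cdz.inv_left.eq
    have c3 := c2.comp z2 hj hpz
    have e1 : p 0 * (d⁻¹ * ((p 0)⁻¹ * d)) = g := by rw [hg]; group
    rw [e1] at c3
    have e2 : rf j * ((1 : Equiv.Perm (Fin 3))⁻¹ * ((rf j)⁻¹ * 1)) = 1 := by group
    rwa [e2] at c3
  obtain ⟨k1, k2⟩ := rf_comm_key i v.1 h1
  have hpS : p 0 ∈ sSup Om := le_sSup C.l1.1 (C.qc.mem 0)
  refine ⟨g, _, ?_, F.k1, F.k2, F.ne, F.qa, A, k1, k2, hgz, ?_, A'.inner F.qb hgz⟩
  · have e1 : g = p 0 * (d⁻¹ * (p 0)⁻¹ * d⁻¹⁻¹) := by rw [hg]; group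
    rw [e1]
    exact mul_mem hpS (sSup_conj_mem h.hyp _ (inv_mem hpS))
  · intro x hx
    have hcd : ∀ x ∈ CX Om z, Commute d x := hX
    have hx' : (p 0)⁻¹ * x * p 0 ∈ CX Om z := by
      have h3 := CX_conj_comm h (g := (p 0)⁻¹) cpz.inv_left.eq hx
      rwa [inv_inv] at h3
    have e1 := (hcd x hx).eq
    have e2 : d⁻¹ * ((p 0)⁻¹ * x * p 0) * d = (p 0)⁻¹ * x * p 0 := by
      have h3 := (hcd _ hx').inv_left.eq
      rw [h3]; group
    calc g * x = p 0 * d⁻¹ * (p 0)⁻¹ * (d * x) := by rw [hg]; group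
      _ = p 0 * (d⁻¹ * ((p 0)⁻¹ * x * p 0) * d) * (p 0)⁻¹ * (p 0 * d⁻¹ * (p 0)⁻¹ * d) := by rw [e1]; group
      _ = x * g := by rw [e2, hg]; group

/-- **weight one and a type I pair give `IThree`** -/
theorem ithree_of_wOne (h : W2 Om) (hF : CF Om) (F : Frame Om z K1 K2 a b) (hd : Tra z a b d v) (hv : WOne v)
    (hX : ∀ x ∈ CX Om z, d * x = x * d) (hti : TI Om z t) : IThree Om := by
  rcases hv with ⟨h1, h2⟩ | ⟨h1, h2⟩
  · obtain ⟨g, σ, hg, w⟩ := exists_inner_wt h F hd h1 h2 hX hti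
    exact w.ithree h hF hg
  · obtain ⟨g, σ, hg, w⟩ := exists_inner_wt h F.swap hd.swap h2 h1 hX hti
    exact w.ithree h hF hg

/-! ### the T-only world -/

theorem TO.sub (h : W2 Om) (hT : TO Om) (hB : ∀ K ∈ Om, K ≤ B) : TO (restr Om B) := by
  intro z t hz ht hi
  refine Subtype.ext (hT z t (hz.of_restr h.hyp) (ht.of_restr h.hyp) fun K hK k hk => ?_)
  rcases hi _ (hK.restr h.hyp (hB K hK.1)) ⟨k, hB K hK.1 hk⟩ (mem_subgroupOf.2 hk) with h1 | h1
  · exact Or.inl (congrArg Subtype.val h1)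
  · exact Or.inr (congrArg Subtype.val h1)

/-- commuting is transitive on `Z` -/
theorem comm_trans_inner (h : W2 Om) (hT : TO Om) (hF : CF Om) (hi : ¬ IThree Om) {a b : G} (hz : InZ Om z)
    (ha : InZ Om a) (hb : InZ Om b) (hza : z * a = a * z) (hzb : z * b = b * z) : a * b = b * a := by
  have hB : ∀ K ∈ Om, K ≤ sSup Om := fun K hK => le_sSup hK
  have hn := sSup_normal h.hyp
  have e1 : (⟨z, hz.mem_of_le h hB⟩ : ↥(sSup Om)) * ⟨a, ha.mem_of_le h hB⟩ = ⟨a, ha.mem_of_le h hB⟩ *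
    ⟨z, hz.mem_of_le h hB⟩ := Subtype.ext hza
  have e2 : (⟨z, hz.mem_of_le h hB⟩ : ↥(sSup Om)) * ⟨b, hb.mem_of_le h hB⟩ = ⟨b, hb.mem_of_le h hB⟩ *
    ⟨z, hz.mem_of_le h hB⟩ := Subtype.ext hzb
  exact congrArg Subtype.val (comm_transM (h.sub hB) (hT.sub h hB) (CF.sub h hF hn)
    (fun c => hi (c.ithree h hn le_rfl)) (InZ.restr h.hyp hB hz) (InZ.restr h.hyp hB ha) (InZ.restr h.hyp hB hb) e1 e2)

/-- **the T-only world is empty**, no inner `SL(2,3)` -/
theorem t_world_inner (h : W2 Om) (hT : TO Om) (hF : CF Om) (hne : Om.Nonempty) (hi : ¬ IThree Om) {G0 : Subgroup G}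
    (hle : ∀ z, InZ Om z → z ∈ G0) (hab : AbC G0) : False := by
  haveI : Fact (Nat.Prime 2) := ⟨Nat.prime_two⟩
  let N : G → Subgroup G := fun z => closure {t | InZ Om t ∧ z * t = t * z}
  have hNle : ∀ z g, cj g (N z) ≤ N (g * z * g⁻¹) := by
    intro z g
    show (N z).map (MulAut.conj g).toMonoidHom ≤ _
    rw [Subgroup.map_le_iff_le_comap, closure_le]
    rintro t ⟨ht, htz⟩
    show g * t * g⁻¹ ∈ N (g * z * g⁻¹)
    refine subset_closure ⟨ht.conj h g, ?_⟩
    calc g * z * g⁻¹ * (g * t * g⁻¹) = g * (z * t) * g⁻¹ := by group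
      _ = g * (t * z) * g⁻¹ := by rw [htz]
      _ = _ := by group
  have e : Eqv Om N := by
    refine Eqv.of_const (fun z hz g => ?_) (fun z t hz ht hzt => ?_)
    · refine le_antisymm ?_ (hNle z g)
      have h1 := cj_mono g (hNle (g * z * g⁻¹) g⁻¹)
      have h2 : g⁻¹ * (g * z * g⁻¹) * g⁻¹⁻¹ = z := by group
      rwa [cj_cj_inv, h2] at h1
    · show Subgroup.closure _ = Subgroup.closure _
      congr 1
      ext s
      constructor
      · rintro ⟨hs, hsz⟩
        exact ⟨hs, comm_trans_inner h hT hF hi hz ht hs hzt hsz⟩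
      · rintro ⟨hs, hsz⟩
        exact ⟨hs, comm_trans_inner h hT hF hi ht hz hs hzt.symm hsz⟩
  obtain ⟨S⟩ : Nonempty (Sylow 2 G) := inferInstance
  obtain ⟨z, K, hK, hKS, hc⟩ := h.exists_member_central hne S
  have hz := hK.inZ
  have hzN : z ∈ N z ⊓ (S : Subgroup G) := ⟨subset_closure ⟨hz, rfl⟩, hKS (hK.zmem h)⟩
  refine hab S (N z ⊓ S) ?_ (inf_le_left.trans ((closure_le _).2 fun t ht => hle t ht.1)) ?_ (e.strong h S hz hc)
  · intro h1
    rw [h1, Subgroup.mem_bot] at hzN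
    exact hz.z1 h hzN
  · have h1 : ∀ b, InZ Om b → z * b = b * z → N z ≤ centralizer {b} := by
      intro b hb hbz
      refine (closure_le _).2 ?_
      rintro a ⟨ha, haz⟩
      exact mem_centralizer_singleton_iff.2 (comm_trans_inner h hT hF hi hz ha hb haz hbz)
    have h2 : ∀ a ∈ N z, N z ≤ centralizer {a} := by
      intro a ha
      refine (closure_le _).2 ?_
      rintro b ⟨hb, hbz⟩
      exact mem_centralizer_singleton_iff.2 (mem_centralizer_singleton_iff.1 (h1 b hb hbz ha)).symm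
    intro a ha b hb
    exact (mem_centralizer_singleton_iff.1 (h2 b hb.1 ha.1))

end Cfsg.Agent.Cit.Nil.RTwo
end

-- part: Cit/Nil/RTwo/InnerMain
section
set_option linter.all false
open scoped Cfsg.Agent.FastGrp

/-!
# `r = 2`, `m = 1`: the assembly without inner `SL(2,3)`

* `main_inner` : no `IThree`: `AW Om` or `SB Om`, with `SCe Om`.
-/

set_option autoImplicit false
set_option linter.style.haveILetI false
set_option linter.unusedSectionVars false

namespace Cfsg.Agent.Cit.Nil.RTwo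

open Subgroup Cfsg Cfsg.Agent.Cit

universe u

variable {G : Type u} [Group G] [Finite G] {Om : Set (Subgroup G)} {K K1 K2 L M X : Subgroup G} {g g' t x y z s d k c : G}
  {a b : Fin 3 → G} {v : Fin 3 × Fin 3}

/-- **the assembly, inner form** -/
theorem main_inner (i : LIn.{u}) (h : W2 Om) (hc : OneCls Om) (hr : Rot Om) (hF : CFA G) (hne : Om.Nonempty)
    (f : ROne.FSimp X) (h2 : 2 ∣ Nat.card X) (h3 : ¬ IThree Om) : (AW Om ∧ SCe Om) ∨ (SB Om ∧ SCe Om) := by
  have hcls : ∀ z t, InZ Om z → InZ Om t → ∃ g, g * z * g⁻¹ = t := fun z t hz ht => hc.conj h hz ht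
  have c3 := c3e_of_rot h hr
  have cf := hF.cf h
  haveI := f.sim
  have gold : Cit.ROne.Gold ↥X := fun S A h1 h2 h3 => i.gold _ S A h1 h2 h3
  have h1173 : OneF.H1173 G := i.h1173 G (oddCore_eq_bot f h2)
  obtain ⟨hab, hSC⟩ := closer h hc c3 hr hne f gold (i.bend _) h1173 cf h2
  by_cases hT : TO Om
  · exact (t_world_inner h hT cf hne h3 (fun z hz => h.mem_of_fsimp f h2 hz) hab).elim
  unfold TO at hT
  push Not at hT
  obtain ⟨z, t, hz, ht, hi, hne'⟩ := hT
  have hti : TI Om z t := ⟨hz, ht, hne'.symm, (hi.comm_z hz h).symm, hi⟩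
  have htiAll : ∀ y, InZ Om y → ∃ s, TI Om y s := by
    intro y hy
    obtain ⟨g, rfl⟩ := hcls z y hz hy
    exact ⟨_, hti.conj h g⟩
  -- no weight one vectors over a central label
  have hno : ∀ z K1 K2 a b c, Frame Om z K1 K2 a b → c ∈ CC Om z → (∀ x ∈ CX Om z, x * c = c * x) →
      ∀ v ∈ D0 Om z a b, ¬ WOne v := by
    intro z K1 K2 a b c F hc hcX v hv hw
    apply h3
    obtain ⟨p, hp⟩ := CC.exists_dir h F hc
    have hq := (D0.iff h F hp).1 hv
    obtain ⟨d, hd, -, -, hX⟩ := DC.exists_tra h F hp hq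
    rw [add_sub_cancel_left] at hd
    obtain ⟨s, hs⟩ := htiAll z F.k1.inZ
    exact ithree_of_wOne h cf F hd hw (fun x hx => hX x hx (hcX x hx)) hs
  by_cases hA : ∃ z, (1 : G) ∈ CC Om z
  · left
    obtain ⟨y, hy⟩ := hA
    have hA1 : ∀ t, InZ Om t → (1 : G) ∈ CC Om t := by
      intro t ht
      obtain ⟨k, rfl⟩ := hcls y t (CC.inZ hy) ht
      have h2 := (CC.cj_iff h k).2 hy
      rwa [mul_one, mul_inv_cancel] at h2
    have hA : ∀ t, InZ Om t → CC Om t = {1} := fun t ht => CC.eq_singleton h (hA1 t ht)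
    have hD : ∀ z K1 K2 a b, Frame Om z K1 K2 a b → ∃ v, v ≠ 0 ∧ v ∈ D0 Om z a b := by
      intro z K1 K2 a b F
      obtain ⟨g, v, ht, hv⟩ := exists_tra h hr F
      refine ⟨v, fun e => hv (by rw [e]; rfl), ?_⟩
      obtain ⟨p, hp⟩ := CC.exists_dir h F (hA1 z F.k1.inZ)
      have h2 := ht.dc h F hp
      rw [mul_one, mul_inv_cancel] at h2
      exact (D0.iff h F hp).2 h2
    exact ⟨AW.of h hcls hA hD (fun z K1 K2 a b F => hno z K1 K2 a b 1 F (hA1 z F.k1.inZ)
      (fun x _ => by rw [mul_one, one_mul])), hSC⟩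
  right
  have hn : NoOne Om := by
    intro y c hc e
    exact hA ⟨y, e ▸ hc⟩
  rcases dichotomy h cf hcls ⟨z, t, hti⟩ with hUU | hSB
  · exfalso
    have U := u10_of_U h hn hr hUU
    refine case_U h cf hn hcls hti hSC hUU fun z K1 K2 a b F hall => h3 ?_
    have hO := U.oy i.bend i.crit hF z
    obtain ⟨d, hd, -, hX⟩ := exists_tra_cent (v := (1, 0)) h cf F
      (fun g v ht => hUU z F.k1.inZ K1 K2 a b g v F ht) (U.ne z) hO (hall (1, 0))
    obtain ⟨s, hs⟩ := htiAll z F.k1.inZ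
    exact ithree_of_wOne h cf F hd (Or.inl ⟨by decide, rfl⟩) hX hs
  · exact ⟨hSB, hSC⟩

/-- no `IThree`: `EqEps` or `SW` -/
theorem main_inner' (i : LIn.{u}) (h : W2 Om) (hc : OneCls Om) (hr : Rot Om) (hF : CFA G) (hne : Om.Nonempty)
    (f : ROne.FSimp X) (h2 : 2 ∣ Nat.card X) (h3 : ¬ IThree Om) :
    (EqEps Om ∧ AW Om ∧ SCe Om) ∨ (SW Om ∧ SB Om ∧ SCe Om) := by
  rcases main_inner i h hc hr hF hne f h2 h3 with ⟨h1, h4⟩ | ⟨h1, h4⟩
  · left
    obtain ⟨K, hK⟩ := hne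
    exact ⟨h1.eqEps h4 ⟨K, hK, rfl⟩, h1, h4⟩
  · exact Or.inr ⟨h1.toSW h4, h1, h4⟩

end Cfsg.Agent.Cit.Nil.RTwo
end

-- part: Cit/Nil/RTwo/InnerBx
section
set_option linter.all false
open scoped Cfsg.Agent.FastGrp

/-!
# `r = 2`, `m = 1`: (b1), (b2) of (M2) in the section

`BX Om` : `X_z` has exponent two; an element of `X_z` which commutes with the inner elements of odd order of `C(z)` is `1` or `z`.

* `SW.bx` : the world (S);
* `BX.of_cx` : `X_z = ⟨z⟩`.
-/

set_option autoImplicit false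
set_option linter.style.haveILetI false
set_option linter.unusedSectionVars false

namespace Cfsg.Agent.Cit.Nil.RTwo

open Subgroup Cfsg Cfsg.Agent.Cit

variable {G : Type*} [Group G]

/-- see the head of the file -/
structure BX (Om : Set (Subgroup G)) : Prop where
  sq : ∀ z x, InZ Om z → x ∈ CX Om z → x * x = 1
  fix : ∀ z t, InZ Om z → t ∈ CX Om z →
    (∀ c ∈ sSup Om, c * z = z * c → Odd (orderOf c) → c * t = t * c) → t = 1 ∨ t = z

variable [Finite G] {Om : Set (Subgroup G)} {K K1 K2 L M : Subgroup G} {z t g x y c c' : G}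

theorem BX.of_cx (h : W2 Om) (hx : ∀ z x, InZ Om z → x ∈ CX Om z → x = 1 ∨ x = z) : BX Om where
  sq z x hz hxz := by
    rcases hx z x hz hxz with h1 | h1
    · rw [h1, one_mul]
    · rw [h1]; exact hz.z2 h
  fix z t hz ht _ := hx z t hz ht

/-- a quarter turn of a type I neighbour over the label `c` moves the other labels -/
theorem SB.exists_turn (W : SB Om) (hc : c ∈ CC Om z) : ∃ p ∈ sSup Om, p * z = z * p ∧ p * c * p⁻¹ = c ∧
    ∀ c' ∈ CC Om z, c' ≠ c → p * c' * p⁻¹ ≠ c' := by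
  have h := W.w
  obtain ⟨t, l⟩ := id hc
  obtain ⟨K1, K2, L1, L2, a, b, p, q, C⟩ := l.ti.exists_cf h
  refine ⟨p 0, (le_sSup C.l1.1) (C.qc.mem 0), C.p0z h, ?_, fun c' hc' hne e => ?_⟩
  · have h1 := mem_CX.1 l.ct L1 C.l1 _ (C.qc.mem 0)
    rw [← h1, mul_inv_cancel_right]
  · have hsw := W.sw l hc' (Ne.symm hne)
    have hpc : c' * p 0 * c'⁻¹ = p 0 := by
      rw [mul_inv_eq_iff_eq_mul] at e
      rw [← e, mul_inv_cancel_right]
    have h1 : p 0 ∈ cj c' L1 := by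
      rw [← hpc]; exact conj_mem_cj (C.qc.mem 0)
    have hct : c' * t = t * c' := (l.comm_iff h (CC.mem_CX hc')).1 (W.comm hc' hc)
    rcases C.l1.inf (C.l1.cj_comm h hct) h (Ne.symm (hsw L1 C.l1)) (C.qc.mem 0) h1 with h2 | h2
    · exact C.qc.ne_one 0 h2
    · exact C.qc.ne_z 0 h2

theorem comm_of_pow {s : ℕ} (h1 : g ^ 2 ^ s * c = c * g ^ 2 ^ s) (h3 : g ^ 3 * c = c * g ^ 3) : g * c = c * g := by
  have c1 : Commute (g ^ 2 ^ s) c := h1
  have c3 : Commute (g ^ 3) c := h3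
  have hcop : Nat.Coprime (2 ^ s) 3 := Nat.Coprime.pow_left s (by decide)
  have h4 := Nat.gcd_eq_gcd_ab (2 ^ s) 3
  rw [hcop] at h4
  have h5 : g = (g ^ 2 ^ s) ^ (Nat.gcdA (2 ^ s) 3) * (g ^ 3) ^ (Nat.gcdB (2 ^ s) 3) := by
    rw [← zpow_natCast g (2 ^ s), ← zpow_natCast g 3, ← zpow_mul, ← zpow_mul, ← zpow_add, ← h4]
    simp
  rw [h5]
  exact ((c1.zpow_left _).mul_left (c3.zpow_left _)).eq

/-- **an inner element of odd order moving all labels** -/
theorem SB.exists_odd (W : SB Om) (hz : InZ Om z) : ∃ g ∈ sSup Om, g * z = z * g ∧ Odd (orderOf g) ∧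
    ∀ c ∈ CC Om z, g * c ≠ c * g := by
  have h := W.w
  obtain ⟨c0, c1, c2, hcc, n01, n02, n12, -⟩ := W.exists_cc hz
  have m0 : c0 ∈ CC Om z := by rw [hcc]; simp
  have m1 : c1 ∈ CC Om z := by rw [hcc]; simp
  have m2 : c2 ∈ CC Om z := by rw [hcc]; simp
  obtain ⟨p, hp, hpz, p0, hp'⟩ := W.exists_turn m0
  obtain ⟨q, hq, hqz, q1, hq'⟩ := W.exists_turn m1
  have hcl : ∀ {g c : G}, g * z = z * g → c ∈ CC Om z → g * c * g⁻¹ = c0 ∨ g * c * g⁻¹ = c1 ∨ g * c * g⁻¹ = c2 := by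
    intro g c hg hc
    have h1 := (CC.cj_iff h g).2 hc
    rw [hg, mul_inv_cancel_right, hcc] at h1
    simpa using h1
  have inj : ∀ {g c c' : G}, g * c * g⁻¹ = g * c' * g⁻¹ → c = c' := fun e => mul_left_cancel (mul_right_cancel e)
  -- `p`: `c1 ↔ c2`
  have p1 : p * c1 * p⁻¹ = c2 := by
    rcases hcl hpz m1 with h1 | h1 | h1
    · exact absurd (inj (h1.trans p0.symm)).symm n01
    · exact absurd h1 (hp' c1 m1 n01.symm)
    · exact h1
  have p2 : p * c2 * p⁻¹ = c1 := by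
    rcases hcl hpz m2 with h1 | h1 | h1
    · exact absurd (inj (h1.trans p0.symm)).symm n02
    · exact h1
    · exact absurd h1 (hp' c2 m2 n02.symm)
  have q0 : q * c0 * q⁻¹ = c2 := by
    rcases hcl hqz m0 with h1 | h1 | h1
    · exact absurd h1 (hq' c0 m0 n01)
    · exact absurd (inj (h1.trans q1.symm)) n01
    · exact h1
  have q2 : q * c2 * q⁻¹ = c0 := by
    rcases hcl hqz m2 with h1 | h1 | h1
    · exact h1
    · exact absurd (inj (h1.trans q1.symm)) n12.symm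
    · exact absurd h1 (hq' c2 m2 n12.symm)
  obtain ⟨g, hg⟩ : ∃ g, g = p * q := ⟨_, rfl⟩
  have hcomp : ∀ c, g * c * g⁻¹ = p * (q * c * q⁻¹) * p⁻¹ := fun c => by rw [hg]; group
  have g0 : g * c0 * g⁻¹ = c1 := by rw [hcomp, q0, p2]
  have g1 : g * c1 * g⁻¹ = c2 := by rw [hcomp, q1, p1]
  have g2 : g * c2 * g⁻¹ = c0 := by rw [hcomp, q2, p0]
  have hgz : Commute g z := by
    have e1 : Commute p z := hpz
    have e2 : Commute q z := hqz
    rw [hg]; exact e1.mul_left e2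
  have hmov : ∀ c ∈ CC Om z, g * c ≠ c * g := by
    intro c hc e
    have h1 : g * c * g⁻¹ = c := by rw [e, mul_inv_cancel_right]
    rw [hcc] at hc
    simp only [Set.mem_insert_iff, Set.mem_singleton_iff] at hc
    rcases hc with rfl | rfl | rfl
    · exact n01 (h1.symm.trans g0)
    · exact n12 (h1.symm.trans g1)
    · exact n02 (g2.symm.trans h1)
  have h3 : ∀ c ∈ CC Om z, g ^ 3 * c = c * g ^ 3 := by
    intro c hc
    have h1 : g ^ 3 * c * (g ^ 3)⁻¹ = g * (g * (g * c * g⁻¹) * g⁻¹) * g⁻¹ := by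
      simp only [pow_succ, pow_zero, one_mul]; group
    rw [← mul_inv_eq_iff_eq_mul, h1]
    rw [hcc] at hc
    simp only [Set.mem_insert_iff, Set.mem_singleton_iff] at hc
    rcases hc with rfl | rfl | rfl
    · rw [g0, g1, g2]
    · rw [g1, g2, g0]
    · rw [g2, g0, g1]
  obtain ⟨s, m, hm, hsm⟩ : ∃ s m : ℕ, Odd m ∧ orderOf g = 2 ^ s * m := by
    obtain ⟨n, m, hm, hnm⟩ := Nat.exists_eq_two_pow_mul_odd (orderOf_pos g).ne'
    exact ⟨n, m, hm, hnm⟩
  refine ⟨g ^ 2 ^ s, pow_mem (by rw [hg]; exact mul_mem hp hq) _, (hgz.pow_left _).eq, ?_, fun c hc e => ?_⟩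
  · have h1 : (g ^ 2 ^ s) ^ m = 1 := by rw [← pow_mul, ← hsm, pow_orderOf_eq_one]
    exact hm.of_dvd_nat (orderOf_dvd_of_pow_eq_one h1)
  · exact hmov c hc (comm_of_pow e (h3 c hc))

/-- **`BX` in the world (S)** -/
theorem SW.bx (S : SW Om) (W : SB Om) : BX Om where
  sq z x hz hx := by
    have h := S.w
    have hz2 := hz.z2 h
    rcases S.cx z hz x hx with h1 | h1 | h1 | h1
    · rw [h1, one_mul]
    · rw [h1, hz2]
    · exact CC.sq h1
    · have h2 := CC.sq h1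
      have h3 := CX_le hz h hx
      calc x * x = (z * z) * (x * x) := by rw [hz2, one_mul]
        _ = z * (x * z) * x := by rw [h3]; group
        _ = z * x * (z * x) := by group
        _ = 1 := h2
  fix z t hz ht hall := by
    have h := S.w
    obtain ⟨g, hg, hgz, ho, hmov⟩ := W.exists_odd hz
    have h1 := hall g hg hgz ho
    rcases S.cx z hz t ht with h2 | h2 | h2 | h2
    · exact Or.inl h2
    · exact Or.inr h2
    · exact absurd h1 (hmov t h2)
    · refine absurd ?_ (hmov _ h2)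
      rw [← mul_assoc, hgz, mul_assoc, h1, mul_assoc]

end Cfsg.Agent.Cit.Nil.RTwo
end

-- part: Cit/Nil/RTwo/InnerLift
section
set_option linter.all false
open scoped Cfsg.Agent.FastGrp

/-!
# Lifting an inner `SL(2,3)` from the quotient by the centraliser of the members

* `IThree.lift` : `QM Om f`, `W2 (img f Om)`, `IThree (img f Om)`, and `f` is injective on the points: some member has `Three`.
-/

set_option autoImplicit false
set_option linter.style.haveILetI false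
set_option linter.unusedSectionVars false

namespace Cfsg.Agent.Cit.Nil.RTwo

open Subgroup Cfsg Cfsg.Agent.Cit
open RTwoM.Quo (QM)

variable {M Y : Type*} [Group M] [Group Y] [Finite M] [Finite Y] {Om : Set (Subgroup M)} {f : M →* Y} {K L : Subgroup M}
  {g x y b : M}

theorem sSup_img_le : sSup (img f Om) ≤ (sSup Om).map f := by
  refine sSup_le ?_
  rintro _ ⟨K, hK, rfl⟩
  exact Subgroup.map_mono (le_sSup hK)

/-- `f g` commutes with `f (zz K)` -/
theorem QMcom (q : QM Om f) (inj : ∀ K ∈ Om, ∀ L ∈ Om, f (zz K) = f (zz L) → zz K = zz L) (hK : K ∈ Om)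
    (h : f g * f (zz K) = f (zz K) * f g) : g * zz K = zz K * g := by
  have h1 := inj _ (q.hyp.conj K hK g) K hK (by
    rw [q.hyp.zz_cj hK, map_mul, map_mul, map_inv, h, mul_inv_cancel_right])
  rw [q.hyp.zz_cj hK, mul_inv_eq_iff_eq_mul] at h1
  exact h1

/-- **lifting an inner `SL(2,3)`** -/
theorem IThree.lift (q : QM Om f) (w : W2 (img f Om))
    (inj : ∀ K ∈ Om, ∀ L ∈ Om, f (zz K) = f (zz L) → zz K = zz L)
    (hodd : ∀ x ∈ sSup Om, f x = 1 → Odd (orderOf x) → x = 1) (h : IThree (img f Om)) :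
    ∃ K ∈ Om, IndDefs.Three K := by
  haveI : Fact (Nat.Prime 2) := ⟨Nat.prime_two⟩
  obtain ⟨v, K', J, hK', hKJ, hJS, hJv, hsub, hO, ⟨e⟩⟩ := h
  obtain ⟨⟨K, hK, hKK'⟩, hz⟩ := hK'
  subst hKK'
  rw [q.zz_map hK] at hz
  subst hz
  have hK' : Mem (img f Om) (f (zz K)) (K.map f) := ⟨⟨K, hK, rfl⟩, q.zz_map hK⟩
  obtain ⟨b, hb⟩ : ∃ b, b = zz K := ⟨_, rfl⟩
  rw [← hb] at hJv hsub hK'
  have iso : (↥J ⧸ oddCore ↥J) ≃* Matrix.SpecialLinearGroup (Fin 2) (ZMod 3) :=
    ((QuotientGroup.quotientMulEquivOfEq hO).trans QuotientGroup.quotientBot).trans e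
  have h16 := Three.not_16 iso
  have hJ24 : Nat.card J = 24 := by rw [Nat.card_congr e.toEquiv, Transfer.SL23Recog.card_sl23]
  have hKle : K ≤ sSup Om := le_sSup hK
  have hSn : (sSup Om).Normal := sSup_normal q.hyp
  have com : ∀ g, f g * f b = f b * f g → g * b = b * g := by
    intro g hg
    rw [hb] at hg ⊢
    exact QMcom q inj hK hg
  obtain ⟨a, qa⟩ := w.exists_q3 hK'
  obtain ⟨r', hr'J, ho', k', hk', hne'⟩ := Three.exists_rot_of_sl qa hKJ iso
  -- lift `r'`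
  obtain ⟨r₀, hr₀, hfr⟩ := sSup_img_le (hJS hr'J)
  obtain ⟨s, m, hm, hsm⟩ : ∃ s m : ℕ, Odd m ∧ orderOf r₀ = 2 ^ s * m := by
    obtain ⟨n, m, hm, hnm⟩ := Nat.exists_eq_two_pow_mul_odd (orderOf_pos r₀).ne'
    exact ⟨n, m, hm, hnm⟩
  obtain ⟨c, hc⟩ : ∃ c, c = r₀ ^ 2 ^ s := ⟨_, rfl⟩
  have hcS : c ∈ sSup Om := by rw [hc]; exact pow_mem hr₀ _
  have hco : Odd (orderOf c) := by
    have h1 : c ^ m = 1 := by rw [hc, ← pow_mul, ← hsm, pow_orderOf_eq_one]
    exact hm.of_dvd_nat (orderOf_dvd_of_pow_eq_one h1)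
  have hfc : f c = r' ^ 2 ^ s := by rw [hc, map_pow, hfr]
  have hfcJ : f c ∈ J := by rw [hfc]; exact pow_mem hr'J _
  have hfcne : f c * k' ≠ k' * f c := by
    intro h1
    rw [hfc] at h1
    exact hne' (Three.comm_of_pow_two ho' (n := s) h1).eq
  have hcK : cj c K = K := by
    refine q.cj_eq hK ?_
    rw [CompR.sec_nor w hK' hKJ hJv h16 hfcJ]
  -- `J₁ = K⟨c⟩`
  obtain ⟨J₁, hJ₁⟩ : ∃ J₁ : Subgroup M, J₁ = zpowers c ⊔ K := ⟨_, rfl⟩
  have hKJ₁ : K ≤ J₁ := by rw [hJ₁]; exact le_sup_right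
  have hcJ₁ : c ∈ J₁ := by rw [hJ₁]; exact mem_sup_left (mem_zpowers c)
  have hJ₁S : J₁ ≤ sSup Om := by rw [hJ₁]; exact sup_le (zpowers_le.2 hcS) hKle
  have hnor : zpowers c ≤ normalizer (K : Set M) := zpowers_le.2 (mem_normalizer_iff_cj.2 hcK)
  have hmem : ∀ y ∈ J₁, ∃ u ∈ zpowers c, ∃ k ∈ K, y = u * k := by
    intro y hy
    rw [hJ₁] at hy
    obtain ⟨k, hk, u, hu, e1⟩ := LB.exists_mul_of_mem_sup hnor (by rw [sup_comm]; exact hy)
    refine ⟨u, hu, u⁻¹ * k * u, ?_, by rw [e1]; group⟩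
    have h1 := (mem_normalizer_iff.1 (hnor (inv_mem hu)) k).1 hk
    rwa [inv_inv] at h1
  have hinj : J₁ ⊓ f.ker = ⊥ := by
    rw [eq_bot_iff]
    rintro y ⟨hy, hyf⟩
    obtain ⟨u, hu, k, hk, rfl⟩ := hmem y hy
    have h1 : f u * f k = 1 := by rw [← map_mul]; exact hyf
    have hup : Odd (orderOf u) := by
      have h2 : orderOf u ∣ orderOf c := by
        have h3 := orderOf_dvd_natCard (⟨u, hu⟩ : zpowers c)
        rwa [Subgroup.orderOf_mk, Nat.card_zpowers] at h3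
      exact hco.of_dvd_nat h2
    have hfu : f u = 1 := by
      have h2 : f u ∈ K.map f := by
        rw [eq_inv_of_mul_eq_one_left h1]
        exact inv_mem ⟨k, hk, rfl⟩
      have h3 : orderOf (f u) ∣ 8 := by
        have h4 := (K.map f).orderOf_dvd_natCard h2
        rwa [q.card_map hK] at h4
      have h4 : orderOf (f u) ∣ orderOf u := orderOf_map_dvd f u
      have h5 : Nat.Coprime (orderOf u) (2 ^ 3) := (Nat.coprime_two_right.2 hup).pow_right 3
      exact orderOf_eq_one_iff.1 (Nat.eq_one_of_dvd_coprimes h5 h4 h3)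
    have hu1 : u = 1 := hodd u (hJ₁S (by rw [hJ₁]; exact mem_sup_left hu)) hfu hup
    have hk1 : k = 1 := q.inj hK hk (by rw [hfu, one_mul] at h1; exact h1)
    rw [mem_bot, hu1, hk1, one_mul]
  have hmap : J₁.map f = J := by
    have h1 : J₁.map f ≤ J := by
      rw [hJ₁, Subgroup.map_sup]
      refine sup_le ?_ hKJ
      rw [MonoidHom.map_zpowers]
      exact zpowers_le.2 hfcJ
    have h2 : 8 ∣ Nat.card (J₁.map f) := by
      rw [← q.card_map hK]; exact card_dvd_of_le (Subgroup.map_mono hKJ₁)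
    have h3 : Nat.card (J₁.map f) ∣ 24 := by rw [← hJ24]; exact card_dvd_of_le h1
    have h4 : Nat.card (J₁.map f) ≠ 8 := by
      intro h4
      have h5 : K.map f = J₁.map f := eq_of_le_of_card_ge (Subgroup.map_mono hKJ₁) (by rw [h4, q.card_map hK])
      have h6 : f c ∈ K.map f := by rw [h5]; exact ⟨c, hcJ₁, rfl⟩
      have h7 : orderOf (f c) ∣ 8 := by
        have h4 := (K.map f).orderOf_dvd_natCard h6
        rwa [q.card_map hK] at h4
      have h8 : Nat.Coprime (orderOf c) (2 ^ 3) := (Nat.coprime_two_right.2 hco).pow_right 3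
      have h9 := orderOf_eq_one_iff.1 (Nat.eq_one_of_dvd_coprimes h8 (orderOf_map_dvd f c) h7)
      exact hfcne (by rw [h9, one_mul, mul_one])
    obtain ⟨d, hd⟩ := h2
    rw [hd] at h3 h4
    have h5 : d ∣ 3 := by
      have h6 : 8 * d ∣ 8 * 3 := h3
      exact Nat.dvd_of_mul_dvd_mul_left (by norm_num) h6
    rcases (Nat.dvd_prime Nat.prime_three).1 h5 with h6 | h6
    · rw [h6] at h4; exact absurd rfl h4
    · rw [h6] at hd
      exact eq_of_le_of_card_ge h1 (by rw [hJ24, hd])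
  have e₁ : ↥J₁ ≃* ↥J := (QuoCen.equivMap hinj).trans (MulEquiv.subgroupCongr hmap)
  have hO₁ : oddCore ↥J₁ = ⊥ := by
    have h5 := Lib.Cores.map_equiv_pPrimeCore e₁.symm 2
    rw [oddCore] at hO ⊢
    rw [← h5, hO, Subgroup.map_bot]
  -- the preimage
  obtain ⟨P, hP⟩ : ∃ P : Subgroup M, P = J.comap f ⊓ sSup Om := ⟨_, rfl⟩
  have hJ₁P : J₁ ≤ P := by
    rw [hP]
    refine le_inf ?_ hJ₁S
    rw [← Subgroup.map_le_iff_le_comap, hmap]
  have hPC : P ≤ centralizer ({b} : Set M) := by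
    intro x hx
    rw [hP] at hx
    have h1 := mem_centralizer_singleton_iff.1 (hJv (show f x ∈ J from hx.1))
    exact mem_centralizer_singleton_iff.2 (com x h1)
  have hPsub : (P.subgroupOf (centralizer ({b} : Set M))).IsSubnormal := by
    have h1 : ((J.comap f).subgroupOf (centralizer ({b} : Set M))).IsSubnormal := by
      let φ : ↥(centralizer ({b} : Set M)) →* ↥(centralizer ({f b} : Set Y)) :=
        { toFun := fun x => ⟨f x, by
            have h2 := mem_centralizer_singleton_iff.1 x.2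
            rw [mem_centralizer_singleton_iff, ← map_mul, h2, map_mul]⟩
          map_one' := by apply Subtype.ext; simp
          map_mul' := fun x y => by apply Subtype.ext; simp }
      exact hsub.comap φ
    have h2 : ((sSup Om).subgroupOf (centralizer ({b} : Set M))).IsSubnormal := hSn.isSubnormal.subgroupOf
    have h3 : P.subgroupOf (centralizer ({b} : Set M)) =
        (J.comap f).subgroupOf (centralizer ({b} : Set M)) ⊓ (sSup Om).subgroupOf (centralizer ({b} : Set M)) := by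
      rw [hP]; rfl
    rw [h3]
    exact h1.inf h2
  refine ⟨K, hK, J₁, ?_, hKJ₁, ?_, ⟨?_⟩⟩
  · rw [← hb]; exact hJ₁P.trans hPC
  · rw [← hb]
    refine subnStep hJ₁P hPsub ?_
    intro p hp j hj
    rw [hP] at hp
    have h1 : f p ∈ J₁.map f := by rw [hmap]; exact hp.1
    obtain ⟨j₀, hj₀, e1⟩ := h1
    have h2 : f (j₀⁻¹ * p) = 1 := by rw [map_mul, map_inv, e1, inv_mul_cancel]
    have h3 := (q.ker _).1 h2
    have h4 : j₀⁻¹ * p * j = j * (j₀⁻¹ * p) := by
      have h5 : sSup Om ≤ centralizer {j₀⁻¹ * p} :=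
        sSup_le fun K hK k hk => mem_centralizer_singleton_iff.2 (h3 K hK k hk).symm
      exact (mem_centralizer_singleton_iff.1 (h5 (hJ₁S hj))).symm
    have h5 : p * j * p⁻¹ = j₀ * j * j₀⁻¹ := by
      calc p * j * p⁻¹ = j₀ * (j₀⁻¹ * p * j) * p⁻¹ := by group
        _ = j₀ * (j * (j₀⁻¹ * p)) * p⁻¹ := by rw [h4]
        _ = _ := by group
    rw [h5]
    exact mul_mem (mul_mem hj₀ hj) (inv_mem hj₀)
  · exact ((QuotientGroup.quotientMulEquivOfEq hO₁).trans QuotientGroup.quotientBot).trans (e₁.trans e)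

end Cfsg.Agent.Cit.Nil.RTwo
end

-- part: Cit/Nil/RTwo/InnerAw
section
set_option linter.all false
open scoped Cfsg.Agent.FastGrp

/-!
# `BX` in the world (A), `k = 1`: the centraliser of `R_z` is `⟨z⟩`

* `TI.cx_of_ft` : `x ∈ X_z ∩ C(s)` fixing the members over `s` and commuting with `u` of type f at `s` and
  commuting with `z`: `x` or `z x` centralises `R_s`;
* `AW.cx` : `X_z = {1, z}` for `AW`, `SCe`;
* `AW.bx`, `bx_of_inner`.
-/

set_option autoImplicit false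
set_option linter.style.haveILetI false
set_option linter.unusedSectionVars false
set_option maxHeartbeats 400000

namespace Cfsg.Agent.Cit.Nil.RTwo

open Subgroup Cfsg Cit

variable {G : Type*} [Group G]

section

variable [Finite G] {Om : Set (Subgroup G)} {K K1 K2 L M L1 L2 : Subgroup G} {z t u v g r s s' x y w c c' d : G}
  {a b p q : Fin 3 → G}

/-- the action on `L1` of an element commuting with an `f`-element -/
theorem Cf.inner_of_ft (C : Cf Om z s K1 K2 L1 L2 a b p q) (h : W2 Om) (hx : x ∈ CX Om z) (hxs : x * s = s * x)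
    (hx1 : cj x L1 = L1) (hu : FT Om s u) (huz : u * z = z * u) (hxu : x * u = u * x) :
    (∀ k ∈ L1, x * k = k * x) ∨ (∀ k ∈ L1, (z * x) * k = k * (z * x)) := by
  have hxz : x * z = z * x := CX_le C.k1.inZ h hx
  have hxa : x * a 0 = a 0 * x := mem_CX.1 hx K1 C.k1 _ (C.qa.mem 0)
  obtain ⟨h1, h2⟩ := C.pow_or h hxz hxs hxa hx1
  have hz0 := C.symm.ta0
  have hz1 := C.symm.ta1
  rcases h2 with (h2 | h2) | h2
  · left
    intro k hk
    rw [mul_inv_eq_iff_eq_mul] at h1 h2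
    exact C.qc.comm_of h1 h2 hk
  · right
    intro k hk
    rw [mul_inv_eq_iff_eq_mul] at h1 h2 hz1
    refine C.qc.comm_of ?_ ?_ hk
    · rw [mul_assoc, h1, ← mul_assoc, hz0, mul_assoc]
    · calc z * x * p 1 = z * (x * p 1) := by group
        _ = (z * s) * p 1 * x := by rw [h2]; group
        _ = s * (z * p 1) * x := by rw [C.comm]; group
        _ = (s * s) * p 1 * (z * x) := by rw [hz1]; group
        _ = _ := by rw [C.t2, one_mul]
  · exfalso
    have hus : u * s = s * u := hu.fr.comm.symm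
    have huL : u * p 1 * u⁻¹ ∈ L1 := by
      have e1 : cj u L1 = L1 := hu.fr.fx L1 C.l1
      rw [← e1]; exact conj_mem_cj (C.qc.mem 1)
    exact quarter_excl C.qc hxs hus hxu h1 (C.star h hu huz).1 huL h2

/-- `x` or `z x` centralises `R_s` -/
theorem TI.cx_of_ft (hti : TI Om z s) (h : W2 Om) (hx : x ∈ CX Om z) (hxs : x * s = s * x) (hfx : Fx Om s x)
    (hu : FT Om s u) (huz : u * z = z * u) (hxu : x * u = u * x) : x ∈ CX Om s ∨ z * x ∈ CX Om s := by
  obtain ⟨K1, K2, L1, L2, a, b, p, q, C⟩ := hti.exists_cf h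
  rcases C.inner_of_ft h hx hxs (hfx _ C.l1) hu huz hxu with h1 | h1 <;>
  rcases C.swl.inner_of_ft h hx hxs (hfx _ C.l2) hu huz hxu with h2 | h2
  · left
    rw [mem_CX]
    intro K hK
    rcases C.l1.cases C.l2 h C.lne hK with rfl | rfl
    · exact h1
    · exact h2
  · exact (C.swl.no_mix h hx h2 h1).elim
  · exact (C.no_mix h hx h1 h2).elim
  · right
    rw [mem_CX]
    intro K hK
    rcases C.l1.cases C.l2 h C.lne hK with rfl | rfl
    · exact h1
    · exact h2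

namespace AW

variable (W : AW Om)

include W

/-- `spread` with a given element `d` -/
theorem spread_d (hdz : d * z = z * d) (hmv : ∀ s, TI Om z s → d * s * d⁻¹ ≠ s ∧ d * s * d⁻¹ ≠ z * s)
    (Pr : G → Prop) (h1 : ∀ s, TI Om z s → Pr s → Pr (z * s))
    (h2 : ∀ s, TI Om z s → Pr s → Pr (d * s * d⁻¹)) (hti : TI Om z s) (hti' : TI Om z s')
    (hs : Pr s) : Pr s' := by
  have h := W.w
  have hdti : ∀ {s}, TI Om z s → TI Om z (d * s * d⁻¹) := by
    intro s hs
    have := hs.conj h d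
    rwa [hdz, mul_inv_cancel_right] at this
  obtain ⟨K1, K2, a, b, D⟩ := W.dg z hti.1
  have hwti : ∀ i, TI Om z (a i * b i) := fun i => (D.ti _).2 ⟨i, Or.inl rfl⟩
  have hd : ∀ {k : Fin 3}, Dir z a b (a k * b k) k k := Or.inl rfl
  have hf : ∀ i, ∃ j, d * (a i * b i) * d⁻¹ = a j * b j ∨ d * (a i * b i) * d⁻¹ = z * (a j * b j) :=
    fun i => (D.ti _).1 (hdti (hwti i))
  choose f hf using hf
  have hdz' : d * z * d⁻¹ = z := by rw [hdz, mul_inv_cancel_right]
  have hdmz : ∀ k : G, d * (z * k) * d⁻¹ = z * (d * k * d⁻¹) := by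
    intro k
    calc d * (z * k) * d⁻¹ = (d * z * d⁻¹) * (d * k * d⁻¹) := by group
      _ = _ := by rw [hdz']
  have hinj : Function.Injective f := by
    intro i j hij
    have h1 : d * (a i * b i) * d⁻¹ = d * (a j * b j) * d⁻¹ ∨ d * (a i * b i) * d⁻¹ = d * (z * (a j * b j)) * d⁻¹ := by
      rw [hdmz]
      rcases hf i with h3 | h3 <;> rcases hf j with h4 | h4
      · left; rw [h3, h4, hij]
      · right; rw [h3, h4, hij, D.zz]
      · right; rw [h3, h4, hij]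
      · left; rw [h3, h4, hij]
    have h2 : Dir z a b (a i * b i) j j := by
      rcases h1 with h1 | h1
      · exact Or.inl (mul_left_cancel (mul_right_cancel h1))
      · exact Or.inr (mul_left_cancel (mul_right_cancel h1))
    exact (D.fr.dir_unique h hd h2).1
  have hne : ∀ i, f i ≠ i := by
    intro i hi
    obtain ⟨h1, h2⟩ := hmv _ (hwti i)
    rcases hf i with h3 | h3 <;> rw [hi] at h3
    · exact h1 h3
    · exact h2 h3
  obtain ⟨i, hi⟩ := (D.ti s).1 hti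
  obtain ⟨j, hj⟩ := (D.ti s').1 hti'
  have key0 : Pr (a i * b i) := by
    rcases hi with hi | hi
    · rw [← hi]; exact hs
    · have : a i * b i = z * s := by rw [hi, D.zz]
      rw [this]
      exact h1 _ hti hs
  have keyf : ∀ k, Pr (a k * b k) → Pr (a (f k) * b (f k)) := by
    intro k hk
    have h3 := h2 _ (hwti k) hk
    rcases hf k with h4 | h4
    · rwa [h4] at h3
    · have : a (f k) * b (f k) = z * (d * (a k * b k) * d⁻¹) := by rw [h4, D.zz]
      rw [this]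
      exact h1 _ (hdti (hwti k)) h3
  have keyj : Pr (a j * b j) := by
    rcases AW2.fin_three f hinj hne i j with h3 | h3 | h3 <;> rw [h3]
    · exact key0
    · exact keyf _ key0
    · exact keyf _ (keyf _ key0)
  rcases hj with hj | hj
  · rw [hj]; exact keyj
  · rw [hj]; exact h1 _ (hwti j) keyj

/-- **`X_z = ⟨z⟩`** in the world (A), `k = 1`, with `SCe` -/
theorem cx (hSC : SCe Om) (hz : InZ Om z) (hx : x ∈ CX Om z) : x = 1 ∨ x = z := by
  have h := W.w
  rcases W.one_or_two with hp | hp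
  swap
  · exact (AW2.false_of ⟨W, hp⟩ hSC hz).elim
  have P : POne Om := ⟨W.w, W.line, hp⟩
  rcases pone_dich W P with hI | hF
  · exfalso
    have h2 : ∀ z t, InZ Om z → InZ Om t → z * t = t * z → AS Om z = AS Om t := by
      intro z t hz ht hc
      have : {x | x = z ∨ TI Om z x} = {x | x = t ∨ TI Om t x} := by
        ext x; exact P.const hI hz ht hc x
      rw [AS, AS, this]
    have h3 := hSC (AS Om) (fun g z _ => (AS_conj h g).symm) (fun z hz x hx => by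
      rw [mem_centralizer_singleton_iff]
      exact W.AS_comm hz hx z_mem_AS) h2 z hz
    have h4 : z ∈ AS Om z := z_mem_AS
    rw [h3, mem_bot] at h4
    exact hz.z1 h h4
  have hNI : NI Om z = ⊥ :=
    hSC (NI Om) (fun g z _ => NI_conj h g z) (fun z hz => NI_le h hz)
      (fun z t hz ht hc => NI_const_di h (di_of_one h W.line hp hz ht hc)) z hz
  obtain ⟨d, hdz, -, hdX, hmv⟩ := W.d3 z hz
  have hmain : ∀ s, TI Om z s → x ∈ CX Om s ∨ z * x ∈ CX Om s := by
    intro s hti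
    have hti' : TI Om z (d * s * d⁻¹) := by
      have := hti.conj h d
      rwa [hdz, mul_inv_cancel_right] at this
    obtain ⟨n1, n2⟩ := hmv s hti
    have hu : FT Om s (d * s * d⁻¹) := hF z s _ hti hti' (Ne.symm n1) n2
    have hxs : x * s = s * x := CX_comm (P.mem_RZ hti) hx
    have hxu := CX_comm (P.mem_RZ hti') hx
    have hfx : Fx Om s x := (P.fx_iff hti (CX_le hz h hx) hxs).1 ((Inn.of_CX hx).fx h)
    exact hti.cx_of_ft h hx hxs hfx hu hti'.2.2.2.1.symm hxu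
  have hall : ∀ y ∈ CX Om z, ∀ s, TI Om z s → y ∈ CX Om s → y = 1 := by
    intro y hy s hti hys
    have h3 : y ∈ NI Om z := by
      rw [mem_NI]
      refine ⟨hy, fun s' hti' => ?_⟩
      refine W.spread_d hdz hmv (fun s => y ∈ CX Om s) (fun s hs hys => ?_) (fun s hs hys => ?_) hti hti' hys
      · obtain ⟨v, hv, hvs⟩ := hs.exists_R h
        have h4 : v * y * v⁻¹ ∈ CX Om (v * s * v⁻¹) := (CX_conj h v).2 hys
        have h5 : v * y * v⁻¹ = y := by rw [← CX_comm hv hy, mul_inv_cancel_right]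
        rwa [h5, hvs] at h4
      · have h4 : d * y * d⁻¹ ∈ CX Om (d * s * d⁻¹) := (CX_conj h d).2 hys
        have h5 : d * y * d⁻¹ = y := by rw [hdX y hy, mul_inv_cancel_right]
        rwa [h5] at h4
    rw [hNI] at h3
    exact mem_bot.1 h3
  obtain ⟨s, hti⟩ := W.exists_ti hz
  rcases hmain s hti with h3 | h3
  · exact Or.inl (hall x hx s hti h3)
  · right
    have hzX : z ∈ CX Om z := by
      rw [mem_CX]
      intro K hK k hk
      exact (hK.comm_z h hk).symm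
    have h4 := hall (z * x) (mul_mem hzX hx) s hti h3
    have h5 : x = z * (z * x) := by rw [← mul_assoc, hz.z2 h, one_mul]
    rw [h5, h4, mul_one]

theorem bx (hSC : SCe Om) : BX Om := BX.of_cx W.w fun _ _ hz hx => W.cx hSC hz hx

end AW

end

section

universe u

variable {G : Type u} [Group G] [Finite G] {Om : Set (Subgroup G)} {X : Subgroup G}

/-- **`BX`**, if there is no `IThree` -/
theorem bx_of_inner (i : LIn.{u}) (h : W2 Om) (hc : OneCls Om) (hr : Rot Om) (hF : CFA G) (hne : Om.Nonempty)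
    (f : ROne.FSimp X) (h2 : 2 ∣ Nat.card X) (h3 : ¬ IThree Om) : BX Om := by
  rcases main_inner' i h hc hr hF hne f h2 h3 with ⟨-, W, hSC⟩ | ⟨S, W, -⟩
  · exact W.bx hSC
  · exact S.bx W

end

end Cfsg.Agent.Cit.Nil.RTwo
end

-- part: Cit/Nil/RG/Leaf_mg
section
prune_inst 0x30100440221200001800166000044052000092006f8c00d5400b42068e354120000f20f4e03b130022a24c003c806813cc00000010000020008600411d01a084825202b248110426001f809005500000000000000000000000000000041000000000000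
set_option linter.all false
open scoped Cfsg.Agent.FastGrp

-- part: Cit/Nil/RG/TIFour
section
/-!
# (6b), general `r`: a pair of type I and `r ≥ 3` force `r = 4` (blueprint, (1.1), (1.2))

* `WR.third` : the elements of order four on the third axis;
* `WR.ti_conj` (1.1) : `x⁻¹ w x ∈ {1, s} y w` for `x ∈ K` off the axis of `y`, `t` acts on `K` as `y`, `s` acts on `L` as `w`;
* `WR.ncard_of_ti` (1.2) : `r = 4`; `NoTI.of_ne` : no pairs of type I, if `r ≥ 3`, `r ≠ 4`.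
-/

set_option autoImplicit false
set_option linter.style.haveILetI false
set_option linter.unusedSectionVars false

namespace Cfsg.Agent.Cit.Nil.RG

open Subgroup Cfsg Cit QuaternionGroup
open Cfsg.Agent.Cit.Nil.ROne

variable {G : Type*} [Group G] {Om : Set (Subgroup G)} {K L M K' L' : Subgroup G} {s t x y w x' y' w' g b k l c : G}

namespace WR

variable (h : WR Om)

include h

/-- the third axis -/
theorem third (hK : K ∈ Om) (hy : y ∈ K) (hb : b ∈ K) (hc : c ∈ K) (hyy : y * y = zz K) (hbb : b * b = zz K)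
    (hcc : c * c = zz K) (h1 : b ≠ y) (h2 : b ≠ y⁻¹) (h3 : c ≠ y) (h4 : c ≠ y⁻¹) (h5 : c ≠ b) (h6 : c ≠ b⁻¹) :
    c * b⁻¹ = y ∨ c * b⁻¹ = y⁻¹ := by
  have h7 := QE.third (h.e hK ⟨y, hy⟩) (h.e hK ⟨b, hb⟩) (h.e hK ⟨c, hc⟩)
    (by rw [← h.e_mul hK hy hy, ← h.e_z hK, h.e_eq hK]; exact hyy)
    (by rw [← h.e_mul hK hb hb, ← h.e_z hK, h.e_eq hK]; exact hbb)
    (by rw [← h.e_mul hK hc hc, ← h.e_z hK, h.e_eq hK]; exact hcc)
    (by rw [Ne, h.e_eq hK]; exact h1) (by rw [← h.e_inv hK hy, Ne, h.e_eq hK]; exact h2)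
    (by rw [Ne, h.e_eq hK]; exact h3) (by rw [← h.e_inv hK hy, Ne, h.e_eq hK]; exact h4)
    (by rw [Ne, h.e_eq hK]; exact h5) (by rw [← h.e_inv hK hb, Ne, h.e_eq hK]; exact h6)
  rw [← h.e_inv hK hb, ← h.e_mul hK hc (inv_mem hb), ← h.e_inv hK hy, h.e_eq hK, h.e_eq hK] at h7
  exact h7

/-- **(1.1)** -/
theorem ti_conj (hK : K ∈ Ov Om s) (hL : L ∈ Ov Om t) (hy : y ∈ K) (hyy : y * y = s)
    (hact : ∀ k ∈ K, t * k * t⁻¹ = y * k * y⁻¹) (hw : w ∈ L) (hww : w * w = t)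
    (hactL : ∀ l ∈ L, s * l * s⁻¹ = w * l * w⁻¹) (hx : x ∈ K) (hxx : x * x = s) (h1 : x ≠ y) (h2 : x ≠ y⁻¹) :
    x⁻¹ * t * x = s * t ∧ ∃ c, (c = 1 ∨ c = s) ∧ x⁻¹ * w * x = c * (y * w) := by
  have hs : s ∈ ZZ Om := Ov_zz hK
  have hss := h.zz_sq hs
  have hsi := h.zz_inv hs
  have hsc : ∀ {k : G}, k ∈ K → s * k = k * s := fun hk => h.Ov_cen hK hk
  have hws : w * s = s * w := by
    have h3 := hactL w hw
    rw [mul_inv_cancel_right, mul_inv_eq_iff_eq_mul] at h3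
    exact h3.symm
  have hwK : cj w K = K := h.h3 L hL.1 K hK.1 w hw (by rw [hww, hL.2]) (by rw [hK.2]; exact hws)
  have hwm : ∀ {k : G}, k ∈ K → w * k * w⁻¹ ∈ K := fun hk => conj_mem_of_cj hwK hk
  -- anticommuting
  have hxy : x * y = s * (y * x) := by
    have h3 := (h.anti hK.1 hy hx (by rw [hyy, hK.2]) (by rw [hxx, hK.2]) h1 h2).1
    rw [hK.2] at h3; exact h3
  have hyx : y * x = s * (x * y) := by rw [hxy, ← mul_assoc, hss, one_mul]
  have htx : t * x * t⁻¹ = s * x := by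
    rw [hact x hx, hyx, mul_assoc, mul_assoc, mul_inv_cancel, mul_one]
  have hxt : x⁻¹ * t * x = s * t := by
    have h3 : t * x = s * x * t := mul_inv_eq_iff_eq_mul.1 htx
    rw [mul_assoc, h3, hsc hx]
    group
  refine ⟨hxt, ?_⟩
  -- inverses
  have hyi : y⁻¹ = s * y := by
    rw [inv_eq_iff_mul_eq_one, hsc hy, ← mul_assoc, hyy, hss]
  have hxi : x⁻¹ = s * x := by
    rw [inv_eq_iff_mul_eq_one, hsc hx, ← mul_assoc, hxx, hss]
  -- `x' = w x w⁻¹`
  obtain ⟨x', hx'⟩ : ∃ x', x' = w * x * w⁻¹ := ⟨_, rfl⟩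
  have hx'K : x' ∈ K := by rw [hx']; exact hwm hx
  have hwsw : w * s * w⁻¹ = s := by rw [hws, mul_inv_cancel_right]
  have hx'x' : x' * x' = s := by
    rw [hx']
    calc w * x * w⁻¹ * (w * x * w⁻¹) = w * (x * x) * w⁻¹ := by group
      _ = s := by rw [hxx, hwsw]
  have hwx' : w * x' * w⁻¹ = s * x := by
    rw [hx', ← htx, ← hww]; group
  have hws' : ∀ k : G, w * (s * k) * w⁻¹ = s * (w * k * w⁻¹) := by
    intro k
    calc w * (s * k) * w⁻¹ = (w * s) * k * w⁻¹ := by group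
      _ = _ := by rw [hws]; group
  have hxs : x ≠ s * x := fun e => h.zz_ne hs (mul_eq_right.1 e.symm)
  have n1 : x' ≠ x := by
    intro e
    rw [e] at hwx'
    have h3 : w * x * w⁻¹ = x := by rw [← hx', e]
    rw [h3] at hwx'
    exact hxs hwx'
  have n2 : x' ≠ x⁻¹ := by
    intro e
    rw [hxi] at e
    rw [e, hws', ← hx', e, ← mul_assoc, hss, one_mul] at hwx'
    exact hxs hwx'
  -- `w y w⁻¹ ∈ {y, s y}`
  have hwy : w * y * w⁻¹ = y ∨ w * y * w⁻¹ = s * y := by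
    have hwt : w * t = t * w := by rw [← hww, mul_assoc]
    have h3 : ∀ k ∈ K, (y⁻¹ * (w * y * w⁻¹)) * k = k * (y⁻¹ * (w * y * w⁻¹)) := by
      intro k hk
      have hk' : w⁻¹ * k * w ∈ K := by
        have h4 := conj_mem_of_cj (cj_inv_eq hwK) hk
        rwa [inv_inv] at h4
      have h4 := hact _ hk'
      have h5 : w * (t * (w⁻¹ * k * w) * t⁻¹) * w⁻¹ = t * k * t⁻¹ := by
        have h6 : w⁻¹ * t⁻¹ = t⁻¹ * w⁻¹ := by rw [← _root_.mul_inv_rev, ← _root_.mul_inv_rev, hwt]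
        calc w * (t * (w⁻¹ * k * w) * t⁻¹) * w⁻¹ = (w * t) * w⁻¹ * k * (w * (t⁻¹ * w⁻¹)) := by group
          _ = (t * w) * w⁻¹ * k * (w * (w⁻¹ * t⁻¹)) := by rw [hwt, ← h6]
          _ = _ := by group
      rw [h4] at h5
      rw [hact k hk] at h5
      have h6 : (w * y * w⁻¹) * k * (w * y * w⁻¹)⁻¹ = y * k * y⁻¹ := by rw [← h5]; group
      have h7 : (w * y * w⁻¹) * k = y * k * y⁻¹ * (w * y * w⁻¹) := mul_inv_eq_iff_eq_mul.1 h6
      calc (y⁻¹ * (w * y * w⁻¹)) * k = y⁻¹ * ((w * y * w⁻¹) * k) := by group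
        _ = _ := by rw [h7]; group
    rcases h.Ov_central hK (mul_mem (inv_mem hy) (hwm hy)) h3 with h4 | h4
    · left; exact (inv_mul_eq_one.1 h4).symm
    · right
      rw [inv_mul_eq_iff_eq_mul] at h4
      rw [h4, hsc hy]
  have n3 : x' ≠ y := by
    intro e
    rcases hwy with h3 | h3
    · apply h1
      have h4 : w * x * w⁻¹ = w * y * w⁻¹ := by rw [← hx', e, h3]
      exact mul_left_cancel (mul_right_cancel h4)
    · apply h2
      have h4 : w * x * w⁻¹ = w * (s * y) * w⁻¹ := by rw [← hx', e, hws', h3, ← mul_assoc, hss, one_mul]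
      rw [hyi]
      exact mul_left_cancel (mul_right_cancel h4)
  have n4 : x' ≠ y⁻¹ := by
    intro e
    rw [hyi] at e
    rcases hwy with h3 | h3
    · apply h2
      have h4 : w * x * w⁻¹ = w * (s * y) * w⁻¹ := by rw [← hx', e, hws', h3]
      rw [hyi]
      exact mul_left_cancel (mul_right_cancel h4)
    · apply h1
      have h4 : w * x * w⁻¹ = w * y * w⁻¹ := by rw [← hx', e, h3]
      exact mul_left_cancel (mul_right_cancel h4)
  have h3 := h.third hK.1 hy hx hx'K (by rw [hyy, hK.2]) (by rw [hxx, hK.2]) (by rw [hx'x', hK.2]) h1 h2 n3 n4 n1 n2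
  -- `x' = y^{±1} x`
  have h4 : x' = y * x ∨ x' = s * (y * x) := by
    rcases h3 with h3 | h3
    · left; exact mul_inv_eq_iff_eq_mul.1 h3
    · right; rw [mul_inv_eq_iff_eq_mul.1 h3, hyi, mul_assoc]
  have key : x⁻¹ * w * x = x⁻¹ * x' * w := by rw [hx']; group
  have h5 : x⁻¹ * (y * x) = s * y := by
    rw [hyx, ← mul_assoc s, hsc hx, mul_assoc, inv_mul_cancel_left]
  rcases h4 with h4 | h4
  · refine ⟨s, Or.inr rfl, ?_⟩
    rw [key, h4, h5, mul_assoc]
  · refine ⟨1, Or.inl rfl, ?_⟩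
    have h6 : x⁻¹ * (s * (y * x)) = y := by
      have h7 : x⁻¹ * s = s * x⁻¹ := (hsc (inv_mem hx)).symm
      rw [← mul_assoc, h7, mul_assoc, h5, ← mul_assoc, hss, one_mul]
    rw [key, h4, h6, one_mul]

/-- a nontrivial inner action -/
theorem IN_nc (hin : IN Om x s) (hK : K ∈ Ov Om s) : ¬ ∀ k ∈ K, x * k = k * x := by
  intro h1
  obtain ⟨y, hy, hyy, h2⟩ := hin K hK
  have h3 : ∀ k ∈ K, y * k = k * y := by
    intro k hk
    have h4 := h2 k hk
    rw [h1 k hk, mul_inv_cancel_right] at h4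
    exact (mul_inv_eq_iff_eq_mul.1 h4.symm)
  rcases h.Ov_central hK hy h3 with h4 | h4
  · rw [h4, one_mul] at hyy; exact h.zz_ne (Ov_zz hK) hyy.symm
  · rw [h4, h.zz_sq (Ov_zz hK)] at hyy; exact h.zz_ne (Ov_zz hK) hyy.symm

/-- an element of order four is not central -/
theorem four_nc' (hK : K ∈ Ov Om s) (hy : y ∈ K) (hyy : y * y = s) : ¬ ∀ k ∈ K, y * k = k * y := by
  intro h3
  rcases h.Ov_central hK hy h3 with h4 | h4
  · rw [h4, one_mul] at hyy; exact h.zz_ne (Ov_zz hK) hyy.symm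
  · rw [h4, h.zz_sq (Ov_zz hK)] at hyy; exact h.zz_ne (Ov_zz hK) hyy.symm

/-- (1.2), two members -/
theorem ti_conj_two (hK : K ∈ Ov Om s) (hK' : K' ∈ Ov Om s) (hne : K ≠ K') (hL : L ∈ Ov Om t) (hy : y ∈ K)
    (hyy : y * y = s) (hact : ∀ k ∈ K, t * k * t⁻¹ = y * k * y⁻¹) (hy' : y' ∈ K') (hyy' : y' * y' = s)
    (hact' : ∀ k ∈ K', t * k * t⁻¹ = y' * k * y'⁻¹) (hw : w ∈ L) (hww : w * w = t)
    (hactL : ∀ l ∈ L, s * l * s⁻¹ = w * l * w⁻¹) (hx : x ∈ K) (hxx : x * x = s) (h1 : x ≠ y) (h2 : x ≠ y⁻¹)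
    (hx' : x' ∈ K') (hxx' : x' * x' = s) (h1' : x' ≠ y') (h2' : x' ≠ y'⁻¹) :
    (x * x')⁻¹ * t * (x * x') = t ∧ ∃ c, (c = 1 ∨ c = s) ∧ (x * x')⁻¹ * w * (x * x') = c * (y * y') * w := by
  obtain ⟨e1, c, hc, e2⟩ := h.ti_conj hK hL hy hyy hact hw hww hactL hx hxx h1 h2
  obtain ⟨e1', c', hc', e2'⟩ := h.ti_conj hK' hL hy' hyy' hact' hw hww hactL hx' hxx' h1' h2'
  have hss := h.zz_sq (Ov_zz hK)
  have hsx' : s * x' = x' * s := h.Ov_cen hK' hx'
  have hcx' : c * x' = x' * c := by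
    rcases hc with rfl | rfl
    · rw [one_mul, mul_one]
    · exact hsx'
  have hc'y : c' * y = y * c' := by
    rcases hc' with rfl | rfl
    · rw [one_mul, mul_one]
    · exact h.Ov_cen hK hy
  have hyx' : y * x' = x' * y := h.Ov_comm hK hK' hne hy hx'
  refine ⟨?_, c * c', ?_, ?_⟩
  · calc (x * x')⁻¹ * t * (x * x') = x'⁻¹ * (x⁻¹ * t * x) * x' := by group
      _ = x'⁻¹ * (s * t) * x' := by rw [e1]
      _ = (x'⁻¹ * s) * x' * (x'⁻¹ * t * x') := by group
      _ = s * (s * t) := by rw [e1', mul_assoc x'⁻¹, hsx', inv_mul_cancel_left]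
      _ = t := by rw [← mul_assoc, hss, one_mul]
  · rcases hc with rfl | rfl <;> rcases hc' with rfl | rfl
    · left; rw [one_mul]
    · right; rw [one_mul]
    · right; rw [mul_one]
    · left; exact hss
  · calc (x * x')⁻¹ * w * (x * x') = x'⁻¹ * (x⁻¹ * w * x) * x' := by group
      _ = x'⁻¹ * (c * (y * w)) * x' := by rw [e2]
      _ = (x'⁻¹ * (c * x')) * (x'⁻¹ * (y * x')) * (x'⁻¹ * w * x') := by group
      _ = c * y * (c' * (y' * w)) := by rw [hcx', hyx', inv_mul_cancel_left, inv_mul_cancel_left, e2']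
      _ = c * (y * c') * y' * w := by group
      _ = c * c' * (y * y') * w := by rw [← hc'y]; group

/-- (1.2) -/
theorem ti_ne (h3 : R3 Om) [Finite G] (hti : TI Om s t) (hK : K ∈ Ov Om s) (hK' : K' ∈ Ov Om s) (hne : K ≠ K')
    (hL : L ∈ Ov Om t) (hy : y ∈ K) (hyy : y * y = s) (hy' : y' ∈ K') (hyy' : y' * y' = s) (hw : w ∈ L)
    (hc : c = 1 ∨ c = s) (hg : g⁻¹ * w * g = c * (y * y') * w) : cj g⁻¹ L ≠ L := by
  intro hcj
  have hss := h.zz_sq (Ov_zz hK)
  obtain ⟨e, he⟩ : ∃ e, e = c * (y * y') := ⟨_, rfl⟩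
  have hgw : g⁻¹ * w * g ∈ L := by
    have h4 := conj_mem_cj (g := g⁻¹) hw
    rw [hcj, inv_inv] at h4
    exact h4
  have heL : e ∈ L := by
    rw [he, ← mul_inv_eq_iff_eq_mul.2 hg]
    exact mul_mem hgw (inv_mem hw)
  have hcy : ∀ {k : G}, k ∈ K → c * k = k * c := by
    intro k hk
    rcases hc with rfl | rfl
    · rw [one_mul, mul_one]
    · exact h.Ov_cen hK hk
  have hcy' : ∀ {k : G}, k ∈ K' → c * k = k * c := by
    intro k hk
    rcases hc with rfl | rfl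
    · rw [one_mul, mul_one]
    · exact h.Ov_cen hK' hk
  have hcc : c * c = 1 := by
    rcases hc with rfl | rfl
    · rw [one_mul]
    · exact hss
  have hyy2 : y * y' = y' * y := h.Ov_comm hK hK' hne hy hy'
  have hee : e * e = 1 := by
    rw [he]
    calc c * (y * y') * (c * (y * y')) = c * y * (y' * c) * (y * y') := by group
      _ = c * (y * c) * y' * (y * y') := by rw [← hcy' hy']; group
      _ = (c * c) * (y * (y' * y) * y') := by rw [← hcy hy]; group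
      _ = (c * c) * ((y * y) * (y' * y')) := by rw [← hyy2]; group
      _ = 1 := by rw [hcc, hyy, hyy', hss, one_mul]
  rcases h.uniq hL.1 heL hee with h4 | h4
  · -- `e = 1`
    have h5 : y = c⁻¹ * y'⁻¹ := by
      rw [he, ← mul_assoc] at h4
      rw [eq_inv_mul_iff_mul_eq]
      exact mul_eq_one_iff_eq_inv.1 h4
    have hcK' : c ∈ K' := by
      rcases hc with rfl | rfl
      · exact one_mem _
      · exact h.Ov_mem hK'
    have h6 : y ∈ K' := by rw [h5]; exact mul_mem (inv_mem hcK') (inv_mem hy')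
    exact h.four_nc' hK hy hyy fun k hk => (h.Ov_comm hK hK' hne hk h6).symm
  · -- `e = t`
    rw [hL.2] at h4
    obtain ⟨M, hM, hMK, hMK'⟩ := exists_third (h3 s (Ov_zz hK)) K K'
    refine h.IN_nc hti.2 hM fun k hk => ?_
    have h6 : y * k = k * y := (h.Ov_comm hM hK hMK hk hy).symm
    have h7 : y' * k = k * y' := (h.Ov_comm hM hK' hMK' hk hy').symm
    have h8 : c * k = k * c := by
      rcases hc with rfl | rfl
      · rw [one_mul, mul_one]
      · exact h.Ov_cen hM hk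
    rw [← h4, he]
    calc c * (y * y') * k = c * y * (y' * k) := by group
      _ = c * (y * k) * y' := by rw [h7]; group
      _ = (c * k) * (y * y') := by rw [h6]; group
      _ = k * (c * (y * y')) := by rw [h8]; group

/-- **(1.2)**: a pair of type I and `r ≥ 3` : `r = 4` -/
theorem ncard_of_ti [Finite G] (h3 : R3 Om) (hti : TI Om s t) (hs : s ∈ ZZ Om) (ht : t ∈ ZZ Om) :
    (Ov Om t).ncard = 4 := by
  have hss := h.zz_sq hs
  have hsi := h.zz_inv hs
  obtain ⟨K, hK⟩ := id hs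
  obtain ⟨K', hK', hKK', -⟩ := exists_third (h3 s hs) K K
  obtain ⟨K'', hK'', hK''K, hK''K'⟩ := exists_third (h3 s hs) K K'
  obtain ⟨y, hy, hyy, hact⟩ := hti.2 K hK
  obtain ⟨y', hy', hyy', hact'⟩ := hti.2 K' hK'
  obtain ⟨y'', hy'', hyy'', hact''⟩ := hti.2 K'' hK''
  have hoff : ∀ {K : Subgroup G} {y : G}, K ∈ Ov Om s → y ∈ K → y * y = s → ∃ x ∈ K, x * x = s ∧ x ≠ y ∧ x ≠ y⁻¹ := by
    intro K y hK hy hyy
    obtain ⟨x, hx, h4, h5, h6⟩ := h.exists_anti hK.1 hy (by rw [hyy, hK.2])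
    rw [hK.2] at h4
    exact ⟨x, hx, h4, h5, h6⟩
  obtain ⟨x, hx, hxx, hx1, hx2⟩ := hoff hK hy hyy
  obtain ⟨x', hx', hxx', hx1', hx2'⟩ := hoff hK' hy' hyy'
  obtain ⟨x'', hx'', hxx'', hx1'', hx2''⟩ := hoff hK'' hy'' hyy''
  obtain ⟨g, hg⟩ : ∃ g, g = x * x' := ⟨_, rfl⟩
  -- the formula
  have key : ∀ L ∈ Ov Om t, ∃ w ∈ L, w * w = t ∧ (∀ l ∈ L, s * l * s⁻¹ = w * l * w⁻¹) ∧ g⁻¹ * t * g = t ∧
      ∃ c, (c = 1 ∨ c = s) ∧ g⁻¹ * w * g = c * (y * y') * w := by
    intro L hL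
    obtain ⟨w, hw, hww, hactL⟩ := hti.1 L hL
    obtain ⟨e1, c, hc, e2⟩ := h.ti_conj_two hK hK' hKK'.symm hL hy hyy hact hy' hyy' hact' hw hww hactL hx hxx hx1 hx2
      hx' hxx' hx1' hx2'
    rw [hg]
    exact ⟨w, hw, hww, hactL, e1, c, hc, e2⟩
  have hgt : g⁻¹ * t * g = t := by
    obtain ⟨L, hL⟩ := id ht
    obtain ⟨w, hw, hww, hactL, e1, -⟩ := key L hL
    exact e1
  have hgt' : g⁻¹ * t = t * g⁻¹ := by
    calc g⁻¹ * t = (g⁻¹ * t * g) * g⁻¹ := by group
      _ = _ := by rw [hgt]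
  have hOv : ∀ {L}, L ∈ Ov Om t → cj g⁻¹ L ∈ Ov Om t := fun hL => h.Ov_cj' hL hgt'
  have hne : ∀ {L}, L ∈ Ov Om t → cj g⁻¹ L ≠ L := by
    intro L hL
    obtain ⟨w, hw, hww, hactL, e1, c, hc, e2⟩ := key L hL
    exact h.ti_ne h3 hti hK hK' hKK'.symm hL hy hyy hy' hyy' hw hc e2
  have hcj : ∀ {L : Subgroup G} {w : G}, w ∈ L → g⁻¹ * w * g ∈ cj g⁻¹ L := by
    intro L w hw
    have h4 := conj_mem_cj (g := g⁻¹) hw
    rwa [inv_inv] at h4
  -- two members over `t`
  obtain ⟨L, hL⟩ := id ht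
  have hL' := hOv hL
  obtain ⟨L₁, hL₁, hL₁L, hL₁L'⟩ := exists_third (h3 t ht) L (cj g⁻¹ L)
  have hL₁' := hOv hL₁
  obtain ⟨w, hw, hww, hactL, -, c, hc, e2⟩ := key L hL
  obtain ⟨w₁, hw₁, hww₁, hactL₁, -, c₁, hc₁, e2₁⟩ := key L₁ hL₁
  have hLL' := hne hL
  have hL₁L₁' := hne hL₁
  have hL'L₁' : cj g⁻¹ L ≠ cj g⁻¹ L₁ := fun e => hL₁L (cj_inj.1 e).symm
  -- `s = a w₁⁻¹ w b⁻¹`
  obtain ⟨a, ha⟩ : ∃ a, a = g⁻¹ * w₁ * g := ⟨_, rfl⟩
  obtain ⟨b, hb⟩ : ∃ b, b = g⁻¹ * w * g := ⟨_, rfl⟩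
  have haL : a ∈ cj g⁻¹ L₁ := by rw [ha]; exact hcj hw₁
  have hbL : b ∈ cj g⁻¹ L := by rw [hb]; exact hcj hw
  rw [← hb] at e2
  rw [← ha] at e2₁
  have hsabs : s = a * w₁⁻¹ * (w * b⁻¹) := by
    have e3 : a * w₁⁻¹ = c₁ * (y * y') := mul_inv_eq_iff_eq_mul.2 e2₁
    have e4 : w * b⁻¹ = (c * (y * y'))⁻¹ := by rw [e2]; group
    -- `c₁ = c` is impossible
    have e5 : c₁ * c⁻¹ = 1 ∨ c₁ * c⁻¹ = s := by
      rcases hc with rfl | rfl <;> rcases hc₁ with rfl | rfl
      · left; group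
      · right; group
      · right; rw [one_mul, hsi]
      · left; group
    have e6 : a * w₁⁻¹ * (w * b⁻¹) = c₁ * c⁻¹ := by rw [e3, e4]; group
    rcases e5 with e5 | e5
    · exfalso
      rw [e5] at e6
      -- `w₁` is central in `L₁`
      apply h.four_nc' hL₁ hw₁ hww₁
      intro k hk
      have h5 : w * k = k * w := (h.Ov_comm hL₁ hL hL₁L hk hw).symm
      have h6 : b * k = k * b := (h.Ov_comm hL₁ hL' hL₁L' hk hbL).symm
      have h7 : a * k = k * a := (h.Ov_comm hL₁ hL₁' hL₁L₁'.symm hk haL).symm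
      have h8 : w₁ = (w * b⁻¹) * a := by
        have h9 : a * w₁⁻¹ = (w * b⁻¹)⁻¹ := mul_eq_one_iff_eq_inv.1 e6
        calc w₁ = (a * w₁⁻¹)⁻¹ * a := by group
          _ = _ := by rw [h9, inv_inv]
      have h10 : b⁻¹ * k = k * b⁻¹ := by rw [inv_mul_eq_iff_eq_mul, ← mul_assoc, h6, mul_inv_cancel_right]
      rw [h8]
      calc w * b⁻¹ * a * k = w * b⁻¹ * (a * k) := by group
        _ = w * (b⁻¹ * k) * a := by rw [h7]; group
        _ = (w * k) * (b⁻¹ * a) := by rw [h10]; group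
        _ = k * (w * b⁻¹ * a) := by rw [h5]; group
    · rw [e6, e5]
  have hsub : ∀ M ∈ Ov Om t, M = L ∨ M = cj g⁻¹ L ∨ M = L₁ ∨ M = cj g⁻¹ L₁ := by
    intro M hM
    by_contra hcon
    push Not at hcon
    obtain ⟨m1, m2, m3, m4⟩ := hcon
    refine h.IN_nc hti.1 hM fun k hk => ?_
    have h5 : w * k = k * w := (h.Ov_comm hM hL m1 hk hw).symm
    have h6 : b * k = k * b := (h.Ov_comm hM hL' m2 hk hbL).symm
    have h7 : a * k = k * a := (h.Ov_comm hM hL₁' m4 hk haL).symm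
    have h8 : w₁ * k = k * w₁ := (h.Ov_comm hM hL₁ m3 hk hw₁).symm
    have h10 : b⁻¹ * k = k * b⁻¹ := by rw [inv_mul_eq_iff_eq_mul, ← mul_assoc, h6, mul_inv_cancel_right]
    have h11 : w₁⁻¹ * k = k * w₁⁻¹ := by rw [inv_mul_eq_iff_eq_mul, ← mul_assoc, h8, mul_inv_cancel_right]
    rw [hsabs]
    calc a * w₁⁻¹ * (w * b⁻¹) * k = a * w₁⁻¹ * w * (b⁻¹ * k) := by group
      _ = a * w₁⁻¹ * (w * k) * b⁻¹ := by rw [h10]; group
      _ = a * (w₁⁻¹ * k) * (w * b⁻¹) := by rw [h5]; group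
      _ = (a * k) * (w₁⁻¹ * (w * b⁻¹)) := by rw [h11]; group
      _ = k * (a * w₁⁻¹ * (w * b⁻¹)) := by rw [h7]; group
  -- `L₁' ≠ L`
  have hL₁'L : cj g⁻¹ L₁ ≠ L := by
    intro hE
    rw [hE] at haL
    have haa : a * a = t := by
      rw [ha]
      calc g⁻¹ * w₁ * g * (g⁻¹ * w₁ * g) = g⁻¹ * (w₁ * w₁) * g := by group
        _ = t := by rw [hww₁, hgt]
    refine h.four_nc' hL haL haa fun k hk => ?_
    -- `k = w l w⁻¹`
    obtain ⟨l, hl⟩ : ∃ l, l = w⁻¹ * k * w := ⟨_, rfl⟩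
    have hlL : l ∈ L := by rw [hl]; exact mul_mem (mul_mem (inv_mem hw) hk) hw
    have h5 := hactL l hlL
    have h6 : b * l = l * b := (h.Ov_comm hL hL' hLL'.symm hlL hbL).symm
    have h10 : b⁻¹ * l = l * b⁻¹ := by rw [inv_mul_eq_iff_eq_mul, ← mul_assoc, h6, mul_inv_cancel_right]
    have h8 : w₁ * k = k * w₁ := (h.Ov_comm hL hL₁ hL₁L.symm hk hw₁).symm
    have h11 : w₁⁻¹ * k = k * w₁⁻¹ := by rw [inv_mul_eq_iff_eq_mul, ← mul_assoc, h8, mul_inv_cancel_right]
    have hwl : w * l * w⁻¹ = k := by rw [hl]; group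
    have h12 : s * l * s⁻¹ = a * k * a⁻¹ := by
      calc s * l * s⁻¹ = a * w₁⁻¹ * (w * b⁻¹) * l * (a * w₁⁻¹ * (w * b⁻¹))⁻¹ := by rw [← hsabs]
        _ = a * w₁⁻¹ * w * (b⁻¹ * l) * b * w⁻¹ * w₁ * a⁻¹ := by group
        _ = a * w₁⁻¹ * (w * l * w⁻¹) * w₁ * a⁻¹ := by rw [h10]; group
        _ = a * (w₁⁻¹ * k) * w₁ * a⁻¹ := by rw [hwl]; group
        _ = a * k * a⁻¹ := by rw [h11]; group
    rw [h5, hwl] at h12
    exact (mul_inv_eq_iff_eq_mul.1 h12.symm)
  have hset : Ov Om t = {L, cj g⁻¹ L, L₁, cj g⁻¹ L₁} := by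
    ext M
    constructor
    · intro hM
      exact hsub M hM
    · rintro (rfl | rfl | rfl | rfl)
      · exact hL
      · exact hL'
      · exact hL₁
      · exact hL₁'
  rw [hset, Set.ncard_insert_of_notMem, Set.ncard_insert_of_notMem, Set.ncard_pair]
  · exact hL₁L₁'.symm
  · rintro (e | e)
    · exact hL₁L' e.symm
    · exact hL'L₁' e
  · rintro (e | e | e)
    · exact hLL' e.symm
    · exact hL₁L e.symm
    · exact hL₁'L e.symm

end WR

/-- no pairs of type I, if `r ≥ 3` and `r ≠ 4` -/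
theorem NoTI.of_ne [Finite G] (h : WR Om) (h3 : R3 Om) (h4 : ∀ z ∈ ZZ Om, (Ov Om z).ncard ≠ 4) : NoTI Om :=
  fun _ hu v hv hti => h4 v hv (h.ncard_of_ti h3 hti hu hv)

end Cfsg.Agent.Cit.Nil.RG
end

-- part: Cit/Nil/RG/Leaf
section
/-!
# S1309, (C3), NIL, `r ≥ 3`: the leaves

* `WR.of_w3`, `ncard_of_w3` : the world `W3 G K` (core-free) is a `WR (cls K)`, all `Ov z` have the same cardinality;
* `false_of_noTI` : NIL, `r ≥ 3`, no type I pairs: contradiction; `false_ne_four` : NIL, `r ≥ 3`, `r ≠ 4`;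
* `leafR_of` : `AssemblyNil.LeafR` from NIL;
* `NilC.nilP`, `exists_cp` (`¬ MOne`), `exists_ti`.
-/

set_option autoImplicit false
set_option linter.style.haveILetI false
set_option linter.unusedSectionVars false

namespace Cfsg.Agent.Cit.Nil.RG

open Subgroup Cfsg Cfsg.Agent.Cit
open RFour (LIn MOne)

universe u

variable {G : Type u} [Group G] [Finite G] {K L : Subgroup G} {Om : Set (Subgroup G)} {z u v : G}

theorem WR.of_w3 (w : AssemblyNil.W3 G K) (hf : ∀ t : G, orderOf t = 2 → centralizerPPrimeCore 2 t = ⊥) :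
    WR (cls K) := by
  have hyp := w.hyp
  have hO : ∀ L ∈ cls K, OO L = ⊥ := fun L hL => ROne.OO_eq_bot hyp hL (hf _ (hyp.orderOf_zz hL))
  refine WR.of_hyp hyp ?_
  rintro L ⟨g, rfl⟩
  rw [card_cj]
  exact ROne.card_eight w.nil w.c3 (hO K (self_mem_cls K))

theorem ncard_of_w3 (w : AssemblyNil.W3 G K) (hz : z ∈ ZZ (cls K)) :
    (Ov (cls K) z).ncard = (AssemblyNil.ovr K).ncard := by
  have hyp := w.hyp
  obtain ⟨L, ⟨g, rfl⟩, rfl⟩ := hz
  have h2 : Ov (cls K) (zz (cj g K)) = (cj g) '' (AssemblyNil.ovr K) := by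
    ext M
    constructor
    · rintro ⟨hM, hz⟩
      refine ⟨cj g⁻¹ M, ⟨hyp.conj M hM _, ?_⟩, cj_cj_inv g M⟩
      rw [hyp.zz_cj hM, hz, hyp.zz_cj (self_mem_cls K)]
      group
    · rintro ⟨M, ⟨hM, hz⟩, rfl⟩
      refine ⟨hyp.conj M hM g, ?_⟩
      rw [hyp.zz_cj hM, hz, hyp.zz_cj (self_mem_cls K)]
  rw [h2, Set.ncard_image_of_injective _ (fun A B hAB => cj_inj.1 hAB)]

theorem R3.of_w3 (w : AssemblyNil.W3 G K) (h3 : 3 ≤ (AssemblyNil.ovr K).ncard) : R3 (cls K) := fun z hz => by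
  rw [ncard_of_w3 w hz]; exact h3

/-- **NIL, `r ≥ 3`, no type I pairs** -/
theorem false_of_noTI (i : LIn.{u}) (w : AssemblyNil.W3 G K)
    (hf : ∀ t : G, orderOf t = 2 → centralizerPPrimeCore 2 t = ⊥) (h3 : 3 ≤ (AssemblyNil.ovr K).ncard)
    (hT : NoTI (cls K)) (nil : NilC (cls K)) : False := by
  have h := WR.of_w3 w hf
  have r3 := R3.of_w3 w h3
  have hC : AllC (cls K) := fun s hs x hx hne hc => h.cp_of_comm hT r3 hs hx hne hc
  have f := ROne.fsimp_of w.simple w.na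
  haveI := f.sim
  have gold : Cit.ROne.Gold ↥(generalizedFittingSubgroup G) := fun S A h1 h2 h3 => i.gold _ S A h1 h2 h3
  have hB : CloEnd.Bend ↥(generalizedFittingSubgroup G) := i.bend _
  exact h.false_of_nil w.hyp hC r3.r2 nil (z := zz K) ⟨K, self_mem_cls K, rfl⟩ f w.even gold hB

/-- **NIL, `r ≥ 3`, `r ≠ 4`** -/
theorem false_ne_four (i : LIn.{u}) (w : AssemblyNil.W3 G K)
    (hf : ∀ t : G, orderOf t = 2 → centralizerPPrimeCore 2 t = ⊥) (h3 : 3 ≤ (AssemblyNil.ovr K).ncard)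
    (h4 : (AssemblyNil.ovr K).ncard ≠ 4) (nil : NilC (cls K)) : False :=
  false_of_noTI i w hf h3 (NoTI.of_ne (WR.of_w3 w hf) (R3.of_w3 w h3) (fun z hz => by
    rw [ncard_of_w3 w hz]; exact h4)) nil

theorem three_le (_w : AssemblyNil.W3 G K) (h1 : (AssemblyNil.ovr K).ncard ≠ 1) (h2 : (AssemblyNil.ovr K).ncard ≠ 2) :
    3 ≤ (AssemblyNil.ovr K).ncard := by
  have h3 : (AssemblyNil.ovr K).ncard ≠ 0 := by
    rw [Ne, Set.ncard_eq_zero]
    exact Set.Nonempty.ne_empty ⟨K, self_mem_cls K, rfl⟩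
  omega

/-! ### Auxiliary facts for `r = 4` -/

/-- `m ≥ 2`: all elements of `Z` have C-partners -/
theorem exists_cp (h : WR (cls K)) (hm : ¬ MOne (cls K)) (hz : z ∈ ZZ (cls K)) : ∃ a ∈ ZZ (cls K), CP (cls K) z a := by
  unfold MOne at hm
  push Not at hm
  obtain ⟨M, hM, L, hL, hc, hne⟩ := hm
  have hcp : CP (cls K) (zz M) (zz L) := h.CP_of_cen (K := M) ⟨hM, rfl⟩
    (fun k hk => (hc k hk _ (h.zm hL)).symm) hne
  obtain ⟨N, hN, rfl⟩ := hz
  obtain ⟨g, rfl⟩ := RFour.oneCls_cls K M hM N hN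
  refine ⟨g * zz L * g⁻¹, h.zz_cj ⟨L, hL, rfl⟩ g, ?_⟩
  rw [h.zcj hM]
  exact h.CP_cj hcp g

end Cfsg.Agent.Cit.Nil.RG
end

-- part: Cit/Nil/RFour/Conf
section
/-!
# `r = 4`, `m = 1`: the configurations of S1763 without elements of order 5 and 7

`p : Pair Q z A a`, `|Q| = 2 ^ 9`, `Irr p`, `|D̃| ≠ 2`, and the group `H` induced by `C(z)` on `Q / ⟨z⟩` has no elements
of order 5, 7: the configuration is `confPO83` or `confOplus` (`exists_conf`).
-/

set_option autoImplicit false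
set_option linter.unusedSectionVars false

namespace Cfsg.Agent.Cit.Nil.RFour.Conf

open Cfsg.Agent.Co2Type.Quad Cfsg.Agent.LargeExtra.Base Cfsg.Agent.LargeExtra.Nine
open Cfsg.Agent.LargeExtra.KillNine Cfsg.Agent.LargeExtra.KillNine.Codes Cfsg.Agent.LargeExtra.SiegFam.Inst

variable {G : Type*} [Group G] {Q A : Subgroup G} {z a : G}

/-- the powers of a code -/
def powL (L : List ℕ) : ℕ → List ℕ
  | 0 => idL
  | n + 1 => mulL (powL L n) L

theorem acts_pow {h : Large Q z} {φ : Coord h} {L : List ℕ} {f : h.V ≃ₗ[ZMod 2] h.V} (hf : Acts φ L f) (n : ℕ) :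
    Acts φ (powL L n) (f ^ n) := by
  induction n with
  | zero => rw [pow_zero]; exact Acts.one
  | succ n ih => rw [pow_succ']; exact Acts.mul ih hf

/-- a word of order `n` -/
theorem false_of_word {p : Pair Q z A a} {φ : Coord p.lz} {n : ℕ} (hH : ∀ f ∈ p.H, f ^ n = 1 → f = 1)
    {L M : List ℕ} (hL : In φ p.H L) (hM : In φ p.H M) (hn : powL (mulL L M) n = idL) {k : ℕ} (hk : k < 256)
    (hk' : ap (mulL L M) k < 256) (hne : ap (mulL L M) k ≠ k) : False := by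
  obtain ⟨f, hf, hfa⟩ := hL.mul hM
  have h1 := acts_pow hfa n
  rw [hn] at h1
  have h2 := hH f hf (Acts.ext h1 Acts.one)
  subst h2
  have h3 := hfa (φ.e.symm (vec k))
  have h4 : φ.e ((1 : p.lz.V ≃ₗ[ZMod 2] p.lz.V) (φ.e.symm (vec k))) = vec k := φ.e.apply_symm_apply _
  rw [h4, LinearEquiv.apply_symm_apply, lin_vec] at h3
  exact hne (vec_inj _ hk _ hk' h3).symm

theorem in_X {p : Pair Q z A a} {φ : Coord p.lz} {c : Conf} (hc : IsConf p φ c) {L : List ℕ} (hL : L ∈ c.X) :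
    In φ p.H L := by
  obtain ⟨f, hf, h1⟩ := hc.X L hL
  exact ⟨f, p.X_le_H hf, h1⟩

theorem in_N {p : Pair Q z A a} {φ : Coord p.lz} {c : Conf} (hc : IsConf p φ c) {L : List ℕ} (hL : L ∈ c.N) :
    In φ p.H L := hc.N L hL

theorem false_ominus {p : Pair Q z A a} {φ : Coord p.lz} (h5 : ∀ f ∈ p.H, f ^ 5 = 1 → f = 1)
    (hc : IsConf p φ confOminus) : False :=
  false_of_word h5 (in_N hc (L := [225,210,56,52,16,32,128,64]) (by decide))
    (in_X hc (L := [1,2,4,9,144,36,66,128]) (by decide)) (by decide +kernel) (k := 1) (by decide) (by decide +kernel)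
    (by decide +kernel)

theorem false_HN {p : Pair Q z A a} {φ : Coord p.lz} (h5 : ∀ f ∈ p.H, f ^ 5 = 1 → f = 1)
    (hc : IsConf p φ confHN) : False :=
  false_of_word h5 (in_N hc (L := [73,10,20,8,16,32,64,176]) (by decide))
    (in_X hc (L := [1,2,4,9,144,36,66,128]) (by decide)) (by decide +kernel) (k := 1) (by decide) (by decide +kernel)
    (by decide +kernel)

theorem false_D4 {p : Pair Q z A a} {φ : Coord p.lz} (h7 : ∀ f ∈ p.H, f ^ 7 = 1 → f = 1)
    (hc : IsConf p φ confD4) : False :=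
  false_of_word h7 (in_N hc (L := [245,208,190,112,16,72,80,66]) (by decide))
    (in_X hc (L := [1,2,4,9,153,36,66,129]) (by decide)) (by decide +kernel) (k := 1) (by decide) (by decide +kernel)
    (by decide +kernel)

theorem false_Th {p : Pair Q z A a} {φ : Coord p.lz} (h7 : ∀ f ∈ p.H, f ^ 7 = 1 → f = 1)
    (hc : IsConf p φ confTh) : False :=
  false_of_word h7 (in_N hc (L := [245,208,190,112,16,72,80,66]) (by decide))
    (in_X hc (L := [1,2,4,9,153,36,66,129]) (by decide)) (by decide +kernel) (k := 1) (by decide) (by decide +kernel)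
    (by decide +kernel)

/-- **the configurations without elements of order 5 and 7** -/
theorem exists_conf [Finite G] (hG : ∀ H : Subgroup G, H.index ≠ 2) (p : Pair Q z A a) (hQ : Nat.card Q = 2 ^ 9)
    (hirr : Irr p) (hD : Nat.card p.D ≠ 2) (h5 : ∀ f ∈ p.H, f ^ 5 = 1 → f = 1) (h7 : ∀ f ∈ p.H, f ^ 7 = 1 → f = 1) :
    ∃ φ : Coord p.lz, IsConf p φ confPO83 ∨ IsConf p φ confOplus := by
  rcases LargeExtra.Tri.CaseTwo.case_two hG p hQ hirr with h1 | ⟨-, x, hx⟩
  · exact absurd h1 hD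
  · obtain ⟨φ, h⟩ := LargeExtra.Enum9.TenConf.exists_conf p hQ hirr hx
    refine ⟨φ, ?_⟩
    rcases h with h | h | h | h | h | h | h | h | h | h
    · exact Or.inl h
    · exact Or.inr h
    · exact (false_ominus h5 h).elim
    · exact (false_D4 h7 h).elim
    · exact (false_HN h5 h).elim
    · exact (false_Th h7 h).elim
    · exact (Final.killK2 p φ h).elim
    · exact (Final.killK3 p φ h).elim
    · exact (Final.killK4 p φ h).elim
    · exact (Final.killK5 p φ h).elim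

end Cfsg.Agent.Cit.Nil.RFour.Conf
end

-- part: Cit/Nil/RFour/End
section
/-!
# `r = 4`, `m = 1`: the end ((7.2) of `blueprints/CIT-6b-r4m1-helper449.md`)

`X` simple, all members are in `X`, `C_X(R_z) = ⟨z⟩`, two type I neighbours of `z` do not commute, (C3), the members
over `z` are conjugate.

* `exists_pair` : `Pair R_z z R_t t` in `X`;
* `irr`, `card_D`, `pow_H` : the hypotheses of `Conf.exists_conf`;
* `recog` : `X` is `PΩ₈⁺(3)` or `Ω₈⁺(2)`, from the two recognition theorems `Rec83`, `RecO` of S1763.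
-/

set_option autoImplicit false
set_option linter.style.haveILetI false
set_option linter.unusedSectionVars false

namespace Cfsg.Agent.Cit.Nil.RFour

open Subgroup Cfsg Cfsg.Agent.Cit Cfsg.Agent.Co2Type.Quad Cfsg.Agent.LargeExtra.Base Cfsg.Agent.LargeExtra.Nine

universe u

/-- S1763, recognition of `PΩ₈⁺(3)` -/
def Rec83 : Prop :=
  ∀ (G : Type u) [Group G] [Finite G] [IsSimpleGroup G], ¬ IsMulCommutative G →
    ∀ (Q A : Subgroup G) (z a : G) (p : Pair Q z A a) (φ : Coord p.lz), Nat.card Q = 2 ^ 9 → IsConf p φ confPO83 →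
    ∃ (F : Type) (_ : Field F) (_ : Fintype F), Fintype.card F = 3 ∧
      Nonempty (G ≃* Cfsg.POmega F (Cfsg.quadFormPlus 4 F))

/-- S1763, recognition of `Ω₈⁺(2)` -/
def RecO : Prop :=
  ∀ (G : Type u) [Group G] [Finite G] [IsSimpleGroup G], ¬ IsMulCommutative G →
    ∀ (Q A : Subgroup G) (z a : G) (p : Pair Q z A a) (φ : Coord p.lz), Nat.card Q = 2 ^ 9 → IsConf p φ confOplus →
    ∃ (F : Type) (_ : Field F) (_ : Fintype F), Fintype.card F = 2 ∧
      Nonempty (G ≃* Cfsg.POmega F (Cfsg.quadFormPlus 4 F))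

variable {G : Type u} [Group G] [Finite G] {Om : Set (Subgroup G)} {X K L : Subgroup G} {z t t' x l g : G}

/-- `z` and its type I neighbour `t` are conjugate in every subgroup containing the members -/
theorem TI.exists_conj (hti : TI Om z t) (h : W4 Om) (hX : ∀ K ∈ Om, K ≤ X) : ∃ g ∈ X, g * z * g⁻¹ = t := by
  obtain ⟨K, hK⟩ := hti.inZ
  obtain ⟨L, hL⟩ := hti.inT
  obtain ⟨y, hy, hyy⟩ := hti.exists_as h hK
  obtain ⟨w, hw, hww⟩ := (hti.symm h).exists_as h hL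
  obtain ⟨v, hv, hvv, hyv⟩ := hK.exists_nc h hy.1 hyy
  obtain ⟨u, hu, huu, hwu⟩ := hL.exists_nc h hw.1 hww
  have h1 := (hti.symm h).conj_z h hK hy hv hvv hyv
  have h2 := hti.conj_z h hL hw hu huu hwu
  refine ⟨v⁻¹ * u, mul_mem (inv_mem (hX K hK.1 hv)) (hX L hL.1 hu), ?_⟩
  calc v⁻¹ * u * z * (v⁻¹ * u)⁻¹ = v⁻¹ * (u * z * u⁻¹) * v := by group
    _ = v⁻¹ * (t * z) * v := by rw [h2, hti.comm]
    _ = v⁻¹ * (v * t * v⁻¹) * v := by rw [h1]
    _ = t := by group

section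

variable (h : W4 Om) (hX : ∀ K ∈ Om, K ≤ X) (hcx : ∀ n ∈ X, n ∈ CX Om z → n = 1 ∨ n = z)
include h hX

theorem RZ_le_X : RZ Om z ≤ X := RZ_le fun K hK => hX K hK.1

/-- **the pair** -/
theorem TI.exists_pair (hti : TI Om z t) (hcx : ∀ n ∈ X, n ∈ CX Om z → n = 1 ∨ n = z) :
    ∃ (zX : X) (A : Subgroup X) (a : X), (zX : G) = z ∧ (a : G) = t ∧
      (∀ w ∈ RZ Om t, ∀ hw : w ∈ X, (⟨w, hw⟩ : X) ∈ A) ∧ Pair ((RZ Om z).subgroupOf X) zX A a := by
  obtain ⟨g, hg, hgt⟩ := hti.exists_conj h hX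
  have hl := large hti.inZ h (RZ_le_X h hX) hcx
  have h1 : (⟨g, hg⟩ : X) * ⟨z, RZ_le_X h hX (z_mem_RZ hti.inZ h)⟩ * (⟨g, hg⟩ : X)⁻¹ ∈ (RZ Om z).subgroupOf X := by
    change g * z * g⁻¹ ∈ RZ Om z
    rw [hgt]; exact hti.mem_RZ h
  have h2 : (⟨g, hg⟩ : X) * ⟨z, RZ_le_X h hX (z_mem_RZ hti.inZ h)⟩ * (⟨g, hg⟩ : X)⁻¹ ≠
      ⟨z, RZ_le_X h hX (z_mem_RZ hti.inZ h)⟩ := by
    intro h3
    have h4 : g * z * g⁻¹ = z := congrArg Subtype.val h3
    rw [hgt] at h4
    exact hti.ne h4.symm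
  refine ⟨_, _, _, rfl, ?_, ?_, pair_of_conj hl h1 h2⟩
  · exact hgt
  · intro w hw hwX
    have h3 := RZ_conj h g⁻¹ hw
    have h4 : g⁻¹ * t * g⁻¹⁻¹ = z := by rw [← hgt]; group
    rw [h4, inv_inv] at h3
    refine ⟨⟨g⁻¹ * w * g, mul_mem (mul_mem (inv_mem hg) hwX) hg⟩, h3, ?_⟩
    refine Subtype.ext ?_
    change g * (g⁻¹ * w * g) * g⁻¹ = w
    group

variable {A : Subgroup X} {a zX : X}

/-- **`Irr`** -/
theorem irr (hzX : (zX : G) = z) (hti : TI Om z t) (hti' : TI Om z t') (hne : t * t' ≠ t' * t) (hc3 : CT Om z)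
    (htr : ∀ K K', Mem Om z K → Mem Om z K' → ∃ g, cj g K = K')
    (p : Pair ((RZ Om z).subgroupOf X) zX A a) : LargeExtra.SiegFam.Inst.Irr p := by
  intro U hq hH
  have hz := hti.inZ
  rw [Submodule.eq_bot_iff]
  intro v hv
  obtain ⟨x, rfl⟩ := p.lz.pr_surjective v
  -- the lifts of the elements of `U`
  obtain ⟨D, hD⟩ : ∃ D : Subgroup G, D = centralizer {y : G | ∃ w : (RZ Om z).subgroupOf X, p.lz.pr w ∈ U ∧ ((w : X) : G) = y} :=
    ⟨_, rfl⟩
  have key : RZ Om z ≤ D := by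
    refine RZ_le_of_TI h hti hti' hne hc3 htr fun s hs => ?_
    rw [hD, mem_centralizer_iff]
    rintro _ ⟨w, hw, rfl⟩
    obtain ⟨L, hL⟩ := hs.inT
    obtain ⟨l, hl, -⟩ := (hs.symm h).exists_as h hL
    have hlX : l ∈ X := hX L hL.1 hl.1
    have hlz : l * z = z * l := hl.comm.symm
    have hwR : ((w : X) : G) ∈ RZ Om z := w.2
    rw [← hs.comm_rot_iff h hL hl hwR]
    -- `y = l w l⁻¹`
    have hcl : (⟨l, hlX⟩ : X) ∈ centralizer ({zX} : Set X) := by
      rw [mem_centralizer_singleton_iff]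
      refine Subtype.ext ?_
      change l * (zX : G) = zX * l
      rw [hzX, hlz]
    have h1 := hH _ ⟨⟨⟨l, hlX⟩, hcl⟩, rfl⟩ _ hw
    rw [p.lz.act_pr] at h1
    have h2 := U.add_mem hw h1
    rw [← p.lz.pr_mul] at h2
    have e0 := p.lz.q_eq_zero.1 (hq _ hw)
    have e1 := p.lz.q_eq_zero.1 (hq _ h1)
    have e2 := p.lz.q_eq_zero.1 (hq _ h2)
    have hcoe : (((p.lz.conjQ ⟨⟨l, hlX⟩, hcl⟩ w : (RZ Om z).subgroupOf X) : X) : G) = l * (w : X) * l⁻¹ :=
      congrArg Subtype.val (p.lz.conjQ_coe _ w)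
    obtain ⟨y, hy⟩ : ∃ y, y = p.lz.conjQ ⟨⟨l, hlX⟩, hcl⟩ w := ⟨_, rfl⟩
    rw [← hy] at e1 e2 hcoe
    have f0 : ((w : X) : G) * (w : X) = 1 := congrArg Subtype.val e0
    have f1 : ((y : X) : G) * (y : X) = 1 := congrArg Subtype.val e1
    have f2 : ((w : X) : G) * (y : X) * ((w : X) * (y : X)) = 1 := congrArg Subtype.val e2
    rw [← hcoe]
    obtain ⟨b, hb⟩ : ∃ b : G, b = ((w : X) : G) := ⟨_, rfl⟩
    obtain ⟨c, hc⟩ : ∃ c : G, c = ((y : X) : G) := ⟨_, rfl⟩
    rw [← hb, ← hc] at f2 ⊢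
    rw [← hb] at f0
    rw [← hc] at f1
    have h5 : b * c = (b * c)⁻¹ := eq_inv_of_mul_eq_one_left f2
    have h6 : b⁻¹ = b := inv_eq_of_mul_eq_one_right f0
    have h7 : c⁻¹ = c := inv_eq_of_mul_eq_one_right f1
    rw [h5, mul_inv_rev, h6, h7]
  have h3 : ((x : X) : G) = 1 ∨ ((x : X) : G) = z := by
    refine RZ_cent hz h x.2 fun y hy => ?_
    have h4 := key hy
    rw [hD, mem_centralizer_iff] at h4
    exact h4 _ ⟨x, hv, rfl⟩
  rw [p.lz.pr_eq_zero]
  exact h3.imp (fun h4 => Subtype.ext h4) fun h4 => Subtype.ext (h4.trans hzX.symm)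

/-- **`|D̃| ≠ 2`** -/
theorem card_D (hzX : (zX : G) = z) (hti : TI Om z t) (hat : (a : G) = t)
    (hA : ∀ w ∈ RZ Om t, ∀ hw : w ∈ X, (⟨w, hw⟩ : X) ∈ A) (p : Pair ((RZ Om z).subgroupOf X) zX A a) :
    Nat.card p.D ≠ 2 := by
  intro hc
  obtain ⟨L, hL⟩ := hti.inT
  obtain ⟨L', hL', hne⟩ := hL.other h
  obtain ⟨M, hM, hn1, hn2⟩ := hL.third hL' h
  obtain ⟨x, hx, hxx⟩ := (hti.symm h).exists_as h hL
  obtain ⟨x', hx', hxx'⟩ := (hti.symm h).exists_as h hL'
  obtain ⟨m, hm, hmm⟩ := (hti.symm h).exists_as h hM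
  have hwR := hti.xx_mem h hL hL' hne hx hx'
  have hwX : x * x' ∈ X := RZ_le_X h hX hwR
  have hwA : x * x' ∈ RZ Om t := mul_mem (hL.le_RZ hx.1) (hL'.le_RZ hx'.1)
  have hwM : As M (x * x') 1 := by
    have h1 := (hM.as_one hL h hn1 hx.1).mul (hM.as_one hL' h hn2 hx'.1)
    rwa [one_mul] at h1
  have hwL : As L (x * x') x := by
    have h1 := (As.self hx.1).mul (hL.as_one hL' h hne hx'.1)
    rwa [mul_one] at h1
  obtain ⟨w, hw⟩ : ∃ w : (RZ Om z).subgroupOf X, w = ⟨⟨x * x', hwX⟩, hwR⟩ := ⟨_, rfl⟩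
  have hwc : ((w : X) : G) = x * x' := by rw [hw]
  have hwD : p.lz.pr w ∈ p.D := by
    rw [p.pr_mem_D, hw]
    exact hA _ hwA hwX
  -- `D = {0, va}`
  have key : p.lz.pr w = 0 ∨ p.lz.pr w = p.va := by
    obtain ⟨d1, d2, -, hall⟩ := Nat.card_eq_two_iff.1 hc
    have h1 : ∀ d : p.D, d = d1 ∨ d = d2 := fun d => by
      have h2 : d ∈ ({d1, d2} : Set p.D) := by rw [hall]; exact Set.mem_univ d
      exact h2
    have h0 : (⟨p.va, p.va_mem_D⟩ : p.D) ≠ 0 := fun h2 => p.va_ne (congrArg Subtype.val h2)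
    rcases h1 ⟨_, hwD⟩ with h2 | h2 <;> rcases h1 0 with h3 | h3 <;> rcases h1 ⟨p.va, p.va_mem_D⟩ with h4 | h4
    · exact absurd (h4.trans h3.symm) h0
    · exact Or.inl (congrArg Subtype.val (h2.trans h3.symm))
    · exact Or.inr (congrArg Subtype.val (h2.trans h4.symm))
    · exact absurd (h4.trans h3.symm) h0
    · exact absurd (h4.trans h3.symm) h0
    · exact Or.inr (congrArg Subtype.val (h2.trans h4.symm))
    · exact Or.inl (congrArg Subtype.val (h2.trans h3.symm))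
    · exact absurd (h4.trans h3.symm) h0
  rcases key with h1 | h1
  · rw [p.lz.pr_eq_zero] at h1
    refine hti.xx_not_cent h hL hL' hne hx hx' fun K hK => ?_
    rcases h1 with h2 | h2
    · have h3 : x * x' = 1 := by rw [← hwc, h2]; rfl
      rw [h3]; exact As.self (one_mem _)
    · have h3 : x * x' = z := by rw [← hwc, h2, hzX]
      rw [h3]; exact hK.as_z h
  · have h2 : p.lz.pr w = p.lz.pr ⟨a, p.a_mem⟩ := h1
    rw [p.lz.pr_eq_pr] at h2
    rcases h2 with h3 | h3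
    · have h4 : x * x' = t := by rw [← hwc, h3, hat]
      rw [h4] at hwL
      exact hL.not_as_one h hwL hxx (hL.as_z h)
    · have h4 : x * x' = t * z := by
        rw [← hwc, h3]
        change (a : G) * (zX : G) = t * z
        rw [hat, hzX]
      rw [h4] at hwM
      have h5 := (hM.as_z h).mul hm
      rw [one_mul] at h5
      exact hM.not_as_one h h5 hmm hwM

/-- **the exponent of `H`** -/
theorem pow_H (hz : InZ Om z) (hcx : ∀ n ∈ X, n ∈ CX Om z → n = 1 ∨ n = z) (hzX : (zX : G) = z)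
    (p : Pair ((RZ Om z).subgroupOf X) zX A a) {f : p.lz.V ≃ₗ[ZMod 2] p.lz.V} (hf : f ∈ p.H) : f ^ 144 = 1 := by
  obtain ⟨c, rfl⟩ := hf
  rw [← map_pow]
  refine p.lz.act_mem _ ?_
  have h1 : ((c : X) : G) * z = z * (c : X) := by
    have h2 := congrArg Subtype.val (mem_centralizer_singleton_iff.1 c.2)
    change ((c : X) : G) * (zX : G) = zX * (c : X) at h2
    rwa [hzX] at h2
  exact pow_mem_RZ h hz (RZ_le_X h hX) hcx (c : X).2 h1

omit [Finite G] h hX in
theorem eq_one_of_pow {M : Type*} [Group M] {f : M} {a b : ℕ} (h1 : f ^ a = 1) (h2 : f ^ b = 1)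
    (hab : Nat.Coprime a b) : f = 1 :=
  orderOf_eq_one_iff.1 (Nat.eq_one_of_dvd_coprimes hab (orderOf_dvd_of_pow_eq_one h1) (orderOf_dvd_of_pow_eq_one h2))

/-- **the end** -/
theorem recog [IsSimpleGroup X] (hXc : ¬ IsMulCommutative X) (h83 : Rec83.{u}) (hO : RecO.{u})
    (hcx : ∀ n ∈ X, n ∈ CX Om z → n = 1 ∨ n = z) (hti : TI Om z t) (hti' : TI Om z t') (hne : t * t' ≠ t' * t)
    (hc3 : CT Om z) (htr : ∀ K K', Mem Om z K → Mem Om z K' → ∃ g, cj g K = K') :
    (∃ (F : Type) (_ : Field F) (_ : Fintype F), Fintype.card F = 3 ∧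
      Nonempty (X ≃* Cfsg.POmega F (Cfsg.quadFormPlus 4 F))) ∨
    (∃ (F : Type) (_ : Field F) (_ : Fintype F), Fintype.card F = 2 ∧
      Nonempty (X ≃* Cfsg.POmega F (Cfsg.quadFormPlus 4 F))) := by
  obtain ⟨zX, A, a, hzX, hat, hA, p⟩ := hti.exists_pair h hX hcx
  have h9 : Nat.card ((RZ Om z).subgroupOf X) = 2 ^ 9 := by
    rw [← card_RZ hti.inZ h]
    exact Nat.card_congr (subgroupOfEquivOfLe (RZ_le_X h hX)).toEquiv
  have hG : ∀ H : Subgroup X, H.index ≠ 2 := by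
    intro H h2
    have hn : H.Normal := Subgroup.normal_of_index_eq_two h2
    rcases hn.eq_bot_or_eq_top with h3 | h3
    · rw [h3, Subgroup.index_bot] at h2
      have : Fact (Nat.Prime 2) := ⟨Nat.prime_two⟩
      have hc : IsCyclic X := isCyclic_of_prime_card h2
      exact hXc hc.isMulCommutative
    · rw [h3, Subgroup.index_top] at h2
      exact absurd h2 (by norm_num)
  have h144 : ∀ f ∈ p.H, f ^ 144 = 1 := fun f hf => pow_H h hX hti.inZ hcx hzX p hf
  have h5 : ∀ f ∈ p.H, f ^ 5 = 1 → f = 1 := fun f hf h1 => eq_one_of_pow h1 (h144 f hf) (by norm_num)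
  have h7 : ∀ f ∈ p.H, f ^ 7 = 1 → f = 1 := fun f hf h1 => eq_one_of_pow h1 (h144 f hf) (by norm_num)
  have hirr := irr h hX hzX hti hti' hne hc3 htr p
  have hD := card_D h hX hzX hti hat hA p
  obtain ⟨φ, h1 | h1⟩ := Conf.exists_conf hG p h9 hirr hD h5 h7
  · exact Or.inl (h83 X hXc _ _ _ _ p φ h9 h1)
  · exact Or.inr (hO X hXc _ _ _ _ p φ h9 h1)

end

end Cfsg.Agent.Cit.Nil.RFour
end

-- part: Cit/Nil/RFour/EndRec
section
/-!
# `r = 4`, `m = 1`: the two recognition theorems of S1763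

`rec83 : Rec83`, `recO : RecO`.
-/

set_option autoImplicit false

namespace Cfsg.Agent.Cit.Nil.RFour

universe u

theorem rec83 : Rec83.{u} := by
  intro G _ _ _ hG Q A z a p φ h9 hc
  obtain ⟨inp⟩ := Cfsg.Agent.TypeD4Three.FromConf.exists_input h9 φ hc
  exact Cfsg.Agent.TypeD4Three.Main.recognize hG p.lz inp p

theorem recO : RecO.{u} := by
  intro G _ _ _ _ Q A z a p φ h9 hc
  exact Cfsg.Agent.TypeO8Plus.Main.recognize' p h9 φ hc

end Cfsg.Agent.Cit.Nil.RFour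
end

-- part: Cit/Nil/RFour/OneEnd
section
/-!
# `r = 4`, `m = 1`, Case 1: the plug for `Asm.main_of`

* `one_end` : Case 1 with no external input (`rec83`, `recO` from `EndRec`).
-/

set_option autoImplicit false
set_option linter.style.haveILetI false

namespace Cfsg.Agent.Cit.Nil.RFour

open Subgroup Cfsg Cfsg.Agent.Cit

universe u

/-- (C3) at a member over `z`: 614's form from 449's form -/
theorem CT.of_c3' {G : Type*} [Group G] {Om : Set (Subgroup G)} (c3 : C3' Om) (z : G) : CT Om z := by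
  intro K hK y hy hyy
  obtain ⟨g, -, h2, h3, h4⟩ := c3 z K hK y hy hyy
  exact ⟨g, h2, h3, h4⟩

/-- **Case 1** -/
theorem one_end {G : Type u} [Group G] [Finite G] {Om : Set (Subgroup G)} {X : Subgroup G} (h : W4 Om)
    (hc : OneCls Om) (c3 : C3' Om) (f : ROne.FSimp X) (hX : ∀ L ∈ Om, L ≤ X)
    (hcx : ∀ z, InZ Om z → ∀ n ∈ CX Om z, n = 1 ∨ n = z) (z t t' : G) (hti : TI Om z t) (hti' : TI Om z t')
    (hne : t * t' ≠ t' * t) :
    (∃ (F : Type) (_ : Field F) (_ : Fintype F), Fintype.card F = 3 ∧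
      Nonempty (X ≃* Cfsg.POmega F (Cfsg.quadFormPlus 4 F))) ∨
    (∃ (F : Type) (_ : Field F) (_ : Fintype F), Fintype.card F = 2 ∧
      Nonempty (X ≃* Cfsg.POmega F (Cfsg.quadFormPlus 4 F))) := by
  haveI := f.sim
  have hXc : ¬ IsMulCommutative X := by
    intro h1
    refine f.na fun x hx y hy => ?_
    have h2 := h1.is_comm.comm ⟨x, hx⟩ ⟨y, hy⟩
    exact congrArg Subtype.val h2
  exact recog h hX hXc rec83 recO (fun n _ hn => hcx z hti.inZ n hn) hti hti' hne (CT.of_c3' c3 z)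
    (fun K K' hK hK' => hc K hK.1 K' hK'.1)

end Cfsg.Agent.Cit.Nil.RFour
end

-- part: Cit/Nil/RFour/Leaf
section
/-!
# S1309, (C3), `r = 4`, `m = 1`: the leaf

`leafR4One` : `LeafR4One` from the external inputs `LIn` (S1169, Bender's theorem, S1173).
-/

set_option autoImplicit false
set_option linter.style.haveILetI false

namespace Cfsg.Agent.Cit.Nil.RFour

open Subgroup Cfsg Cfsg.Agent.Cit

universe u

/-- **the leaf `r = 4`, `m = 1`** -/
theorem leafR4One (i : LIn.{u}) : LeafR4One.{u} := by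
  intro G _ _ K w hf h4 hm
  exact main_of i w hf h4 hm exc fun h hc c3 f hX hcx z t t' hti hti' hne =>
    one_end h hc c3 f hX hcx z t t' hti hti' hne

end Cfsg.Agent.Cit.Nil.RFour
end

-- part: Cit/Nil/RG/FZ
section
/-!
# (6b), `r ≥ 2`, commuting pairs are C-pairs: strong closure without NIL (helper488)

`FZ Z` : `Z` is an invariant set of involutions and (F1): if `u` commutes with `x u x⁻¹`, then `u` commutes with `x`.
`ZP Z P = Z ∩ P`, `TT Z P = ⟨Z ∩ P⟩`.

* `comm_of_two` : elements of `Z` in a 2-group commute;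
* `eq_of_sub` : a 2-group `P` containing `Z ∩ S`, `S` Sylow: `Z ∩ P = Z ∩ S`;
* `hb`, `hb_mem`, **`closed_of`** : `TT Z S` is strongly closed in `S`, modulo a count.
-/

set_option autoImplicit false
set_option linter.style.haveILetI false
set_option linter.unusedSectionVars false

namespace Cfsg.Agent.Cit.Nil.RG

open Subgroup Cfsg Cfsg.Agent.Cit Cfsg.Agent.Cit.Nil.RFour

variable {G : Type*} [Group G]

/-- see the head of the file -/
structure FZ (Z : Set G) : Prop where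
  sq : ∀ z ∈ Z, z * z = 1
  ne : ∀ z ∈ Z, z ≠ 1
  conj : ∀ z ∈ Z, ∀ g : G, g * z * g⁻¹ ∈ Z
  f1 : ∀ x ∈ Z, ∀ u ∈ Z, u * (x * u * x⁻¹) = (x * u * x⁻¹) * u → x * u = u * x

/-- `Z ∩ P` -/
def ZP (Z : Set G) (P : Subgroup G) : Set G := {z | z ∈ Z ∧ z ∈ P}

/-- `⟨Z ∩ P⟩` -/
def TT (Z : Set G) (P : Subgroup G) : Subgroup G := closure (ZP Z P)

theorem TT_le (Z : Set G) (P : Subgroup G) : TT Z P ≤ P := (closure_le P).2 fun _ h => h.2

theorem mem_TT {Z : Set G} {P : Subgroup G} {z : G} (h : z ∈ ZP Z P) : z ∈ TT Z P := subset_closure h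

namespace FZ

variable {Z : Set G} {P H R : Subgroup G} {z z' u x b e g h : G} (c : FZ Z)

include c

theorem comm_of_pow (n : ℕ) : ∀ z ∈ Z, ∀ u ∈ Z, (z * u) ^ (2 ^ n) = 1 → z * u = u * z := by
  induction n with
  | zero =>
    intro z hz u hu h1
    rw [pow_zero, pow_one] at h1
    have h2 : z = u := by
      have h3 := eq_inv_of_mul_eq_one_left h1
      rw [h3, inv_eq_of_mul_eq_one_right (c.sq u hu)]
    rw [h2]
  | succ n ih =>
    intro z hz u hu h1
    have hui : u⁻¹ = u := inv_eq_of_mul_eq_one_right (c.sq u hu)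
    have h2 : z * (u * z * u⁻¹) = (z * u) ^ 2 := by rw [hui, pow_two]; group
    have h3 : (z * (u * z * u⁻¹)) ^ (2 ^ n) = 1 := by
      rw [h2, ← pow_mul, ← pow_succ']
      exact h1
    exact (c.f1 u hu z hz (ih z hz _ (c.conj z hz u) h3)).symm

theorem comm_of_two (hP : IsPGroup 2 P) (hz : z ∈ ZP Z P) (hu : u ∈ ZP Z P) : z * u = u * z := by
  obtain ⟨n, hn⟩ := hP ⟨z * u, mul_mem hz.2 hu.2⟩
  exact c.comm_of_pow n z hz.1 u hu.1 (congrArg Subtype.val hn)

theorem TT_comm (hP : IsPGroup 2 P) (hx : x ∈ TT Z P) (hu : u ∈ TT Z P) : x * u = u * x := by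
  have h1 : ∀ z ∈ ZP Z P, ∀ y ∈ TT Z P, z * y = y * z := by
    intro z hz y hy
    have h2 : TT Z P ≤ centralizer {z} := (closure_le _).2 fun w hw => by
      rw [SetLike.mem_coe, mem_centralizer_singleton_iff]
      exact c.comm_of_two hP hw hz
    exact (mem_centralizer_singleton_iff.1 (h2 hy)).symm
  have h2 : TT Z P ≤ centralizer {u} := (closure_le _).2 fun w hw => by
    rw [SetLike.mem_coe, mem_centralizer_singleton_iff]
    exact h1 w hw u hu
  exact mem_centralizer_singleton_iff.1 (h2 hx)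

theorem TT_sq (hP : IsPGroup 2 P) (hx : x ∈ TT Z P) : x * x = 1 := by
  induction hx using closure_induction with
  | mem y hy => exact c.sq y hy.1
  | one => rw [one_mul]
  | mul y w hy hw h1 h2 =>
    have h3 := c.TT_comm hP hy hw
    calc y * w * (y * w) = y * (w * y) * w := by group
      _ = y * (y * w) * w := by rw [h3]
      _ = (y * y) * (w * w) := by group
      _ = 1 := by rw [h1, h2, one_mul]
  | inv y hy h1 =>
    rw [← _root_.mul_inv_rev, h1, inv_one]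

theorem ZP_cj (g : G) (P : Subgroup G) : ZP Z (cj g P) = (fun x => g * x * g⁻¹) '' ZP Z P := by
  ext x
  constructor
  · rintro ⟨hx, hxP⟩
    rw [mem_cj] at hxP
    refine ⟨g⁻¹ * x * g, ⟨?_, hxP⟩, ?_⟩
    · have h1 := c.conj x hx g⁻¹
      rwa [inv_inv] at h1
    · change g * (g⁻¹ * x * g) * g⁻¹ = x
      group
  · rintro ⟨y, ⟨hy, hyP⟩, rfl⟩
    exact ⟨c.conj y hy g, conj_mem_cj hyP⟩

theorem ncard_cj (g : G) (P : Subgroup G) : (ZP Z (cj g P)).ncard = (ZP Z P).ncard := by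
  rw [c.ZP_cj]
  exact Set.ncard_image_of_injective _ fun u v huv => mul_left_cancel (mul_right_cancel huv)

theorem TT_cj (g : G) (P : Subgroup G) : TT Z (cj g P) = cj g (TT Z P) := by
  rw [TT, c.ZP_cj]
  apply le_antisymm
  · rw [closure_le]
    rintro _ ⟨y, hy, rfl⟩
    exact conj_mem_cj (mem_TT hy)
  · intro y hy
    rw [mem_cj] at hy
    have h1 : TT Z P ≤ cj g⁻¹ (closure ((fun x => g * x * g⁻¹) '' ZP Z P)) := by
      refine (closure_le _).2 fun w hw => ?_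
      rw [SetLike.mem_coe, mem_cj, inv_inv]
      exact subset_closure ⟨w, hw, rfl⟩
    have h2 := h1 hy
    rw [mem_cj] at h2
    have h3 : g⁻¹⁻¹ * (g⁻¹ * y * g) * g⁻¹ = y := by group
    rwa [h3] at h2

variable [Finite G]

theorem ncard_sylow (S T : Sylow 2 G) : (ZP Z (T : Subgroup G)).ncard = (ZP Z (S : Subgroup G)).ncard := by
  haveI : Fact (Nat.Prime 2) := ⟨Nat.prime_two⟩
  obtain ⟨k, hk⟩ := MulAction.exists_smul_eq G S T
  have h1 : (T : Subgroup G) = cj k (S : Subgroup G) := by rw [← hk]; rfl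
  rw [h1, c.ncard_cj]

theorem eq_of_sub (S : Sylow 2 G) (hP : IsPGroup 2 P) (hs : ZP Z (S : Subgroup G) ⊆ ZP Z P) :
    ZP Z P = ZP Z (S : Subgroup G) := by
  obtain ⟨T, hT⟩ := hP.exists_le_sylow
  have h1 : ZP Z P ⊆ ZP Z (T : Subgroup G) := fun x hx => ⟨hx.1, hT hx.2⟩
  have h2 := Set.ncard_le_ncard h1 (Set.toFinite _)
  rw [c.ncard_sylow S T] at h2
  exact (Set.eq_of_subset_of_ncard_le hs h2 (Set.toFinite _)).symm

theorem TT_sylow (S : Sylow 2 G) : IsPGroup 2 (TT Z (S : Subgroup G)) := S.isPGroup'.to_le (TT_le _ _)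

/-- `R ≤ H` is conjugate in `H ≥ TT Z S` into a 2-group `P` with `Z ∩ P = Z ∩ S` -/
theorem conj_into (S : Sylow 2 G) (hT : TT Z (S : Subgroup G) ≤ H) (hR : IsPGroup 2 R) (hRH : R ≤ H) :
    ∃ d ∈ H, ∃ P : Subgroup G, IsPGroup 2 P ∧ ZP Z P = ZP Z (S : Subgroup G) ∧ cj d R ≤ P := by
  obtain ⟨Q, hQ⟩ := ((c.TT_sylow S).comap_subtype (K := H)).exists_le_sylow
  have hP : IsPGroup 2 ((Q : Subgroup H).map H.subtype) := Q.isPGroup'.map _
  have h1 : ZP Z ((Q : Subgroup H).map H.subtype) = ZP Z (S : Subgroup G) := by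
    refine c.eq_of_sub S hP fun x hx => ⟨hx.1, ?_⟩
    exact ⟨⟨x, hT (mem_TT hx)⟩, hQ (mem_subgroupOf.2 (mem_TT hx)), rfl⟩
  obtain ⟨m, hm⟩ := exists_le_cj Q (hR.comap_subtype (K := H))
  refine ⟨(m : G)⁻¹, inv_mem m.2, _, hP, h1, ?_⟩
  intro x hx
  rw [mem_cj, inv_inv] at hx
  have h2 : (⟨(m : G) * x * (m : G)⁻¹, hRH hx⟩ : H) ∈ cj m (Q : Subgroup H) := hm (mem_subgroupOf.2 hx)
  rw [mem_cj] at h2
  have h3 := mem_map_of_mem H.subtype h2
  have h4 : H.subtype (m⁻¹ * (⟨(m : G) * x * (m : G)⁻¹, hRH hx⟩ : H) * m) = x := by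
    change (m : G)⁻¹ * ((m : G) * x * (m : G)⁻¹) * (m : G) = x
    group
  rwa [h4] at h3

/-- **(HB')** -/
theorem hb (S : Sylow 2 G) (hb : b ∈ TT Z (S : Subgroup G)) (he : e ∈ TT Z (S : Subgroup G)) (hu : u ∈ Z)
    (hue : u * e = e * u) (hub : u * b * u⁻¹ = b ∨ u * b * u⁻¹ = b * e) : u * b = b * u := by
  have hS := S.isPGroup'
  have hee := c.TT_sq hS he
  have hbe := c.TT_comm hS hb he
  let H : Subgroup G :=
    { carrier := {h | h * e = e * h ∧ (h * b * h⁻¹ = b ∨ h * b * h⁻¹ = b * e)}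
      mul_mem' := by
        rintro p q ⟨h1, h2⟩ ⟨h3, h4⟩
        refine ⟨by rw [mul_assoc, h3, ← mul_assoc, h1, mul_assoc], ?_⟩
        have h5 : p * q * b * (p * q)⁻¹ = p * (q * b * q⁻¹) * p⁻¹ := by group
        have h6 : p * (b * e) * p⁻¹ = (p * b * p⁻¹) * e := by
          calc p * (b * e) * p⁻¹ = (p * b * p⁻¹) * (p * e * p⁻¹) := by group
            _ = _ := by rw [h1, mul_inv_cancel_right]
        rw [h5]
        rcases h4 with h4 | h4
        · rw [h4]; exact h2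
        · rw [h4, h6]
          rcases h2 with h2 | h2
          · right; rw [h2]
          · left; rw [h2, mul_assoc, hee, mul_one]
      one_mem' := ⟨by group, Or.inl (by group)⟩
      inv_mem' := by
        rintro p ⟨h1, h2⟩
        have h3 : p⁻¹ * e = e * p⁻¹ := by rw [inv_mul_eq_iff_eq_mul, ← mul_assoc, h1, mul_inv_cancel_right]
        refine ⟨h3, ?_⟩
        rcases h2 with h2 | h2
        · left; nth_rw 1 [← h2]; group
        · right
          have h4 : b = (p * b * p⁻¹) * e := by rw [h2, mul_assoc, hee, mul_one]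
          calc p⁻¹ * b * p⁻¹⁻¹ = p⁻¹ * ((p * b * p⁻¹) * e) * p⁻¹⁻¹ := by rw [← h4]
            _ = b * (p⁻¹ * e) * p := by group
            _ = b * (e * p⁻¹) * p := by rw [h3]
            _ = b * e := by group }
  have hAH : TT Z (S : Subgroup G) ≤ H := fun a ha =>
    ⟨c.TT_comm hS ha he, Or.inl (by rw [c.TT_comm hS ha hb, mul_inv_cancel_right])⟩
  have huH : u ∈ H := ⟨hue, hub⟩
  have hu2 : IsPGroup 2 (zpowers u) := by
    haveI : Fact (Nat.Prime 2) := ⟨Nat.prime_two⟩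
    refine IsPGroup.of_card (n := 1) ?_
    rw [Nat.card_zpowers, pow_one]
    exact orderOf_eq_prime (by rw [pow_two]; exact c.sq u hu) (c.ne u hu)
  obtain ⟨d, hd, P, hP, hPS, hdP⟩ := c.conj_into S hAH hu2 (zpowers_le.2 huH)
  have h1 : d * u * d⁻¹ ∈ ZP Z (S : Subgroup G) := by
    rw [← hPS]
    exact ⟨c.conj u hu d, hdP (conj_mem_cj (mem_zpowers u))⟩
  have h3 : d * b * d⁻¹ ∈ TT Z (S : Subgroup G) := by
    rcases hd.2 with h3 | h3
    · rw [h3]; exact hb
    · rw [h3]; exact mul_mem hb he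
  have h4 := c.TT_comm hS (mem_TT h1) h3
  have h5 : d * (u * b) * d⁻¹ = d * (b * u) * d⁻¹ := by
    calc d * (u * b) * d⁻¹ = (d * u * d⁻¹) * (d * b * d⁻¹) := by group
      _ = (d * b * d⁻¹) * (d * u * d⁻¹) := h4
      _ = _ := by group
  exact mul_left_cancel (mul_right_cancel h5)

/-- an element of `TT Z S` centralising `Z ∩ S'` lies in `TT Z S'` -/
theorem hb_mem (S S' : Sylow 2 G) (he : e ∈ TT Z (S : Subgroup G))
    (hc : ∀ x ∈ ZP Z (S' : Subgroup G), x * e = e * x) : e ∈ TT Z (S' : Subgroup G) := by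
  have hH : TT Z (S : Subgroup G) ≤ centralizer {e} := fun a ha => by
    rw [mem_centralizer_singleton_iff]
    exact c.TT_comm S.isPGroup' ha he
  have hR : TT Z (S' : Subgroup G) ≤ centralizer {e} := (closure_le _).2 fun x hx => by
    rw [SetLike.mem_coe, mem_centralizer_singleton_iff]
    exact hc x hx
  obtain ⟨d, hd, P, hP, hPS, hdP⟩ := c.conj_into S hH (c.TT_sylow S') hR
  rw [mem_centralizer_singleton_iff] at hd
  have h1 : ZP Z (cj d (S' : Subgroup G)) ⊆ ZP Z (S : Subgroup G) := by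
    rw [c.ZP_cj, ← hPS]
    rintro _ ⟨x, hx, rfl⟩
    exact ⟨c.conj x hx.1 d, hdP (conj_mem_cj (mem_TT hx))⟩
  have h2 : ZP Z (cj d (S' : Subgroup G)) = ZP Z (S : Subgroup G) := by
    refine Set.eq_of_subset_of_ncard_le h1 ?_ (Set.toFinite _)
    rw [c.ncard_cj, c.ncard_sylow S S']
  have h3 : e ∈ cj d (TT Z (S' : Subgroup G)) := by
    rw [← c.TT_cj, TT, h2]
    exact he
  rw [mem_cj] at h3
  have h4 : d⁻¹ * e * d = e := by rw [mul_assoc, ← hd, inv_mul_cancel_left]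
  rwa [h4] at h3

/-- **strong closure** -/
theorem closed_of (S : Sylow 2 G)
    (cnt : ∀ b ∈ (S : Subgroup G), b * b = 1 → ∀ S' : Sylow 2 G, b ∈ TT Z (S' : Subgroup G) →
      (∀ s ∈ (S : Subgroup G), s * b = b * s → ∀ x ∈ ZP Z (S' : Subgroup G), s * x * s⁻¹ ∈ ZP Z (S' : Subgroup G)) →
      (∀ u ∈ ZP Z (S : Subgroup G), u * b = b * u → u ∈ (S' : Subgroup G)) →
      (∃ u ∈ ZP Z (S : Subgroup G), u * b ≠ b * u) →
      ∃ u ∈ ZP Z (S : Subgroup G), u * b ≠ b * u ∧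
        ∀ x ∈ ZP Z (S' : Subgroup G), x * (u * (b * u * b⁻¹)) = (u * (b * u * b⁻¹)) * x) :
    IsStronglyClosed (TT Z (S : Subgroup G)) (S : Subgroup G) := by
  have hS := S.isPGroup'
  refine ⟨TT_le _ _, fun a ha g hg => ?_⟩
  obtain ⟨b, hbdef⟩ : ∃ b, b = g * a * g⁻¹ := ⟨_, rfl⟩
  rw [← hbdef] at hg ⊢
  have haa := c.TT_sq hS ha
  have hbb : b * b = 1 := by
    rw [hbdef]
    calc g * a * g⁻¹ * (g * a * g⁻¹) = g * (a * a) * g⁻¹ := by group
      _ = 1 := by rw [haa]; group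
  have hbi : b⁻¹ = b := inv_eq_of_mul_eq_one_right hbb
  have hgb : g⁻¹ * b * g = a := by rw [hbdef]; group
  let R : Subgroup G := cj g⁻¹ ((S : Subgroup G) ⊓ centralizer {b})
  have hR : ∀ r ∈ R, g * r * g⁻¹ ∈ (S : Subgroup G) ⊓ centralizer {b} := by
    intro r hr
    rw [mem_cj, inv_inv] at hr
    exact hr
  have hR2 : IsPGroup 2 R := (hS.to_le inf_le_left).map _
  have hRa : R ≤ centralizer {a} := by
    intro r hr
    rw [mem_centralizer_singleton_iff]
    have h1 := mem_centralizer_singleton_iff.1 (hR r hr).2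
    rw [← hgb]
    calc r * (g⁻¹ * b * g) = g⁻¹ * ((g * r * g⁻¹) * b) * g := by group
      _ = g⁻¹ * (b * (g * r * g⁻¹)) * g := by rw [h1]
      _ = _ := by group
  obtain ⟨d, hd, P, hP, hPS, hdP⟩ := c.conj_into S
    (H := centralizer {a}) (fun x hx => mem_centralizer_singleton_iff.2 (c.TT_comm hS hx ha)) hR2 hRa
  rw [mem_centralizer_singleton_iff] at hd
  obtain ⟨k, hk⟩ : ∃ k, k = g * d⁻¹ := ⟨_, rfl⟩
  have h5 : d⁻¹ * a * d = a := by rw [mul_assoc, ← hd, inv_mul_cancel_left]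
  have hkb : b = k * a * k⁻¹ := by
    rw [hbdef, hk]
    calc g * a * g⁻¹ = g * (d⁻¹ * a * d) * g⁻¹ := by rw [h5]
      _ = _ := by group
  obtain ⟨S', hS'⟩ : ∃ S' : Sylow 2 G, (S' : Subgroup G) = cj k (S : Subgroup G) := ⟨k • S, rfl⟩
  have hbS' : b ∈ TT Z (S' : Subgroup G) := by
    rw [hS', c.TT_cj, hkb]
    exact conj_mem_cj ha
  -- `C_S(b) ≤ cj k P`
  have hcent : ∀ s ∈ (S : Subgroup G), s * b = b * s → k⁻¹ * s * k ∈ P := by
    intro s hs hsb
    have h6 : g⁻¹ * s * g⁻¹⁻¹ ∈ R := conj_mem_cj (Subgroup.mem_inf.2 ⟨hs, mem_centralizer_singleton_iff.2 hsb⟩)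
    have h7 := hdP (conj_mem_cj (g := d) h6)
    have h8 : d * (g⁻¹ * s * g⁻¹⁻¹) * d⁻¹ = k⁻¹ * s * k := by rw [hk]; group
    rwa [h8] at h7
  have hZ : ∀ x, x ∈ Z → k⁻¹ * x * k ∈ P → x ∈ (S' : Subgroup G) := by
    intro x hx h6
    rw [hS', mem_cj]
    have h7 : k⁻¹ * x * k ∈ ZP Z P := ⟨by
      have h8 := c.conj x hx k⁻¹
      rwa [inv_inv] at h8, h6⟩
    rw [hPS] at h7
    exact h7.2
  have c1 : ∀ s ∈ (S : Subgroup G), s * b = b * s → ∀ x ∈ ZP Z (S' : Subgroup G),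
      s * x * s⁻¹ ∈ ZP Z (S' : Subgroup G) := by
    intro s hs hsb x hx
    refine ⟨c.conj x hx.1 s, hZ _ (c.conj x hx.1 s) ?_⟩
    have h6 := hcent s hs hsb
    have h7 : k⁻¹ * x * k ∈ P := by
      have h8 : k⁻¹ * x * k ∈ ZP Z (S : Subgroup G) := by
        refine ⟨?_, ?_⟩
        · have h9 := c.conj x hx.1 k⁻¹
          rwa [inv_inv] at h9
        · have h9 := hx.2
          rw [hS', mem_cj] at h9
          exact h9
      rw [← hPS] at h8
      exact h8.2
    have h8 : k⁻¹ * (s * x * s⁻¹) * k = (k⁻¹ * s * k) * (k⁻¹ * x * k) * (k⁻¹ * s * k)⁻¹ := by group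
    rw [h8]
    exact mul_mem (mul_mem h6 h7) (inv_mem h6)
  have c2 : ∀ u ∈ ZP Z (S : Subgroup G), u * b = b * u → u ∈ (S' : Subgroup G) := fun u hu hub =>
    hZ u hu.1 (hcent u hu.2 hub)
  by_cases hex : ∃ u ∈ ZP Z (S : Subgroup G), u * b ≠ b * u
  · exfalso
    obtain ⟨u, hu, hub, hx⟩ := cnt b hg hbb S' hbS' c1 c2 hex
    have huA : u ∈ TT Z (S : Subgroup G) := mem_TT hu
    have hu2 : b * u * b⁻¹ ∈ ZP Z (S : Subgroup G) :=
      ⟨c.conj u hu.1 b, mul_mem (mul_mem hg hu.2) (inv_mem hg)⟩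
    obtain ⟨e, he⟩ : ∃ e, e = u * (b * u * b⁻¹) := ⟨_, rfl⟩
    rw [← he] at hx
    have heA : e ∈ TT Z (S : Subgroup G) := by rw [he]; exact mul_mem huA (mem_TT hu2)
    have h6 := c.hb_mem S S' heA hx
    have hui : u⁻¹ = u := inv_eq_of_mul_eq_one_right (c.sq u hu.1)
    have h7 : u * b * u⁻¹ = b * e := by
      rw [he, c.TT_comm hS huA (mem_TT hu2), hui]
      calc u * b * u = 1 * (u * b * u) := by group
        _ = (b * b) * (u * b * u) := by rw [hbb]
        _ = b * ((b * u * b) * u) := by group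
        _ = b * ((b * u * b⁻¹) * u) := by rw [hbi]
    exact hub (c.hb S' hbS' h6 hu.1 (c.TT_comm hS huA heA) (Or.inr h7))
  · push Not at hex
    have h6 : ZP Z (S : Subgroup G) ⊆ ZP Z (S' : Subgroup G) := fun u hu => ⟨hu.1, c2 u hu (hex u hu)⟩
    have h7 : ZP Z (S' : Subgroup G) = ZP Z (S : Subgroup G) := c.eq_of_sub S S'.isPGroup' h6
    rw [TT, h7] at hbS'
    exact hbS'

end FZ

end Cfsg.Agent.Cit.Nil.RG
end

-- part: Cit/Nil/RG/EndS
section
/-!
# (6b), `r ≥ 2`, commuting pairs are C-pairs (no NIL): `⟨Z ∩ S⟩` is strongly closed, and the end (helper488)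

* `WR.fz`, `WR.RR_leS` : the members over the elements of `Z ∩ S` lie in `S`;
* `WR.closedS` : `TT (ZZ Om) S` is strongly closed in `S`;
* **`WR.false_of_allC`** : `AllC Om`, at least two members over each involution, `X = F*(G)` simple: contradiction.
-/

set_option autoImplicit false
set_option linter.style.haveILetI false
set_option linter.unusedSectionVars false

namespace Cfsg.Agent.Cit.Nil.RG

open Subgroup Cfsg Cit QuaternionGroup
open Cfsg.Agent.Cit.Nil.ROne Cfsg.Agent.Cit.Nil.RFour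

variable {G : Type*} [Group G]

namespace WR

variable {Om : Set (Subgroup G)} {K L M X : Subgroup G} {z x y g g' u v w a a' b k l r s t i p q c : G}

variable [Finite G] (h : WR Om) (hC : AllC Om) (h2 : R2 Om)

include h hC h2

theorem fz : FZ (ZZ Om) where
  sq z hz := h.zz_sq hz
  ne z hz := h.zz_ne hz
  conj z hz g := h.zz_cj hz g
  f1 x hx u hu hc := h.f1 hC h2 hx hu hc

/-- the members over the elements of `Z ∩ S` lie in `S` -/
theorem RR_leS (S : Sylow 2 G) (hu : u ∈ ZP (ZZ Om) (S : Subgroup G)) : RR Om u ≤ S := by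
  have c := h.fz hC h2
  let 𝒦 : Set (Subgroup G) := {K | K ∈ Om ∧ zz K ∈ (S : Subgroup G)}
  have h3 : IsPGroup 2 (SS 𝒦) := by
    refine SS_two _ 𝒦 rfl (fun K hK => h.two hK.1) fun K hK L hL hne a ha b hb => ?_
    by_cases h5 : zz K = zz L
    · exact h.comm K hK.1 L hL.1 h5 hne a ha b hb
    · have h6 := c.comm_of_two S.isPGroup' (z := zz K) (u := zz L) ⟨⟨K, hK.1, rfl⟩, hK.2⟩ ⟨⟨L, hL.1, rfl⟩, hL.2⟩
      exact (hC (zz L) ⟨L, hL.1, rfl⟩ (zz K) ⟨K, hK.1, rfl⟩ h5 h6).2 K ⟨hK.1, rfl⟩ L ⟨hL.1, rfl⟩ a ha b hb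
  have h4 : (S : Subgroup G) ≤ normalizer (SS 𝒦 : Set G) := by
    have key : ∀ s ∈ (S : Subgroup G), ∀ g ∈ SS 𝒦, s * g * s⁻¹ ∈ SS 𝒦 := by
      intro s hs g hg
      refine SS_cj_le (𝒦 := 𝒦) (fun K hK => ⟨h.conj K hK.1 s, ?_⟩) hg
      rw [h.zcj hK.1]
      exact mul_mem (mul_mem hs hK.2) (inv_mem hs)
    intro s hs
    rw [mem_normalizer_iff]
    intro g
    refine ⟨key s hs g, fun hg => ?_⟩
    have h6 := key s⁻¹ (inv_mem hs) _ hg
    have h7 : s⁻¹ * (s * g * s⁻¹) * s⁻¹⁻¹ = g := by group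
    rwa [h7] at h6
  have h5 : IsPGroup 2 ((S : Subgroup G) ⊔ SS 𝒦 : Subgroup G) :=
    (S.isPGroup').to_sup_of_normal_right' h3 h4
  have h6 := S.is_maximal' h5 le_sup_left
  refine SS_le fun K hK => ?_
  have h7 : K ≤ SS 𝒦 := le_SS (𝒦 := 𝒦) ⟨hK.1, by rw [hK.2]; exact hu.2⟩
  rw [← h6]
  exact h7.trans le_sup_right

/-- **strong closure** -/
theorem closedS (S : Sylow 2 G) : IsStronglyClosed (TT (ZZ Om) (S : Subgroup G)) (S : Subgroup G) := by
  classical
  have c := h.fz hC h2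
  refine c.closed_of S fun b hb hbb S' _ hcent hFS hmv => ?_
  by_contra hcon
  push Not at hcon
  have hbi : b⁻¹ = b := inv_eq_of_mul_eq_one_right hbb
  -- the moved points `Δ`, the other points `X`
  let Δ : Set G := {u | u ∈ ZP (ZZ Om) (S : Subgroup G) ∧ u * b ≠ b * u}
  let F : Set G := {u | u ∈ ZP (ZZ Om) (S : Subgroup G) ∧ u * b = b * u}
  let X : Set G := ZP (ZZ Om) (S' : Subgroup G) \ F
  have hbc : ∀ u, (b * u * b⁻¹) * b = b * (b * u * b⁻¹) ↔ u * b = b * u := by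
    intro u
    constructor
    · intro h6
      have h7 : b⁻¹ * ((b * u * b⁻¹) * b) * b = b⁻¹ * (b * (b * u * b⁻¹)) * b := by rw [h6]
      calc u * b = b⁻¹ * ((b * u * b⁻¹) * b) * b := by group
        _ = b⁻¹ * (b * (b * u * b⁻¹)) * b := h7
        _ = b * u := by group
    · intro h6
      have h7 : b * u * b⁻¹ = u := by rw [← h6]; group
      rw [h7]
      exact h6
  have hΔ : ∀ u ∈ Δ, b * u * b⁻¹ ∈ Δ := by
    rintro u ⟨hu, hub⟩
    exact ⟨⟨h.zz_cj hu.1 b, mul_mem (mul_mem hb hu.2) (inv_mem hb)⟩, fun h6 => hub ((hbc u).1 h6)⟩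
  have hΔc : ∀ u ∈ Δ, ∀ v ∈ Δ, u * v = v * u := fun u hu v hv => c.comm_of_two S.isPGroup' hu.1 hv.1
  have hΔb : ∀ u ∈ Δ, u ≠ b * u * b⁻¹ := by
    intro u hu h6
    apply hu.2
    calc u * b = (b * u * b⁻¹) * b := by rw [← h6]
      _ = b * u := by group
  obtain ⟨T, hT1, hT2, hT3⟩ := exists_transversal (Set.toFinite Δ).toFinset (fun u => b * u * b⁻¹)
    (by
      intro u _
      change b * (b * u * b⁻¹) * b⁻¹ = u
      calc b * (b * u * b⁻¹) * b⁻¹ = (b * b) * u * (b * b)⁻¹ := by group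
        _ = u := by rw [hbb]; group)
    (by
      intro u hu
      rw [Set.Finite.mem_toFinset] at hu
      exact (hΔb u hu).symm)
  have hTΔ : ∀ u ∈ T, u ∈ Δ := fun u hu => (Set.Finite.mem_toFinset _).1 (hT1 hu)
  -- `|X| = |Δ|`
  have hFS' : F ⊆ ZP (ZZ Om) (S' : Subgroup G) := fun u hu => ⟨hu.1.1, hFS u hu.1 hu.2⟩
  have hcard : Nat.card X = (Set.toFinite Δ).toFinset.card := by
    rw [← Set.ncard_eq_toFinset_card Δ (Set.toFinite Δ)]
    change X.ncard = _
    have h6 : X.ncard = (ZP (ZZ Om) (S' : Subgroup G)).ncard - F.ncard := Set.ncard_sdiff hFS' (Set.toFinite _)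
    have h7 : Δ = ZP (ZZ Om) (S : Subgroup G) \ F := by
      ext u
      constructor
      · rintro ⟨hu, hub⟩
        exact ⟨hu, fun h8 => hub h8.2⟩
      · rintro ⟨hu, hub⟩
        exact ⟨hu, fun h8 => hub ⟨hu, h8⟩⟩
    have h8 : F ⊆ ZP (ZZ Om) (S : Subgroup G) := fun u hu => hu.1
    rw [h6, h7, Set.ncard_sdiff h8 (Set.toFinite _), c.ncard_sylow S S']
  -- the action
  let Γ : Subgroup G := (S : Subgroup G) ⊓ centralizer {b}
  have hΓ : IsPGroup 2 Γ := S.isPGroup'.to_le inf_le_left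
  have hΓF : ∀ g ∈ Γ, ∀ u ∈ F, g * u * g⁻¹ ∈ F := by
    rintro g hg u ⟨hu, hub⟩
    refine ⟨⟨h.zz_cj hu.1 g, mul_mem (mul_mem hg.1 hu.2) (inv_mem hg.1)⟩, ?_⟩
    have h6 := mem_centralizer_singleton_iff.1 hg.2
    have h7 : g⁻¹ * b = b * g⁻¹ := by rw [inv_mul_eq_iff_eq_mul, ← mul_assoc, h6, mul_inv_cancel_right]
    calc g * u * g⁻¹ * b = g * u * (g⁻¹ * b) := by group
      _ = g * (u * b) * g⁻¹ := by rw [h7]; group
      _ = (g * b) * u * g⁻¹ := by rw [hub]; group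
      _ = b * (g * u * g⁻¹) := by rw [h6]; group
  have hX : ∀ g ∈ Γ, ∀ x ∈ X, g * x * g⁻¹ ∈ X := by
    rintro g hg x ⟨hx, hxF⟩
    refine ⟨hcent g hg.1 (mem_centralizer_singleton_iff.1 hg.2) x hx, fun h6 => hxF ?_⟩
    have h7 := hΓF g⁻¹ (inv_mem hg) _ h6
    have h8 : g⁻¹ * (g * x * g⁻¹) * g⁻¹⁻¹ = x := by group
    rwa [h8] at h7
  let φ := actX Γ X hX
  obtain ⟨u0, hu0, hu0b⟩ := hmv
  haveI : Nonempty X := by
    have h6 : 0 < Nat.card X := by
      rw [hcard]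
      exact Finset.card_pos.2 ⟨u0, (Set.Finite.mem_toFinset _).2 ⟨hu0, hu0b⟩⟩
    exact (Nat.card_pos_iff.1 h6).1
  let H : Subgroup (Equiv.Perm X) := φ.range
  have hH : IsPGroup 2 H := by
    have h6 : IsPGroup 2 ((⊤ : Subgroup Γ).map φ) := (hΓ.of_equiv Subgroup.topEquiv.symm).map φ
    rwa [← MonoidHom.range_eq_map] at h6
  -- the elements
  have hex : ∀ u : G, ∃ k k' : G, u ∈ ZZ Om → (k ∈ RR Om u ∧ k' ∈ RR Om u ∧ k * k' = u * (k' * k)) := by
    intro u
    by_cases hu : u ∈ ZZ Om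
    · obtain ⟨K, hK⟩ := id hu
      obtain ⟨k, hk, hkk⟩ := h.exists_four hK.1
      obtain ⟨k', hk', hkk', hk1, hk2⟩ := h.exists_anti hK.1 hk hkk
      obtain ⟨h6, -⟩ := h.anti hK.1 hk hk' hkk hkk' hk1 hk2
      refine ⟨k, k', fun _ => ⟨le_RR hK hk, le_RR hK hk', ?_⟩⟩
      rw [h6, hK.2, ← mul_assoc, h.zz_sq hu, one_mul]
    · exact ⟨1, 1, fun h6 => absurd h6 hu⟩
  choose κ κ' hκ using hex
  let P : G → G := fun u => κ u * (b * κ u * b⁻¹)
  let Q : G → G := fun u => κ' u * (b * κ' u * b⁻¹)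
  -- they lie in `Γ`
  have hmem : ∀ u ∈ Δ, ∀ a ∈ RR Om u, a * (b * a * b⁻¹) ∈ Γ := by
    intro u hu a ha
    have h6 : a ∈ (S : Subgroup G) := h.RR_leS hC h2 S hu.1 ha
    refine Subgroup.mem_inf.2 ⟨mul_mem h6 (mul_mem (mul_mem hb h6) (inv_mem hb)), ?_⟩
    rw [mem_centralizer_singleton_iff]
    have hbu := hΔ u hu
    have c1 := hC _ hbu.1.1 u hu.1.1 (hΔb u hu) (hΔc u hu _ hbu)
    have h7 := h.CP_RR c1 ha (h.RR_cj ha b)
    calc a * (b * a * b⁻¹) * b = (b * a * b⁻¹) * a * b := by rw [h7]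
      _ = b * (a * (b⁻¹ * a * b)) := by group
      _ = b * (a * (b * a * b⁻¹)) := by rw [hbi]
  have hPΓ : ∀ u ∈ T, P u ∈ Γ := fun u hu => hmem u (hTΔ u hu) _ (hκ u (hTΔ u hu).1.1).1
  have hQΓ : ∀ u ∈ T, Q u ∈ Γ := fun u hu => hmem u (hTΔ u hu) _ (hκ u (hTΔ u hu).1.1).2.1
  let ψ : G → Equiv.Perm X := fun g => if hg : g ∈ Γ then φ ⟨g, hg⟩ else 1
  have hψ : ∀ g (hg : g ∈ Γ), ψ g = φ ⟨g, hg⟩ := fun g hg => dif_pos hg
  have hψm : ∀ g g', g ∈ Γ → g' ∈ Γ → g * g' = g' * g → ψ g * ψ g' = ψ g' * ψ g := by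
    intro g g' hg hg' hgg
    rw [hψ g hg, hψ g' hg', ← map_mul, ← map_mul]
    exact congrArg φ (Subtype.ext hgg)
  have hψH : ∀ g ∈ Γ, ψ g ∈ H := fun g hg => by
    rw [hψ g hg]
    exact ⟨⟨g, hg⟩, rfl⟩
  have key := count H hH (fun u => ψ (P u)) (fun u => ψ (Q u)) T (fun u hu => hψH _ (hPΓ u hu))
    (fun u hu => hψH _ (hQΓ u hu)) ?_ ?_
  · rw [hcard] at key
    omega
  · intro u hu v hv huv
    have hu' := hTΔ u hu
    have hv' := hTΔ v hv
    have h6 : ∀ p ∈ ({u, b * u * b⁻¹} : Set G), ∀ q ∈ ({v, b * v * b⁻¹} : Set G), p ≠ q ∧ p * q = q * p := by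
      rintro p (rfl | rfl) q (rfl | rfl)
      · exact ⟨huv, hΔc _ hu' _ hv'⟩
      · exact ⟨fun h7 => hT2 v hv (by change b * v * b⁻¹ ∈ T; rw [← h7]; exact hu), hΔc _ hu' _ (hΔ v hv')⟩
      · exact ⟨fun h7 => hT2 u hu (by change b * u * b⁻¹ ∈ T; rw [h7]; exact hv), hΔc _ (hΔ u hu') _ hv'⟩
      · exact ⟨fun h7 => huv (mul_left_cancel (mul_right_cancel h7)), hΔc _ (hΔ u hu') _ (hΔ v hv')⟩
    have hPu := hPΓ u hu
    have hQu := hQΓ u hu
    have hPv := hPΓ v hv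
    have hQv := hQΓ v hv
    have k1 := (hκ u hu'.1.1).1
    have k2 := (hκ u hu'.1.1).2.1
    have k3 := (hκ v hv'.1.1).1
    have k4 := (hκ v hv'.1.1).2.1
    exact ⟨hψm _ _ hPu hPv (h.diag_comm hC hbb hu'.1.1 hv'.1.1 h6 k1 k3),
      hψm _ _ hPu hQv (h.diag_comm hC hbb hu'.1.1 hv'.1.1 h6 k1 k4),
      hψm _ _ hQu hPv (h.diag_comm hC hbb hu'.1.1 hv'.1.1 h6 k2 k3),
      hψm _ _ hQu hQv (h.diag_comm hC hbb hu'.1.1 hv'.1.1 h6 k2 k4)⟩
  · intro u hu heq
    have hu' := hTΔ u hu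
    have hPu := hPΓ u hu
    have hQu := hQΓ u hu
    obtain ⟨k1, k2, k3⟩ := hκ u hu'.1.1
    have hbu := hΔ u hu'
    have c1 := hC _ hbu.1.1 u hu'.1.1 (hΔb u hu') (hΔc u hu' _ hbu)
    -- `P Q = e Q P`
    obtain ⟨e, he⟩ : ∃ e, e = u * (b * u * b⁻¹) := ⟨_, rfl⟩
    have h6 : P u * Q u = e * (Q u * P u) := by
      change κ u * (b * κ u * b⁻¹) * (κ' u * (b * κ' u * b⁻¹)) = e * (κ' u * (b * κ' u * b⁻¹) * (κ u * (b * κ u * b⁻¹)))
      obtain ⟨α, hα⟩ : ∃ α, α = κ u := ⟨_, rfl⟩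
      obtain ⟨β, hβ⟩ : ∃ β, β = κ' u := ⟨_, rfl⟩
      rw [← hα, ← hβ] at k3
      rw [← hα] at k1
      rw [← hβ] at k2
      rw [← hα, ← hβ]
      have m1 : (b * α * b⁻¹) * β = β * (b * α * b⁻¹) := (h.CP_RR c1 k2 (h.RR_cj k1 b)).symm
      have m2 : (b * β * b⁻¹) * α = α * (b * β * b⁻¹) := (h.CP_RR c1 k1 (h.RR_cj k2 b)).symm
      have m3 : (b * u * b⁻¹) * (β * α) = (β * α) * (b * u * b⁻¹) :=
        (h.CP_RR c1 (mul_mem k2 k1) (h.RR_mem hbu.1.1)).symm
      have m4 : (b * α * b⁻¹) * (b * β * b⁻¹) = (b * u * b⁻¹) * ((b * β * b⁻¹) * (b * α * b⁻¹)) := by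
        calc (b * α * b⁻¹) * (b * β * b⁻¹) = b * (α * β) * b⁻¹ := by group
          _ = b * (u * (β * α)) * b⁻¹ := by rw [k3]
          _ = _ := by group
      calc α * (b * α * b⁻¹) * (β * (b * β * b⁻¹)) = α * ((b * α * b⁻¹) * β) * (b * β * b⁻¹) := by group
        _ = (α * β) * ((b * α * b⁻¹) * (b * β * b⁻¹)) := by rw [m1]; group
        _ = (u * (β * α)) * ((b * u * b⁻¹) * ((b * β * b⁻¹) * (b * α * b⁻¹))) := by rw [k3, m4]
        _ = u * ((β * α) * (b * u * b⁻¹)) * ((b * β * b⁻¹) * (b * α * b⁻¹)) := by group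
        _ = u * ((b * u * b⁻¹) * (β * α)) * ((b * β * b⁻¹) * (b * α * b⁻¹)) := by rw [m3]
        _ = (u * (b * u * b⁻¹)) * (β * (α * (b * β * b⁻¹)) * (b * α * b⁻¹)) := by group
        _ = (u * (b * u * b⁻¹)) * (β * ((b * β * b⁻¹) * α) * (b * α * b⁻¹)) := by rw [m2]
        _ = e * (β * (b * β * b⁻¹) * (α * (b * α * b⁻¹))) := by rw [he]; group
    have h7 : ψ (P u) * ψ (Q u) = ψ (Q u) * ψ (P u) := heq
    rw [hψ _ hPu, hψ _ hQu, ← map_mul, ← map_mul] at h7
    -- `e` commutes with `QP`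
    have m5 : e * (Q u * P u) = (Q u * P u) * e := by
      have n1 : ∀ a ∈ RR Om u, e * (a * (b * a * b⁻¹)) = (a * (b * a * b⁻¹)) * e := by
        intro a ha
        have n2 := h.RR_cen ha
        have n3 := h.RR_cen (h.RR_cj ha b)
        have n4 := h.CP_RR c1 ha (h.RR_mem hbu.1.1)
        have n5 := h.CP_RR c1 (h.RR_mem hu'.1.1) (h.RR_cj ha b)
        have e1 : Commute u a := n2
        have e2 : Commute (b * u * b⁻¹) (b * a * b⁻¹) := n3
        have e3 : Commute (b * u * b⁻¹) a := n4.symm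
        have e4 : Commute u (b * a * b⁻¹) := n5
        rw [he]
        exact ((e1.mul_right e4).mul_left (e3.mul_right e2)).eq
      have e1 : Commute e (Q u) := n1 _ k2
      have e2 : Commute e (P u) := n1 _ k1
      exact (e1.mul_right e2).eq
    obtain ⟨x, hx, hxe⟩ := hcon u hu'.1 hu'.2
    apply hxe
    rw [← he]
    by_cases hxF : x ∈ F
    · have e1 : Commute x u := c.comm_of_two S.isPGroup' hxF.1 hu'.1
      have e2 : Commute x (b * u * b⁻¹) := c.comm_of_two S.isPGroup' hxF.1 hbu.1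
      rw [he]
      exact (e1.mul_right e2).eq
    · have h8 := congrArg (fun σ : Equiv.Perm X => ((σ ⟨x, hx, hxF⟩ : X) : G)) h7
      have h9 : (P u * Q u) * x * (P u * Q u)⁻¹ = (Q u * P u) * x * (Q u * P u)⁻¹ := h8
      rw [h6] at h9
      have h10 : e * (Q u * P u) * x * (e * (Q u * P u))⁻¹ = (Q u * P u) * (e * x * e⁻¹) * (Q u * P u)⁻¹ := by
        rw [m5]; group
      rw [h10] at h9
      have h11 : e * x * e⁻¹ = x := mul_left_cancel (mul_right_cancel h9)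
      rw [mul_inv_eq_iff_eq_mul] at h11
      exact h11.symm

/-- **commuting pairs are C-pairs, at least two members over each involution: impossible** -/
theorem false_of_allC (hyp : Hyp Om) (hz : z ∈ ZZ Om)
    (f : FSimp X) (hev : 2 ∣ Nat.card X) (gold : Cit.ROne.Gold X) (hB : CloEnd.Bend X) : False := by
  haveI : Fact (Nat.Prime 2) := ⟨Nat.prime_two⟩
  have hX : ∀ z ∈ ZZ Om, z ∈ X := fun z hz => zz_mem_of_fsimp hyp (fun K hK => h.two hK) f hev hz
  have hz2 : IsPGroup 2 (zpowers z) := by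
    refine IsPGroup.of_card (n := 1) ?_
    rw [Nat.card_zpowers, pow_one]
    exact orderOf_eq_prime (by rw [pow_two]; exact h.zz_sq hz) (h.zz_ne hz)
  obtain ⟨S, hS⟩ := hz2.exists_le_sylow
  have hzS : z ∈ (S : Subgroup G) := hS (mem_zpowers z)
  have c := h.fz hC h2
  have hsc := h.closedS hC h2 S
  have hnc : ¬ IsMulCommutative X := by
    intro h2
    exact f.na fun x hx y hy => congrArg Subtype.val (h2.is_comm.comm ⟨x, hx⟩ ⟨y, hy⟩)
  obtain ⟨g, h3, h4⟩ := GH.QA.not_isolated f.sim hnc (u := (⟨z, hX z hz⟩ : X))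
    (Subtype.ext (h.zz_sq hz)) (fun h2 => h.zz_ne hz (congrArg Subtype.val h2))
  have h3' : z * (g * z * (g : G)⁻¹) = g * z * (g : G)⁻¹ * z := congrArg Subtype.val h3
  have h4' : z ≠ g * z * (g : G)⁻¹ := fun h5 => h4 (Subtype.ext h5.symm)
  have hcp : CP Om z (g * z * (g : G)⁻¹) := hC _ (h.zz_cj hz g) z hz h4' h3'
  obtain ⟨P, Q, R, k1, k2, k3, k4, k5, k6, k7, k8⟩ := h.exists_two (h2 z hz) f.nor g.2 hz hcp
  refine false_of_two f gold hB S (A := TT (ZZ Om) (S : Subgroup G)) ?_ ?_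
    (fun x hx y hy => c.TT_comm S.isPGroup' hx hy) hsc k1 k2 k3 k4 k5 k6 k7 k8
  · intro h5
    have h6 : z ∈ TT (ZZ Om) (S : Subgroup G) := mem_TT ⟨hz, hzS⟩
    rw [h5, mem_bot] at h6
    exact h.zz_ne hz h6
  · rw [TT, closure_le]
    rintro u hu
    exact hX u hu.1

end WR

end Cfsg.Agent.Cit.Nil.RG
end

private theorem dce_5b4668315bd1 : _root_.True := by
  try have : _root_.True := by simp only [_root_.Cfsg.Agent.Cit.Nil.RG.TT.eq_1]
  exact _root_.True.intro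
end

-- part: Cit/Nil/FinBridge
section
set_option linter.all false
open scoped Cfsg.Agent.FastGrp

/-!
# S1309: from the frame theorem to the leaves with `m = 1`

* `IndStmt` : the statement `T'` for all groups (the output of the frame theorem);
* `mone_of_ind` : in the core-free world (C3) of S1309: `m = 1`;
* `c3Free_of` : `AssemblyNil.C3Free` from `IndStmt` and the leaves `r = 2`, `m = 1` and `r = 4`, `m = 1`.
-/

set_option autoImplicit false
set_option linter.style.haveILetI false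
set_option linter.unusedSectionVars false

namespace Cfsg.Agent.Cit.Nil.FinBridge

open Subgroup Cfsg Cfsg.Agent.Cit Cfsg.Agent.Cit.Nil.IndDefs

universe u

/-- **the statement `T'` for all groups** -/
def IndStmt : Prop := ∀ (H : Type u) [Group H] [Finite H] (Om : Set (Subgroup H)), T0 Om → ∀ K ∈ Om, TStat Om K

variable {G : Type u} [Group G] [Finite G] {Om : Set (Subgroup G)} {K L : Subgroup G}

/-- members in different components commute -/
theorem cm_of_not_mem {M : Subgroup G} (hL : L ∈ comp Om K) (hLO : L ∈ Om) (hM : M ∈ Om) (h : M ∉ comp Om K) :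
    Cm L M := by
  by_contra hc
  exact h (mem_comp_of hL ⟨hLO, hM, hc⟩)

section world

variable (w : AssemblyNil.FS G)

include w

theorem fstar_le' {N : Subgroup G} (hN : N.Normal) (hb : N ≠ ⊥) : generalizedFittingSubgroup G ≤ N :=
  End.fstar_le w.simple w.na hN hb

/-- a subgroup which is normalised by `F*(G)` and is not trivial contains `F*(G)` -/
theorem fstar_le_of_normalizes {B : Subgroup G} (hB : B ≠ ⊥)
    (hn : generalizedFittingSubgroup G ≤ normalizer (B : Set G)) : generalizedFittingSubgroup G ≤ B := by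
  have f := ROne.fsimp_of w.simple w.na
  have hX := f.nor
  have h1 : (B.subgroupOf (generalizedFittingSubgroup G)).Normal := by
    refine ⟨fun x hx g => ?_⟩
    rw [mem_subgroupOf] at hx ⊢
    exact (mem_normalizer_iff.1 (hn g.2) _).1 hx
  rcases w.simple.eq_bot_or_eq_top_of_normal _ h1 with h2 | h2
  · exfalso
    apply hB
    rw [eq_bot_iff, ← f.cen]
    intro b hb
    rw [mem_centralizer_iff]
    intro x hx
    have h3 : x * b * x⁻¹ * b⁻¹ ∈ B := B.mul_mem ((mem_normalizer_iff.1 (hn hx) b).1 hb) (B.inv_mem hb)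
    have h4 : x * b * x⁻¹ * b⁻¹ ∈ generalizedFittingSubgroup G := by
      have h5 := hX.conj_mem x⁻¹ ((generalizedFittingSubgroup G).inv_mem hx) b
      have h6 : x * b * x⁻¹ * b⁻¹ = x * (b * x⁻¹ * b⁻¹) := by group
      rw [h6]
      exact (generalizedFittingSubgroup G).mul_mem hx h5
    have h7 : (⟨x * b * x⁻¹ * b⁻¹, h4⟩ : ↥(generalizedFittingSubgroup G)) ∈
        B.subgroupOf (generalizedFittingSubgroup G) := mem_subgroupOf.2 h3
    rw [h2, mem_bot] at h7
    have h8 : x * b * x⁻¹ * b⁻¹ = 1 := congrArg Subtype.val h7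
    calc x * b = x * b * x⁻¹ * b⁻¹ * b * x := by group
      _ = b * x := by rw [h8, one_mul]
  · exact subgroupOf_eq_top.1 h2

/-- there is only one component -/
theorem comp_eq_all (hne : ∀ K ∈ Om, K ≠ ⊥) (hcl : ∀ g : G, ∀ K ∈ Om, cj g K ∈ Om) (hK : K ∈ Om)
    (hL : L ∈ Om) : L ∈ comp Om K := by
  by_contra hc
  -- `B_K`, `B_L` commute
  have key : ∀ M ∈ Om, generalizedFittingSubgroup G ≤ sSup (comp Om M) := by
    intro M hM
    have hsub := comp_sub hM
    have hB : sSup (comp Om M) ≠ ⊥ := by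
      intro h
      apply hne M hM
      rw [eq_bot_iff, ← h]
      exact le_sSup mem_comp_self
    refine fstar_le_of_normalizes w hB ?_
    -- every member normalises `B_M`
    have h1 : ∀ P ∈ Om, P ≤ normalizer (sSup (comp Om M) : Subgroup G) := by
      intro P hP
      by_cases hPc : P ∈ comp Om M
      · exact (le_sSup hPc).trans le_normalizer
      · refine le_trans ?_ (centralizer_le_normalizer ((sSup (comp Om M) : Subgroup G) : Set G))
        intro p hp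
        have h2 : sSup (comp Om M) ≤ centralizer ({p} : Set G) := by
          refine sSup_le fun Q hQ q hq => ?_
          rw [mem_centralizer_singleton_iff]
          exact cm_of_not_mem hQ (hsub hQ) hP hPc q hq p hp
        rw [mem_centralizer_iff]
        intro q hq
        exact mem_centralizer_singleton_iff.1 (h2 hq)
    have hN : (sSup Om : Subgroup G).Normal := by
      refine ⟨fun x hx g => ?_⟩
      have h3 : sSup Om ≤ (sSup Om : Subgroup G).comap (MulAut.conj g).toMonoidHom := by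
        refine sSup_le fun P hP q hq => ?_
        rw [mem_comap]
        have h4 : cj g P ≤ sSup Om := le_sSup (hcl g P hP)
        exact h4 (conj_mem_cj hq)
      exact h3 hx
    have hNb : (sSup Om : Subgroup G) ≠ ⊥ := by
      intro h
      apply hne M hM
      rw [eq_bot_iff, ← h]
      exact le_sSup hM
    exact (fstar_le' w hN hNb).trans (sSup_le h1)
  apply w.na
  refine ⟨⟨fun a b => Subtype.ext ?_⟩⟩
  have ha := key K hK a.2
  have hb := key L hL b.2
  have hdis : ∀ P ∈ comp Om K, ∀ Q ∈ comp Om L, Cm P Q := by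
    intro P hP Q hQ
    refine cm_of_not_mem hP (comp_sub hK hP) (comp_sub hL hQ) fun h => hc ?_
    exact comp_trans h (comp_symm hQ)
  have h1 : ∀ P ∈ comp Om K, ∀ p ∈ P, (b : G) * p = p * b := by
    intro P hP p hp
    have h2 : sSup (comp Om L) ≤ centralizer ({p} : Set G) := by
      refine sSup_le fun Q hQ q hq => ?_
      rw [mem_centralizer_singleton_iff]
      exact (hdis P hP Q hQ p hp q hq).symm
    exact mem_centralizer_singleton_iff.1 (h2 hb)
  have h3 : sSup (comp Om K) ≤ centralizer ({(b : G)} : Set G) := by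
    refine sSup_le fun P hP p hp => ?_
    rw [mem_centralizer_singleton_iff]
    exact (h1 P hP p hp).symm
  exact mem_centralizer_singleton_iff.1 (h3 ha)

theorem pCore_eq_bot : Cfsg.pCore 2 G = ⊥ := by
  haveI : Fact (Nat.Prime 2) := ⟨Nat.prime_two⟩
  by_contra h
  have h1 := fstar_le' w (Lib.Cores.pCore_normal 2) h
  have h2 : IsPGroup 2 ↥(generalizedFittingSubgroup G) := (Lib.Cores.pCore_isPGroup (G := G) 2).to_le h1
  haveI := w.simple
  haveI : Group.IsNilpotent ↥(generalizedFittingSubgroup G) := h2.isNilpotent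
  have h3 : Group.IsSolvable ↥(generalizedFittingSubgroup G) := inferInstance
  exact w.na ⟨⟨IsSimpleGroup.comm_iff_isSolvable.2 h3⟩⟩

theorem oddCore_eq_bot : Cfsg.pPrimeCore 2 G = ⊥ := by
  by_contra h
  have h1 := fstar_le' w (Lib.Cores.pPrimeCore_normal 2) h
  have h2 := Lib.Cores.pPrimeCore_coprime (G := G) 2
  have h3 : 2 ∣ Nat.card ↥(Cfsg.pPrimeCore 2 G) := w.even.trans (card_dvd_of_le h1)
  rw [Nat.coprime_comm, Nat.Prime.coprime_iff_not_dvd Nat.prime_two] at h2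
  exact h2 h3

end world

/-- `Three` gives a classical involution -/
theorem cl_of_three (hyp : Hyp Om) (hK : K ∈ Om) (h : Three K) : AssemblyNil.Cl G := by
  haveI : Fact (Nat.Prime 3) := ⟨Nat.prime_three⟩
  obtain ⟨J, h1, h2, h3, ⟨e⟩⟩ := h
  refine ⟨zz K, J, hyp.orderOf_zz hK, h1, h2 (hyp.zz_mem hK), h3, Or.inl ⟨ZMod 3, inferInstance, inferInstance, ?_, ⟨e⟩⟩⟩
  rw [ZMod.card]
  decide

/-- **the core-free world of (C3): `m = 1`** -/
theorem mone_of_ind (ind : IndStmt.{u}) (w : AssemblyNil.W3 G K)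
    (hf : ∀ t : G, orderOf t = 2 → centralizerPPrimeCore 2 t = ⊥) : RTwo.MOne (cls K) := by
  have hyp := w.hyp
  have hO : ∀ L ∈ cls K, OO L = ⊥ := fun L hL => ROne.OO_eq_bot hyp hL (hf _ (hyp.orderOf_zz hL))
  have h8 : ∀ L ∈ cls K, Nat.card L = 8 := by
    rintro L ⟨g, rfl⟩
    rw [card_cj]
    exact ROne.card_eight w.nil w.c3 (hO K (self_mem_cls K))
  have fs := w.toFS
  have t0 : T0 (cls K) := ⟨hyp, h8, oddCore_eq_bot fs⟩
  have hne : ∀ L ∈ cls K, L ≠ ⊥ := by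
    intro L hL h
    have := h8 L hL
    rw [h, card_bot] at this
    exact absurd this (by decide)
  have hall : ∀ L ∈ cls K, L ∈ comp (cls K) K := fun L hL =>
    comp_eq_all fs hne (fun g L hL => hyp.conj L hL g) (self_mem_cls K) hL
  rcases ind G (cls K) t0 K (self_mem_cls K) with h | h | h
  · exfalso
    have h1 : zz K ∈ Cfsg.pCore 2 G := h
    rw [pCore_eq_bot fs, mem_bot] at h1
    have h2 := hyp.orderOf_zz (self_mem_cls K)
    rw [h1, orderOf_one] at h2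
    exact absurd h2 (by decide)
  · intro K₁ h₁ K₂ h₂ hc
    have h3 := h K₁ (hall K₁ h₁) K₂ (hall K₂ h₂) hc
    have h4 : sSup (cls K) ≤ centralizer ({zz K₁ * zz K₂} : Set G) := by
      refine sSup_le fun L hL x hx => ?_
      rw [mem_centralizer_singleton_iff]
      exact (h3 L (hall L hL) x hx).symm
    have hN : (sSup (cls K) : Subgroup G).Normal := by
      refine ⟨fun x hx g => ?_⟩
      have h3 : sSup (cls K) ≤ (sSup (cls K) : Subgroup G).comap (MulAut.conj g).toMonoidHom := by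
        refine sSup_le fun P hP q hq => ?_
        rw [mem_comap]
        have h4 : cj g P ≤ sSup (cls K) := le_sSup (hyp.conj P hP g)
        exact h4 (conj_mem_cj hq)
      exact h3 hx
    have hNb : (sSup (cls K) : Subgroup G) ≠ ⊥ := by
      intro h
      apply hne K (self_mem_cls K)
      rw [eq_bot_iff, ← h]
      exact le_sSup (self_mem_cls K)
    have h5 : generalizedFittingSubgroup G ≤ centralizer ({zz K₁ * zz K₂} : Set G) :=
      (fstar_le' fs hN hNb).trans h4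
    have h6 : zz K₁ * zz K₂ ∈ centralizer (generalizedFittingSubgroup G : Set G) := by
      rw [mem_centralizer_iff]
      intro x hx
      exact mem_centralizer_singleton_iff.1 (h5 hx)
    rw [End.centralizer_fstar fs.simple fs.na, mem_bot] at h6
    have h7 : zz K₂ * zz K₂ = 1 := by
      have := pow_orderOf_eq_one (zz K₂)
      rwa [hyp.orderOf_zz h₂, pow_two] at this
    calc zz K₁ = zz K₁ * (zz K₂ * zz K₂) := by rw [h7, mul_one]
      _ = zz K₂ := by rw [← mul_assoc, h6, one_mul]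
  · exfalso
    obtain ⟨K₁, h₁, h2⟩ := h
    exact w.ncl (cl_of_three hyp (comp_sub (self_mem_cls K) h₁) h2)

/-- **`C3Free`** -/
theorem c3Free_of (ind : IndStmt.{u}) (i : RFour.LIn.{u}) (h2 : RTwo.LeafR2One.{u}) (h4 : RFour.LeafR4One.{u}) :
    AssemblyNil.C3Free.{u} := by
  intro G _ _ K w hf
  have hm := mone_of_ind ind w hf
  by_cases e1 : (AssemblyNil.ovr K).ncard = 1
  · exfalso
    have W := ROne.World.of_w3 w e1 hf
    obtain ⟨S, z, hz, u, hu, hne, hzS, huS⟩ := W.two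
    have hinj : ∀ L ∈ cls K, ∀ M ∈ cls K, zz L = zz M → L = M := by
      have hyp := w.hyp
      obtain ⟨L0, hL0⟩ := Set.ncard_eq_one.1 e1
      have h2 : ∀ M ∈ cls K, zz M = zz K → M = K := by
        intro M hM hMz
        have h3 : M ∈ AssemblyNil.ovr K := ⟨hM, hMz⟩
        have h4 : K ∈ AssemblyNil.ovr K := ⟨self_mem_cls K, rfl⟩
        rw [hL0, Set.mem_singleton_iff] at h3 h4
        rw [h3, h4]
      rintro L ⟨g, rfl⟩ M hM hz
      have h3 := h2 (cj g⁻¹ M) (hyp.conj M hM _) (by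
        rw [hyp.zz_cj hM, ← hz, hyp.zz_cj (self_mem_cls K)]
        group)
      rw [← h3, cj_cj_inv]
    have hcom := W.w.com hz hu S.isPGroup' hzS huS hne
    obtain ⟨A, hA, rfl⟩ := hz
    obtain ⟨B, hB, rfl⟩ := hu
    have h5 := hcom.2
    rw [ROne.Kf_zz hinj hA, ROne.Kf_zz hinj hB] at h5
    exact hne (hm A hA B hB h5)
  by_cases e2 : (AssemblyNil.ovr K).ncard = 2
  · exact h2 G K w hf e2 hm
  by_cases e4 : (AssemblyNil.ovr K).ncard = 4
  · exact h4 G K w hf e4 hm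
  exfalso
  refine RG.false_ne_four i w hf (RG.three_le w e1 e2) e4 fun z hz u hu hc => ?_
  obtain ⟨A, hA, rfl⟩ := hz
  obtain ⟨B, hB, rfl⟩ := hu
  exact absurd (hm A hA B hB (hc.2 A ⟨hA, rfl⟩ B ⟨hB, rfl⟩)) hc.1

end Cfsg.Agent.Cit.Nil.FinBridge
end

-- part: Cit/Nil/Two/Glue
section
set_option linter.all false
open scoped Cfsg.Agent.FastGrp

/-!
# S1309 (n3), two classes: the outcome for one class with `m = 1`

* `CW G K` : the world of one class `cls K`: `|K| = 8`, commuting members of the class have the same involution, cores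
  trivial, `One (cls K)` or (C3), no member with `Three`;
* `CW.out` : `UZ F*(G)` or `SW (cls K)` or `C(R_z) = ⟨z⟩`;
* `CW.false_of_pair` : two classes with commuting members over different involutions are impossible.
-/

set_option autoImplicit false
set_option linter.style.haveILetI false
set_option linter.unusedSectionVars false

namespace Cfsg.Agent.Cit.Nil.Two

open Subgroup Cfsg Cfsg.Agent.Cit Cfsg.Agent.Cit.Nil.RTwo

universe u

/-- the world of one class -/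
structure CW (G : Type u) [Group G] [Finite G] (K : Subgroup G) : Prop where
  hyp : Hyp (cls K)
  card : Nat.card K = 8
  mone : RTwo.MOne (cls K)
  simple : IsSimpleGroup ↥(generalizedFittingSubgroup G)
  na : ¬ IsMulCommutative ↥(generalizedFittingSubgroup G)
  even : 2 ∣ Nat.card ↥(generalizedFittingSubgroup G)
  free : CFA G
  c3 : One (cls K) ∨ Nil.C3 K
  three : ∀ L ∈ cls K, ¬ IndDefs.Three L

/-- the external inputs -/
structure TIn : Prop where
  /-- S1169, Bender, S1175, S1173 -/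
  lin : RTwo.LIn.{u}
  /-- `Cit.OneF.h1171` -/
  h1171 : ∀ (G : Type u) [Group G] [Finite G], OneF.H1171 G
  /-- S0506 -/
  p0506 : NoHomo.S0506Stmt.{u}

namespace CW

variable {G : Type u} [Group G] [Finite G] {K L M K1 K2 : Subgroup G} {z g s n : G}

theorem card_all (w : CW G K) (hL : L ∈ cls K) : Nat.card L = 8 := by
  obtain ⟨g, rfl⟩ := hL
  rw [card_cj, w.card]

theorem isPGroup (w : CW G K) (hL : L ∈ cls K) : IsPGroup 2 L :=
  IsPGroup.of_card (n := 3) (by rw [w.card_all hL]; norm_num)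

theorem ncard (w : CW G K) (hL : L ∈ cls K) : {M | M ∈ cls K ∧ zz M = zz L}.ncard = (AssemblyNil.ovr K).ncard := by
  obtain ⟨g, rfl⟩ := hL
  have h2 : {M | M ∈ cls K ∧ zz M = zz (cj g K)} = (cj g) '' (AssemblyNil.ovr K) := by
    ext M
    constructor
    · rintro ⟨hM, hz⟩
      refine ⟨cj g⁻¹ M, ⟨w.hyp.conj M hM _, ?_⟩, cj_cj_inv g M⟩
      rw [w.hyp.zz_cj hM, hz, w.hyp.zz_cj (self_mem_cls K)]
      group
    · rintro ⟨M, ⟨hM, hz⟩, rfl⟩
      refine ⟨w.hyp.conj M hM g, ?_⟩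
      rw [w.hyp.zz_cj hM, hz, w.hyp.zz_cj (self_mem_cls K)]
  rw [h2, Set.ncard_image_of_injective _ (fun A B hAB => cj_inj.1 hAB)]

theorem w2 (w : CW G K) (h : (AssemblyNil.ovr K).ncard = 2) : W2 (cls K) := by
  refine ⟨w.hyp, fun L hL => w.card_all hL, ?_, w.mone⟩
  intro L hL
  have h3 := w.ncard hL
  rw [h] at h3
  obtain ⟨A, B, hAB, h5⟩ := Set.ncard_eq_two.1 h3
  have hA : A ∈ {M | M ∈ cls K ∧ zz M = zz L} := by rw [h5]; exact Set.mem_insert _ _
  have hB : B ∈ {M | M ∈ cls K ∧ zz M = zz L} := by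
    rw [h5]; exact Set.mem_insert_of_mem _ (Set.mem_singleton _)
  have hg : L ∈ {M | M ∈ cls K ∧ zz M = zz L} := ⟨hL, rfl⟩
  have hall : ∀ M ∈ cls K, zz M = zz L → M = A ∨ M = B := by
    intro M hM hz
    have h6 : M ∈ {M | M ∈ cls K ∧ zz M = zz L} := ⟨hM, hz⟩
    rw [h5] at h6
    simpa using h6
  rw [h5] at hg
  rcases hg with hg | hg
  · subst hg
    exact ⟨B, hB.1, hAB.symm, hB.2, hall⟩
  · rw [Set.mem_singleton_iff] at hg
    subst hg
    exact ⟨A, hA.1, hAB, hA.2, fun M hM hz => (hall M hM hz).symm⟩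

theorem le_of_mem_OmS (w : CW G K) {S : Subgroup G} (hS : IsPGroup 2 S) (hL : L ∈ OmS (cls K) S) : L ≤ S := by
  have h1 : L ⊓ S = L := (syl_inf hS hL).eq_of_le inf_le_left le_rfl (w.isPGroup hL.1)
  rw [← h1]; exact inf_le_right

theorem one (w : CW G K) (h : (AssemblyNil.ovr K).ncard = 1) : One (cls K) := by
  refine ⟨w.hyp, fun S hS A hA B hB => ?_⟩
  by_contra hne
  have hz : zz A = zz B := by
    refine w.mone A hA.1 B hB.1 fun a ha b hb => ?_
    exact w.hyp.comm hS hA hB hne ⟨ha, w.le_of_mem_OmS hS hA ha⟩ ⟨hb, w.le_of_mem_OmS hS hB hb⟩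
  have h1 := w.ncard hA.1
  rw [h] at h1
  obtain ⟨C, hC⟩ := Set.ncard_eq_one.1 h1
  have h2 : A ∈ {M | M ∈ cls K ∧ zz M = zz A} := ⟨hA.1, rfl⟩
  have h3 : B ∈ {M | M ∈ cls K ∧ zz M = zz A} := ⟨hB.1, hz.symm⟩
  rw [hC, Set.mem_singleton_iff] at h2 h3
  exact hne (h2.trans h3.symm)

theorem nil (w : CW G K) : NilOm (cls K) := by
  intro A hA Q hQ
  rw [hQ.eq_of_le hQ.1 le_rfl (w.isPGroup hA)]
  exact le_sup_right

/-- **the outcome for one class** -/
theorem out (i : TIn.{u}) (w : CW G K) : UZ (generalizedFittingSubgroup G) ∨ SW (cls K) ∨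
    (∀ n : G, (∀ L ∈ cls K, zz L = zz K → ∀ l ∈ L, n * l = l * n) → n = 1 ∨ n = zz K) := by
  have f := ROne.fsimp_of w.simple w.na
  haveI := f.sim
  have hne : (cls K).Nonempty := ⟨K, self_mem_cls K⟩
  have hO := RTwo.oddCore_eq_bot f w.even
  have h1173 : OneF.H1173 G := i.lin.h1173 G hO
  have gold : Cit.ROne.Gold ↥(generalizedFittingSubgroup G) := fun S A h1 h2 h3 => i.lin.gold _ S A h1 h2 h3
  have hB : CloEnd.Bend ↥(generalizedFittingSubgroup G) := i.lin.bend _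
  have hone : One (cls K) → UZ (generalizedFittingSubgroup G) := fun h =>
    uz_of_one w.simple w.na w.even h1173 (i.h1171 G) i.p0506 h hne w.nil
  rcases w.c3 with h1 | h3
  · exact Or.inl (hone h1)
  by_cases e1 : (AssemblyNil.ovr K).ncard = 1
  · exact Or.inl (hone (w.one e1))
  by_cases e2 : (AssemblyNil.ovr K).ncard = 2
  · have h := w.w2 e2
    rcases main_three i.lin h (RTwo.oneCls_cls K) (rot_cls h h3) w.free hne f w.even with h4 | h4 | ⟨h4, h5⟩
    · obtain ⟨L, hL, hT⟩ := h4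
      exact absurd hT (w.three L hL)
    · exact Or.inl (uz_of_eqEps w.simple w.na w.even (fun G _ _ => i.lin.h1173 G) (fun G _ _ => i.h1171 G) i.p0506 h
        hne h4)
    · exact Or.inr (Or.inl (h4.toSW h5))
  by_cases e4 : (AssemblyNil.ovr K).ncard = 4
  · right; right
    have h : RFour.W4 (cls K) := ⟨w.hyp, fun L hL => w.card_all hL, fun L hL => by rw [w.ncard hL, e4], w.mone⟩
    have hc := RFour.oneCls_cls K
    have c3r := RFour.C3R.of_c3 h hc (self_mem_cls K) h3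
    have cf : RFour.CF (cls K) := fun z hz => w.free z (hz.z2 h) (hz.z1 h)
    have e := RFour.exc h
    have hle : ∀ L ∈ cls K, L ≤ generalizedFittingSubgroup G := fun L hL => h.mem_le hc c3r f w.even e hL
    have hz : RFour.InZ (cls K) (zz K) := ⟨K, self_mem_cls K, rfl⟩
    have hN := h.N0_eq_bot e f hle gold hB h1173 cf hz
    intro n hn
    refine h.CX_eq_one hz hN ?_
    rw [RFour.CX, mem_centralizer_iff]
    rintro k ⟨L, hL, hk⟩
    exact (hn L hL.1 hL.2 k hk).symm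
  · exfalso
    have h : RG.WR (cls K) := RG.WR.of_hyp w.hyp fun L hL => w.card_all hL
    have hnc : ∀ z ∈ RG.ZZ (cls K), (RG.Ov (cls K) z).ncard = (AssemblyNil.ovr K).ncard := by
      rintro _ ⟨L, hL, rfl⟩
      exact w.ncard hL
    have e0 : (AssemblyNil.ovr K).ncard ≠ 0 := by
      rw [Ne, Set.ncard_eq_zero]
      exact Set.Nonempty.ne_empty ⟨K, self_mem_cls K, rfl⟩
    have r3 : RG.R3 (cls K) := fun z hz => by rw [hnc z hz]; omega
    have hT : RG.NoTI (cls K) := RG.NoTI.of_ne h r3 fun z hz => by rw [hnc z hz]; exact e4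
    have hC : RG.AllC (cls K) := fun s hs x hx hne hc => h.cp_of_comm hT r3 hs hx hne hc
    exact h.false_of_allC hC r3.r2 w.hyp (z := zz K) ⟨K, self_mem_cls K, rfl⟩ f w.even gold hB

theorem mem_OmS (w : CW G K) {S : Subgroup G} (hKS : K ≤ S) : K ∈ OmS (cls K) S :=
  mem_OmS_of_le (self_mem_cls K) (syl_self (w.isPGroup (self_mem_cls K))) hKS

/-- `z_K` is central in a Sylow 2-subgroup over `K` -/
theorem central (w : CW G K) (S : Sylow 2 G) (hKS : K ≤ S) (hs : s ∈ (S : Subgroup G)) : s * zz K = zz K * s := by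
  have hK := w.mem_OmS hKS
  have hsK : cj s K ∈ OmS (cls K) (S : Subgroup G) := cj_mem_OmS' w.hyp.conj (le_normalizer hs) hK
  have h2 : zz (cj s K) = zz K := by
    by_cases h3 : cj s K = K
    · rw [h3]
    · refine w.mone _ hsK.1 _ hK.1 fun k hk l hl => ?_
      exact w.hyp.comm S.isPGroup' hsK hK h3 ⟨hk, w.le_of_mem_OmS S.isPGroup' hsK hk⟩ ⟨hl, hKS hl⟩
  rw [w.hyp.zz_cj hK.1] at h2
  rw [← mul_inv_eq_iff_eq_mul]; exact h2

/-- **two classes** -/
theorem false_of_pair (i : TIn.{u}) (w1 : CW G K1) (w2 : CW G K2) (hc : ∀ k ∈ K1, ∀ l ∈ K2, k * l = l * k)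
    (hne : zz K1 ≠ zz K2) : False := by
  haveI : Fact (Nat.Prime 2) := ⟨Nat.prime_two⟩
  have f := ROne.fsimp_of w1.simple w1.na
  haveI := f.nor
  have hn : K1 ≤ normalizer (K2 : Set G) := by
    intro k hk
    rw [mem_normalizer_iff]
    intro x
    have key : ∀ k ∈ K1, ∀ x ∈ K2, k * x * k⁻¹ = x := fun k hk x hx => by
      rw [hc k hk x hx, mul_inv_cancel_right]
    constructor
    · intro hx
      rw [key k hk x hx]; exact hx
    · intro hx
      have h1 := key k⁻¹ (inv_mem hk) _ hx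
      have h2 : k⁻¹ * (k * x * k⁻¹) * k⁻¹⁻¹ = x := by group
      rw [h2] at h1
      rw [h1]; exact hx
  obtain ⟨S, hS⟩ := (OneBasic.isPGroup_sup_of_normalizes (w1.isPGroup (self_mem_cls K1)) (w2.isPGroup (self_mem_cls K2))
    hn).exists_le_sylow
  have hS1 : K1 ≤ S := le_sup_left.trans hS
  have hS2 : K2 ≤ S := le_sup_right.trans hS
  have c1 : ∀ s ∈ (S : Subgroup G), s * zz K1 = zz K1 * s := fun s hs => w1.central S hS1 hs
  have c2 : ∀ s ∈ (S : Subgroup G), s * zz K2 = zz K2 * s := fun s hs => w2.central S hS2 hs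
  have m1 : zz K1 ∈ (S : Subgroup G) := hS1 (w1.hyp.zz_mem (self_mem_cls K1))
  have m2 : zz K2 ∈ (S : Subgroup G) := hS2 (w2.hyp.zz_mem (self_mem_cls K2))
  have x1 : zz K1 ∈ generalizedFittingSubgroup G :=
    RG.zz_mem_of_fsimp w1.hyp (fun K hK => w1.isPGroup hK) f w1.even ⟨K1, self_mem_cls K1, rfl⟩
  have x2 : zz K2 ∈ generalizedFittingSubgroup G :=
    RG.zz_mem_of_fsimp w2.hyp (fun K hK => w2.isPGroup hK) f w2.even ⟨K2, self_mem_cls K2, rfl⟩
  have s1 := w1.hyp.zz_mul (self_mem_cls K1)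
  have s2 := w2.hyp.zz_mul (self_mem_cls K2)
  have n1 := w1.hyp.zz_ne (self_mem_cls K1)
  have n2 := w2.hyp.zz_ne (self_mem_cls K2)
  -- the centre of `S ∩ X`
  have hU : ¬ UZ (generalizedFittingSubgroup G) := by
    intro hU
    have hT : Syl ((S : Subgroup G) ⊓ generalizedFittingSubgroup G) (generalizedFittingSubgroup G) :=
      AbSyl.syl_inf_normal ⟨le_top, S.isPGroup', by
        rw [relIndex_top_right]
        exact S.not_dvd_index⟩
    have h1 := hU _ hT ⟨zz K1, m1, x1⟩ ⟨zz K2, m2, x2⟩ (Subtype.ext s1) (fun e => n1 (congrArg Subtype.val e))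
      (Subtype.ext s2) (fun e => n2 (congrArg Subtype.val e)) (fun x => Subtype.ext (c1 x x.2.1).symm)
      (fun x => Subtype.ext (c2 x x.2.1).symm)
    exact hne (congrArg Subtype.val h1)
  -- the members over `zz K1`
  have k1 : ∀ L ∈ cls K1, zz L = zz K1 → ∀ l ∈ L, zz K2 * l = l * zz K2 := fun L hL hz l hl =>
    (c2 l (w1.le_of_mem_OmS S.isPGroup' (w1.hyp.mem_OmS_of_zz_eq S (w1.mem_OmS hS1) hL hz) hl)).symm
  have k2 : ∀ L ∈ cls K2, zz L = zz K2 → ∀ l ∈ L, zz K1 * l = l * zz K1 := fun L hL hz l hl =>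
    (c1 l (w2.le_of_mem_OmS S.isPGroup' (w2.hyp.mem_OmS_of_zz_eq S (w2.mem_OmS hS2) hL hz) hl)).symm
  rcases w1.out i with h1 | h1 | h1
  · exact hU h1
  · rcases w2.out i with h2 | h2 | h2
    · exact hU h2
    · refine false_of_two h1 h2 (fun z t hz ht => (RTwo.oneCls_cls K1).conj h1.w hz ht)
        (fun z t hz ht => (RTwo.oneCls_cls K2).conj h2.w hz ht) ⟨K1, self_mem_cls K1, rfl⟩ ⟨K2, self_mem_cls K2, rfl⟩
        ?_ ?_ hne.symm
      · rw [mem_CX]
        exact fun L hL l hl => k1 L hL.1 hL.2 l hl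
      · rw [mem_CX]
        exact fun L hL l hl => k2 L hL.1 hL.2 l hl
    · rcases h2 _ k2 with h3 | h3
      · exact n1 h3
      · exact hne h3
  · rcases h1 _ k1 with h3 | h3
    · exact n2 h3
    · exact hne h3.symm

end CW

/-- **(n3)**: every class has `m = 1` -/
theorem two_false (i : TIn.{u}) {G : Type u} [Group G] [Finite G] {Om : Set (Subgroup G)} (S : IndDefs.SCW G Om)
    (free : ∀ t : G, orderOf t = 2 → centralizerPPrimeCore 2 t = ⊥) (hcv : ∀ K ∈ Om, ¬ Nil.C3 K → One (cls K))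
    (hm : ∀ K ∈ Om, RTwo.MOne (cls K)) : False := by
  haveI : Fact (Nat.Prime 2) := ⟨Nat.prime_two⟩
  obtain ⟨K1, h1, K2, h2, hc, hne⟩ := S.two
  have hyp := S.t0.hyp
  have hF : CFA G := by
    intro j hj hj1
    exact free j (orderOf_eq_prime (by rw [pow_two]; exact hj) hj1)
  have hev : 2 ∣ Nat.card ↥(generalizedFittingSubgroup G) := by
    by_contra hodd
    have h3 : generalizedFittingSubgroup G ≤ pPrimeCore 2 G := by
      have hn : (generalizedFittingSubgroup G).Normal := Lib.GenFitting.genFitting_normal (G := G)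
      refine Lib.Cores.le_pPrimeCore hn ?_
      exact (Nat.Prime.coprime_iff_not_dvd Nat.prime_two).2 hodd |>.symm
    rw [S.t0.core, le_bot_iff] at h3
    have h4 := S.simple.toNontrivial
    rw [h3] at h4
    exact not_nontrivial _ h4
  have key : ∀ K ∈ Om, CW G K := fun K hK =>
    { hyp := hyp.of_cls hK
      card := S.t0.card K hK
      mone := hm K hK
      simple := S.simple
      na := S.na
      even := hev
      free := hF
      c3 := by
        by_cases h3 : Nil.C3 K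
        · exact Or.inr h3
        · exact Or.inl (hcv K hK h3)
      three := fun L hL => S.three L (hyp.cls_subset hK hL) }
  exact (key K1 h1).false_of_pair i (key K2 h2) hc hne

end Cfsg.Agent.Cit.Nil.Two
end

-- part: Cit/Nil/SCK
section
set_option linter.all false
open scoped Cfsg.Agent.FastGrp

-- part: Cit/Nil/Top
section
/-!
# S1309, (C3): everything outside of the frame

`T'` (`IndDefs.TStat`) for `G` itself gives `m = 1` for every `r`:

* `mem_comp_of_fsimp` : `F*(G)` simple: the non-commuting graph of an invariant family is connected;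
* `pCore_eq_bot` : `O_2(G) = 1`;
* `mone_of_tstat` : `W3 G K`, core-free, `T'` for `(G, cls K)` : commuting members have the same involution;
* **`c3Free_of`** : `AssemblyNil.C3Free` from `T'` for all groups, `LIn` and `RTwo.LeafR2One`.
-/

set_option autoImplicit false
set_option linter.style.haveILetI false

namespace Cfsg.Agent.Cit.Nil.Top

open Subgroup Cfsg Cfsg.Agent.Cit
open Cfsg.Agent.Cit.Nil.ROne (FSimp)
open Cfsg.Agent.Cit.Nil.IndDefs

universe u

variable {G : Type*} [Group G] {Om : Set (Subgroup G)} {K L M X : Subgroup G}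

/-- the subgroup generated by the members of the component of `K` -/
def BB (Om : Set (Subgroup G)) (K : Subgroup G) : Subgroup G := closure {x | ∃ L ∈ comp Om K, x ∈ L}

theorem le_BB (hL : L ∈ comp Om K) : L ≤ BB Om K := fun _ hx => subset_closure ⟨L, hL, hx⟩

/-- `⟨Om⟩` -/
def UU (Om : Set (Subgroup G)) : Subgroup G := closure {x | ∃ L ∈ Om, x ∈ L}

theorem le_UU (hL : L ∈ Om) : L ≤ UU Om := fun _ hx => subset_closure ⟨L, hL, hx⟩

theorem conj_mem_UU (hc : ∀ K ∈ Om, ∀ g, cj g K ∈ Om) (g : G) {x : G} (hx : x ∈ UU Om) : g * x * g⁻¹ ∈ UU Om := by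
  have h1 : UU Om ≤ (UU Om).comap (MulAut.conj g).toMonoidHom := by
    rw [UU, closure_le]
    rintro x ⟨L, hL, hx⟩
    exact le_UU (hc L hL g) (conj_mem_cj hx)
  exact h1 hx

/-- a member outside of the component commutes with the members of the component -/
theorem comm_of_not_mem (hL : L ∈ comp Om K) (hLO : L ∈ Om) (hM : M ∈ Om) (hn : M ∉ comp Om K) : Cm L M := by
  by_contra h
  exact hn (mem_comp_of hL ⟨hLO, hM, h⟩)

/-- members normalise the groups generated by the components -/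
theorem conj_mem_BB (hK : K ∈ Om) {g x : G} (hg : g ∈ UU Om) (hx : x ∈ BB Om K) : g * x * g⁻¹ ∈ BB Om K := by
  have key : UU Om ≤ normalizer (BB Om K : Set G) := by
    rw [UU, closure_le]
    rintro y ⟨M, hM, hy⟩
    by_cases hn : M ∈ comp Om K
    · exact le_normalizer (le_BB hn hy)
    · have h1 : BB Om K ≤ centralizer {y} := by
        rw [BB, closure_le]
        rintro x ⟨L, hL, hx⟩
        rw [SetLike.mem_coe, mem_centralizer_singleton_iff]
        exact comm_of_not_mem hL (comp_sub hK hL) hM hn x hx y hy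
      rw [SetLike.mem_coe, mem_normalizer_iff]
      intro x
      constructor
      · intro hx
        have h2 := mem_centralizer_singleton_iff.1 (h1 hx)
        rw [← h2, mul_inv_cancel_right]
        exact hx
      · intro hx
        have h2 := mem_centralizer_singleton_iff.1 (h1 hx)
        have h3 : x = y * x * y⁻¹ := by
          calc x = y⁻¹ * (y * x * y⁻¹ * y) := by group
            _ = y⁻¹ * (y * (y * x * y⁻¹)) := by rw [h2]
            _ = _ := by group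
        rw [h3]
        exact hx
  exact (mem_normalizer_iff.1 (key hg) x).1 hx

theorem BB_comm (hK : K ∈ Om) (hM : M ∈ Om) (hn : M ∉ comp Om K) {x y : G} (hx : x ∈ BB Om K) (hy : y ∈ BB Om M) :
    x * y = y * x := by
  have h1 : BB Om K ≤ centralizer (BB Om M : Set G) := by
    rw [BB, closure_le]
    rintro x ⟨L, hL, hx⟩
    rw [SetLike.mem_coe, mem_centralizer_iff]
    intro b hb
    have h3 : BB Om M ≤ centralizer {x} := by
      rw [BB, closure_le]
      rintro y ⟨N, hN, hy⟩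
      rw [SetLike.mem_coe, mem_centralizer_singleton_iff]
      have h4 : N ∉ comp Om K := fun h5 => hn (comp_trans h5 (comp_symm hN))
      exact (comm_of_not_mem hL (comp_sub hK hL) (comp_sub hM hN) h4 x hx y hy).symm
    exact mem_centralizer_singleton_iff.1 (h3 hb)
  exact (mem_centralizer_iff.1 (h1 hx) y hy).symm

/-- **`F*(G)` simple: the non-commuting graph is connected** -/
theorem mem_comp_of_fsimp (f : FSimp X) (hc : ∀ K ∈ Om, ∀ g, cj g K ∈ Om) (hne : ∀ K ∈ Om, K ≠ ⊥)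
    (hK : K ∈ Om) (hM : M ∈ Om) : M ∈ comp Om K := by
  by_contra hn
  have hle : ∀ L ∈ Om, X ≤ BB Om L := by
    intro L hL
    have h1 : X ≤ UU Om := by
      refine f.le (fun g _ n hn => conj_mem_UU hc g hn) fun h2 => hne L hL ?_
      rw [eq_bot_iff, ← h2]
      exact le_UU hL
    refine f.le (fun g hg n hn => conj_mem_BB hL (h1 hg) hn) fun h2 => hne L hL ?_
    rw [eq_bot_iff, ← h2]
    exact le_BB mem_comp_self
  exact f.na fun x hx y hy => BB_comm hK hM hn (hle K hK hx) (hle M hM hy)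

theorem le_UU_of_fsimp (f : FSimp X) (hc : ∀ K ∈ Om, ∀ g, cj g K ∈ Om) (hK : K ∈ Om) (hne : K ≠ ⊥) : X ≤ UU Om := by
  refine f.le (fun g _ n hn => conj_mem_UU hc g hn) fun h2 => hne ?_
  rw [eq_bot_iff, ← h2]
  exact le_UU hK

/-- an element centralising all members is trivial -/
theorem eq_one_of_cent (f : FSimp X) (hc : ∀ K ∈ Om, ∀ g, cj g K ∈ Om) (hK : K ∈ Om) (hne : K ≠ ⊥) {c : G}
    (h : ∀ L ∈ Om, ∀ x ∈ L, c * x = x * c) : c = 1 := by
  have h1 : UU Om ≤ centralizer {c} := by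
    rw [UU, closure_le]
    rintro x ⟨L, hL, hx⟩
    rw [SetLike.mem_coe, mem_centralizer_singleton_iff]
    exact (h L hL x hx).symm
  have h2 : c ∈ centralizer (X : Set G) := by
    rw [mem_centralizer_iff]
    intro x hx
    exact mem_centralizer_singleton_iff.1 (h1 (le_UU_of_fsimp f hc hK hne hx))
  rwa [f.cen, mem_bot] at h2

/-- `O_2(G) = 1` -/
theorem pCore_eq_bot [Finite G] (f : FSimp X) : pCore 2 G = ⊥ := by
  haveI : Fact (Nat.Prime 2) := ⟨Nat.prime_two⟩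
  by_contra hb
  have h1 : X ≤ pCore 2 G := f.le (fun g _ n hn => (Lib.Cores.pCore_normal 2 (G := G)).conj_mem n hn g) hb
  have h2 : IsPGroup 2 X := (Lib.Cores.pCore_isPGroup 2).to_le h1
  haveI := f.sim
  haveI : Nontrivial X := IsSimpleGroup.toNontrivial
  have h3 : center X ≠ ⊥ := by
    have := h2.center_nontrivial
    exact (nontrivial_iff_ne_bot _).1 this
  have h4 : center X = ⊤ := (inferInstance : (center X).Normal).eq_bot_or_eq_top.resolve_left h3
  refine f.na fun x hx y hy => ?_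
  have h5 : (⟨x, hx⟩ : X) ∈ center X := by rw [h4]; exact mem_top _
  have h6 := mem_center_iff.1 h5 ⟨y, hy⟩
  exact (congrArg Subtype.val h6).symm

section W3

variable {G : Type u} [Group G] [Finite G] {K : Subgroup G}

/-- `r ≥ 3`, `r ≠ 4`: contradiction -/
theorem false_of_many (i : RFour.LIn.{u}) (w : AssemblyNil.W3 G K)
    (hf : ∀ t : G, orderOf t = 2 → centralizerPPrimeCore 2 t = ⊥) (h3 : 3 ≤ (AssemblyNil.ovr K).ncard)
    (h4 : (AssemblyNil.ovr K).ncard ≠ 4) : False := by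
  have h := RG.WR.of_w3 w hf
  have r3 := RG.R3.of_w3 w h3
  have hT : RG.NoTI (cls K) := RG.NoTI.of_ne h r3 (fun z hz => by rw [RG.ncard_of_w3 w hz]; exact h4)
  have hC : RG.AllC (cls K) := fun s hs x hx hne hc => h.cp_of_comm hT r3 hs hx hne hc
  have f := ROne.fsimp_of w.simple w.na
  haveI := f.sim
  have gold : Cit.ROne.Gold ↥(generalizedFittingSubgroup G) := fun S A h1 h2 h3 => i.gold _ S A h1 h2 h3
  have hB : CloEnd.Bend ↥(generalizedFittingSubgroup G) := i.bend _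
  exact h.false_of_allC hC r3.r2 w.hyp (z := zz K) ⟨K, self_mem_cls K, rfl⟩ f w.even gold hB

end W3

end Cfsg.Agent.Cit.Nil.Top
end

-- part: Cit/Nil/SCK
section
/-!
# S1309: the world `SCK` of the nodes of the simple case

* `SCK G K` : one class, `SCW G (cls K)`, core-free, (C3); everything else is a theorem about it;
* `SCK.false_of_many` : `r ≥ 3`, `r ≠ 4` is impossible;
* `NodeCV`, `Node n` : the nodes.
-/

set_option autoImplicit false
set_option linter.style.haveILetI false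
set_option linter.unusedSectionVars false

namespace Cfsg.Agent.Cit.Nil.SCMain

open Subgroup Cfsg Cfsg.Agent.Cit Cfsg.Agent.Cit.Nil.IndDefs
open Cfsg.Agent.Cit.Nil.ROne (FSimp)

universe u

section SCW

variable {G : Type u} [Group G] [Finite G] {Om : Set (Subgroup G)} {K L M K₁ K₂ : Subgroup G}

theorem even (w : SCW G Om) : 2 ∣ Nat.card ↥(generalizedFittingSubgroup G) := by
  by_contra hodd
  have h3 : generalizedFittingSubgroup G ≤ pPrimeCore 2 G := by
    have hn : (generalizedFittingSubgroup G).Normal := Lib.GenFitting.genFitting_normal (G := G)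
    refine Lib.Cores.le_pPrimeCore hn ?_
    exact (Nat.Prime.coprime_iff_not_dvd Nat.prime_two).2 hodd |>.symm
  rw [w.t0.core, le_bot_iff] at h3
  have h4 := w.simple.toNontrivial
  rw [h3] at h4
  exact not_nontrivial _ h4

theorem fs (w : SCW G Om) : AssemblyNil.FS G := ⟨w.simple, w.na, even w⟩

theorem fsimp (w : SCW G Om) : FSimp (generalizedFittingSubgroup G) := ROne.fsimp_of w.simple w.na

theorem ne_bot (w : SCW G Om) (hK : K ∈ Om) : K ≠ ⊥ := by
  rintro rfl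
  have h1 := w.t0.card _ hK
  rw [Subgroup.card_bot] at h1
  omega

end SCW

/-- **the world of the nodes**: one class, (C3), core-free, two commuting members over different involutions -/
structure SCK (G : Type u) [Group G] [Finite G] (K : Subgroup G) : Prop where
  scw : SCW G (cls K)
  free : ∀ t : G, orderOf t = 2 → centralizerPPrimeCore 2 t = ⊥
  c3 : Nil.C3 K

namespace SCK

variable {G : Type u} [Group G] [Finite G] {K L M : Subgroup G} {z : G}

theorem t0 (w : SCK G K) : T0 (cls K) := w.scw.t0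

theorem hyp (w : SCK G K) : Hyp (cls K) := w.scw.t0.hyp

theorem card (w : SCK G K) (hL : L ∈ cls K) : Nat.card L = 8 := w.scw.t0.card L hL

theorem isPGroup (w : SCK G K) (hL : L ∈ cls K) : IsPGroup 2 L :=
  IsPGroup.of_card (n := 3) (by rw [w.card hL]; norm_num)

theorem even (w : SCK G K) : 2 ∣ Nat.card ↥(generalizedFittingSubgroup G) := SCMain.even w.scw

theorem fs (w : SCK G K) : AssemblyNil.FS G := SCMain.fs w.scw

theorem fsimp (w : SCK G K) : FSimp (generalizedFittingSubgroup G) := SCMain.fsimp w.scw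

theorem oddCore_eq_bot (w : SCK G K) : pPrimeCore 2 G = ⊥ := w.scw.t0.core

theorem two (w : SCK G K) : ∃ K₁ ∈ cls K, ∃ K₂ ∈ cls K, Cm K₁ K₂ ∧ zz K₁ ≠ zz K₂ := w.scw.two

theorem three (w : SCK G K) (hL : L ∈ cls K) : ¬ Three L := w.scw.three L hL

/-- `O(C(t)) = 1` in the language of `OO` -/
theorem OO_eq_bot (w : SCK G K) {j : G} (hj : j * j = 1) (hj1 : j ≠ 1) : OO (centralizer {j}) = ⊥ :=
  haveI : Fact (Nat.Prime 2) := ⟨Nat.prime_two⟩
  w.free j (orderOf_eq_prime (by rw [pow_two]; exact hj) hj1)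

/-- the number of members over `zz L` -/
theorem ncard (w : SCK G K) (hL : L ∈ cls K) : {M | M ∈ cls K ∧ zz M = zz L}.ncard = (AssemblyNil.ovr K).ncard := by
  obtain ⟨g, rfl⟩ := hL
  have h2 : {M | M ∈ cls K ∧ zz M = zz (cj g K)} = (cj g) '' (AssemblyNil.ovr K) := by
    ext M
    constructor
    · rintro ⟨hM, hz⟩
      refine ⟨cj g⁻¹ M, ⟨w.hyp.conj M hM _, ?_⟩, cj_cj_inv g M⟩
      rw [w.hyp.zz_cj hM, hz, w.hyp.zz_cj (self_mem_cls K)]
      group
    · rintro ⟨M, ⟨hM, hz⟩, rfl⟩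
      refine ⟨w.hyp.conj M hM g, ?_⟩
      rw [w.hyp.zz_cj hM, hz, w.hyp.zz_cj (self_mem_cls K)]
  rw [h2, Set.ncard_image_of_injective _ (fun A B hAB => cj_inj.1 hAB)]

/-- `zz L ∈ F*(G)` -/
theorem zz_mem (w : SCK G K) (hL : L ∈ cls K) : zz L ∈ generalizedFittingSubgroup G :=
  haveI : Fact (Nat.Prime 2) := ⟨Nat.prime_two⟩
  RG.zz_mem_of_fsimp w.hyp (fun _ hM => w.isPGroup hM) w.fsimp w.even ⟨L, hL, rfl⟩

theorem wr (w : SCK G K) : RG.WR (cls K) := RG.WR.of_hyp w.hyp fun _ hL => w.card hL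

/-- **`r ≥ 3`, `r ≠ 4` is impossible** -/
theorem false_of_many (i : RFour.LIn.{u}) (w : SCK G K) (e1 : (AssemblyNil.ovr K).ncard ≠ 1)
    (e2 : (AssemblyNil.ovr K).ncard ≠ 2) (e4 : (AssemblyNil.ovr K).ncard ≠ 4) : False := by
  have f := w.fsimp
  haveI := f.sim
  have gold : Cit.ROne.Gold ↥(generalizedFittingSubgroup G) := fun S A h1 h2 h3 => i.gold _ S A h1 h2 h3
  have hB : CloEnd.Bend ↥(generalizedFittingSubgroup G) := i.bend _
  have h := w.wr
  have hnc : ∀ z ∈ RG.ZZ (cls K), (RG.Ov (cls K) z).ncard = (AssemblyNil.ovr K).ncard := by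
    rintro _ ⟨L, hL, rfl⟩
    exact w.ncard hL
  have e0 : (AssemblyNil.ovr K).ncard ≠ 0 := by
    rw [Ne, Set.ncard_eq_zero]
    exact Set.Nonempty.ne_empty ⟨K, self_mem_cls K, rfl⟩
  have r3 : RG.R3 (cls K) := fun z hz => by rw [hnc z hz]; omega
  have hT : RG.NoTI (cls K) := RG.NoTI.of_ne h r3 fun z hz => by rw [hnc z hz]; exact e4
  have hC : RG.AllC (cls K) := fun s hs x hx hne hc => h.cp_of_comm hT r3 hs hx hne hc
  exact h.false_of_allC hC r3.r2 w.hyp (z := zz K) ⟨K, self_mem_cls K, rfl⟩ f w.even gold hB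

end SCK

/-! ### The nodes -/

/-- **(n8)**: without (C3) there is one member per Sylow 2-subgroup -/
def NodeCV : Prop := ∀ (G : Type u) [Group G] [Finite G] (Om : Set (Subgroup G)), SCW G Om →
  (∀ t : G, orderOf t = 2 → centralizerPPrimeCore 2 t = ⊥) → ∀ K ∈ Om, ¬ Nil.C3 K → One (cls K)

/-- **the node for `r = n`** -/
def Node (n : ℕ) : Prop := ∀ (G : Type u) [Group G] [Finite G] (K : Subgroup G), SCK G K →
  (AssemblyNil.ovr K).ncard = n → False

end Cfsg.Agent.Cit.Nil.SCMain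
end

private theorem dce_cae44c989c52 : _root_.True := by
  try have : _root_.True := by simp only [_root_.Cfsg.Agent.Cit.Nil.Top.UU.eq_1]
  try have : _root_.True := by simp only [_root_.Cfsg.Agent.Cit.Nil.Top.BB.eq_1]
  exact _root_.True.intro
end
end
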